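import Mathlib

set_option autoImplicit false

/-!
# S4441 piece J: `exists_padic_embedding`

The ring `ℤ_[p]` embeds in `ℂ` (abstractly): the algebraic closure of `ℚ_[p]` has cardinality
continuum, so it is isomorphic to `ℂ`.
-/

namespace Cfsg.Agent.Helper5.TL

open scoped Padic
open Cardinal

variable (p : ℕ) [Fact p.Prime]

theorem j_mk_padicInt_le : #ℤ_[p] ≤ 𝔠 := by
  have hinj : Function.Injective (fun (x : ℤ_[p]) (n : ℕ) => (PadicInt.toZModPow n x).val) := by
    intro x y h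
    rw [← PadicInt.ext_of_toZModPow]
    intro n
    have : NeZero (p ^ n) := ⟨pow_ne_zero _ (Fact.out : p.Prime).ne_zero⟩
    exact ZMod.val_injective _ (congrFun h n)
  calc #ℤ_[p] ≤ #(ℕ → ℕ) := Cardinal.mk_le_of_injective hinj
    _ = 𝔠 := by rw [Cardinal.mk_arrow]; simp

theorem j_mk_padic : #ℚ_[p] = 𝔠 := by
  apply le_antisymm
  · exact (IsLocalization.cardinalMk_le (nonZeroDivisors ℤ_[p])).trans (j_mk_padicInt_le p)
  · exact continuum_le_cardinal_of_nontriviallyNormedField ℚ_[p]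

theorem j_mk_closure : #(AlgebraicClosure ℚ_[p]) = 𝔠 := by
  apply le_antisymm
  · have h1 := Algebra.IsAlgebraic.cardinalMk_le_max ℚ_[p] (AlgebraicClosure ℚ_[p])
    rw [j_mk_padic] at h1
    exact h1.trans (max_le le_rfl aleph0_le_continuum)
  · rw [← j_mk_padic p]
    exact Cardinal.mk_le_of_injective
      (algebraMap ℚ_[p] (AlgebraicClosure ℚ_[p])).injective

/-- PIECE J: the p-adic integers embed in ℂ (abstractly). -/
theorem exists_padic_embedding : ∃ j : ℤ_[p] →+* ℂ, Function.Injective j := by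
  have hK : ℵ₀ < #(AlgebraicClosure ℚ_[p]) := by
    rw [j_mk_closure]; exact aleph0_lt_continuum
  have hKL : Nonempty (AlgebraicClosure ℚ_[p] ≃ ℂ) := by
    rw [← Cardinal.eq, j_mk_closure, Cardinal.mk_complex]
  obtain ⟨e⟩ := IsAlgClosed.ringEquiv_of_equiv_of_charZero hK hKL
  refine ⟨(e : AlgebraicClosure ℚ_[p] →+* ℂ).comp
    ((algebraMap ℚ_[p] (AlgebraicClosure ℚ_[p])).comp (algebraMap ℤ_[p] ℚ_[p])), ?_⟩
  intro a b hab
  simp only [RingHom.coe_comp, Function.comp_apply, RingHom.coe_coe] at hab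
  have h1 := e.injective hab
  have h2 := (algebraMap ℚ_[p] (AlgebraicClosure ℚ_[p])).injective h1
  exact IsFractionRing.injective ℤ_[p] ℚ_[p] h2

end Cfsg.Agent.Helper5.TL
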