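import Mathlib
import Cfsg.Agent.Lib.Helper5.TLDefs

set_option autoImplicit false

/-!
# S4441 piece S2: `sig_zero_basis`

A `ℤ_[p]`-lattice with an endomorphism `X`, `X ^ p = 1`, `σ = Σ X^i = 0` has a basis of the form
`X^i w_j`, `i < p - 1`.
-/

namespace Cfsg.Agent.Helper5.TL

open scoped Padic
open Polynomial

variable (p : ℕ) [Fact p.Prime]

/-- `(T - 1)^(p-1) = Σ_{i<p} T^i + p h(T)` in `ℤ[T]` with `h(1) = -1`. -/
theorem s2_poly_identity :
    ∃ h : ℤ[X], (X - 1 : ℤ[X]) ^ (p - 1) = (∑ i ∈ Finset.range p, (X : ℤ[X]) ^ i) + C (p : ℤ) * h ∧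
      h.eval 1 = -1 := by
  have hp : p.Prime := Fact.out
  have hp1 : p - 1 + 1 = p := Nat.sub_add_cancel hp.one_le
  set f : ℤ[X] := (X - 1 : ℤ[X]) ^ (p - 1) - ∑ i ∈ Finset.range p, (X : ℤ[X]) ^ i with hf
  have hmap : f.map (Int.castRingHom (ZMod p)) = 0 := by
    have h1 : f.map (Int.castRingHom (ZMod p)) =
        (X - 1 : (ZMod p)[X]) ^ (p - 1) - ∑ i ∈ Finset.range p, (X : (ZMod p)[X]) ^ i := by
      simp [hf, Polynomial.map_sub, Polynomial.map_pow, Polynomial.map_sum]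
    rw [h1]
    have h2 : (X - 1 : (ZMod p)[X]) * ((X - 1 : (ZMod p)[X]) ^ (p - 1) -
        ∑ i ∈ Finset.range p, (X : (ZMod p)[X]) ^ i) = 0 := by
      rw [mul_sub, ← pow_succ', hp1, mul_geom_sum, sub_pow_char, one_pow, sub_self]
    rcases mul_eq_zero.mp h2 with h3 | h3
    · exfalso
      have : (X - C (1 : ZMod p) : (ZMod p)[X]) ≠ 0 := X_sub_C_ne_zero 1
      apply this
      simpa using h3
    · exact h3
  have hdvd : C (p : ℤ) ∣ f := by
    rw [C_dvd_iff_dvd_coeff]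
    intro n
    have := congrArg (fun q => q.coeff n) hmap
    simp only [coeff_map, coeff_zero, eq_intCast] at this
    exact (ZMod.intCast_zmod_eq_zero_iff_dvd _ _).mp this
  obtain ⟨h, hh⟩ := hdvd
  refine ⟨h, ?_, ?_⟩
  · rw [← hh, hf]; ring
  · have h1 : f.eval 1 = -(p : ℤ) := by
      rw [hf]
      simp [eval_finsetSum, zero_pow (Nat.sub_ne_zero_of_lt hp.one_lt)]
    rw [hh, eval_mul, eval_C] at h1
    have hp0 : (p : ℤ) ≠ 0 := by exact_mod_cast hp.ne_zero
    have : (p : ℤ) * h.eval 1 = (p : ℤ) * (-1) := by rw [h1]; ring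
    exact mul_left_cancel₀ hp0 this

section Lat

variable {L : Type*} [AddCommGroup L] [Module ℤ_[p] L]

/-- there are `H H₁` (polynomials in `X`) with `π^(p-1) = p H` and `H = -1 + π H₁`. -/
theorem s2_exists_H (X : Module.End ℤ_[p] L) (h0 : sig p X = 0) :
    ∃ H H₁ : Module.End ℤ_[p] L, Commute H (X - 1) ∧ (X - 1) ^ (p - 1) = (p : ℤ_[p]) • H ∧
      H = -1 + (X - 1) * H₁ := by
  obtain ⟨h, hh, h1⟩ := s2_poly_identity p
  obtain ⟨h₁, hh₁⟩ := Polynomial.X_sub_C_dvd_sub_C_eval (a := (1 : ℤ)) (p := h)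
  refine ⟨aeval X h, aeval X h₁, ?_, ?_, ?_⟩
  · have h2 : (X - 1 : Module.End ℤ_[p] L) = aeval X (Polynomial.X - 1 : ℤ[X]) := by simp
    rw [h2]
    show aeval X h * _ = _ * aeval X h
    rw [← map_mul, ← map_mul, mul_comm]
  · have h2 := congrArg (aeval X) hh
    simp only [map_pow, map_sub, aeval_X, map_one, map_add, map_sum, map_mul, aeval_C] at h2
    rw [h2]
    have hs : ∑ i ∈ Finset.range p, X ^ i = 0 := h0
    rw [hs, zero_add]
    ext u
    simp only [map_natCast, Module.End.mul_apply, LinearMap.smul_apply]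
    simp [Nat.cast_smul_eq_nsmul]
  · have h2 : h = C (-1) + (Polynomial.X - C 1) * h₁ := by
      rw [← hh₁, h1]; ring
    have h3 := congrArg (aeval X) h2
    simp only [map_add, map_mul, map_sub, aeval_X, aeval_C, map_neg, map_one] at h3
    rw [h3]

variable [Module.Free ℤ_[p] L] [Module.Finite ℤ_[p] L]

theorem s2_smul_eq_zero (u : L) (h : (p : ℤ_[p]) • u = 0) : u = 0 := by
  rcases smul_eq_zero.mp h with h1 | h1
  · exfalso
    have : (p : ℤ_[p]) ≠ 0 := by exact_mod_cast (Fact.out : p.Prime).ne_zero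
    exact this h1
  · exact h1

theorem s2_pi_injective (X : Module.End ℤ_[p] L) (h0 : sig p X = 0) :
    Function.Injective ((X - 1 : Module.End ℤ_[p] L) : L → L) := by
  rw [injective_iff_map_eq_zero]
  intro u hu
  have hXu : X u = u := by
    rw [LinearMap.sub_apply, Module.End.one_apply, sub_eq_zero] at hu; exact hu
  have hpow : ∀ i : ℕ, (X ^ i) u = u := by
    intro i
    induction i with
    | zero => simp
    | succ i ih => rw [pow_succ, Module.End.mul_apply, hXu, ih]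
  have h1 : sig p X u = (p : ℤ_[p]) • u := by
    simp [sig, LinearMap.sum_apply, hpow, Nat.cast_smul_eq_nsmul]
  rw [h0, LinearMap.zero_apply] at h1
  exact s2_smul_eq_zero p u h1.symm

theorem s2_pi_pow_injective (X : Module.End ℤ_[p] L) (h0 : sig p X = 0) (k : ℕ) :
    Function.Injective (((X - 1) ^ k : Module.End ℤ_[p] L) : L → L) := by
  rw [Module.End.coe_pow]
  exact (s2_pi_injective p X h0).iterate k

/-- Nakayama for `ℤ_[p]`-lattices. -/
theorem s2_nakayama (N : Submodule ℤ_[p] L)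
    (h : ∀ u : L, ∃ s ∈ N, ∃ u' : L, u = s + (p : ℤ_[p]) • u') : N = ⊤ := by
  rw [eq_top_iff]
  refine Submodule.le_of_le_smul_of_le_jacobson_bot (I := Ideal.span {(p : ℤ_[p])})
    Module.Finite.fg_top ?_ ?_
  · rw [IsLocalRing.jacobson_eq_maximalIdeal ⊥ bot_ne_top, PadicInt.maximalIdeal_eq_span_p]
  · intro u _
    obtain ⟨s, hs, u', rfl⟩ := h u
    refine Submodule.add_mem_sup hs ?_
    exact Submodule.smul_mem_smul (Ideal.subset_span rfl) Submodule.mem_top

/-- if `N` is stable under `π`, and `L = N + π L`, then `L = N + π^k L`. -/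
theorem s2_iterate (X : Module.End ℤ_[p] L) (N : Submodule ℤ_[p] L)
    (hstab : ∀ s ∈ N, (X - 1) s ∈ N)
    (h : ∀ u : L, ∃ s ∈ N, ∃ u' : L, u = s + (X - 1) u') (k : ℕ) :
    ∀ u : L, ∃ s ∈ N, ∃ u' : L, u = s + ((X - 1) ^ k) u' := by
  induction k with
  | zero => intro u; exact ⟨0, N.zero_mem, u, by simp⟩
  | succ k ih =>
    intro u
    obtain ⟨s, hs, u', rfl⟩ := ih u
    obtain ⟨s', hs', u'', rfl⟩ := h u'
    have hstabk : ∀ (k : ℕ), ∀ s ∈ N, ((X - 1) ^ k) s ∈ N := by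
      intro k
      induction k with
      | zero => intro s hs; simpa using hs
      | succ k ih2 =>
        intro s hs
        rw [pow_succ', Module.End.mul_apply]
        exact hstab _ (ih2 s hs)
    refine ⟨s + ((X - 1) ^ k) s', N.add_mem hs (hstabk k s' hs'), u'', ?_⟩
    rw [map_add, pow_succ, Module.End.mul_apply]
    abel

/-- `p L ⊆ π^(p-1) L`. -/
theorem s2_p_mem (X : Module.End ℤ_[p] L) (h0 : sig p X = 0) (u : L) :
    ∃ u' : L, (p : ℤ_[p]) • u = ((X - 1) ^ (p - 1)) u' := by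
  obtain ⟨H, H₁, hcomm, hH, hH1⟩ := s2_exists_H p X h0
  -- H is surjective
  have hsurj : LinearMap.range H = ⊤ := by
    apply s2_nakayama p
    have h1 : ∀ u : L, ∃ s ∈ LinearMap.range H, ∃ u' : L, u = s + (X - 1) u' := by
      intro u
      refine ⟨H (-u), ⟨_, rfl⟩, H₁ u, ?_⟩
      rw [hH1]
      simp only [LinearMap.add_apply, LinearMap.neg_apply, Module.End.one_apply,
        Module.End.mul_apply, map_neg, neg_neg]
      abel
    have h2 := s2_iterate p X (LinearMap.range H)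
      (by
        rintro _ ⟨a, rfl⟩
        refine ⟨(X - 1) a, ?_⟩
        have := congrArg (fun f : Module.End ℤ_[p] L => f a) hcomm.eq
        simpa [Module.End.mul_apply] using this)
      h1 (p - 1)
    intro u
    obtain ⟨s, hs, u', hu'⟩ := h2 u
    refine ⟨s, hs, H u', ?_⟩
    rw [hu', hH, LinearMap.smul_apply]
  have : u ∈ LinearMap.range H := by rw [hsurj]; trivial
  obtain ⟨u', rfl⟩ := this
  exact ⟨u', by rw [hH, LinearMap.smul_apply]⟩

/-- `π^(p-1) L ⊆ p L`. -/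
theorem s2_pow_mem (X : Module.End ℤ_[p] L) (h0 : sig p X = 0) (u : L) :
    ∃ u' : L, ((X - 1) ^ (p - 1)) u = (p : ℤ_[p]) • u' := by
  obtain ⟨H, H₁, hcomm, hH, hH1⟩ := s2_exists_H p X h0
  exact ⟨H u, by rw [hH, LinearMap.smul_apply]⟩

theorem s2_isUnit_of_not_dvd (c : ℤ_[p]) (h : ¬ (p : ℤ_[p]) ∣ c) : IsUnit c := by
  rw [PadicInt.isUnit_iff]
  rw [← PadicInt.norm_lt_one_iff_dvd] at h
  exact le_antisymm (PadicInt.norm_le_one c) (not_lt.mp h)

/-- a minimal generating family modulo `π L`. -/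
theorem s2_exists_w (X : Module.End ℤ_[p] L) :
    ∃ (b : ℕ) (w : Fin b → L),
      (∀ u : L, ∃ c : Fin b → ℤ_[p], ∃ u' : L, u = ∑ j, c j • w j + (X - 1) u') ∧
      (∀ c : Fin b → ℤ_[p], (∃ u' : L, ∑ j, c j • w j = (X - 1) u') →
        ∀ j, (p : ℤ_[p]) ∣ c j) := by
  classical
  have hex : ∃ n : ℕ, ∃ S : Finset L, S.card = n ∧
      Submodule.span ℤ_[p] (S : Set L) ⊔ LinearMap.range (X - 1) = ⊤ := by
    obtain ⟨S, hS⟩ := (Module.finite_def.mp (inferInstance : Module.Finite ℤ_[p] L))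
    exact ⟨S.card, S, rfl, by rw [hS, top_sup_eq]⟩
  obtain ⟨S, hSn, hS⟩ := Nat.find_spec hex
  have hmin : ∀ S' : Finset L, S'.card < S.card →
      Submodule.span ℤ_[p] (S' : Set L) ⊔ LinearMap.range (X - 1) ≠ ⊤ := by
    intro S' hlt hS'
    rw [hSn] at hlt
    exact Nat.find_min hex hlt ⟨S', rfl, hS'⟩
  let e := S.equivFin
  refine ⟨S.card, fun j => ((e.symm j : S) : L), ?_, ?_⟩
  · intro u
    have hu : u ∈ Submodule.span ℤ_[p] (S : Set L) ⊔ LinearMap.range (X - 1) := by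
      rw [hS]; trivial
    obtain ⟨s, hs, t, ⟨u', rfl⟩, rfl⟩ := Submodule.mem_sup.mp hu
    obtain ⟨f, -, hf⟩ := Submodule.mem_span_finset.mp hs
    refine ⟨fun j => f ((e.symm j : S) : L), u', ?_⟩
    congr 1
    rw [← hf, ← Finset.sum_coe_sort S (fun x => f x • x)]
    exact (Equiv.sum_comp e.symm (fun x : S => f (x : L) • (x : L))).symm
  · intro c ⟨u', hc⟩ j0
    by_contra hnd
    obtain ⟨a, ha⟩ := s2_isUnit_of_not_dvd p (c j0) hnd
    set x0 : L := ((e.symm j0 : S) : L) with hx0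
    have hx0S : x0 ∈ S := (e.symm j0).2
    set N : Submodule ℤ_[p] L :=
      Submodule.span ℤ_[p] ((S.erase x0 : Finset L) : Set L) ⊔ LinearMap.range (X - 1) with hN
    have hwN : ∀ j, j ≠ j0 → ((e.symm j : S) : L) ∈ N := by
      intro j hj
      refine Submodule.mem_sup_left (Submodule.subset_span ?_)
      rw [Finset.mem_coe, Finset.mem_erase]
      refine ⟨fun h => hj ?_, (e.symm j).2⟩
      exact e.symm.injective (Subtype.ext h)
    have hx0N : x0 ∈ N := by
      have h1 : c j0 • x0 = (X - 1) u' - ∑ j ∈ Finset.univ.erase j0, c j • ((e.symm j : S) : L) := by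
        rw [← hc, ← Finset.add_sum_erase Finset.univ _ (Finset.mem_univ j0)]
        abel
      have h2 : c j0 • x0 ∈ N := by
        rw [h1]
        refine N.sub_mem (Submodule.mem_sup_right ⟨u', rfl⟩) (N.sum_mem fun j hj => ?_)
        exact N.smul_mem _ (hwN j (Finset.ne_of_mem_erase hj))
      have h3 : x0 = ((a⁻¹ : ℤ_[p]ˣ) : ℤ_[p]) • (c j0 • x0) := by
        rw [smul_smul, ← ha, Units.inv_mul, one_smul]
      rw [h3]
      exact N.smul_mem _ h2
    have hle : Submodule.span ℤ_[p] (S : Set L) ≤ N := by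
      rw [Submodule.span_le]
      intro x hx
      by_cases hxx : x = x0
      · rw [hxx]; exact hx0N
      · refine Submodule.mem_sup_left (Submodule.subset_span ?_)
        rw [Finset.mem_coe, Finset.mem_erase]
        exact ⟨hxx, hx⟩
    have hNtop : N = ⊤ := by
      rw [eq_top_iff, ← hS]
      exact sup_le hle le_sup_right
    exact hmin (S.erase x0) (Finset.card_erase_lt_of_mem hx0S) hNtop

theorem s2_eq_zero_of_forall_dvd (x : ℤ_[p]) (h : ∀ n : ℕ, (p : ℤ_[p]) ^ n ∣ x) : x = 0 := by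
  by_contra hx
  have h1 := PadicInt.norm_eq_zpow_neg_valuation hx
  have h2 : ‖x‖ ≤ (p : ℝ) ^ (-((x.valuation + 1 : ℕ) : ℤ)) := by
    rw [PadicInt.norm_le_pow_iff_mem_span_pow]
    exact Ideal.mem_span_singleton.mpr (h _)
  rw [h1] at h2
  have hp1 : (1 : ℝ) < p := by exact_mod_cast (Fact.out : p.Prime).one_lt
  have h3 := (zpow_le_zpow_iff_right₀ hp1).mp h2
  push_cast at h3
  omega

/-- the divisibility step for the linear independence of `π^i w_j`. -/
theorem s2_dvd_step (X : Module.End ℤ_[p] L) (h0 : sig p X = 0) (b : ℕ) (w : Fin b → L)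
    (hind : ∀ c : Fin b → ℤ_[p], (∃ u' : L, ∑ j, c j • w j = (X - 1) u') →
      ∀ j, (p : ℤ_[p]) ∣ c j)
    (g : Fin (p - 1) × Fin b → ℤ_[p])
    (hg : ∑ ij, g ij • ((X - 1) ^ (ij.1 : ℕ)) (w ij.2) = 0) :
    ∀ ij, (p : ℤ_[p]) ∣ g ij := by
  classical
  have key : ∀ n : ℕ, ∀ i : Fin (p - 1), (i : ℕ) = n → ∀ j, (p : ℤ_[p]) ∣ g (i, j) := by
    intro n
    induction n using Nat.strong_induction_on with
    | _ n ih =>
      intro i0 hi0
      -- the i-th block
      have hblock : ∀ i : Fin (p - 1), ∑ j, g (i, j) • ((X - 1) ^ (i : ℕ)) (w j) =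
          ((X - 1) ^ (i : ℕ)) (∑ j, g (i, j) • w j) := by
        intro i; rw [map_sum]; simp only [map_smul]
      have hz : ∀ i : Fin (p - 1), ∃ z : L, i ≠ i0 →
          ∑ j, g (i, j) • ((X - 1) ^ (i : ℕ)) (w j) = ((X - 1) ^ ((i0 : ℕ) + 1)) z := by
        intro i
        rcases lt_trichotomy (i : ℕ) (i0 : ℕ) with hlt | heq | hgt
        · -- coefficients divisible by p
          have hdiv : ∀ j, ∃ c : ℤ_[p], g (i, j) = (p : ℤ_[p]) * c := fun j =>
            ih (i : ℕ) (hi0 ▸ hlt) i rfl j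
          choose c hc using hdiv
          obtain ⟨u', hu'⟩ := s2_p_mem p X h0 (((X - 1) ^ (i : ℕ)) (∑ j, c j • w j))
          refine ⟨((X - 1) ^ (p - 1 - ((i0 : ℕ) + 1))) u', fun _ => ?_⟩
          rw [← Module.End.mul_apply, ← pow_add]
          have hle : (i0 : ℕ) + 1 + (p - 1 - ((i0 : ℕ) + 1)) = p - 1 := by
            have := i0.2; omega
          rw [hle, ← hu', hblock]
          rw [← map_smul, Finset.smul_sum]
          congr 1
          refine Finset.sum_congr rfl fun j _ => ?_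
          rw [hc j, mul_smul]
        · exact ⟨0, fun hne => absurd (Fin.ext heq) hne⟩
        · refine ⟨((X - 1) ^ ((i : ℕ) - ((i0 : ℕ) + 1))) (∑ j, g (i, j) • w j), fun _ => ?_⟩
          rw [← Module.End.mul_apply, ← pow_add, hblock]
          congr 2
          omega
      choose z hz using hz
      have hsum : ∑ i : Fin (p - 1), ∑ j, g (i, j) • ((X - 1) ^ (i : ℕ)) (w j) = 0 := by
        rw [← hg, Fintype.sum_prod_type]
      rw [← Finset.add_sum_erase Finset.univ _ (Finset.mem_univ i0)] at hsum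
      have hrest : ∑ i ∈ Finset.univ.erase i0, ∑ j, g (i, j) • ((X - 1) ^ (i : ℕ)) (w j) =
          ((X - 1) ^ ((i0 : ℕ) + 1)) (∑ i ∈ Finset.univ.erase i0, z i) := by
        rw [map_sum]
        exact Finset.sum_congr rfl fun i hi => hz i (Finset.ne_of_mem_erase hi)
      rw [hrest, hblock, pow_succ, Module.End.mul_apply, ← map_add] at hsum
      have h1 := s2_pi_pow_injective p X h0 (i0 : ℕ) (hsum.trans (map_zero _).symm)
      have h2 : ∑ j, g (i0, j) • w j = (X - 1) (-(∑ i ∈ Finset.univ.erase i0, z i)) := by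
        rw [map_neg]
        exact eq_neg_of_add_eq_zero_left h1
      exact hind (fun j => g (i0, j)) ⟨_, h2⟩
  intro ij
  exact key (ij.1 : ℕ) ij.1 rfl ij.2

/-- linear independence of `π^i w_j`. -/
theorem s2_li_pi (X : Module.End ℤ_[p] L) (h0 : sig p X = 0) (b : ℕ) (w : Fin b → L)
    (hind : ∀ c : Fin b → ℤ_[p], (∃ u' : L, ∑ j, c j • w j = (X - 1) u') →
      ∀ j, (p : ℤ_[p]) ∣ c j) :
    LinearIndependent ℤ_[p]
      (fun ij : Fin (p - 1) × Fin b => ((X - 1) ^ (ij.1 : ℕ)) (w ij.2)) := by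
  rw [Fintype.linearIndependent_iff]
  have hdesc : ∀ n : ℕ, ∀ g : Fin (p - 1) × Fin b → ℤ_[p],
      ∑ ij, g ij • ((X - 1) ^ (ij.1 : ℕ)) (w ij.2) = 0 → ∀ ij, (p : ℤ_[p]) ^ n ∣ g ij := by
    intro n
    induction n with
    | zero => intro g _ ij; simp
    | succ n ih =>
      intro g hg ij
      have hdiv := s2_dvd_step p X h0 b w hind g hg
      choose g' hg' using hdiv
      have h1 : ∑ ij, g' ij • ((X - 1) ^ (ij.1 : ℕ)) (w ij.2) = 0 := by
        apply s2_smul_eq_zero p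
        rw [Finset.smul_sum, ← hg]
        refine Finset.sum_congr rfl fun ij _ => ?_
        rw [hg' ij, mul_smul]
      rw [hg' ij, pow_succ']
      exact mul_dvd_mul_left _ (ih g' h1 ij)
  intro g hg ij
  exact s2_eq_zero_of_forall_dvd p _ fun n => hdesc n g hg ij

/-- `π^i w_j` span `L`. -/
theorem s2_span_pi (X : Module.End ℤ_[p] L) (h0 : sig p X = 0) (b : ℕ) (w : Fin b → L)
    (hgen : ∀ u : L, ∃ c : Fin b → ℤ_[p], ∃ u' : L, u = ∑ j, c j • w j + (X - 1) u') :
    Submodule.span ℤ_[p]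
      (Set.range fun ij : Fin (p - 1) × Fin b => ((X - 1) ^ (ij.1 : ℕ)) (w ij.2)) = ⊤ := by
  set W := Submodule.span ℤ_[p]
      (Set.range fun ij : Fin (p - 1) × Fin b => ((X - 1) ^ (ij.1 : ℕ)) (w ij.2)) with hW
  have hstep : ∀ k : ℕ, k ≤ p - 1 → ∀ u : L, ∃ s ∈ W, ∃ u' : L, u = s + ((X - 1) ^ k) u' := by
    intro k
    induction k with
    | zero => intro _ u; exact ⟨0, W.zero_mem, u, by simp⟩
    | succ k ih =>
      intro hk u
      obtain ⟨s, hs, u', rfl⟩ := ih (by omega) u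
      obtain ⟨c, u'', rfl⟩ := hgen u'
      refine ⟨s + ∑ j, c j • ((X - 1) ^ k) (w j), W.add_mem hs (W.sum_mem fun j _ => ?_), u'', ?_⟩
      · refine W.smul_mem _ (Submodule.subset_span ⟨(⟨k, by omega⟩, j), rfl⟩)
      · rw [map_add, map_sum, pow_succ, Module.End.mul_apply]
        simp only [map_smul]
        abel
  apply s2_nakayama p
  intro u
  obtain ⟨s, hs, u', rfl⟩ := hstep (p - 1) le_rfl u
  obtain ⟨u'', hu''⟩ := s2_pow_mem p X h0 u'
  exact ⟨s, hs, u'', by rw [hu'']⟩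

/-- PIECE S2 (structure of `L₂`): a lattice on which `σ = 0` is free over `ℤ_p[ζ]`:
basis `X^i w_j`, `i < p - 1`. -/
theorem sig_zero_basis (X : Module.End ℤ_[p] L) (hX : X ^ p = 1) (h0 : sig p X = 0) :
    ∃ (b : ℕ) (w : Fin b → L),
      LinearIndependent ℤ_[p] (fun ij : Fin (p - 1) × Fin b => (X ^ (ij.1 : ℕ)) (w ij.2)) ∧
      Submodule.span ℤ_[p] (Set.range (fun ij : Fin (p - 1) × Fin b => (X ^ (ij.1 : ℕ)) (w ij.2))) = ⊤ := by
  obtain ⟨b, w, hgen, hind⟩ := s2_exists_w p X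
  have hli := s2_li_pi p X h0 b w hind
  have hspan := s2_span_pi p X h0 b w hgen
  have hrank : Module.finrank ℤ_[p] L = Fintype.card (Fin (p - 1) × Fin b) :=
    Module.finrank_eq_card_basis (Module.Basis.mk hli hspan.ge)
  -- the X-family spans
  have hspanX : Submodule.span ℤ_[p]
      (Set.range (fun ij : Fin (p - 1) × Fin b => (X ^ (ij.1 : ℕ)) (w ij.2))) = ⊤ := by
    set WX := Submodule.span ℤ_[p]
      (Set.range (fun ij : Fin (p - 1) × Fin b => (X ^ (ij.1 : ℕ)) (w ij.2))) with hWX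
    rw [eq_top_iff, ← hspan, Submodule.span_le]
    rintro _ ⟨⟨i, j⟩, rfl⟩
    show ((X - 1) ^ (i : ℕ)) (w j) ∈ WX
    have hcomm : Commute X (-1 : Module.End ℤ_[p] L) := (Commute.one_right X).neg_right
    rw [sub_eq_add_neg, hcomm.add_pow, LinearMap.sum_apply]
    refine WX.sum_mem fun m hm => ?_
    have hm' : m < p - 1 := by
      have := Finset.mem_range.mp hm
      have := i.2
      omega
    have hgenm : (X ^ m) (w j) ∈ WX := Submodule.subset_span ⟨(⟨m, hm'⟩, j), rfl⟩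
    rw [Module.End.mul_apply, Module.End.mul_apply, Module.End.natCast_apply]
    rcases neg_one_pow_eq_or (Module.End ℤ_[p] L) ((i : ℕ) - m) with h1 | h1
    · rw [h1, Module.End.one_apply, map_nsmul]
      exact WX.smul_of_tower_mem _ hgenm
    · rw [h1, LinearMap.neg_apply, Module.End.one_apply, map_neg, map_nsmul]
      exact WX.neg_mem (WX.smul_of_tower_mem _ hgenm)
  refine ⟨b, w, ?_, hspanX⟩
  exact linearIndependent_of_top_le_span_of_card_eq_finrank hspanX.ge hrank.symm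

end Lat

end Cfsg.Agent.Helper5.TL
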