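import Mathlib
import Cfsg.Agent.Lib.Helper5.TLDefs

set_option autoImplicit false

/-!
# S4441 piece KEY: `key_transfer`

Averaging over `G / P` (transfer): `lam = |Fix|⁻¹ Σ_{yP} ρ(y) φ ρ(y)⁻¹`; the `P`-orbits on `G / P` are
the fixed cosets (inside `N_G(P)`) and regular orbits.
-/

namespace Cfsg.Agent.Helper5.TL

open scoped Padic

/-- orbit sum lemma: for a permutation `τ` with `τ ^ p = 1`, `p` prime, a sum over a `τ`-invariant
set of non-fixed points lies in `S` as soon as all the orbit sums do. -/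
theorem key_orbit_sum {Q M : Type*} [DecidableEq Q] [AddCommGroup M] (S : AddSubgroup M)
    (p : ℕ) (hp : p.Prime) (τ : Equiv.Perm Q) (hτ : τ ^ p = 1) (F : Q → M)
    (hF : ∀ q, τ q ≠ q → ∑ i ∈ Finset.range p, F ((τ ^ i) q) ∈ S) :
    ∀ (n : ℕ) (A : Finset Q), A.card = n → (∀ q ∈ A, τ q ≠ q) → (∀ q ∈ A, τ q ∈ A) →
      ∑ q ∈ A, F q ∈ S := by
  intro n
  induction n using Nat.strong_induction_on with
  | _ n ih =>
    intro A hA hfix hinv
    rcases A.eq_empty_or_nonempty with rfl | ⟨q0, hq0⟩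
    · simp
    · set O := (Finset.range p).image (fun i => (τ ^ i) q0) with hO
      have hpow_mem : ∀ i, (τ ^ i) q0 ∈ A := by
        intro i
        induction i with
        | zero => simpa using hq0
        | succ i ih2 =>
          rw [pow_succ', Equiv.Perm.mul_apply]
          exact hinv _ ih2
      have hOA : O ⊆ A := by
        intro q hq
        rw [hO, Finset.mem_image] at hq
        obtain ⟨i, _, rfl⟩ := hq
        exact hpow_mem i
      -- a nontrivial power below p moves q0
      have hmove : ∀ d, 0 < d → d < p → (τ ^ d) q0 ≠ q0 := by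
        intro d hd0 hdp hd
        have hcop : Nat.Coprime d p :=
          (Nat.coprime_of_lt_prime hd0.ne' hdp hp).symm
        obtain ⟨m, -, hm⟩ := Nat.exists_mul_mod_eq_one_of_coprime hcop hp.one_lt
        have h1 : (τ ^ (d * m)) q0 = q0 := by
          rw [pow_mul]
          exact Equiv.Perm.pow_apply_eq_self_of_apply_eq_self hd m
        rw [pow_eq_pow_mod (d * m) hτ, hm, pow_one] at h1
        exact hfix q0 hq0 h1
      have hinj : Set.InjOn (fun i => (τ ^ i) q0) (Finset.range p : Set ℕ) := by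
        intro i hi j hj hij
        simp only [Finset.coe_range, Set.mem_Iio] at hi hj
        simp only at hij
        by_contra hne
        rcases lt_or_gt_of_ne hne with hlt | hlt
        · have h2 : (τ ^ j) q0 = (τ ^ i) ((τ ^ (j - i)) q0) := by
            rw [← Equiv.Perm.mul_apply, ← pow_add]
            congr 2; omega
          rw [h2] at hij
          exact hmove (j - i) (by omega) (by omega) ((τ ^ i).injective hij).symm
        · have h2 : (τ ^ i) q0 = (τ ^ j) ((τ ^ (i - j)) q0) := by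
            rw [← Equiv.Perm.mul_apply, ← pow_add]
            congr 2; omega
          rw [h2] at hij
          exact hmove (i - j) (by omega) (by omega) ((τ ^ j).injective hij)
      have hsumO : ∑ q ∈ O, F q = ∑ i ∈ Finset.range p, F ((τ ^ i) q0) :=
        Finset.sum_image hinj
      have hOcard : O.card = p := by
        rw [hO, Finset.card_image_of_injOn hinj, Finset.card_range]
      have hinv' : ∀ q ∈ A \ O, τ q ∈ A \ O := by
        intro q hq
        rw [Finset.mem_sdiff] at hq ⊢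
        refine ⟨hinv q hq.1, fun hmem => hq.2 ?_⟩
        rw [hO, Finset.mem_image] at hmem ⊢
        obtain ⟨i, hi, hi2⟩ := hmem
        rw [Finset.mem_range] at hi
        rcases Nat.eq_zero_or_pos i with rfl | hipos
        · refine ⟨p - 1, Finset.mem_range.mpr (by have := hp.pos; omega), ?_⟩
          simp only [pow_zero, Equiv.Perm.coe_one, id_eq] at hi2
          apply τ.injective
          show τ ((τ ^ (p - 1)) q0) = τ q
          rw [← Equiv.Perm.mul_apply, ← pow_succ']
          have : p - 1 + 1 = p := by have := hp.pos; omega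
          rw [this, hτ, hi2]; rfl
        · refine ⟨i - 1, Finset.mem_range.mpr (by omega), ?_⟩
          apply τ.injective
          show τ ((τ ^ (i - 1)) q0) = τ q
          rw [← Equiv.Perm.mul_apply, ← pow_succ']
          have : i - 1 + 1 = i := by omega
          rw [this]; exact hi2
      have hpn : p ≤ n := by
        rw [← hA, ← hOcard]; exact Finset.card_le_card hOA
      have hlt : (A \ O).card < n := by
        rw [Finset.card_sdiff_of_subset hOA, hA, hOcard]
        have := hp.pos; omega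
      have h3 := ih _ hlt (A \ O) rfl (fun q hq => hfix q (Finset.mem_sdiff.mp hq).1) hinv'
      rw [← Finset.sum_sdiff hOA]
      refine S.add_mem h3 ?_
      rw [hsumO]
      exact hF q0 (hfix q0 hq0)

section Key

variable (p : ℕ) [Fact p.Prime]
variable {G : Type*} [Group G]
variable {M : Type*} [AddCommGroup M] [Module ℤ_[p] M]

/-- the conjugate `ρ(y) φ ρ(y)⁻¹`. -/
noncomputable def keyConj (ρ : Representation ℤ_[p] G M) (φ : Module.End ℤ_[p] M) (y : G) :
    Module.End ℤ_[p] M := ρ y * φ * ρ y⁻¹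

theorem keyConj_apply (ρ : Representation ℤ_[p] G M) (φ : Module.End ℤ_[p] M) (y : G) (v : M) :
    keyConj p ρ φ y v = ρ y (φ (ρ y⁻¹ v)) := rfl

theorem key_rho_inv_mul (ρ : Representation ℤ_[p] G M) (u : G) : ρ u⁻¹ * ρ u = 1 := by
  rw [← map_mul, inv_mul_cancel, map_one]

theorem key_rho_mul_inv (ρ : Representation ℤ_[p] G M) (u : G) : ρ u * ρ u⁻¹ = 1 := by
  rw [← map_mul, mul_inv_cancel, map_one]

theorem keyConj_mul_left (ρ : Representation ℤ_[p] G M) (φ : Module.End ℤ_[p] M) (g y : G) :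
    keyConj p ρ φ (g * y) = ρ g * keyConj p ρ φ y * ρ g⁻¹ := by
  unfold keyConj
  rw [mul_inv_rev, map_mul, map_mul]
  simp only [mul_assoc]

theorem keyConj_mul_right (ρ : Representation ℤ_[p] G M) (φ : Module.End ℤ_[p] M) (y u : G)
    (hu : Commute φ (ρ u)) : keyConj p ρ φ (y * u) = keyConj p ρ φ y := by
  unfold keyConj
  rw [mul_inv_rev, map_mul, map_mul]
  calc ρ y * ρ u * φ * (ρ u⁻¹ * ρ y⁻¹) = ρ y * (ρ u * φ) * ρ u⁻¹ * ρ y⁻¹ := by
        simp only [mul_assoc]
    _ = ρ y * (φ * ρ u) * ρ u⁻¹ * ρ y⁻¹ := by rw [hu.eq]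
    _ = ρ y * φ * (ρ u * ρ u⁻¹) * ρ y⁻¹ := by simp only [mul_assoc]
    _ = ρ y * φ * ρ y⁻¹ := by rw [key_rho_mul_inv, mul_one]

theorem key_commute_pow (ρ : Representation ℤ_[p] G M) (φ : Module.End ℤ_[p] M) (x : G)
    (hφ : Commute φ (ρ x)) (k : ℕ) : Commute φ (ρ (x ^ k)) := by
  rw [map_pow]
  exact hφ.pow_right k

end Key

section Key2

variable (p : ℕ) [Fact p.Prime]
variable {G : Type*} [Group G] [Finite G]
variable {M : Type*} [AddCommGroup M] [Module ℤ_[p] M] [Module.Free ℤ_[p] M] [Module.Finite ℤ_[p] M]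

/-- every element of a Sylow subgroup of order `p` is a natural power of a nontrivial element. -/
theorem key_mem_powers (P : Sylow p G) (hP : Nat.card P = p) (x : G) (hx : x ∈ (P : Subgroup G))
    (hx1 : x ≠ 1) (u : G) (hu : u ∈ (P : Subgroup G)) : ∃ k : ℕ, x ^ k = u := by
  have h1 : (⟨u, hu⟩ : (P : Subgroup G)) ∈ Subgroup.zpowers (⟨x, hx⟩ : (P : Subgroup G)) :=
    mem_zpowers_of_prime_card (G := (P : Subgroup G)) hP
      (by intro h; exact hx1 (by simpa using congrArg Subtype.val h))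
  rw [← mem_powers_iff_mem_zpowers] at h1
  obtain ⟨k, hk⟩ := h1
  exact ⟨k, by simpa using congrArg Subtype.val hk⟩

/-- a coset fixed by `x` has its representatives in the normalizer. -/
theorem key_mem_normalizer (P : Sylow p G) (hP : Nat.card P = p) (x : G)
    (hx : x ∈ (P : Subgroup G)) (hx1 : x ≠ 1) (y : G)
    (hy : x • (QuotientGroup.mk y : G ⧸ (P : Subgroup G)) = QuotientGroup.mk y) :
    y ∈ Subgroup.normalizer ((P : Subgroup G) : Set G) := by
  rw [MulAction.Quotient.smul_mk, QuotientGroup.eq] at hy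
  -- y⁻¹ x y ∈ P
  have h1 : y⁻¹ * x * y ∈ (P : Subgroup G) := by
    have := (P : Subgroup G).inv_mem hy
    simpa [mul_assoc] using this
  have h2 : ∀ h ∈ (P : Subgroup G), y⁻¹ * h * y ∈ (P : Subgroup G) := by
    intro h hh
    obtain ⟨k, rfl⟩ := key_mem_powers p P hP x hx hx1 h hh
    have : y⁻¹ * x ^ k * y = (y⁻¹ * x * y) ^ k := by
      have := map_pow (MulAut.conj y⁻¹) x k
      simpa [MulAut.conj_apply] using this
    rw [this]
    exact (P : Subgroup G).pow_mem h1 k
  -- the conjugation map P → P is injective, hence surjective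
  let c : ↥(P : Subgroup G) → ↥(P : Subgroup G) := fun h => ⟨y⁻¹ * h * y, h2 h h.2⟩
  have hcinj : Function.Injective c := by
    intro a b hab
    have : y⁻¹ * (a : G) * y = y⁻¹ * (b : G) * y := congrArg Subtype.val hab
    apply Subtype.ext
    simpa using this
  have hcsurj : Function.Surjective c := Finite.surjective_of_injective hcinj
  have hyinv : y⁻¹ ∈ Subgroup.normalizer ((P : Subgroup G) : Set G) := by
    rw [Subgroup.mem_normalizer_iff]
    intro h
    rw [inv_inv]
    refine ⟨h2 h, fun hh => ?_⟩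
    obtain ⟨a, ha⟩ := hcsurj ⟨_, hh⟩
    have : y⁻¹ * (a : G) * y = y⁻¹ * h * y := congrArg Subtype.val ha
    have h3 : (a : G) = h := by simpa using this
    rw [← h3]; exact a.2
  simpa using (Subgroup.normalizer ((P : Subgroup G) : Set G)).inv_mem hyinv

/-- PIECE KEY (averaging over N/P, then transfer from N to G; Mackey + TI). -/
theorem key_transfer (ρ : Representation ℤ_[p] G M) (P : Sylow p G) (hP : Nat.card P = p)
    (x : G) (hx : x ∈ (P : Subgroup G)) (hx1 : x ≠ 1)
    (φ : Module.End ℤ_[p] M) (hφ : Commute φ (ρ x)) :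
    ∃ lam : Module.End ℤ_[p] M, (∀ g, Commute lam (ρ g)) ∧
      ((∀ n ∈ Subgroup.normalizer ((P : Subgroup G) : Set G), ∀ v ∈ fixedPts p (ρ x),
          ρ n (φ (ρ n⁻¹ v)) - φ v ∈ sigRange p (ρ x)) →
        ∀ v ∈ fixedPts p (ρ x), lam v - φ v ∈ sigRange p (ρ x)) ∧
      ((∀ n ∈ Subgroup.normalizer ((P : Subgroup G) : Set G), ∀ v ∈ sigKer p (ρ x),
          ρ n (φ (ρ n⁻¹ v)) - φ v ∈ augRange p (ρ x)) →
        ∀ v ∈ sigKer p (ρ x), lam v - φ v ∈ augRange p (ρ x)) := by
  classical
  have hp : p.Prime := Fact.out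
  let _ : Fintype (G ⧸ (P : Subgroup G)) := Fintype.ofFinite _
  -- basic facts
  have hxp : x ^ p = 1 := by
    have := pow_card_eq_one' (G := (P : Subgroup G)) (x := ⟨x, hx⟩)
    rw [hP] at this
    simpa using congrArg Subtype.val this
  have hcommP : ∀ u ∈ (P : Subgroup G), Commute φ (ρ u) := by
    intro u hu
    obtain ⟨k, rfl⟩ := key_mem_powers p P hP x hx hx1 u hu
    exact key_commute_pow p ρ φ x hφ k
  -- Ψ on cosets
  set Ψ : G ⧸ (P : Subgroup G) → Module.End ℤ_[p] M := fun q => keyConj p ρ φ q.out with hΨ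
  have hΨmk : ∀ y : G, Ψ (QuotientGroup.mk y) = keyConj p ρ φ y := by
    intro y
    obtain ⟨h, hh⟩ := QuotientGroup.mk_out_eq_mul (P : Subgroup G) y
    show keyConj p ρ φ (QuotientGroup.mk y : G ⧸ (P : Subgroup G)).out = _
    rw [hh]
    exact keyConj_mul_right p ρ φ y h (hcommP h h.2)
  have hΨsmul : ∀ (g : G) (q : G ⧸ (P : Subgroup G)), Ψ (g • q) = ρ g * Ψ q * ρ g⁻¹ := by
    intro g q
    induction q using QuotientGroup.induction_on with
    | H y =>
      rw [MulAction.Quotient.smul_mk, smul_eq_mul, hΨmk, hΨmk, keyConj_mul_left]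
  set T : Module.End ℤ_[p] M := ∑ q : G ⧸ (P : Subgroup G), Ψ q with hT
  have hTcomm : ∀ g, Commute T (ρ g) := by
    intro g
    have h1 : ρ g * T * ρ g⁻¹ = T := by
      calc ρ g * T * ρ g⁻¹ = ∑ q : G ⧸ (P : Subgroup G), ρ g * Ψ q * ρ g⁻¹ := by
            rw [hT, Finset.mul_sum, Finset.sum_mul]
        _ = ∑ q : G ⧸ (P : Subgroup G), Ψ (g • q) := by simp only [hΨsmul]
        _ = ∑ q : G ⧸ (P : Subgroup G), Ψ q :=
            Fintype.sum_equiv (MulAction.toPerm g) _ _ (fun q => rfl)
        _ = T := hT.symm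
    show T * ρ g = ρ g * T
    calc T * ρ g = ρ g * T * ρ g⁻¹ * ρ g := by rw [h1]
      _ = ρ g * T * (ρ g⁻¹ * ρ g) := by simp only [mul_assoc]
      _ = ρ g * T := by rw [key_rho_inv_mul, mul_one]
  -- the two permutations
  set τ : Equiv.Perm (G ⧸ (P : Subgroup G)) := MulAction.toPermHom G _ x with hτdef
  set τ' : Equiv.Perm (G ⧸ (P : Subgroup G)) := MulAction.toPermHom G _ x⁻¹ with hτ'def
  have hτp : τ ^ p = 1 := by rw [hτdef, ← map_pow, hxp, map_one]
  have hτ'p : τ' ^ p = 1 := by rw [hτ'def, ← map_pow, inv_pow, hxp, inv_one, map_one]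
  have hτpow : ∀ (i : ℕ) q, (τ ^ i) q = x ^ i • q := by
    intro i q; rw [hτdef, ← map_pow]; rfl
  have hτ'pow : ∀ (i : ℕ) q, (τ' ^ i) q = (x⁻¹) ^ i • q := by
    intro i q; rw [hτ'def, ← map_pow]; rfl
  have hτapp : ∀ q, τ q = x • q := fun q => rfl
  have hτ'app : ∀ q, τ' q = x⁻¹ • q := fun q => rfl
  set NF : Finset (G ⧸ (P : Subgroup G)) := Finset.univ.filter (fun q => x • q ≠ q) with hNF
  set FX : Finset (G ⧸ (P : Subgroup G)) := Finset.univ.filter (fun q => x • q = q) with hFX
  have hNFτ : ∀ q ∈ NF, τ q ≠ q := fun q hq => (Finset.mem_filter.mp hq).2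
  have hNFτinv : ∀ q ∈ NF, τ q ∈ NF := by
    intro q hq
    have h1 := (Finset.mem_filter.mp hq).2
    refine Finset.mem_filter.mpr ⟨Finset.mem_univ _, fun h2 => h1 ?_⟩
    rw [hτapp] at h2
    exact smul_left_cancel x h2
  have hinvfix : ∀ q : G ⧸ (P : Subgroup G), x⁻¹ • q = q ↔ x • q = q := by
    intro q
    constructor
    · intro h; rw [inv_smul_eq_iff] at h; exact h.symm
    · intro h; rw [inv_smul_eq_iff]; exact h.symm
  have hNFτ' : ∀ q ∈ NF, τ' q ≠ q := by
    intro q hq h
    exact (Finset.mem_filter.mp hq).2 ((hinvfix q).mp h)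
  have hNFτ'inv : ∀ q ∈ NF, τ' q ∈ NF := by
    intro q hq
    have h1 := (Finset.mem_filter.mp hq).2
    refine Finset.mem_filter.mpr ⟨Finset.mem_univ _, fun h2 => h1 ?_⟩
    rw [hτ'app, smul_inv_smul] at h2
    exact (hinvfix q).mp h2.symm
  -- the number of fixed cosets is prime to p
  have hcop : ¬ p ∣ FX.card := by
    intro hdvd
    have h1 := key_orbit_sum (⊥ : AddSubgroup (ZMod p)) p hp τ hτp (fun _ => (1 : ZMod p))
      (by intro q _; simp) NF.card NF rfl hNFτ hNFτinv
    rw [AddSubgroup.mem_bot, Finset.sum_const, nsmul_one, ZMod.natCast_eq_zero_iff] at h1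
    have h2 : FX.card + NF.card = Fintype.card (G ⧸ (P : Subgroup G)) := by
      rw [hFX, hNF]
      exact Finset.card_filter_add_card_filter_not _
    have h3 : p ∣ Fintype.card (G ⧸ (P : Subgroup G)) := by
      rw [← h2]; exact dvd_add hdvd h1
    have h4 : Fintype.card (G ⧸ (P : Subgroup G)) = (P : Subgroup G).index := by
      rw [Subgroup.index, Nat.card_eq_fintype_card]
    rw [h4] at h3
    exact P.not_dvd_index h3
  have hunit : IsUnit ((FX.card : ℕ) : ℤ_[p]) := by
    rw [PadicInt.isUnit_iff, PadicInt.norm_natCast_eq_one_iff]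
    exact (Nat.Prime.coprime_iff_not_dvd hp).mpr hcop
  obtain ⟨w, hw⟩ := hunit
  refine ⟨((w⁻¹ : ℤ_[p]ˣ) : ℤ_[p]) • T, fun g => (hTcomm g).smul_left _, ?_, ?_⟩
  · -- case A
    intro hN v hv
    have hXv : ρ x v = v := by
      have : (ρ x - 1) v = 0 := hv
      rwa [LinearMap.sub_apply, Module.End.one_apply, sub_eq_zero] at this
    have hXinv : ρ x⁻¹ v = v := by
      have := congrArg (ρ x⁻¹) hXv
      rw [← Module.End.mul_apply, key_rho_inv_mul, Module.End.one_apply] at this
      exact this.symm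
    have hXinvpow : ∀ i : ℕ, ρ (x ^ i)⁻¹ v = v := by
      intro i
      rw [← inv_pow, map_pow]
      induction i with
      | zero => simp
      | succ i ih => rw [pow_succ, Module.End.mul_apply, hXinv, ih]
    -- nonfixed part
    have hnf : ∑ q ∈ NF, Ψ q v ∈ (sigRange p (ρ x)).toAddSubgroup := by
      refine key_orbit_sum (sigRange p (ρ x)).toAddSubgroup p hp τ hτp (fun q => Ψ q v)
        ?_ NF.card NF rfl hNFτ hNFτinv
      intro q _
      induction q using QuotientGroup.induction_on with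
      | H y =>
        have h1 : ∀ i ∈ Finset.range p, Ψ ((τ ^ i) (QuotientGroup.mk y)) v =
            ((ρ x) ^ i) (keyConj p ρ φ y v) := by
          intro i _
          rw [hτpow, hΨsmul, hΨmk, Module.End.mul_apply, Module.End.mul_apply, hXinvpow, map_pow]
        rw [Finset.sum_congr rfl h1]
        rw [Submodule.mem_toAddSubgroup]
        refine ⟨keyConj p ρ φ y v, ?_⟩
        simp [sig, LinearMap.sum_apply]
    -- fixed part
    have hfx : ∑ q ∈ FX, (Ψ q v - φ v) ∈ sigRange p (ρ x) := by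
      refine Submodule.sum_mem _ fun q hq => ?_
      have hq' : x • q = q := (Finset.mem_filter.mp hq).2
      induction q using QuotientGroup.induction_on with
      | H y =>
        rw [hΨmk, keyConj_apply]
        exact hN y (key_mem_normalizer p P hP x hx hx1 y hq') v hv
    have hsplit : T v = ∑ q ∈ FX, Ψ q v + ∑ q ∈ NF, Ψ q v := by
      rw [hT, LinearMap.sum_apply, hFX, hNF]
      exact (Finset.sum_filter_add_sum_filter_not _ _ _).symm
    have hTv : T v - (FX.card : ℤ_[p]) • φ v ∈ sigRange p (ρ x) := by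
      have h1 : T v - (FX.card : ℤ_[p]) • φ v =
          ∑ q ∈ FX, (Ψ q v - φ v) + ∑ q ∈ NF, Ψ q v := by
        rw [hsplit, Finset.sum_sub_distrib, Finset.sum_const, Nat.cast_smul_eq_nsmul]
        abel
      rw [h1]
      exact (sigRange p (ρ x)).add_mem hfx hnf
    have hfin : (((w⁻¹ : ℤ_[p]ˣ) : ℤ_[p]) • T) v - φ v =
        ((w⁻¹ : ℤ_[p]ˣ) : ℤ_[p]) • (T v - (FX.card : ℤ_[p]) • φ v) := by
      rw [LinearMap.smul_apply, smul_sub, smul_smul, ← hw, Units.inv_mul, one_smul]
    rw [hfin]
    exact (sigRange p (ρ x)).smul_mem _ hTv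
  · -- case B
    intro hN v hv
    have hσv : sig p (ρ x) v = 0 := hv
    -- (Y^i) w - w ∈ augRange
    have haug : ∀ (i : ℕ) (w' : M), ((ρ x⁻¹) ^ i) w' - w' ∈ augRange p (ρ x) := by
      intro i
      induction i with
      | zero => intro w'; simp
      | succ i ih =>
        intro w'
        have h1 : ((ρ x⁻¹) ^ (i + 1)) w' - w' =
            (ρ x - 1) (-(ρ x⁻¹ (((ρ x⁻¹) ^ i) w'))) + (((ρ x⁻¹) ^ i) w' - w') := by
          rw [pow_succ', Module.End.mul_apply, LinearMap.sub_apply, Module.End.one_apply,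
            map_neg, ← Module.End.mul_apply (ρ x), key_rho_mul_inv, Module.End.one_apply]
          abel
        rw [h1]
        exact (augRange p (ρ x)).add_mem ⟨_, rfl⟩ (ih w')
    have hnf : ∑ q ∈ NF, Ψ q v ∈ (augRange p (ρ x)).toAddSubgroup := by
      refine key_orbit_sum (augRange p (ρ x)).toAddSubgroup p hp τ' hτ'p (fun q => Ψ q v)
        ?_ NF.card NF rfl hNFτ' hNFτ'inv
      intro q _
      induction q using QuotientGroup.induction_on with
      | H y =>
        have h1 : ∀ i ∈ Finset.range p, Ψ ((τ' ^ i) (QuotientGroup.mk y)) v =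
            ((ρ x⁻¹) ^ i) (keyConj p ρ φ y (((ρ x) ^ i) v)) := by
          intro i _
          rw [hτ'pow, hΨsmul, hΨmk, Module.End.mul_apply, Module.End.mul_apply, inv_pow, inv_inv,
            map_pow, ← inv_pow, map_pow]
        rw [Finset.sum_congr rfl h1, Submodule.mem_toAddSubgroup]
        have h2 : ∑ i ∈ Finset.range p, ((ρ x⁻¹) ^ i) (keyConj p ρ φ y (((ρ x) ^ i) v)) =
            ∑ i ∈ Finset.range p, (((ρ x⁻¹) ^ i) (keyConj p ρ φ y (((ρ x) ^ i) v)) -
              keyConj p ρ φ y (((ρ x) ^ i) v)) + keyConj p ρ φ y (sig p (ρ x) v) := by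
          rw [Finset.sum_sub_distrib]
          simp [sig, LinearMap.sum_apply, map_sum]
        rw [h2, hσv, map_zero, add_zero]
        exact Submodule.sum_mem _ fun i _ => haug i _
    have hfx : ∑ q ∈ FX, (Ψ q v - φ v) ∈ augRange p (ρ x) := by
      refine Submodule.sum_mem _ fun q hq => ?_
      have hq' : x • q = q := (Finset.mem_filter.mp hq).2
      induction q using QuotientGroup.induction_on with
      | H y =>
        rw [hΨmk, keyConj_apply]
        exact hN y (key_mem_normalizer p P hP x hx hx1 y hq') v hv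
    have hsplit : T v = ∑ q ∈ FX, Ψ q v + ∑ q ∈ NF, Ψ q v := by
      rw [hT, LinearMap.sum_apply, hFX, hNF]
      exact (Finset.sum_filter_add_sum_filter_not _ _ _).symm
    have hTv : T v - (FX.card : ℤ_[p]) • φ v ∈ augRange p (ρ x) := by
      have h1 : T v - (FX.card : ℤ_[p]) • φ v =
          ∑ q ∈ FX, (Ψ q v - φ v) + ∑ q ∈ NF, Ψ q v := by
        rw [hsplit, Finset.sum_sub_distrib, Finset.sum_const, Nat.cast_smul_eq_nsmul]
        abel
      rw [h1]
      exact (augRange p (ρ x)).add_mem hfx hnf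
    have hfin : (((w⁻¹ : ℤ_[p]ˣ) : ℤ_[p]) • T) v - φ v =
        ((w⁻¹ : ℤ_[p]ˣ) : ℤ_[p]) • (T v - (FX.card : ℤ_[p]) • φ v) := by
      rw [LinearMap.smul_apply, smul_sub, smul_smul, ← hw, Units.inv_mul, one_smul]
    rw [hfin]
    exact (augRange p (ρ x)).smul_mem _ hTv

end Key2

end Cfsg.Agent.Helper5.TL
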