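import Mathlib
import Cfsg.Agent.Lib.Helper5.TLDefs

set_option autoImplicit false

/-!
# S4441 piece LOC: `unit_or_nilp`

In the commutant of a lattice whose commutant has only the idempotents `0, 1`, every element is
invertible or has a power divisible by `p`.  Proof: compactness of matrices over `ℤ_[p]`,
cluster point of `lam ^ (j!)`.
-/

namespace Cfsg.Agent.Helper5.TL

open scoped Padic
open Filter Topology

/-- In a finite monoid, `s ^ (j!)` is idempotent for all large `j`. -/
theorem loc_exists_idem_pow {S : Type*} [Monoid S] [Finite S] (s : S) :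
    ∃ J : ℕ, ∀ j, J ≤ j → s ^ (j.factorial) * s ^ (j.factorial) = s ^ (j.factorial) := by
  obtain ⟨a, b, hab, h⟩ := Finite.exists_ne_map_eq_of_infinite (fun n : ℕ => s ^ n)
  wlog hlt : a < b generalizing a b
  · exact this b a hab.symm h.symm (lt_of_le_of_ne (not_lt.mp hlt) hab.symm)
  replace h : s ^ a = s ^ b := h
  have hper : ∀ n, a ≤ n → s ^ (n + (b - a)) = s ^ n := by
    intro n hn
    obtain ⟨c, rfl⟩ := Nat.exists_eq_add_of_le hn
    have h1 : a + c + (b - a) = b + c := by omega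
    rw [h1, pow_add, pow_add, h]
  have hper2 : ∀ m n, a ≤ n → s ^ (n + (b - a) * m) = s ^ n := by
    intro m
    induction m with
    | zero => intro n _; simp
    | succ m ih =>
      intro n hn
      have h1 : n + (b - a) * (m + 1) = (n + (b - a) * m) + (b - a) := by ring
      rw [h1, hper _ (by omega), ih n hn]
  refine ⟨max a (b - a), fun j hj => ?_⟩
  have hdj : (b - a) ∣ j.factorial := Nat.dvd_factorial (by omega) (le_trans (le_max_right _ _) hj)
  obtain ⟨m, hm⟩ := hdj
  have haj : a ≤ j.factorial := le_trans (le_trans (le_max_left _ _) hj) (Nat.self_le_factorial j)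
  rw [← pow_add]
  have h2 : j.factorial + j.factorial = j.factorial + (b - a) * m := by omega
  rw [h2]
  exact hper2 m _ haj

variable (p : ℕ) [Fact p.Prime]

/-- an element of `ℤ_[p]` of norm `≤ p^(-i)` for all `i` is zero. -/
theorem loc_eq_zero_of_norm_le (x : ℤ_[p]) (h : ∀ i : ℕ, ‖x‖ ≤ (p : ℝ) ^ (-(i : ℤ))) : x = 0 := by
  by_contra hx
  have h1 := PadicInt.norm_eq_zpow_neg_valuation hx
  have h2 := h (x.valuation + 1)
  rw [h1] at h2
  have hp1 : (1 : ℝ) < p := by exact_mod_cast (Fact.out : p.Prime).one_lt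
  have h3 := (zpow_le_zpow_iff_right₀ hp1).mp h2
  push_cast at h3
  omega

section Mat

variable {ι : Type*} [Fintype ι] [DecidableEq ι]

/-- the idempotent estimate: for every `i`, eventually all entries of `a_j ^ 2 - a_j` have norm
`≤ p^(-i)`, where `a_j = L ^ (j!)`. -/
theorem loc_idem_estimate (L : Matrix ι ι ℤ_[p]) (i : ℕ) :
    ∃ J : ℕ, ∀ j, J ≤ j → ∀ r c : ι,
      ‖(L ^ j.factorial * L ^ j.factorial - L ^ j.factorial) r c‖ ≤ (p : ℝ) ^ (-(i : ℤ)) := by
  have : NeZero (p ^ i) := ⟨pow_ne_zero _ (Fact.out : p.Prime).ne_zero⟩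
  let f : Matrix ι ι ℤ_[p] →+* Matrix ι ι (ZMod (p ^ i)) := (PadicInt.toZModPow i).mapMatrix
  obtain ⟨J, hJ⟩ := loc_exists_idem_pow (f L)
  refine ⟨J, fun j hj r c => ?_⟩
  have h1 : f (L ^ j.factorial * L ^ j.factorial - L ^ j.factorial) = 0 := by
    rw [map_sub, map_mul, map_pow, hJ j hj, sub_self]
  have h2 : (PadicInt.toZModPow i)
      ((L ^ j.factorial * L ^ j.factorial - L ^ j.factorial) r c) = 0 := by
    have := congrFun (congrFun h1 r) c
    simpa [f, RingHom.mapMatrix_apply, Matrix.map_apply] using this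
  have h3 : (L ^ j.factorial * L ^ j.factorial - L ^ j.factorial) r c ∈
      Ideal.span {(p : ℤ_[p]) ^ i} := by
    rw [← PadicInt.ker_toZModPow]
    exact (RingHom.mem_ker).mpr h2
  exact (PadicInt.norm_le_pow_iff_mem_span_pow _ i).mpr h3

/-- matrix form of `unit_or_nilp`. -/
theorem loc_matrix (C : Set (Matrix ι ι ℤ_[p]))
    (hirr : ∀ ε : Matrix ι ι ℤ_[p], (∀ c ∈ C, Commute ε c) → ε * ε = ε → ε = 0 ∨ ε = 1)
    (L : Matrix ι ι ℤ_[p]) (hL : ∀ c ∈ C, Commute L c) :
    (∃ mu : Matrix ι ι ℤ_[p], (∀ c ∈ C, Commute mu c) ∧ L * mu = 1 ∧ mu * L = 1) ∨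
    (∃ (k : ℕ) (nu : Matrix ι ι ℤ_[p]), L ^ k = (p : ℤ_[p]) • nu) := by
  classical
  have : CompactSpace (Matrix ι ι ℤ_[p]) :=
    inferInstanceAs (CompactSpace (ι → ι → ℤ_[p]))
  have : FirstCountableTopology (Matrix ι ι ℤ_[p]) :=
    inferInstanceAs (FirstCountableTopology (ι → ι → ℤ_[p]))
  set a : ℕ → Matrix ι ι ℤ_[p] := fun j => L ^ j.factorial with ha
  obtain ⟨e, φ, hφ, hlim⟩ := CompactSpace.tendsto_subseq a
  -- entries are continuous
  have hentry : ∀ r c : ι, Continuous (fun m : Matrix ι ι ℤ_[p] => m r c) := fun r c =>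
    (continuous_apply c).comp (continuous_apply r)
  -- e is idempotent
  have hidem : e * e = e := by
    have h0 : e * e - e = 0 := by
      ext r c
      apply loc_eq_zero_of_norm_le p
      intro i
      obtain ⟨J, hJ⟩ := loc_idem_estimate p L i
      have hcont : Continuous (fun m : Matrix ι ι ℤ_[p] => (m * m - m) r c) :=
        (hentry r c).comp ((continuous_id.mul continuous_id).sub continuous_id)
      have ht : Tendsto (fun j => ‖((a ∘ φ) j * (a ∘ φ) j - (a ∘ φ) j) r c‖) atTop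
          (𝓝 ‖(e * e - e) r c‖) :=
        (continuous_norm.tendsto _).comp ((hcont.tendsto e).comp hlim)
      refine le_of_tendsto ht ?_
      filter_upwards [eventually_ge_atTop J] with j hj
      exact hJ (φ j) (le_trans hj (hφ.id_le j)) r c
    exact sub_eq_zero.mp h0
  -- e commutes with C
  have hcomm : ∀ c ∈ C, Commute e c := by
    intro c hc
    have hclosed : IsClosed {m : Matrix ι ι ℤ_[p] | m * c = c * m} :=
      isClosed_eq (continuous_id.mul continuous_const) (continuous_const.mul continuous_id)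
    have : e ∈ {m : Matrix ι ι ℤ_[p] | m * c = c * m} := by
      refine hclosed.mem_of_tendsto hlim (Filter.Eventually.of_forall fun j => ?_)
      exact ((hL c hc).pow_left _).eq
    exact this
  -- the open set of matrices with all entries of norm < 1
  have hUopen : IsOpen {m : Matrix ι ι ℤ_[p] | ∀ r c : ι, ‖m r c‖ < 1} := by
    have : {m : Matrix ι ι ℤ_[p] | ∀ r c : ι, ‖m r c‖ < 1} =
        ⋂ r : ι, ⋂ c : ι, {m : Matrix ι ι ℤ_[p] | ‖m r c‖ < 1} := by
      ext m; simp
    rw [this]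
    refine isOpen_iInter_of_finite fun r => isOpen_iInter_of_finite fun c => ?_
    exact isOpen_lt (continuous_norm.comp (hentry r c)) continuous_const
  have hdiv : ∀ m : Matrix ι ι ℤ_[p], (∀ r c : ι, ‖m r c‖ < 1) →
      ∃ nu : Matrix ι ι ℤ_[p], m = (p : ℤ_[p]) • nu := by
    intro m hm
    have h1 : ∀ r c : ι, ∃ y : ℤ_[p], m r c = (p : ℤ_[p]) * y := fun r c =>
      (PadicInt.norm_lt_one_iff_dvd _).mp (hm r c)
    choose ν hν using h1
    refine ⟨Matrix.of ν, ?_⟩
    ext r c
    simp [hν r c]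
  rcases hirr e hcomm hidem with he | he
  · -- nilpotent case
    right
    have h0 : (0 : Matrix ι ι ℤ_[p]) ∈ {m : Matrix ι ι ℤ_[p] | ∀ r c : ι, ‖m r c‖ < 1} := by
      intro r c; simp
    rw [he] at hlim
    obtain ⟨j, hj⟩ := (hlim.eventually (hUopen.mem_nhds h0)).exists
    obtain ⟨nu, hnu⟩ := hdiv _ hj
    exact ⟨(φ j).factorial, nu, hnu⟩
  · -- unit case
    left
    rw [he] at hlim
    have hlim' : Tendsto (fun j => (a ∘ φ) j - 1) atTop (𝓝 (0 : Matrix ι ι ℤ_[p])) := by
      have := hlim.sub_const 1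
      simpa using this
    have h0 : (0 : Matrix ι ι ℤ_[p]) ∈ {m : Matrix ι ι ℤ_[p] | ∀ r c : ι, ‖m r c‖ < 1} := by
      intro r c; simp
    obtain ⟨j, hj⟩ := (hlim'.eventually (hUopen.mem_nhds h0)).exists
    obtain ⟨nu, hnu⟩ := hdiv _ hj
    have hk : L ^ (φ j).factorial = 1 + (p : ℤ_[p]) • nu := by
      have : (a ∘ φ) j - 1 = (p : ℤ_[p]) • nu := hnu
      have h2 : (a ∘ φ) j = 1 + (p : ℤ_[p]) • nu := by rw [← this]; abel
      exact h2
    -- determinant is a unit
    have hdet : IsUnit (L ^ (φ j).factorial).det := by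
      rw [hk]
      have h1 : (PadicInt.toZMod (p := p)) ((1 + (p : ℤ_[p]) • nu).det) = 1 := by
        rw [RingHom.map_det]
        have h2 : (PadicInt.toZMod (p := p)).mapMatrix (1 + (p : ℤ_[p]) • nu) = 1 := by
          ext r c
          simp [RingHom.mapMatrix_apply, Matrix.map_apply, Matrix.add_apply, Matrix.one_apply]
        rw [h2, Matrix.det_one]
      by_contra hnu'
      have h3 : (1 + (p : ℤ_[p]) • nu).det ∈ IsLocalRing.maximalIdeal ℤ_[p] :=
        (IsLocalRing.mem_maximalIdeal _).mpr hnu'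
      rw [← PadicInt.ker_toZMod, RingHom.mem_ker, h1] at h3
      exact one_ne_zero h3
    have hunitk : IsUnit (L ^ (φ j).factorial) := (Matrix.isUnit_iff_isUnit_det _).mpr hdet
    have hunit : IsUnit L := (isUnit_pow_iff (Nat.factorial_ne_zero _)).mp hunitk
    obtain ⟨u, hu⟩ := hunit
    refine ⟨↑u⁻¹, fun c hc => ?_, ?_, ?_⟩
    · have : Commute (↑u : Matrix ι ι ℤ_[p]) c := by rw [hu]; exact hL c hc
      exact this.units_inv_left
    · rw [← hu]; exact u.mul_inv
    · rw [← hu]; exact u.inv_mul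

end Mat

variable {G : Type*} [Group G] [Finite G]
variable {M : Type*} [AddCommGroup M] [Module ℤ_[p] M] [Module.Free ℤ_[p] M] [Module.Finite ℤ_[p] M]

/-- PIECE LOC: in the commutant of an "irreducible" lattice every element is a unit or nilpotent mod p. -/
theorem unit_or_nilp (ρ : Representation ℤ_[p] G M)
    (hirr : ∀ ε : Module.End ℤ_[p] M, (∀ g, Commute ε (ρ g)) → ε * ε = ε → ε = 0 ∨ ε = 1)
    (lam : Module.End ℤ_[p] M) (hlam : ∀ g, Commute lam (ρ g)) :
    (∃ mu : Module.End ℤ_[p] M, (∀ g, Commute mu (ρ g)) ∧ lam * mu = 1 ∧ mu * lam = 1) ∨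
    (∃ (k : ℕ) (nu : Module.End ℤ_[p] M), lam ^ k = (p : ℤ_[p]) • nu) := by
  classical
  let b := Module.Free.chooseBasis ℤ_[p] M
  let Φ : Module.End ℤ_[p] M ≃ₐ[ℤ_[p]] Matrix _ _ ℤ_[p] := LinearMap.toMatrixAlgEquiv b
  have key := loc_matrix p (Set.range fun g => Φ (ρ g))
    (by
      intro ε hε hidem
      have h1 : ∀ g, Commute (Φ.symm ε) (ρ g) := by
        intro g
        have := hε (Φ (ρ g)) ⟨g, rfl⟩
        have h2 : Commute (Φ.symm ε) (Φ.symm (Φ (ρ g))) := by
          show Φ.symm ε * Φ.symm (Φ (ρ g)) = Φ.symm (Φ (ρ g)) * Φ.symm ε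
          rw [← map_mul, ← map_mul, this.eq]
        simpa using h2
      have h2 : Φ.symm ε * Φ.symm ε = Φ.symm ε := by rw [← map_mul, hidem]
      rcases hirr _ h1 h2 with h | h
      · left
        have := congrArg Φ h
        simpa using this
      · right
        have := congrArg Φ h
        simpa using this)
    (Φ lam)
    (by
      rintro c ⟨g, rfl⟩
      show Φ lam * Φ (ρ g) = Φ (ρ g) * Φ lam
      rw [← map_mul, ← map_mul, (hlam g).eq])
  rcases key with ⟨mu, hmu, h1, h2⟩ | ⟨k, nu, hk⟩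
  · left
    refine ⟨Φ.symm mu, fun g => ?_, ?_, ?_⟩
    · have := hmu (Φ (ρ g)) ⟨g, rfl⟩
      have h3 : Φ.symm mu * Φ.symm (Φ (ρ g)) = Φ.symm (Φ (ρ g)) * Φ.symm mu := by
        rw [← map_mul, ← map_mul, this.eq]
      have h4 : Φ.symm mu * ρ g = ρ g * Φ.symm mu := by simpa using h3
      exact h4
    · have := congrArg Φ.symm h1
      simpa using this
    · have := congrArg Φ.symm h2
      simpa using this
  · right
    refine ⟨k, Φ.symm nu, ?_⟩
    have := congrArg Φ.symm hk
    simpa using this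

end Cfsg.Agent.Helper5.TL
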