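import Mathlib
import Cfsg.Prelude.Def_Blocks
import Cfsg.Agent.Lib.Helper5.TLDDefs
import Cfsg.Agent.S0919
import Cfsg.Agent.S0958
import Cfsg.Agent.S0973
import Cfsg.Agent.S0954
import Cfsg.Agent.Lib.Helper15.TLGT
import Cfsg.Agent.Lib.Helper23.BlockInducedDefect
import Cfsg.Agent.Lib.Helper23.BlockDefectGroup2
import Cfsg.Agent.Lib.Helper24.CharHom

/-!
# S4442, piece DDICH (part A): block-theoretic lemmas for `C = C_G(P)`, `|P| = p`

* `ddich_isDefectGroup`: if a block of `C_G(P)` induces `B` then `P` is a defect group of `B`.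
* `ddich_conj_blocks`: two blocks of `C_G(P)` inducing `B` are `N_G(P)`-conjugate (S0973 transported
  from `P ⊔ C_G(P)` to `C_G(P)`).
* `ddich_eq_of_sameBlock`: two irreducible characters of `C_G(P)` in the same block, both with `P`
  in their kernel and with irreducible restrictions to `K`, are equal.
-/

set_option autoImplicit false
set_option linter.unusedSectionVars false
set_option linter.unusedVariables false
set_option linter.style.haveILetI false

namespace Cfsg.Agent.Helper5.TLD

open scoped ComplexConjugate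
open Cfsg

section A

variable (p : ℕ) [Fact p.Prime] {G : Type*} [Group G] [Finite G]

/-- if a block of `C_G(P)` induces `B`, `P` Sylow of order `p`, then `P` is a defect group of `B`. -/
theorem ddich_isDefectGroup (M : Ideal AlgInt) (hM : IsPModular p M) (P : Sylow p G)
    (hP : Nat.card P = p) (B : Set (IrrCharacter G)) (hB : IsPBlock M B)
    (b : Set (IrrCharacter (Subgroup.centralizer ((P : Subgroup G) : Set G))))
    (hind : IsInducedBlock M (Subgroup.centralizer ((P : Subgroup G) : Set G)) b B) :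
    IsDefectGroup p M B (P : Subgroup G) := by
  have hPC := Cfsg.Agent.Helper5.TL.gt_le_centralizer p P hP
  have h958 := (Cfsg.Agent.S0958.result p M hM (P : Subgroup G)
    (Subgroup.centralizer ((P : Subgroup G) : Set G)) P.2 (sup_le hPC le_rfl)
    (Subgroup.centralizer_le_normalizer _) B hB).1 ⟨b, hind⟩
  obtain ⟨D, hD, x, hx⟩ := h958
  have hDp : IsPGroup p D := Cfsg.Agent.Helper23.Blk.isPGroup_of_isDefectGroup hM hD
  have hcoe : ((x • P : Sylow p G) : Subgroup G) = (P : Subgroup G).map (MulAut.conj x).toMonoidHom := by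
    rw [Sylow.coe_subgroup_smul, Subgroup.pointwise_smul_def]
    rfl
  have hDeq : D = (P : Subgroup G).map (MulAut.conj x).toMonoidHom := by
    rw [← hcoe]
    exact (x • P).is_maximal' hDp (by rw [hcoe]; exact hx)
  have h2 := Cfsg.Agent.Helper23.Blk.isDefectGroup_conj hM hB hD x⁻¹
  have h3 : D.map (MulAut.conj x⁻¹).toMonoidHom = (P : Subgroup G) := by
    rw [hDeq, Subgroup.map_map]
    have : (MulAut.conj x⁻¹).toMonoidHom.comp (MulAut.conj x).toMonoidHom = MonoidHom.id G := by
      ext g
      simp [MulAut.conj_apply, mul_assoc]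
    rw [this, Subgroup.map_id]
  rwa [h3] at h2

/-- S0973 (ii) for a subgroup equal to `P ⊔ C_G(P)`. -/
theorem ddich_conj_blocks_aux (M : Ideal AlgInt) (hM : IsPModular p M)
    (B : Set (IrrCharacter G)) (hB : IsPBlock M B) (P : Subgroup G)
    (hBP : IsDefectGroup p M B P) (L : Subgroup G)
    (hL : L = P ⊔ Subgroup.centralizer (P : Set G))
    (b b' : Set (IrrCharacter L)) (h1 : IsInducedBlock M L b B) (h2 : IsInducedBlock M L b' B) :
    ∃ n ∈ Subgroup.normalizer (P : Set G), ∀ θ ∈ b, ∃ θ' ∈ b', ∀ x : L,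
      ∀ hx : n * (x : G) * n⁻¹ ∈ L, (θ' : L → ℂ) x = (θ : L → ℂ) ⟨n * (x : G) * n⁻¹, hx⟩ := by
  subst hL
  exact (Cfsg.Agent.S0973.result p M hM B hB P hBP).2 b b' h1 h2

end A

end Cfsg.Agent.Helper5.TLD
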