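import Mathlib
import Cfsg.Prelude.Def_Blocks
import Cfsg.Agent.Lib.Helper5.TLDDefs
import Cfsg.Agent.S0954
import Cfsg.Agent.Lib.Helper15.TLGT
import Cfsg.Agent.Lib.Helper24.CharHom

/-!
# S4442, piece DDICH (part B)

`ddich_eq_of_sameBlock`: two irreducible characters of `C_G(P)` (`|P| = p`, `P` Sylow) in the same
block, both with `P` in their kernel, are equal (given that such characters restrict irreducibly to
the subgroup `K` of `p`-regular elements, which is piece RES).
-/

set_option autoImplicit false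
set_option linter.unusedSectionVars false
set_option linter.unusedVariables false
set_option linter.style.haveILetI false

namespace Cfsg.Agent.Helper5.TLD

open scoped ComplexConjugate
open Cfsg Cfsg.Agent.Helper24

section B

variable (p : ℕ) [Fact p.Prime] {G : Type*} [Group G] [Finite G]

theorem ddich_eq_of_sameBlock (M : Ideal AlgInt) (hM : IsPModular p M) (P : Sylow p G)
    (hP : Nat.card P = p)
    (hRES : ∀ (K : Subgroup G)
      (hK1 : ∀ y : G, y ∈ K ↔
        (y ∈ Subgroup.centralizer ((P : Subgroup G) : Set G) ∧ ¬ p ∣ orderOf y))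
      (θ : IrrCharacter (Subgroup.centralizer ((P : Subgroup G) : Set G)))
      (hθP : ∀ x : Subgroup.centralizer ((P : Subgroup G) : Set G), (x : G) ∈ (P : Subgroup G) →
        (θ : Subgroup.centralizer ((P : Subgroup G) : Set G) → ℂ) x =
          (θ : Subgroup.centralizer ((P : Subgroup G) : Set G) → ℂ) 1),
      ∃ ϑ : IrrCharacter K, ∀ k : K, (ϑ : K → ℂ) k =
        (θ : Subgroup.centralizer ((P : Subgroup G) : Set G) → ℂ) ⟨(k : G), ((hK1 k).1 k.2).1⟩)
    (θ φ : IrrCharacter (Subgroup.centralizer ((P : Subgroup G) : Set G)))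
    (hθP : ∀ x : Subgroup.centralizer ((P : Subgroup G) : Set G), (x : G) ∈ (P : Subgroup G) →
      (θ : Subgroup.centralizer ((P : Subgroup G) : Set G) → ℂ) x =
        (θ : Subgroup.centralizer ((P : Subgroup G) : Set G) → ℂ) 1)
    (hφP : ∀ x : Subgroup.centralizer ((P : Subgroup G) : Set G), (x : G) ∈ (P : Subgroup G) →
      (φ : Subgroup.centralizer ((P : Subgroup G) : Set G) → ℂ) x =
        (φ : Subgroup.centralizer ((P : Subgroup G) : Set G) → ℂ) 1)
    (hsame : SameBlock M (θ : Subgroup.centralizer ((P : Subgroup G) : Set G) → ℂ)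
      (φ : Subgroup.centralizer ((P : Subgroup G) : Set G) → ℂ)) :
    ∀ c : Subgroup.centralizer ((P : Subgroup G) : Set G),
      (θ : Subgroup.centralizer ((P : Subgroup G) : Set G) → ℂ) c =
        (φ : Subgroup.centralizer ((P : Subgroup G) : Set G) → ℂ) c := by
  classical
  obtain ⟨K, n₀, hK1, hKp, hK3, hK4, -, -⟩ := Cfsg.Agent.Helper5.TL.exists_pcore p P hP
  have hPC := Cfsg.Agent.Helper5.TL.gt_le_centralizer p P hP
  have hKC : K ≤ Subgroup.centralizer ((P : Subgroup G) : Set G) := fun y hy => ((hK1 y).1 hy).1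
  have hCN : Subgroup.centralizer ((P : Subgroup G) : Set G) ≤
      Subgroup.normalizer ((P : Subgroup G) : Set G) := Subgroup.centralizer_le_normalizer _
  haveI hnorm : (K.subgroupOf (Subgroup.centralizer ((P : Subgroup G) : Set G))).Normal := by
    constructor
    intro k hk c
    rw [Subgroup.mem_subgroupOf] at hk ⊢
    have := hK3 (c : G) (hCN c.2) (k : G) hk
    simpa using this
  haveI : Fintype (Subgroup.centralizer ((P : Subgroup G) : Set G)) := Fintype.ofFinite _
  haveI : Fintype (K.subgroupOf (Subgroup.centralizer ((P : Subgroup G) : Set G))) :=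
    Fintype.ofFinite _
  have hN : ¬ p ∣ Nat.card (K.subgroupOf (Subgroup.centralizer ((P : Subgroup G) : Set G))) := by
    rw [Nat.card_congr (Subgroup.subgroupOfEquivOfLe hKC).toEquiv]
    exact hKp
  -- decomposition of elements of `C`
  have hdec : ∀ c : Subgroup.centralizer ((P : Subgroup G) : Set G),
      ∃ u k : Subgroup.centralizer ((P : Subgroup G) : Set G), (u : G) ∈ (P : Subgroup G) ∧
        (k : G) ∈ K ∧ c = k * u ∧ Commute u k := by
    intro c
    obtain ⟨u, k, hu, hk, hc⟩ := hK4 (c : G)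
      (fun u hu => ((Subgroup.mem_centralizer_iff.1 c.2 u hu)).symm)
    have hcomm : u * k = k * u := Subgroup.mem_centralizer_iff.1 (hKC hk) u hu
    refine ⟨⟨u, hPC hu⟩, ⟨k, hKC hk⟩, hu, hk, ?_, ?_⟩
    · apply Subtype.ext
      simp only [Subgroup.coe_mul]
      rw [hc, hcomm]
    · apply Subtype.ext
      simp only [Subgroup.coe_mul]
      exact hcomm
  have hpowP : ∀ u : G, u ∈ (P : Subgroup G) → u ^ p = 1 := by
    intro u hu
    have h1 : (⟨u, hu⟩ : (P : Subgroup G)) ^ Nat.card (P : Subgroup G) = 1 := pow_card_eq_one'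
    have h2 := congrArg Subtype.val h1
    rw [hP] at h2
    simpa using h2
  have hidx : ∃ k : ℕ,
      (K.subgroupOf (Subgroup.centralizer ((P : Subgroup G) : Set G))).index = p ^ k := by
    have hpg : IsPGroup p (Subgroup.centralizer ((P : Subgroup G) : Set G) ⧸
        K.subgroupOf (Subgroup.centralizer ((P : Subgroup G) : Set G))) := by
      intro g
      obtain ⟨c, rfl⟩ := QuotientGroup.mk_surjective g
      refine ⟨1, ?_⟩
      rw [pow_one, ← QuotientGroup.mk_pow, QuotientGroup.eq_one_iff, Subgroup.mem_subgroupOf]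
      obtain ⟨u, k, hu, hk, hc, hcomm⟩ := hdec c
      rw [hc, hcomm.symm.mul_pow]
      simp only [Subgroup.coe_mul, Subgroup.coe_pow]
      rw [hpowP u hu, mul_one]
      exact K.pow_mem hk p
    obtain ⟨n, hn⟩ := IsPGroup.iff_card.1 hpg
    exact ⟨n, by rw [Subgroup.index_eq_card]; exact hn⟩
  obtain ⟨ϑ, h1, h2⟩ := (Cfsg.Agent.S0954.result p M hM
    (K.subgroupOf (Subgroup.centralizer ((P : Subgroup G) : Set G))) hN hidx θ φ).1 hsame
  obtain ⟨ϑ1, hϑ1⟩ := hRES K hK1 θ hθP
  obtain ⟨ϑ2, hϑ2⟩ := hRES K hK1 φ hφP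
  have hirr : ∀ (ψ : Subgroup.centralizer ((P : Subgroup G) : Set G) → ℂ) (ϑ' : IrrCharacter K),
      (∀ k : K, (ϑ' : K → ℂ) k = ψ ⟨(k : G), ((hK1 k).1 k.2).1⟩) →
      IsIrrCharacter (K.subgroupOf (Subgroup.centralizer ((P : Subgroup G) : Set G)))
        (fun n : K.subgroupOf (Subgroup.centralizer ((P : Subgroup G) : Set G)) => ψ n) := by
    intro ψ ϑ' h
    have := isIrrCharacter_comp_of_surjective (Subgroup.subgroupOfEquivOfLe hKC).toMonoidHom
      (Subgroup.subgroupOfEquivOfLe hKC).surjective ϑ'.2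
    convert this using 1
    ext n
    simp only [Function.comp_apply, MulEquiv.coe_toMonoidHom]
    rw [h]
    rfl
  have hirr1 := hirr _ ϑ1 hϑ1
  have hirr2 := hirr _ ϑ2 hϑ2
  have e1 : (fun n : K.subgroupOf (Subgroup.centralizer ((P : Subgroup G) : Set G)) =>
      (θ : Subgroup.centralizer ((P : Subgroup G) : Set G) → ℂ) n) = (ϑ : _ → ℂ) := by
    have := irr_orthogonality hirr1 ϑ.2
    by_contra hne
    rw [if_neg hne] at this
    exact h1 this
  have e2 : (fun n : K.subgroupOf (Subgroup.centralizer ((P : Subgroup G) : Set G)) =>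
      (φ : Subgroup.centralizer ((P : Subgroup G) : Set G) → ℂ) n) = (ϑ : _ → ℂ) := by
    have := irr_orthogonality hirr2 ϑ.2
    by_contra hne
    rw [if_neg hne] at this
    exact h2 this
  have hKeq : ∀ k : Subgroup.centralizer ((P : Subgroup G) : Set G), (k : G) ∈ K →
      (θ : Subgroup.centralizer ((P : Subgroup G) : Set G) → ℂ) k =
        (φ : Subgroup.centralizer ((P : Subgroup G) : Set G) → ℂ) k := by
    intro k hk
    exact congrFun (e1.trans e2.symm) ⟨k, Subgroup.mem_subgroupOf.2 hk⟩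
  intro c
  obtain ⟨u, k, hu, hk, hc, hcomm⟩ := hdec c
  have hθc := isCharacter_of_isIrrCharacter θ.2
  have hφc := isCharacter_of_isIrrCharacter φ.2
  have hu1 : u ∈ charKer hθc := (mem_charKer hθc u).2 (hθP u hu)
  have hu2 : u ∈ charKer hφc := (mem_charKer hφc u).2 (hφP u hu)
  rw [hc, char_mul_of_mem_charKer hθc hu1, char_mul_of_mem_charKer hφc hu2]
  exact hKeq k hk

end B

end Cfsg.Agent.Helper5.TLD
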