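import Mathlib
import Cfsg.Prelude.Def_Blocks
import Cfsg.Agent.Lib.Helper5.TLDDefs
import Cfsg.Agent.Lib.Helper20.TLDDDICHA
import Cfsg.Agent.Lib.Helper20.TLDDDICHB

/-!
# S4442, piece DDICH (part C): `FP_dichotomy` with the pieces RES and DSM as hypotheses
-/

set_option autoImplicit false
set_option linter.unusedSectionVars false
set_option linter.unusedVariables false
set_option linter.style.haveILetI false

namespace Cfsg.Agent.Helper5.TLD

open scoped ComplexConjugate
open Cfsg Cfsg.Agent.Helper24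

section C

variable (p : ℕ) [Fact p.Prime] {G : Type*} [Group G] [Finite G]

theorem FP_dichotomy_of (M : Ideal AlgInt) (hM : IsPModular p M) (P : Sylow p G)
    (hP : Nat.card P = p)
    (hRES : ∀ (K : Subgroup G)
      (hK1 : ∀ y : G, y ∈ K ↔
        (y ∈ Subgroup.centralizer ((P : Subgroup G) : Set G) ∧ ¬ p ∣ orderOf y))
      (θ : IrrCharacter (Subgroup.centralizer ((P : Subgroup G) : Set G)))
      (hθP : ∀ x : Subgroup.centralizer ((P : Subgroup G) : Set G), (x : G) ∈ (P : Subgroup G) →
        (θ : Subgroup.centralizer ((P : Subgroup G) : Set G) → ℂ) x =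
          (θ : Subgroup.centralizer ((P : Subgroup G) : Set G) → ℂ) 1),
      ∃ ϑ : IrrCharacter K, ∀ k : K, (ϑ : K → ℂ) k =
        (θ : Subgroup.centralizer ((P : Subgroup G) : Set G) → ℂ) ⟨(k : G), ((hK1 k).1 k.2).1⟩)
    (B : Set (IrrCharacter G)) (hB : IsPBlock M B)
    (b : Set (IrrCharacter (Subgroup.centralizer ((P : Subgroup G) : Set G))))
    (hind : IsInducedBlock M (Subgroup.centralizer ((P : Subgroup G) : Set G)) b B)
    (θ : IrrCharacter (Subgroup.centralizer ((P : Subgroup G) : Set G))) (hθ : θ ∈ b)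
    (hθP : ∀ x : Subgroup.centralizer ((P : Subgroup G) : Set G), (x : G) ∈ (P : Subgroup G) →
      (θ : Subgroup.centralizer ((P : Subgroup G) : Set G) → ℂ) x =
        (θ : Subgroup.centralizer ((P : Subgroup G) : Set G) → ℂ) 1)
    (χ : IrrCharacter G) (hχ : χ ∈ B)
    (hDSM : ∀ (φ : IrrCharacter (Subgroup.centralizer ((P : Subgroup G) : Set G)))
      (hφP : ∀ x : Subgroup.centralizer ((P : Subgroup G) : Set G), (x : G) ∈ (P : Subgroup G) →
        (φ : Subgroup.centralizer ((P : Subgroup G) : Set G) → ℂ) x =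
          (φ : Subgroup.centralizer ((P : Subgroup G) : Set G) → ℂ) 1)
      (hnot : ¬ IsInducedBlock M (Subgroup.centralizer ((P : Subgroup G) : Set G))
        (blockOf M (φ : Subgroup.centralizer ((P : Subgroup G) : Set G) → ℂ)) B)
      (a : G) (ha : a ∈ (P : Subgroup G)) (ha1 : a ≠ 1),
      FP p P (φ : Subgroup.centralizer ((P : Subgroup G) : Set G) → ℂ) (χ : G → ℂ) a = 0)
    (φ : IrrCharacter (Subgroup.centralizer ((P : Subgroup G) : Set G)))
    (hφP : ∀ x : Subgroup.centralizer ((P : Subgroup G) : Set G), (x : G) ∈ (P : Subgroup G) →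
      (φ : Subgroup.centralizer ((P : Subgroup G) : Set G) → ℂ) x =
        (φ : Subgroup.centralizer ((P : Subgroup G) : Set G) → ℂ) 1) :
    (∃ n ∈ Subgroup.normalizer ((P : Subgroup G) : Set G),
      ∀ c c' : Subgroup.centralizer ((P : Subgroup G) : Set G), (c' : G) = n * c * n⁻¹ →
        (φ : Subgroup.centralizer ((P : Subgroup G) : Set G) → ℂ) c =
          (θ : Subgroup.centralizer ((P : Subgroup G) : Set G) → ℂ) c') ∨
    (∀ a : G, a ∈ (P : Subgroup G) → a ≠ 1 →
      FP p P (φ : Subgroup.centralizer ((P : Subgroup G) : Set G) → ℂ) (χ : G → ℂ) a = 0) := by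
  classical
  have hPC := Cfsg.Agent.Helper5.TL.gt_le_centralizer p P hP
  by_cases hcase : IsInducedBlock M (Subgroup.centralizer ((P : Subgroup G) : Set G))
      (blockOf M (φ : Subgroup.centralizer ((P : Subgroup G) : Set G) → ℂ)) B
  · left
    have hBP := ddich_isDefectGroup p M hM P hP B hB b hind
    obtain ⟨n, hn, h⟩ := ddich_conj_blocks_aux p M hM B hB (P : Subgroup G) hBP
      (Subgroup.centralizer ((P : Subgroup G) : Set G)) (sup_eq_right.2 hPC).symm b
      (blockOf M (φ : Subgroup.centralizer ((P : Subgroup G) : Set G) → ℂ)) hind hcase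
    obtain ⟨θ', hθ'mem, hθ'⟩ := h θ hθ
    have hnP : ∀ x : G, x ∈ (P : Subgroup G) → n * x * n⁻¹ ∈ (P : Subgroup G) := by
      intro x hx
      exact (Subgroup.mem_normalizer_iff.1 hn x).1 hx
    have hθ'P : ∀ x : Subgroup.centralizer ((P : Subgroup G) : Set G),
        (x : G) ∈ (P : Subgroup G) →
        (θ' : Subgroup.centralizer ((P : Subgroup G) : Set G) → ℂ) x =
          (θ' : Subgroup.centralizer ((P : Subgroup G) : Set G) → ℂ) 1 := by
      intro x hx
      have hx1 : n * (x : G) * n⁻¹ ∈ Subgroup.centralizer ((P : Subgroup G) : Set G) :=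
        hPC (hnP _ hx)
      have h11 : n * ((1 : Subgroup.centralizer ((P : Subgroup G) : Set G)) : G) * n⁻¹ ∈
          Subgroup.centralizer ((P : Subgroup G) : Set G) := by simp
      rw [hθ' x hx1, hθ' 1 h11]
      have := hθP ⟨n * (x : G) * n⁻¹, hx1⟩ (hnP _ hx)
      rw [this]
      have h1eq : (⟨n * ((1 : Subgroup.centralizer ((P : Subgroup G) : Set G)) : G) * n⁻¹, h11⟩ :
          Subgroup.centralizer ((P : Subgroup G) : Set G)) = 1 := by
        apply Subtype.ext
        simp
      rw [h1eq]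
    have heq := ddich_eq_of_sameBlock p M hM P hP hRES φ θ' hφP hθ'P hθ'mem
    refine ⟨n, hn, ?_⟩
    intro c c' hcc'
    have hc1 : n * (c : G) * n⁻¹ ∈ Subgroup.centralizer ((P : Subgroup G) : Set G) := by
      rw [← hcc']
      exact c'.2
    rw [heq c, hθ' c hc1]
    have hceq : (⟨n * (c : G) * n⁻¹, hc1⟩ : Subgroup.centralizer ((P : Subgroup G) : Set G)) = c' :=
      Subtype.ext hcc'.symm
    rw [hceq]
  · right
    exact hDSM φ hφP hcase

end C

end Cfsg.Agent.Helper5.TLD
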