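import Mathlib
import Cfsg.Prelude.Def_Blocks
import Cfsg.Agent.Lib.Helper5.TLDDefs
import Cfsg.Agent.Lib.Helper20.TLDDDICHC
import Cfsg.Agent.Lib.Helper1.TLDRES
import Cfsg.Agent.Lib.Helper12.TLDDSM

/-!
# S4442, piece DDICH: `FP_dichotomy` (exact skeleton signature)
-/

set_option autoImplicit false
set_option linter.unusedSectionVars false
set_option linter.unusedVariables false

namespace Cfsg.Agent.Helper5.TLD

open scoped ComplexConjugate
open Cfsg

section LayerD

variable (p : ℕ) [Fact p.Prime] {G : Type*} [Group G] [Finite G]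

/-- PIECE DDICH: for `χ ∈ B = b^G`, `θ ∈ b` and any `φ ∈ Irr(C)` with `P` in its kernel, either `φ` is
an `N`-conjugate of `θ` or the `φ`-part of `χ` vanishes on `P^#`. -/
theorem FP_dichotomy (M : Ideal AlgInt) (hM : IsPModular p M) (P : Sylow p G)
    (hP : Nat.card P = p) (B : Set (IrrCharacter G)) (hB : IsPBlock M B)
    (b : Set (IrrCharacter (Subgroup.centralizer ((P : Subgroup G) : Set G))))
    (hind : IsInducedBlock M (Subgroup.centralizer ((P : Subgroup G) : Set G)) b B)
    (θ : IrrCharacter (Subgroup.centralizer ((P : Subgroup G) : Set G))) (hθ : θ ∈ b)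
    (hθP : ∀ x : Subgroup.centralizer ((P : Subgroup G) : Set G), (x : G) ∈ (P : Subgroup G) →
      (θ : Subgroup.centralizer ((P : Subgroup G) : Set G) → ℂ) x =
        (θ : Subgroup.centralizer ((P : Subgroup G) : Set G) → ℂ) 1)
    (χ : IrrCharacter G) (hχ : χ ∈ B)
    (φ : IrrCharacter (Subgroup.centralizer ((P : Subgroup G) : Set G)))
    (hφP : ∀ x : Subgroup.centralizer ((P : Subgroup G) : Set G), (x : G) ∈ (P : Subgroup G) →
      (φ : Subgroup.centralizer ((P : Subgroup G) : Set G) → ℂ) x =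
        (φ : Subgroup.centralizer ((P : Subgroup G) : Set G) → ℂ) 1) :
    (∃ n ∈ Subgroup.normalizer ((P : Subgroup G) : Set G),
      ∀ c c' : Subgroup.centralizer ((P : Subgroup G) : Set G), (c' : G) = n * c * n⁻¹ →
        (φ : Subgroup.centralizer ((P : Subgroup G) : Set G) → ℂ) c =
          (θ : Subgroup.centralizer ((P : Subgroup G) : Set G) → ℂ) c') ∨
    (∀ a : G, a ∈ (P : Subgroup G) → a ≠ 1 →
      FP p P (φ : Subgroup.centralizer ((P : Subgroup G) : Set G) → ℂ) (χ : G → ℂ) a = 0) :=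
  FP_dichotomy_of p M hM P hP (fun K hK1 θ hθP => exists_res_irr p P hP K hK1 θ hθP)
    B hB b hind θ hθ hθP χ hχ
    (fun φ hφP hnot a ha ha1 => FP_eq_zero_of_not_induced p M hM P hP B hB χ hχ φ hφP hnot a ha ha1)
    φ hφP

end LayerD

end Cfsg.Agent.Helper5.TLD
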