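import Mathlib

namespace Cfsg.Agent.Helper20.InvCount

variable {G : Type*} [Group G]

theorem inv_eq_self_of_mul_self {t : G} (ht : t * t = 1) : t⁻¹ = t :=
  inv_eq_of_mul_eq_one_left ht

theorem conj_zpow_of_inverts {x t : G} (hinv : t * x * t⁻¹ = x⁻¹) (n : ℤ) :
    t * x ^ n * t⁻¹ = (x ^ n)⁻¹ := by
  rw [← conj_zpow, hinv, inv_zpow]

theorem zpow_mul_of_inverts {x t : G} (hinv : t * x * t⁻¹ = x⁻¹) (n : ℤ) :
    x ^ n * t = t * (x ^ n)⁻¹ := by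
  have h := conj_zpow_of_inverts hinv (-n)
  rw [zpow_neg, inv_inv] at h
  calc x ^ n * t = (t * (x ^ n)⁻¹ * t⁻¹) * t := by rw [h]
    _ = t * (x ^ n)⁻¹ := by group

/-- an element inverting `x` is conjugate to `t` by a power of `x` -/
theorem exists_conj_of_inverts {p : ℕ} (hp : p.Prime) (hp2 : p ≠ 2) {x t : G}
    (hx : orderOf x = p)
    (hC : ∀ g : G, g * x = x * g → g ∈ Subgroup.zpowers x) (ht : t * t = 1)
    (hinv : t * x * t⁻¹ = x⁻¹) {u : G} (hu : u * x * u⁻¹ = x⁻¹) :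
    ∃ c ∈ Subgroup.zpowers x, u = c * t * c⁻¹ := by
  have hti := inv_eq_self_of_mul_self ht
  have h1 : (t⁻¹ * u) * x = x * (t⁻¹ * u) := by
    have e1 : u * x = x⁻¹ * u := by rw [← hu]; group
    have e2 : t⁻¹ * x⁻¹ = x * t⁻¹ := by
      have : x⁻¹ = t * x * t⁻¹ := hinv.symm
      rw [this, hti]
      calc t * (t * x * t) = (t * t) * x * t := by group
        _ = x * t := by rw [ht, one_mul]
    calc t⁻¹ * u * x = t⁻¹ * (u * x) := by group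
      _ = t⁻¹ * x⁻¹ * u := by rw [e1]; group
      _ = x * (t⁻¹ * u) := by rw [e2]; group
  obtain ⟨i, hi⟩ := Subgroup.mem_zpowers_iff.mp (hC _ h1)
  have hu' : u = t * x ^ i := by rw [hi]; group
  obtain ⟨m, hm⟩ := hp.odd_of_ne_two hp2
  have hxp : x ^ (p : ℤ) = 1 := by
    rw [zpow_natCast, ← hx]; exact pow_orderOf_eq_one x
  refine ⟨x ^ (-(i * (m + 1))), Subgroup.zpow_mem_zpowers x _, ?_⟩
  have h3 := zpow_mul_of_inverts hinv (-(i * (m + 1)))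
  rw [h3, hu']
  have : (x ^ (-(i * ((m : ℤ) + 1))))⁻¹ * (x ^ (-(i * ((m : ℤ) + 1))))⁻¹ = x ^ i := by
    rw [← zpow_neg, neg_neg, ← zpow_add]
    have : i * ((m : ℤ) + 1) + i * ((m : ℤ) + 1) = i + (p : ℤ) * i := by
      rw [hm]; push_cast; ring
    rw [this, zpow_add, zpow_mul, hxp, one_zpow, mul_one]
  rw [mul_assoc, this]

variable [Finite G]

theorem isConj_of_isConj_mul {p : ℕ} (hp : p.Prime) (hp2 : p ≠ 2) {x t : G} (hx : orderOf x = p)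
    (hC : ∀ g : G, g * x = x * g → g ∈ Subgroup.zpowers x) (ht : t * t = 1)
    (hinv : t * x * t⁻¹ = x⁻¹) {s y : G} (hs : s * s = 1)
    (h : IsConj (s * (y * s * y⁻¹)) x) : IsConj s t := by
  have hsi := inv_eq_self_of_mul_self hs
  obtain ⟨c, hc⟩ := isConj_iff.mp h
  -- w = s * s', s w s⁻¹ = w⁻¹
  set w := s * (y * s * y⁻¹) with hw
  have hsw : s * w * s⁻¹ = w⁻¹ := by
    rw [hw, hsi]
    have : (s * (y * s * y⁻¹))⁻¹ = y * s * y⁻¹ * s := by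
      rw [mul_inv_rev, hsi]
      congr 1
      rw [mul_inv_rev, mul_inv_rev, inv_inv, hsi, mul_assoc]
    rw [this]
    calc s * (s * (y * s * y⁻¹)) * s = (s * s) * (y * s * y⁻¹) * s := by group
      _ = y * s * y⁻¹ * s := by rw [hs, one_mul]
  have hu : (c * s * c⁻¹) * x * (c * s * c⁻¹)⁻¹ = x⁻¹ := by
    rw [← hc]
    calc c * s * c⁻¹ * (c * w * c⁻¹) * (c * s * c⁻¹)⁻¹ = c * (s * w * s⁻¹) * c⁻¹ := by group
      _ = (c * w * c⁻¹)⁻¹ := by rw [hsw]; group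
  obtain ⟨d, -, hd⟩ := exists_conj_of_inverts hp hp2 hx hC ht hinv hu
  refine isConj_iff.mpr ⟨d⁻¹ * c, ?_⟩
  calc d⁻¹ * c * s * (d⁻¹ * c)⁻¹ = d⁻¹ * (c * s * c⁻¹) * d := by group
    _ = t := by rw [hd]; group


omit [Finite G] in
theorem mem_centralizer_singleton {t c : G} :
    c ∈ Subgroup.centralizer ({t} : Set G) ↔ t * c = c * t := by
  rw [Subgroup.mem_centralizer_iff]
  simp

omit [Finite G] in
/-- a power of `x` commuting with `t` is trivial -/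
theorem eq_one_of_mem_zpowers_of_commute {p : ℕ} (hp : p.Prime) (hp2 : p ≠ 2) {x t : G}
    (hx : orderOf x = p) (hinv : t * x * t⁻¹ = x⁻¹) {e : G} (he : e ∈ Subgroup.zpowers x)
    (hte : t * e = e * t) : e = 1 := by
  obtain ⟨i, rfl⟩ := Subgroup.mem_zpowers_iff.mp he
  have h1 := conj_zpow_of_inverts hinv i
  rw [hte, mul_inv_cancel_right] at h1
  have h2 : x ^ (2 * i) = 1 := by
    rw [two_mul, zpow_add]
    nth_rewrite 1 [h1]
    group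
  have h3 : (orderOf x : ℤ) ∣ 2 * i := orderOf_dvd_iff_zpow_eq_one.mpr h2
  rw [hx] at h3
  have hcop : IsCoprime (p : ℤ) 2 := by
    have : Nat.Coprime p 2 := (Nat.coprime_primes hp Nat.prime_two).mpr hp2
    exact_mod_cast Nat.isCoprime_iff_coprime.mpr this
  have h4 : (p : ℤ) ∣ i := hcop.dvd_of_dvd_mul_left h3
  rw [← hx] at h4
  exact orderOf_dvd_iff_zpow_eq_one.mp h4

theorem card_isConj_mul {p : ℕ} (hp : p.Prime) (hp2 : p ≠ 2) {x t : G} (hx : orderOf x = p)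
    (hC : ∀ g : G, g * x = x * g → g ∈ Subgroup.zpowers x) (ht : t * t = 1)
    (hinv : t * x * t⁻¹ = x⁻¹) :
    Nat.card {y : G // IsConj (t * (y * t * y⁻¹)) x} =
      Nat.card (Subgroup.centralizer ({t} : Set G)) ^ 2 := by
  have hti := inv_eq_self_of_mul_self ht
  obtain ⟨m, hm⟩ := hp.odd_of_ne_two hp2
  have hxp : x ^ (p : ℤ) = 1 := by
    rw [zpow_natCast, ← hx]; exact pow_orderOf_eq_one x
  -- a = x^m conjugates t to t * x
  have ha : x ^ (m : ℤ) * t * (x ^ (m : ℤ))⁻¹ = t * x := by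
    rw [zpow_mul_of_inverts hinv, mul_assoc]
    congr 1
    rw [← zpow_neg, ← zpow_add]
    have : -(m : ℤ) + -(m : ℤ) = 1 + (p : ℤ) * (-1) := by rw [hm]; push_cast; ring
    rw [this, zpow_add, zpow_mul, hxp, one_zpow, mul_one, zpow_one]
  have ha' : (x ^ (m : ℤ))⁻¹ * t * x ^ (m : ℤ) = t * x⁻¹ := by
    have h := zpow_mul_of_inverts hinv (-(m : ℤ))
    rw [zpow_neg, inv_inv] at h
    rw [h, mul_assoc]
    congr 1
    rw [← zpow_add]
    have : (m : ℤ) + (m : ℤ) = -1 + (p : ℤ) * 1 := by rw [hm]; push_cast; ring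
    rw [this, zpow_add, zpow_mul, hxp, one_zpow, mul_one, zpow_neg, zpow_one]
  set a : G := x ^ (m : ℤ) with hadef
  set C := Subgroup.centralizer ({t} : Set G) with hCdef
  have hmem : ∀ c : C × C, IsConj (t * ((c.1 * a * c.2 : G) * t * (c.1 * a * c.2 : G)⁻¹)) x := by
    rintro ⟨⟨c₁, h₁⟩, ⟨c₂, h₂⟩⟩
    rw [mem_centralizer_singleton] at h₁ h₂
    have e : t * ((c₁ * a * c₂ : G) * t * (c₁ * a * c₂ : G)⁻¹) = c₁ * x * c₁⁻¹ := by
      calc t * ((c₁ * a * c₂ : G) * t * (c₁ * a * c₂ : G)⁻¹)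
          = t * (c₁ * a * (c₂ * t) * c₂⁻¹ * a⁻¹ * c₁⁻¹) := by group
        _ = t * (c₁ * a * (t * c₂) * c₂⁻¹ * a⁻¹ * c₁⁻¹) := by rw [h₂]
        _ = t * c₁ * (a * t * a⁻¹) * c₁⁻¹ := by group
        _ = c₁ * t * (t * x) * c₁⁻¹ := by rw [ha, h₁]
        _ = c₁ * (t * t) * x * c₁⁻¹ := by group
        _ = c₁ * x * c₁⁻¹ := by rw [ht, mul_one]
    show IsConj (t * ((c₁ * a * c₂ : G) * t * (c₁ * a * c₂ : G)⁻¹)) x
    rw [e]
    exact (isConj_iff.mpr ⟨c₁, rfl⟩).symm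
  let f : C × C → {y : G // IsConj (t * (y * t * y⁻¹)) x} := fun c => ⟨c.1 * a * c.2, hmem c⟩
  have hinj : Function.Injective f := by
    rintro ⟨⟨c₁, h₁⟩, ⟨c₂, h₂⟩⟩ ⟨⟨d₁, k₁⟩, ⟨d₂, k₂⟩⟩ hfe
    have hfe' : c₁ * a * c₂ = d₁ * a * d₂ := congrArg Subtype.val hfe
    rw [mem_centralizer_singleton] at h₁ h₂ k₁ k₂
    -- e = d₂ * c₂⁻¹
    have he1 : a⁻¹ * (d₁⁻¹ * c₁) * a = d₂ * c₂⁻¹ := by
      calc a⁻¹ * (d₁⁻¹ * c₁) * a = a⁻¹ * d₁⁻¹ * (c₁ * a * c₂) * c₂⁻¹ := by group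
        _ = d₂ * c₂⁻¹ := by rw [hfe']; group
    have he_t : t * (d₂ * c₂⁻¹) = (d₂ * c₂⁻¹) * t := by
      have : t * c₂⁻¹ = c₂⁻¹ * t := by
        calc t * c₂⁻¹ = c₂⁻¹ * (c₂ * t) * c₂⁻¹ := by group
          _ = c₂⁻¹ * (t * c₂) * c₂⁻¹ := by rw [h₂]
          _ = c₂⁻¹ * t := by group
      calc t * (d₂ * c₂⁻¹) = (t * d₂) * c₂⁻¹ := by group
        _ = d₂ * (t * c₂⁻¹) := by rw [k₂]; group
        _ = d₂ * c₂⁻¹ * t := by rw [this]; group
    have he'_t : t * (d₁⁻¹ * c₁) = (d₁⁻¹ * c₁) * t := by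
      have : t * d₁⁻¹ = d₁⁻¹ * t := by
        calc t * d₁⁻¹ = d₁⁻¹ * (d₁ * t) * d₁⁻¹ := by group
          _ = d₁⁻¹ * (t * d₁) * d₁⁻¹ := by rw [k₁]
          _ = d₁⁻¹ * t := by group
      calc t * (d₁⁻¹ * c₁) = (t * d₁⁻¹) * c₁ := by group
        _ = d₁⁻¹ * (t * c₁) := by rw [this]; group
        _ = d₁⁻¹ * c₁ * t := by rw [h₁]; group
    -- e commutes with t * x⁻¹
    have he_tx : (t * x⁻¹) * (d₂ * c₂⁻¹) = (d₂ * c₂⁻¹) * (t * x⁻¹) := by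
      rw [← he1, ← ha']
      calc a⁻¹ * t * a * (a⁻¹ * (d₁⁻¹ * c₁) * a) = a⁻¹ * (t * (d₁⁻¹ * c₁)) * a := by group
        _ = a⁻¹ * ((d₁⁻¹ * c₁) * t) * a := by rw [he'_t]
        _ = a⁻¹ * (d₁⁻¹ * c₁) * a * (a⁻¹ * t * a) := by group
    have he_x : (d₂ * c₂⁻¹) * x = x * (d₂ * c₂⁻¹) := by
      have h5 : x⁻¹ * (d₂ * c₂⁻¹) = (d₂ * c₂⁻¹) * x⁻¹ := by
        calc x⁻¹ * (d₂ * c₂⁻¹) = t⁻¹ * ((t * x⁻¹) * (d₂ * c₂⁻¹)) := by group
          _ = t⁻¹ * ((d₂ * c₂⁻¹) * (t * x⁻¹)) := by rw [he_tx]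
          _ = t⁻¹ * ((d₂ * c₂⁻¹) * t) * x⁻¹ := by group
          _ = t⁻¹ * (t * (d₂ * c₂⁻¹)) * x⁻¹ := by rw [he_t]
          _ = (d₂ * c₂⁻¹) * x⁻¹ := by group
      calc (d₂ * c₂⁻¹) * x = x * (x⁻¹ * (d₂ * c₂⁻¹)) * x := by group
        _ = x * ((d₂ * c₂⁻¹) * x⁻¹) * x := by rw [h5]
        _ = x * (d₂ * c₂⁻¹) := by group
    have he_one : d₂ * c₂⁻¹ = 1 :=
      eq_one_of_mem_zpowers_of_commute hp hp2 hx hinv (hC _ he_x) he_t
    have hdc2 : d₂ = c₂ := mul_inv_eq_one.mp he_one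
    subst hdc2
    have hdc1 : c₁ = d₁ := by
      have := mul_right_cancel hfe'
      exact mul_right_cancel this
    subst hdc1
    rfl
  have hsurj : Function.Surjective f := by
    rintro ⟨y, hy⟩
    set w := t * (y * t * y⁻¹) with hw
    have htw : t * w * t⁻¹ = w⁻¹ := by
      rw [hw, hti]
      have : (t * (y * t * y⁻¹))⁻¹ = y * t * y⁻¹ * t := by
        rw [mul_inv_rev, hti]
        congr 1
        rw [mul_inv_rev, mul_inv_rev, inv_inv, hti, mul_assoc]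
      rw [this]
      calc t * (t * (y * t * y⁻¹)) * t = (t * t) * (y * t * y⁻¹) * t := by group
        _ = y * t * y⁻¹ * t := by rw [ht, one_mul]
    obtain ⟨g, hg⟩ := isConj_iff.mp hy.symm
    have hu : (g⁻¹ * t * g) * x * (g⁻¹ * t * g)⁻¹ = x⁻¹ := by
      calc (g⁻¹ * t * g) * x * (g⁻¹ * t * g)⁻¹ = g⁻¹ * (t * (g * x * g⁻¹) * t⁻¹) * g := by group
        _ = g⁻¹ * (g * x * g⁻¹)⁻¹ * g := by rw [hg, htw]
        _ = x⁻¹ := by group
    obtain ⟨c, hcx, hc⟩ := exists_conj_of_inverts hp hp2 hx hC ht hinv hu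
    have hcx' : c * x = x * c := by
      obtain ⟨i, rfl⟩ := Subgroup.mem_zpowers_iff.mp hcx
      rw [← zpow_add_one, ← zpow_one_add]
      ring_nf
    -- k = g * c
    have hk : t * (g * c) = (g * c) * t := by
      calc t * (g * c) = g * (g⁻¹ * t * g) * c := by group
        _ = g * (c * t * c⁻¹) * c := by rw [hc]
        _ = g * c * t := by group
    have hkw : (g * c) * x * (g * c)⁻¹ = w := by
      calc (g * c) * x * (g * c)⁻¹ = g * (c * x) * c⁻¹ * g⁻¹ := by group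
        _ = g * (x * c) * c⁻¹ * g⁻¹ := by rw [hcx']
        _ = g * x * g⁻¹ := by group
        _ = w := hg
    -- y t y⁻¹ = t * w
    have hyt : y * t * y⁻¹ = (g * c * a) * t * (g * c * a)⁻¹ := by
      calc y * t * y⁻¹ = (t * t) * (y * t * y⁻¹) := by rw [ht, one_mul]
        _ = t * w := by rw [hw]; group
        _ = t * ((g * c) * x * (g * c)⁻¹) := by rw [hkw]
        _ = (t * (g * c)) * x * (g * c)⁻¹ := by group
        _ = (g * c) * (t * x) * (g * c)⁻¹ := by rw [hk]; group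
        _ = (g * c) * (a * t * a⁻¹) * (g * c)⁻¹ := by rw [ha]
        _ = (g * c * a) * t * (g * c * a)⁻¹ := by group
    have hc2 : t * ((g * c * a)⁻¹ * y) = ((g * c * a)⁻¹ * y) * t := by
      calc t * ((g * c * a)⁻¹ * y) = (g * c * a)⁻¹ * ((g * c * a) * t * (g * c * a)⁻¹) * y := by
            group
        _ = (g * c * a)⁻¹ * (y * t * y⁻¹) * y := by rw [hyt]
        _ = ((g * c * a)⁻¹ * y) * t := by group
    refine ⟨(⟨g * c, mem_centralizer_singleton.mpr hk⟩,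
      ⟨(g * c * a)⁻¹ * y, mem_centralizer_singleton.mpr hc2⟩), ?_⟩
    apply Subtype.ext
    show g * c * a * ((g * c * a)⁻¹ * y) = y
    group
  rw [← Nat.card_congr (Equiv.ofBijective f ⟨hinj, hsurj⟩), Nat.card_prod, sq]

end Cfsg.Agent.Helper20.InvCount
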