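import Mathlib

set_option autoImplicit false

namespace Cfsg.Agent.Helper20

/-- The conjugacy class of `g` has as many elements as the index of the centralizer of `g`. -/
theorem ncard_isConj_eq_index {G : Type*} [Group G] (g : G) :
    {h : G | IsConj g h}.ncard = (Subgroup.centralizer ({g} : Set G)).index := by
  have h1 : {h : G | IsConj g h} = MulAction.orbit (ConjAct G) g := by
    ext h
    rw [ConjAct.mem_orbit_conjAct, Set.mem_ofPred_eq, isConj_comm]
  rw [h1, ← MulAction.index_stabilizer, Subgroup.centralizer_eq_comap_stabilizer]
  exact (Subgroup.index_comap_of_surjective _ (ConjAct.toConjAct (G := G)).surjective).symm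

theorem card_isConj_eq_index {G : Type*} [Group G] (g : G) :
    Nat.card {h : G // IsConj g h} = (Subgroup.centralizer ({g} : Set G)).index := by
  rw [← ncard_isConj_eq_index]
  exact Nat.card_coe_set_eq _

theorem carrier_eq_setOf_isConj {G : Type*} [Group G] (g : G) :
    (ConjClasses.mk g).carrier = {h : G | IsConj g h} := by
  ext h
  rw [ConjClasses.mem_carrier_iff_mk_eq, ConjClasses.mk_eq_mk_iff_isConj, Set.mem_ofPred_eq,
    isConj_comm]

theorem ncard_carrier_eq_index {G : Type*} [Group G] (g : G) :
    (ConjClasses.mk g).carrier.ncard = (Subgroup.centralizer ({g} : Set G)).index := by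
  rw [← ncard_isConj_eq_index, carrier_eq_setOf_isConj]

end Cfsg.Agent.Helper20
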