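import Mathlib
import Cfsg.Prelude.Def_Blocks
import Cfsg.Agent.Lib.Helper5.TLDDefs
import Cfsg.Agent.S0928
import Cfsg.Agent.S0914
import Cfsg.Agent.S0908
import Cfsg.Agent.Lib.Helper1.TLDDCONJ
import Cfsg.Agent.Lib.Helper23.BlockCount
import Cfsg.Agent.Lib.Helper24.CharIntegral
import Cfsg.Agent.Lib.Helper24.CharComplete

/-!
# S4442, piece DNV (part A): nonvanishing of the `θ`-part, with the pieces DDICH and DEXP (at `c = 1`)
as hypotheses
-/

set_option autoImplicit false
set_option linter.unusedSectionVars false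
set_option linter.unusedVariables false
set_option linter.style.haveILetI false

namespace Cfsg.Agent.Helper5.TLD

open scoped ComplexConjugate
open Cfsg Cfsg.Agent.Helper24 Cfsg.Agent.Helper23.Blk

section A

variable (p : ℕ) [Fact p.Prime] {G : Type*} [Group G] [Finite G]

/-- every element of order `p` is conjugate into the Sylow `p`-subgroup `P`. -/
theorem dnv_conj_mem (P : Sylow p G) (g : G) (hg : orderOf g = p) :
    ∃ x : G, x * g * x⁻¹ ∈ (P : Subgroup G) := by
  have hpg : IsPGroup p (Subgroup.zpowers g) := by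
    refine IsPGroup.of_card (n := 1) ?_
    rw [Nat.card_zpowers, hg, pow_one]
  obtain ⟨Q, hQ⟩ := hpg.exists_le_sylow
  obtain ⟨x, hx⟩ := MulAction.exists_smul_eq G Q P
  refine ⟨x, ?_⟩
  have hgQ : g ∈ (Q : Subgroup G) := hQ (Subgroup.mem_zpowers g)
  have : x * g * x⁻¹ ∈ ((x • Q : Sylow p G) : Subgroup G) := by
    rw [Sylow.coe_subgroup_smul, Subgroup.pointwise_smul_def]
    exact ⟨g, hgQ, rfl⟩
  rwa [hx] at this

theorem exists_FP_ne_zero_of (M : Ideal AlgInt) (hM : IsPModular p M) (P : Sylow p G)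
    (hP : Nat.card P = p) (B : Set (IrrCharacter G)) (hB : IsPBlock M B)
    (hBP : IsDefectGroup p M B P)
    (θ : IrrCharacter (Subgroup.centralizer ((P : Subgroup G) : Set G)))
    (χ : IrrCharacter G) (hχ : χ ∈ B)
    (hDICH : ∀ (φ : IrrCharacter (Subgroup.centralizer ((P : Subgroup G) : Set G)))
      (hφP : ∀ x : Subgroup.centralizer ((P : Subgroup G) : Set G), (x : G) ∈ (P : Subgroup G) →
        (φ : Subgroup.centralizer ((P : Subgroup G) : Set G) → ℂ) x =
          (φ : Subgroup.centralizer ((P : Subgroup G) : Set G) → ℂ) 1),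
      (∃ n ∈ Subgroup.normalizer ((P : Subgroup G) : Set G),
        ∀ c c' : Subgroup.centralizer ((P : Subgroup G) : Set G), (c' : G) = n * c * n⁻¹ →
          (φ : Subgroup.centralizer ((P : Subgroup G) : Set G) → ℂ) c =
            (θ : Subgroup.centralizer ((P : Subgroup G) : Set G) → ℂ) c') ∨
      (∀ a : G, a ∈ (P : Subgroup G) → a ≠ 1 →
        FP p P (φ : Subgroup.centralizer ((P : Subgroup G) : Set G) → ℂ) (χ : G → ℂ) a = 0))
    (hEXP : ∀ a : G, a ∈ (P : Subgroup G) →
      (χ : G → ℂ) (a * ((1 : Subgroup.centralizer ((P : Subgroup G) : Set G)) : G)) =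
        ∑ᶠ φ ∈ {φ : IrrCharacter (Subgroup.centralizer ((P : Subgroup G) : Set G)) |
            ∀ x : Subgroup.centralizer ((P : Subgroup G) : Set G), (x : G) ∈ (P : Subgroup G) →
              (φ : Subgroup.centralizer ((P : Subgroup G) : Set G) → ℂ) x =
                (φ : Subgroup.centralizer ((P : Subgroup G) : Set G) → ℂ) 1},
          FP p P (φ : Subgroup.centralizer ((P : Subgroup G) : Set G) → ℂ) (χ : G → ℂ) a *
            (φ : Subgroup.centralizer ((P : Subgroup G) : Set G) → ℂ) 1) :
    ∃ a : G, a ∈ (P : Subgroup G) ∧ a ≠ 1 ∧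
      FP p P (θ : Subgroup.centralizer ((P : Subgroup G) : Set G) → ℂ) (χ : G → ℂ) a ≠ 0 := by
  classical
  have hp : p.Prime := Fact.out
  haveI : Fintype G := Fintype.ofFinite G
  haveI hMp : M.IsPrime := hM.2.1.isPrime
  by_contra hcon
  push Not at hcon
  have hχcf : IsClassFunction G (χ : G → ℂ) :=
    isClassFunction_of_isCharacter (isCharacter_of_isIrrCharacter χ.2)
  have hall : ∀ (φ : IrrCharacter (Subgroup.centralizer ((P : Subgroup G) : Set G)))
      (hφP : ∀ x : Subgroup.centralizer ((P : Subgroup G) : Set G), (x : G) ∈ (P : Subgroup G) →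
        (φ : Subgroup.centralizer ((P : Subgroup G) : Set G) → ℂ) x =
          (φ : Subgroup.centralizer ((P : Subgroup G) : Set G) → ℂ) 1),
      ∀ a : G, a ∈ (P : Subgroup G) → a ≠ 1 →
        FP p P (φ : Subgroup.centralizer ((P : Subgroup G) : Set G) → ℂ) (χ : G → ℂ) a = 0 := by
    intro φ hφP a ha ha1
    rcases hDICH φ hφP with ⟨n, hn, h⟩ | h
    · rw [FP_conj p P (θ : Subgroup.centralizer ((P : Subgroup G) : Set G) → ℂ)
        (φ : Subgroup.centralizer ((P : Subgroup G) : Set G) → ℂ) (χ : G → ℂ) hχcf n hn h a]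
      apply hcon
      · exact (Subgroup.mem_normalizer_iff.1 hn a).1 ha
      · intro h1
        apply ha1
        have : a = n⁻¹ * (n * a * n⁻¹) * n := by group
        rw [this, h1]
        group
    · exact h a ha ha1
  have hvanP : ∀ a : G, a ∈ (P : Subgroup G) → a ≠ 1 → (χ : G → ℂ) a = 0 := by
    intro a ha ha1
    have h := hEXP a ha
    rw [Subgroup.coe_one, mul_one] at h
    rw [h]
    apply finsum_mem_eq_zero_of_forall_eq_zero
    intro φ hφ
    rw [hall φ hφ a ha ha1, zero_mul]
  have hvan : ∀ g : G, orderOf g = p → (χ : G → ℂ) g = 0 := by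
    intro g hg
    obtain ⟨x, hx⟩ := dnv_conj_mem p P g hg
    rw [← hχcf g x]
    apply hvanP _ hx
    intro h1
    have hg1 : g = 1 := by
      have : g = x⁻¹ * (x * g * x⁻¹) * x := by group
      rw [this, h1]
      group
    rw [hg1, orderOf_one] at hg
    exact hp.one_lt.ne hg
  have h928 := Cfsg.Agent.S0928.result p χ hvan
  have hdvd := charDegree_dvd_card χ.2
  have hnot : ¬ p ∣ Nat.card G / charDegree (χ : G → ℂ) := by
    obtain ⟨m, hm⟩ := hdvd
    have hcard : Nat.card G ≠ 0 := Nat.card_pos.ne'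
    have hd0 : charDegree (χ : G → ℂ) ≠ 0 := by
      intro h0
      rw [h0, zero_mul] at hm
      exact hcard hm
    have hm0 : m ≠ 0 := by
      intro h0
      rw [h0, mul_zero] at hm
      exact hcard hm
    rw [hm, Nat.mul_div_cancel_left _ (Nat.pos_of_ne_zero hd0)]
    rw [hm, Nat.factorization_mul hd0 hm0, Finsupp.add_apply] at h928
    have hz : m.factorization p = 0 := by omega
    intro hpm
    have := (hp.dvd_iff_one_le_factorization hm0).1 hpm
    omega
  have h914 := (Cfsg.Agent.S0914.result p M hM χ).1 hnot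
  have hBeq : B = {χ} := by
    rw [← h914]
    exact isPBlock_eq_of_mem hB ⟨χ, rfl⟩ hχ (mem_blockOf_self χ)
  have h908 := Cfsg.Agent.S0908.result p M hM B hB (P : Subgroup G) hBP
  have hdef : blockDefect p B = 0 := by
    rw [hBeq]
    unfold blockDefect
    rw [Set.image_singleton, csInf_singleton, h928, Nat.sub_self]
  rw [hdef, pow_zero, hP] at h908
  exact hp.one_lt.ne' h908

end A

end Cfsg.Agent.Helper5.TLD
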