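import Mathlib
import Cfsg.Prelude.Def_Blocks
import Cfsg.Agent.Lib.Helper5.TLDDefs
import Cfsg.Agent.Lib.Helper20.TLDDNVA
import Cfsg.Agent.Lib.Helper20.TLDDDICH
import Cfsg.Agent.Lib.Helper18.TLDDEXP

/-!
# S4442, piece DNV: `exists_FP_ne_zero` (exact skeleton signature)
-/

set_option autoImplicit false
set_option linter.unusedSectionVars false
set_option linter.unusedVariables false

namespace Cfsg.Agent.Helper5.TLD

open scoped ComplexConjugate
open Cfsg Cfsg.Agent.Helper24

section LayerD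

variable (p : ℕ) [Fact p.Prime] {G : Type*} [Group G] [Finite G]

/-- PIECE DNV: nonvanishing of the `θ`-part of `χ ∈ B` on `P^#`. -/
theorem exists_FP_ne_zero (M : Ideal AlgInt) (hM : IsPModular p M) (P : Sylow p G)
    (hP : Nat.card P = p) (B : Set (IrrCharacter G)) (hB : IsPBlock M B)
    (hBP : IsDefectGroup p M B P)
    (b : Set (IrrCharacter (Subgroup.centralizer ((P : Subgroup G) : Set G))))
    (hind : IsInducedBlock M (Subgroup.centralizer ((P : Subgroup G) : Set G)) b B)
    (θ : IrrCharacter (Subgroup.centralizer ((P : Subgroup G) : Set G))) (hθ : θ ∈ b)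
    (hθP : ∀ x : Subgroup.centralizer ((P : Subgroup G) : Set G), (x : G) ∈ (P : Subgroup G) →
      (θ : Subgroup.centralizer ((P : Subgroup G) : Set G) → ℂ) x =
        (θ : Subgroup.centralizer ((P : Subgroup G) : Set G) → ℂ) 1)
    (χ : IrrCharacter G) (hχ : χ ∈ B) :
    ∃ a : G, a ∈ (P : Subgroup G) ∧ a ≠ 1 ∧
      FP p P (θ : Subgroup.centralizer ((P : Subgroup G) : Set G) → ℂ) (χ : G → ℂ) a ≠ 0 := by
  refine exists_FP_ne_zero_of p M hM P hP B hB hBP θ χ hχ
    (fun φ hφP => FP_dichotomy p M hM P hP B hB b hind θ hθ hθP χ hχ φ hφP) ?_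
  intro a ha
  refine expand_FP p P hP (χ : G → ℂ)
    (isClassFunction_of_isCharacter (isCharacter_of_isIrrCharacter χ.2)) a ha 1 ?_
  rw [orderOf_one]
  exact (Fact.out : p.Prime).one_lt.ne' ∘ Nat.dvd_one.1

end LayerD

end Cfsg.Agent.Helper5.TLD
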