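import Mathlib

/-!
# S2375 (helper20): the lattice side of the `E₈` torus argument - definitions, the root table and basic lemmas

Mathlib only.  `C8` is the Cartan (= Gram) matrix of `E₈` in the numbering of the simple roots of `chevE8`; `rc v` is the
coordinate vector of the root `v < 240` in the basis of the simple roots (`= chevE8Coroot`); the simple roots are the
roots `sIdx i`.  See `plans/S2375_plan.md`.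
-/

set_option autoImplicit false

namespace Cfsg.Agent.Helper20.E8T

/-- the Cartan matrix of `E₈` (Gram matrix of the simple roots) -/
def C8 : Matrix (Fin 8) (Fin 8) ℤ :=
  !![2, 0, -1, 0, 0, 0, 0, 0;
    0, 2, 0, -1, 0, 0, 0, 0;
    -1, 0, 2, -1, 0, 0, 0, 0;
    0, -1, -1, 2, -1, 0, 0, 0;
    0, 0, 0, -1, 2, -1, 0, 0;
    0, 0, 0, 0, -1, 2, -1, 0;
    0, 0, 0, 0, 0, -1, 2, -1;
    0, 0, 0, 0, 0, 0, -1, 2]

/-- the coordinates of the `240` roots in the basis of the simple roots, shifted by `6` (natural numbers elaborate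
much faster than integers) -/
def rcN : List (List ℕ) :=
  [[4,3,2,0,1,2,3,4],
  [4,3,2,0,1,2,3,5],
  [4,3,2,0,1,2,4,5],
  [4,3,2,0,1,3,4,5],
  [4,3,2,0,2,3,4,5],
  [4,3,2,1,2,3,4,5],
  [4,3,3,1,2,3,4,5],
  [4,4,2,1,2,3,4,5],
  [4,4,3,1,2,3,4,5],
  [4,4,3,2,2,3,4,5],
  [4,4,3,2,3,3,4,5],
  [4,4,3,2,3,4,4,5],
  [4,4,3,2,3,4,5,5],
  [4,4,3,2,3,4,5,6],
  [5,3,3,1,2,3,4,5],
  [5,4,3,1,2,3,4,5],
  [5,4,3,2,2,3,4,5],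
  [5,4,3,2,3,3,4,5],
  [5,4,3,2,3,4,4,5],
  [5,4,3,2,3,4,5,5],
  [5,4,3,2,3,4,5,6],
  [5,4,4,2,2,3,4,5],
  [5,4,4,2,3,3,4,5],
  [5,4,4,2,3,4,4,5],
  [5,4,4,2,3,4,5,5],
  [5,4,4,2,3,4,5,6],
  [5,4,4,3,3,3,4,5],
  [5,4,4,3,3,4,4,5],
  [5,4,4,3,3,4,5,5],
  [5,4,4,3,3,4,5,6],
  [5,4,4,3,4,4,4,5],
  [5,4,4,3,4,4,5,5],
  [5,4,4,3,4,4,5,6],
  [5,4,4,3,4,5,5,5],
  [5,4,4,3,4,5,5,6],
  [5,4,4,3,4,5,6,6],
  [5,5,4,3,3,3,4,5],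
  [5,5,4,3,3,4,4,5],
  [5,5,4,3,3,4,5,5],
  [5,5,4,3,3,4,5,6],
  [5,5,4,3,4,4,4,5],
  [5,5,4,3,4,4,5,5],
  [5,5,4,3,4,4,5,6],
  [5,5,4,3,4,5,5,5],
  [5,5,4,3,4,5,5,6],
  [5,5,4,3,4,5,6,6],
  [5,5,4,4,4,4,4,5],
  [5,5,4,4,4,4,5,5],
  [5,5,4,4,4,4,5,6],
  [5,5,4,4,4,5,5,5],
  [5,5,4,4,4,5,5,6],
  [5,5,4,4,4,5,6,6],
  [5,5,4,4,5,5,5,5],
  [5,5,4,4,5,5,5,6],
  [5,5,4,4,5,5,6,6],
  [5,5,4,4,5,6,6,6],
  [5,5,5,4,4,4,4,5],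
  [5,5,5,4,4,4,5,5],
  [5,5,5,4,4,4,5,6],
  [5,5,5,4,4,5,5,5],
  [5,5,5,4,4,5,5,6],
  [5,5,5,4,4,5,6,6],
  [5,5,5,4,5,5,5,5],
  [5,5,5,4,5,5,5,6],
  [5,5,5,4,5,5,6,6],
  [5,5,5,4,5,6,6,6],
  [5,5,5,5,5,5,5,5],
  [5,5,5,5,5,5,5,6],
  [5,5,5,5,5,5,6,6],
  [5,5,5,5,5,6,6,6],
  [5,5,5,5,6,6,6,6],
  [5,6,5,5,5,5,5,5],
  [5,6,5,5,5,5,5,6],
  [5,6,5,5,5,5,6,6],
  [5,6,5,5,5,6,6,6],
  [5,6,5,5,6,6,6,6],
  [5,6,5,6,6,6,6,6],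
  [5,6,6,6,6,6,6,6],
  [6,5,5,4,4,4,4,5],
  [6,5,5,4,4,4,5,5],
  [6,5,5,4,4,4,5,6],
  [6,5,5,4,4,5,5,5],
  [6,5,5,4,4,5,5,6],
  [6,5,5,4,4,5,6,6],
  [6,5,5,4,5,5,5,5],
  [6,5,5,4,5,5,5,6],
  [6,5,5,4,5,5,6,6],
  [6,5,5,4,5,6,6,6],
  [6,5,5,5,5,5,5,5],
  [6,5,5,5,5,5,5,6],
  [6,5,5,5,5,5,6,6],
  [6,5,5,5,5,6,6,6],
  [6,5,5,5,6,6,6,6],
  [6,5,6,5,5,5,5,5],
  [6,5,6,5,5,5,5,6],
  [6,5,6,5,5,5,6,6],
  [6,5,6,5,5,6,6,6],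
  [6,5,6,5,6,6,6,6],
  [6,5,6,6,6,6,6,6],
  [6,6,5,5,5,5,5,5],
  [6,6,5,5,5,5,5,6],
  [6,6,5,5,5,5,6,6],
  [6,6,5,5,5,6,6,6],
  [6,6,5,5,6,6,6,6],
  [6,6,5,6,6,6,6,6],
  [6,6,6,5,5,5,5,5],
  [6,6,6,5,5,5,5,6],
  [6,6,6,5,5,5,6,6],
  [6,6,6,5,5,6,6,6],
  [6,6,6,5,6,6,6,6],
  [6,6,6,6,5,5,5,5],
  [6,6,6,6,5,5,5,6],
  [6,6,6,6,5,5,6,6],
  [6,6,6,6,5,6,6,6],
  [6,6,6,6,6,5,5,5],
  [6,6,6,6,6,5,5,6],
  [6,6,6,6,6,5,6,6],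
  [6,6,6,6,6,6,5,5],
  [6,6,6,6,6,6,5,6],
  [6,6,6,6,6,6,6,5],
  [6,6,6,6,6,6,6,7],
  [6,6,6,6,6,6,7,6],
  [6,6,6,6,6,6,7,7],
  [6,6,6,6,6,7,6,6],
  [6,6,6,6,6,7,7,6],
  [6,6,6,6,6,7,7,7],
  [6,6,6,6,7,6,6,6],
  [6,6,6,6,7,7,6,6],
  [6,6,6,6,7,7,7,6],
  [6,6,6,6,7,7,7,7],
  [6,6,6,7,6,6,6,6],
  [6,6,6,7,7,6,6,6],
  [6,6,6,7,7,7,6,6],
  [6,6,6,7,7,7,7,6],
  [6,6,6,7,7,7,7,7],
  [6,6,7,6,6,6,6,6],
  [6,6,7,7,6,6,6,6],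
  [6,6,7,7,7,6,6,6],
  [6,6,7,7,7,7,6,6],
  [6,6,7,7,7,7,7,6],
  [6,6,7,7,7,7,7,7],
  [6,7,6,6,6,6,6,6],
  [6,7,6,7,6,6,6,6],
  [6,7,6,7,7,6,6,6],
  [6,7,6,7,7,7,6,6],
  [6,7,6,7,7,7,7,6],
  [6,7,6,7,7,7,7,7],
  [6,7,7,7,6,6,6,6],
  [6,7,7,7,7,6,6,6],
  [6,7,7,7,7,7,6,6],
  [6,7,7,7,7,7,7,6],
  [6,7,7,7,7,7,7,7],
  [6,7,7,8,7,6,6,6],
  [6,7,7,8,7,7,6,6],
  [6,7,7,8,7,7,7,6],
  [6,7,7,8,7,7,7,7],
  [6,7,7,8,8,7,6,6],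
  [6,7,7,8,8,7,7,6],
  [6,7,7,8,8,7,7,7],
  [6,7,7,8,8,8,7,6],
  [6,7,7,8,8,8,7,7],
  [6,7,7,8,8,8,8,7],
  [7,6,6,6,6,6,6,6],
  [7,6,7,6,6,6,6,6],
  [7,6,7,7,6,6,6,6],
  [7,6,7,7,7,6,6,6],
  [7,6,7,7,7,7,6,6],
  [7,6,7,7,7,7,7,6],
  [7,6,7,7,7,7,7,7],
  [7,7,7,7,6,6,6,6],
  [7,7,7,7,7,6,6,6],
  [7,7,7,7,7,7,6,6],
  [7,7,7,7,7,7,7,6],
  [7,7,7,7,7,7,7,7],
  [7,7,7,8,7,6,6,6],
  [7,7,7,8,7,7,6,6],
  [7,7,7,8,7,7,7,6],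
  [7,7,7,8,7,7,7,7],
  [7,7,7,8,8,7,6,6],
  [7,7,7,8,8,7,7,6],
  [7,7,7,8,8,7,7,7],
  [7,7,7,8,8,8,7,6],
  [7,7,7,8,8,8,7,7],
  [7,7,7,8,8,8,8,7],
  [7,7,8,8,7,6,6,6],
  [7,7,8,8,7,7,6,6],
  [7,7,8,8,7,7,7,6],
  [7,7,8,8,7,7,7,7],
  [7,7,8,8,8,7,6,6],
  [7,7,8,8,8,7,7,6],
  [7,7,8,8,8,7,7,7],
  [7,7,8,8,8,8,7,6],
  [7,7,8,8,8,8,7,7],
  [7,7,8,8,8,8,8,7],
  [7,7,8,9,8,7,6,6],
  [7,7,8,9,8,7,7,6],
  [7,7,8,9,8,7,7,7],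
  [7,7,8,9,8,8,7,6],
  [7,7,8,9,8,8,7,7],
  [7,7,8,9,8,8,8,7],
  [7,7,8,9,9,8,7,6],
  [7,7,8,9,9,8,7,7],
  [7,7,8,9,9,8,8,7],
  [7,7,8,9,9,9,8,7],
  [7,8,8,9,8,7,6,6],
  [7,8,8,9,8,7,7,6],
  [7,8,8,9,8,7,7,7],
  [7,8,8,9,8,8,7,6],
  [7,8,8,9,8,8,7,7],
  [7,8,8,9,8,8,8,7],
  [7,8,8,9,9,8,7,6],
  [7,8,8,9,9,8,7,7],
  [7,8,8,9,9,8,8,7],
  [7,8,8,9,9,9,8,7],
  [7,8,8,10,9,8,7,6],
  [7,8,8,10,9,8,7,7],
  [7,8,8,10,9,8,8,7],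
  [7,8,8,10,9,9,8,7],
  [7,8,8,10,10,9,8,7],
  [7,8,9,10,9,8,7,6],
  [7,8,9,10,9,8,7,7],
  [7,8,9,10,9,8,8,7],
  [7,8,9,10,9,9,8,7],
  [7,8,9,10,10,9,8,7],
  [7,8,9,11,10,9,8,7],
  [7,9,9,11,10,9,8,7],
  [8,8,9,10,9,8,7,6],
  [8,8,9,10,9,8,7,7],
  [8,8,9,10,9,8,8,7],
  [8,8,9,10,9,9,8,7],
  [8,8,9,10,10,9,8,7],
  [8,8,9,11,10,9,8,7],
  [8,8,10,11,10,9,8,7],
  [8,9,9,11,10,9,8,7],
  [8,9,10,11,10,9,8,7],
  [8,9,10,12,10,9,8,7],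
  [8,9,10,12,11,9,8,7],
  [8,9,10,12,11,10,8,7],
  [8,9,10,12,11,10,9,7],
  [8,9,10,12,11,10,9,8]]

/-- the coordinate vector of the root `v` -/
def rc (v : ℕ) : Fin 8 → ℤ := fun i => (((rcN.getD v []).getD i.val 6 : ℕ) : ℤ) - 6

/-- the indices of the simple roots -/
def sIdx : Fin 8 → ℕ := ![162, 141, 135, 130, 126, 123, 121, 120]

/-- the inner product -/
def ip (y z : Fin 8 → ℤ) : ℤ := y ⬝ᵥ C8.mulVec z

/-- an integral isometry that permutes the roots -/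
def IsW (M : Matrix (Fin 8) (Fin 8) ℤ) : Prop :=
  M.transpose * C8 * M = C8 ∧ ∀ v < 240, ∃ v' < 240, M.mulVec (rc v) = rc v'

/-- the value of the 30th cyclotomic polynomial at a matrix -/
def Phi30M (M : Matrix (Fin 8) (Fin 8) ℤ) : Matrix (Fin 8) (Fin 8) ℤ :=
  M ^ 8 + M ^ 7 - M ^ 5 - M ^ 4 - M ^ 3 + M + 1

/-- an element of the Weyl group whose characteristic polynomial is the 30th cyclotomic polynomial -/
def IsGood (M : Matrix (Fin 8) (Fin 8) ℤ) : Prop := IsW M ∧ Phi30M M = 0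

/-- the matrix with columns `y, M y, ..., M⁷ y` -/
def krylov (M : Matrix (Fin 8) (Fin 8) ℤ) (y : Fin 8 → ℤ) : Matrix (Fin 8) (Fin 8) ℤ :=
  Matrix.of fun i j => (M ^ j.val).mulVec y i

/-- the order of the torus -/
def mq (q : ℕ) : ℕ := q ^ 8 + q ^ 7 - q ^ 5 - q ^ 4 - q ^ 3 + q + 1

/-- a prime divisor of `Φ₃₀(q)` -/
structure GoodPrime30 (q r : ℕ) : Prop where
  prime : r.Prime
  dvd : r ∣ mq q

/-- the matrix `q - M` -/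
def qM (q : ℕ) (M : Matrix (Fin 8) (Fin 8) ℤ) : Matrix (Fin 8) (Fin 8) ℤ := (q : ℤ) • (1 : Matrix (Fin 8) (Fin 8) ℤ) - M

/-- the order of `E₈(q)` -/
def ordE8 (q : ℕ) : ℕ :=
  q ^ 120 * (q ^ 2 - 1) * (q ^ 8 - 1) * (q ^ 12 - 1) * (q ^ 14 - 1) * (q ^ 18 - 1) * (q ^ 20 - 1) * (q ^ 24 - 1) *
    (q ^ 30 - 1)

theorem C8_transpose : C8.transpose = C8 := by
  decide

theorem ip_comm (y z : Fin 8 → ℤ) : ip y z = ip z y := by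
  unfold ip
  rw [Matrix.dotProduct_mulVec, ← Matrix.mulVec_transpose, C8_transpose, dotProduct_comm]

theorem ip_add_left (y y' z : Fin 8 → ℤ) : ip (y + y') z = ip y z + ip y' z := by
  unfold ip
  rw [add_dotProduct]

theorem ip_add_right (y z z' : Fin 8 → ℤ) : ip y (z + z') = ip y z + ip y z' := by
  unfold ip
  rw [Matrix.mulVec_add, dotProduct_add]

theorem ip_neg_left (y z : Fin 8 → ℤ) : ip (-y) z = -ip y z := by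
  unfold ip
  rw [neg_dotProduct]

theorem ip_neg_right (y z : Fin 8 → ℤ) : ip y (-z) = -ip y z := by
  unfold ip
  rw [Matrix.mulVec_neg, dotProduct_neg]

theorem ip_sub_left (y y' z : Fin 8 → ℤ) : ip (y - y') z = ip y z - ip y' z := by
  rw [sub_eq_add_neg, ip_add_left, ip_neg_left, sub_eq_add_neg]

theorem ip_sub_right (y z z' : Fin 8 → ℤ) : ip y (z - z') = ip y z - ip y z' := by
  rw [sub_eq_add_neg, ip_add_right, ip_neg_right, sub_eq_add_neg]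

theorem ip_smul_left (n : ℤ) (y z : Fin 8 → ℤ) : ip (n • y) z = n * ip y z := by
  unfold ip
  rw [smul_dotProduct, smul_eq_mul]

theorem ip_smul_right (n : ℤ) (y z : Fin 8 → ℤ) : ip y (n • z) = n * ip y z := by
  unfold ip
  rw [Matrix.mulVec_smul, dotProduct_smul, smul_eq_mul]

theorem ip_zero_left (z : Fin 8 → ℤ) : ip 0 z = 0 := by
  unfold ip
  rw [zero_dotProduct]

theorem ip_zero_right (y : Fin 8 → ℤ) : ip y 0 = 0 := by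
  unfold ip
  rw [Matrix.mulVec_zero, dotProduct_zero]

theorem qM_mulVec (q : ℕ) (M : Matrix (Fin 8) (Fin 8) ℤ) (y : Fin 8 → ℤ) :
    (qM q M).mulVec y = (q : ℤ) • y - M.mulVec y := by
  unfold qM
  rw [Matrix.sub_mulVec, Matrix.smul_mulVec, Matrix.one_mulVec]

section K

variable {K : Type*} [Field K]

/-- the character with coordinates `x` at the lattice vector `y` -/
def chiV (x : Fin 8 → Kˣ) (y : Fin 8 → ℤ) : Kˣ := ∏ i, x i ^ y i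

/-- `χ ∘ M = χ ^ q` on the roots -/
def Cond (q : ℕ) (M : Matrix (Fin 8) (Fin 8) ℤ) (x : Fin 8 → Kˣ) : Prop :=
  ∀ v < 240, chiV x (M.mulVec (rc v)) = chiV x (rc v) ^ q

theorem chiV_zero (x : Fin 8 → Kˣ) : chiV x 0 = 1 := by
  simp [chiV]

theorem chiV_add (x : Fin 8 → Kˣ) (y z : Fin 8 → ℤ) : chiV x (y + z) = chiV x y * chiV x z := by
  simp only [chiV, Pi.add_apply, zpow_add, Finset.prod_mul_distrib]

theorem chiV_neg (x : Fin 8 → Kˣ) (y : Fin 8 → ℤ) : chiV x (-y) = (chiV x y)⁻¹ := by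
  simp only [chiV, Pi.neg_apply, zpow_neg, Finset.prod_inv_distrib]

theorem chiV_sub (x : Fin 8 → Kˣ) (y z : Fin 8 → ℤ) : chiV x (y - z) = chiV x y / chiV x z := by
  rw [sub_eq_add_neg, chiV_add, chiV_neg, div_eq_mul_inv]

theorem chiV_zsmul (x : Fin 8 → Kˣ) (n : ℤ) (y : Fin 8 → ℤ) : chiV x (n • y) = chiV x y ^ n := by
  unfold chiV
  rw [← Finset.prod_zpow]
  refine Finset.prod_congr rfl fun i _ => ?_
  rw [Pi.smul_apply, smul_eq_mul, mul_comm, zpow_mul]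

theorem chiV_nsmul (x : Fin 8 → Kˣ) (n : ℕ) (y : Fin 8 → ℤ) : chiV x (n • y) = chiV x y ^ n := by
  have h := chiV_zsmul x (n : ℤ) y
  rwa [natCast_zsmul, zpow_natCast] at h

theorem chiV_single (x : Fin 8 → Kˣ) (i : Fin 8) (n : ℤ) : chiV x (Pi.single i n) = x i ^ n := by
  unfold chiV
  rw [Finset.prod_eq_single i]
  · rw [Pi.single_eq_same]
  · intro j _ hj
    rw [Pi.single_eq_of_ne hj, zpow_zero]
  · intro h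
    exact absurd (Finset.mem_univ i) h

theorem chiV_one_left (y : Fin 8 → ℤ) : chiV (1 : Fin 8 → Kˣ) y = 1 := by
  simp [chiV]

theorem chiV_mul_left (x x' : Fin 8 → Kˣ) (y : Fin 8 → ℤ) : chiV (x * x') y = chiV x y * chiV x' y := by
  simp only [chiV, Pi.mul_apply, mul_zpow, Finset.prod_mul_distrib]

theorem chiV_inv_left (x : Fin 8 → Kˣ) (y : Fin 8 → ℤ) : chiV x⁻¹ y = (chiV x y)⁻¹ := by
  simp only [chiV, Pi.inv_apply, inv_zpow, Finset.prod_inv_distrib]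

theorem chiV_pow_left (x : Fin 8 → Kˣ) (n : ℕ) (y : Fin 8 → ℤ) : chiV (x ^ n) y = chiV x y ^ n := by
  induction n with
  | zero => rw [pow_zero, pow_zero, chiV_one_left]
  | succ n ih => rw [pow_succ, pow_succ, chiV_mul_left, ih]

/-- the character as a homomorphism of the lattice -/
def chiHom (x : Fin 8 → Kˣ) : Multiplicative (Fin 8 → ℤ) →* Kˣ where
  toFun y := chiV x (Multiplicative.toAdd y)
  map_one' := chiV_zero x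
  map_mul' _ _ := chiV_add x _ _

theorem chiHom_apply (x : Fin 8 → Kˣ) (y : Fin 8 → ℤ) : chiHom x (Multiplicative.ofAdd y) = chiV x y := rfl

theorem sIdx_lt (i : Fin 8) : sIdx i < 240 := by
  revert i
  decide

theorem rc_sIdx (i : Fin 8) : rc (sIdx i) = Pi.single i 1 := by
  revert i
  decide

/-- two characters that agree on the simple roots are equal -/
theorem chiV_ext (x x' : Fin 8 → Kˣ) (h : ∀ i, chiV x (rc (sIdx i)) = chiV x' (rc (sIdx i))) : x = x' := by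
  funext i
  have := h i
  rwa [rc_sIdx, chiV_single, chiV_single, zpow_one, zpow_one] at this

/-- every lattice vector is an integral combination of the simple roots -/
theorem vec_eq_sum (y : Fin 8 → ℤ) : y = ∑ i, y i • rc (sIdx i) := by
  funext j
  simp only [rc_sIdx, Finset.sum_apply, Pi.smul_apply, smul_eq_mul]
  rw [Finset.sum_eq_single j]
  · rw [Pi.single_eq_same, mul_one]
  · intro b _ hb
    rw [Pi.single_eq_of_ne hb.symm, mul_zero]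
  · intro h
    exact absurd (Finset.mem_univ j) h

theorem chiV_sum (x : Fin 8 → Kˣ) {ι : Type*} (s : Finset ι) (f : ι → Fin 8 → ℤ) :
    chiV x (∑ i ∈ s, f i) = ∏ i ∈ s, chiV x (f i) := by
  classical
  induction s using Finset.induction_on with
  | empty => rw [Finset.sum_empty, Finset.prod_empty, chiV_zero]
  | insert a s ha ih => rw [Finset.sum_insert ha, Finset.prod_insert ha, chiV_add, ih]

/-- `Cond` extends from the roots to the whole lattice -/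
theorem cond_all {q : ℕ} {M : Matrix (Fin 8) (Fin 8) ℤ} {x : Fin 8 → Kˣ} (h : Cond q M x) (y : Fin 8 → ℤ) :
    chiV x (M.mulVec y) = chiV x y ^ q := by
  conv_lhs => rw [vec_eq_sum y]
  conv_rhs => rw [vec_eq_sum y]
  rw [Matrix.mulVec_sum, chiV_sum, chiV_sum, ← Finset.prod_pow]
  refine Finset.prod_congr rfl fun i _ => ?_
  rw [Matrix.mulVec_smul, chiV_zsmul, chiV_zsmul, h _ (sIdx_lt i), ← zpow_natCast, ← zpow_natCast, ← zpow_mul,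
    ← zpow_mul, mul_comm]

/-- the converse -/
theorem cond_of_all {q : ℕ} {M : Matrix (Fin 8) (Fin 8) ℤ} {x : Fin 8 → Kˣ}
    (h : ∀ y : Fin 8 → ℤ, chiV x (M.mulVec y) = chiV x y ^ q) : Cond q M x :=
  fun v _ => h (rc v)

/-- the characters with `χ ∘ M = χ ^ q`, as a subgroup of `(Kˣ)⁸` -/
def condSubgroup (K : Type*) [Field K] (q : ℕ) (M : Matrix (Fin 8) (Fin 8) ℤ) : Subgroup (Fin 8 → Kˣ) where
  carrier := {x | Cond q M x}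
  one_mem' := fun v _ => by rw [chiV_one_left, chiV_one_left, one_pow]
  mul_mem' := by
    intro a b ha hb v hv
    rw [chiV_mul_left, chiV_mul_left, ha v hv, hb v hv, mul_pow]
  inv_mem' := by
    intro a ha v hv
    rw [chiV_inv_left, chiV_inv_left, ha v hv, inv_pow]

theorem mem_condSubgroup (q : ℕ) (M : Matrix (Fin 8) (Fin 8) ℤ) (x : Fin 8 → Kˣ) :
    x ∈ condSubgroup K q M ↔ Cond q M x := Iff.rfl

end K

end Cfsg.Agent.Helper20.E8T
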