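import Mathlib
import Cfsg.Agent.Lib.Helper20.E8TDefs

/-!
# S2372 piece CHIA (helper11's skeleton; proof by helper13): the diagonal entries of the elements of `T(K)`
-/

set_option autoImplicit false

namespace Cfsg.Agent.Helper20.E8T

open Cfsg Cfsg.Lie Cfsg.Agent.Lead.Chev Cfsg.Agent.Lead.Tw

section K

variable {K : Type*} [Field K]

theorem e8tchia_ev_eq (h : GL chevE8.Idx K) (c : ℕ → K)
    (hh : (h : Matrix chevE8.Idx chevE8.Idx K) = Tmat chevE8 c) (v : ℕ) (hv : v < chevE8.nroots) :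
    ev h v = chi chevE8 c v := by
  unfold ev
  rw [dif_pos hv, hh]
  unfold Tmat
  rw [Matrix.diagonal_apply_eq]
  rfl

theorem ev_one (v : ℕ) : ev (1 : GL chevE8.Idx K) v = 1 := by
  unfold ev
  split_ifs with h
  · rw [Units.val_one, Matrix.one_apply_eq]
  · rfl

theorem ev_mul (h h' : GL chevE8.Idx K) (hh : h ∈ chevE8.diagonalSubgroup K)
    (hh' : h' ∈ chevE8.diagonalSubgroup K) (v : ℕ) : ev (h * h') v = ev h v * ev h' v := by
  by_cases hv : v < chevE8.nroots
  · obtain ⟨c, hc, hhc⟩ := exists_Tmat_of_mem chevE8 (e8F K).hall h hh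
    obtain ⟨c', hc', hhc'⟩ := exists_Tmat_of_mem chevE8 (e8F K).hall h' hh'
    have hprod : ((h * h' : GL chevE8.Idx K) : Matrix chevE8.Idx chevE8.Idx K) =
        Tmat chevE8 (fun i => c i * c' i) := by
      rw [Units.val_mul, hhc, hhc', Tmat_mul]
    rw [e8tchia_ev_eq _ _ hprod v hv, e8tchia_ev_eq _ _ hhc v hv, e8tchia_ev_eq _ _ hhc' v hv, chi_mul]
  · unfold ev
    rw [dif_neg hv, dif_neg hv, dif_neg hv, mul_one]

theorem e8tchia_mul_inv (h : GL chevE8.Idx K) (hh : h ∈ chevE8.diagonalSubgroup K) (v : ℕ) :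
    ev h v * ev h⁻¹ v = 1 := by
  rw [← ev_mul h h⁻¹ hh (inv_mem hh), mul_inv_cancel, ev_one]

theorem ev_ne_zero (h : GL chevE8.Idx K) (hh : h ∈ chevE8.diagonalSubgroup K) (v : ℕ) : ev h v ≠ 0 := by
  intro h0
  have := e8tchia_mul_inv h hh v
  rw [h0, zero_mul] at this
  exact zero_ne_one this

theorem ev_inv (h : GL chevE8.Idx K) (hh : h ∈ chevE8.diagonalSubgroup K) (v : ℕ) :
    ev h⁻¹ v = (ev h v)⁻¹ :=
  eq_inv_of_mul_eq_one_right (e8tchia_mul_inv h hh v)

/-- `h x_v(s) h⁻¹ = x_v(χ_h(v) s)` -/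
theorem ev_conj (h : GL chevE8.Idx K) (hh : h ∈ chevE8.diagonalSubgroup K) (v : ℕ) (hv : v < 240) (s : K) :
    h * xGL chevE8 (e8F K).xadd v s * h⁻¹ = xGL chevE8 (e8F K).xadd v (ev h v * s) := by
  obtain ⟨c, hc, hhc⟩ := exists_Tmat_of_mem chevE8 (e8F K).hall h hh
  have hv' : v < chevE8.nroots := hv
  rw [e8tchia_ev_eq _ _ hhc v hv']
  rw [mul_inv_eq_iff_eq_mul]
  apply Units.ext
  rw [Units.val_mul, Units.val_mul, hhc, xGL_val, xGL_val]
  exact Tmat_conj chevE8 (e8F K).hconj v hv' c hc s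

/-- the field automorphism acts on the diagonal entries -/
theorem ev_sig (f : K ≃+* K) (g : GL chevE8.Idx K) (v : ℕ) : ev (sig f g) v = f (ev g v) := by
  unfold ev
  split_ifs with h
  · rw [Cfsg.Agent.S1080.Phi_coe, Matrix.map_apply]
  · rw [map_one]

theorem sig_mem_diagonal (f : K ≃+* K) (h : GL chevE8.Idx K) (hh : h ∈ chevE8.diagonalSubgroup K) :
    sig f h ∈ chevE8.diagonalSubgroup K := by
  have hle : chevE8.diagonalSubgroup K ≤ (chevE8.diagonalSubgroup K).comap (sig f).toMonoidHom := by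
    conv_lhs => unfold ChevalleyDatum.diagonalSubgroup
    rw [Subgroup.closure_le]
    rintro g ⟨r, t, hr, ht, hg⟩
    show sig f g ∈ chevE8.diagonalSubgroup K
    unfold ChevalleyDatum.diagonalSubgroup
    apply Subgroup.subset_closure
    refine ⟨r, f t, hr, (map_ne_zero f).2 ht, ?_⟩
    rw [Cfsg.Agent.S1080.Phi_coe, hg, (e8F K).hall r hr t ht, (e8F K).hall r hr (f t) ((map_ne_zero f).2 ht)]
    ext i j
    rw [Matrix.map_apply]
    by_cases hij : i = j
    · subst hij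
      rw [Matrix.diagonal_apply_eq, Matrix.diagonal_apply_eq]
      rcases i with i | i
      · simp
      · simp [map_zpow₀]
    · rw [Matrix.diagonal_apply_ne _ hij, Matrix.diagonal_apply_ne _ hij, map_zero]
  exact hle hh

end K

end Cfsg.Agent.Helper20.E8T
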