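import Mathlib
import Cfsg.Agent.Lib.Helper8.PGroup

set_option autoImplicit false

namespace Cfsg.Agent.Helper20

open scoped Pointwise

variable {G : Type*} [Group G]

/-- An involution normalizing a subgroup `H` of odd order normalizes some Sylow `p`-subgroup
of `H`. -/
theorem exists_invariant_sylow_of_odd [Finite G] (p : ℕ) [Fact p.Prime] (H : Subgroup G)
    (hodd : Odd (Nat.card H)) (t : G) (ht2 : t ^ 2 = 1)
    (htH : t ∈ Subgroup.normalizer (H : Set G)) :
    ∃ S : Subgroup G, S ≤ H ∧ IsPGroup p S ∧ Nat.card S = p ^ (Nat.card H).factorization p ∧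
      ∀ x ∈ S, t * x * t⁻¹ ∈ S := by
  have : Fact (Nat.Prime 2) := ⟨Nat.prime_two⟩
  let t' : Subgroup.normalizer (H : Set G) := ⟨t, htH⟩
  have ht'2 : t' ^ 2 = 1 := Subtype.ext (by simpa using ht2)
  have hZ : IsPGroup 2 (Subgroup.zpowers t') := by
    have hd : Nat.card (Subgroup.zpowers t') ∣ 2 := by
      rw [Nat.card_zpowers]; exact orderOf_dvd_of_pow_eq_one ht'2
    rcases (Nat.dvd_prime Nat.prime_two).mp hd with h | h
    · exact IsPGroup.of_card (n := 0) (by rw [h, pow_zero])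
    · exact IsPGroup.of_card (n := 1) (by rw [h, pow_one])
  have hcard : ¬ 2 ∣ Nat.card (Sylow p H) := by
    intro h2
    obtain ⟨P⟩ : Nonempty (Sylow p H) := inferInstance
    have h3 : Nat.card (Sylow p H) ∣ Nat.card H :=
      (Sylow.card_dvd_index P).trans (Subgroup.index_dvd_card _)
    have : 2 ∣ Nat.card H := h2.trans h3
    exact (Nat.not_even_iff_odd.mpr hodd) (even_iff_two_dvd.mpr this)
  obtain ⟨S₀, hS₀⟩ := IsPGroup.nonempty_fixed_point_of_prime_not_dvd_card hZ (Sylow p H) hcard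
  have hfix : t' • S₀ = S₀ := by
    have := hS₀ ⟨t', Subgroup.mem_zpowers t'⟩
    exact this
  refine ⟨(S₀ : Subgroup H).map H.subtype, Subgroup.map_subtype_le _, ?_, ?_, ?_⟩
  · exact S₀.isPGroup'.map _
  · rw [← S₀.card_eq_multiplicity]
    exact Nat.card_congr
      ((S₀ : Subgroup H).equivMapOfInjective H.subtype H.subtype_injective).symm.toEquiv
  · rintro _ ⟨s, hs, rfl⟩
    have h1 : t' • s ∈ t' • (S₀ : Subgroup H) := Subgroup.smul_mem_pointwise_smul _ _ _ hs
    rw [← Sylow.pointwise_smul_def, hfix] at h1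
    exact ⟨t' • s, h1, rfl⟩

/-- An involution acting fixed-point-freely on a finite subgroup inverts it. -/
theorem inverts_of_fixedPointFree_involution (Q : Subgroup G) [Finite Q] (t : G) (ht2 : t ^ 2 = 1)
    (htQ : ∀ x ∈ Q, t * x * t⁻¹ ∈ Q) (hfpf : ∀ x ∈ Q, t * x * t⁻¹ = x → x = 1) :
    ∀ x ∈ Q, t * x * t⁻¹ = x⁻¹ := by
  let φ : Q →* Q :=
    { toFun := fun x => ⟨t * x * t⁻¹, htQ x x.2⟩
      map_one' := Subtype.ext (by simp)
      map_mul' := fun x y => Subtype.ext (by simp) }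
  have hφ : MonoidHom.FixedPointFree φ := by
    intro x hx
    have := hfpf x x.2 (congrArg Subtype.val hx)
    exact Subtype.ext this
  have htinv : t⁻¹ = t := by
    rw [inv_eq_iff_mul_eq_one, ← pow_two, ht2]
  have h2 : Function.Involutive φ := by
    intro x
    apply Subtype.ext
    change t * (t * x * t⁻¹) * t⁻¹ = x
    calc t * (t * x * t⁻¹) * t⁻¹ = t ^ 2 * x * (t ^ 2)⁻¹ := by rw [pow_two]; group
      _ = x := by rw [ht2]; simp
  have key := hφ.coe_eq_inv_of_involutive h2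
  intro x hx
  have := congrFun key ⟨x, hx⟩
  exact congrArg Subtype.val this

/-- A `p`-subgroup of order `p ^ n` with `p ^ (n+1)` dividing `|G|` is normal in a `p`-subgroup of
order `p ^ (n+1)`. -/
theorem exists_normal_overgroup_pow_succ [Finite G] {p n : ℕ} [Fact p.Prime]
    (hdvd : p ^ (n + 1) ∣ Nat.card G) {Q : Subgroup G} (hQ : Nat.card Q = p ^ n) :
    ∃ R : Subgroup G, Nat.card R = p ^ (n + 1) ∧ Q ≤ R ∧
      R ≤ Subgroup.normalizer (Q : Set G) := by
  have hp : p.Prime := Fact.out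
  obtain ⟨R, hR, hQR⟩ := Sylow.exists_subgroup_card_pow_succ hdvd hQ
  refine ⟨R, hR, hQR, ?_⟩
  rw [← Subgroup.normal_subgroupOf_iff_le_normalizer hQR]
  apply Subgroup.normal_of_index_eq_minFac_card
  rw [hR, Nat.Prime.pow_minFac hp (Nat.succ_ne_zero n)]
  have h1 : (Q.subgroupOf R).index * Nat.card (Q.subgroupOf R) = Nat.card R :=
    (Q.subgroupOf R).index_mul_card
  have h2 : Nat.card (Q.subgroupOf R) = Nat.card Q :=
    Nat.card_congr (Subgroup.subgroupOfEquivOfLe hQR).toEquiv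
  rw [h2, hQ, hR, pow_succ] at h1
  have h3 : (Q.subgroupOf R).index * p ^ n = p * p ^ n := by rw [h1, mul_comm]
  exact Nat.eq_of_mul_eq_mul_right (pow_pos hp.pos n) h3

/-- A `p`-group `R` normalizing a nontrivial `p`-subgroup `Q ≤ R` centralizes a nonidentity element
of `Q`. -/
theorem exists_fixed_in_normal_pSubgroup [Finite G] {p : ℕ} [Fact p.Prime] {Q R : Subgroup G}
    (hR : IsPGroup p R) (hQR : Q ≤ R) (hRN : R ≤ Subgroup.normalizer (Q : Set G)) (hQ : Q ≠ ⊥) :
    ∃ y ∈ Q, y ≠ 1 ∧ ∀ r ∈ R, r * y = y * r := by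
  have hn : (Q.subgroupOf R).Normal := (Subgroup.normal_subgroupOf_iff_le_normalizer hQR).mpr hRN
  have hne : Q.subgroupOf R ≠ ⊥ := by
    intro h
    apply hQ
    rw [Subgroup.subgroupOf_eq_bot] at h
    rw [eq_bot_iff]
    intro x hx
    have : x ∈ Q ⊓ R := ⟨hx, hQR hx⟩
    rw [disjoint_iff.mp h] at this
    exact this
  obtain ⟨z, hzQ, hzc, hz1⟩ :=
    Cfsg.Agent.Helper8.exists_mem_center_of_normal_ne_bot hR (Q.subgroupOf R) hne
  refine ⟨(z : G), Subgroup.mem_subgroupOf.mp hzQ, ?_, ?_⟩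
  · intro h
    exact hz1 (Subtype.ext h)
  · intro r hr
    rw [Subgroup.mem_center_iff] at hzc
    have := hzc ⟨r, hr⟩
    exact congrArg Subtype.val this

end Cfsg.Agent.Helper20
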