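import Mathlib

set_option autoImplicit false

namespace Cfsg.Agent.Helper20

variable {G : Type*} [Group G]

/-- Every element of finite order is the product of a `p`-element and a `p'`-element, both powers
of it. -/
theorem exists_pPart_decomp (p : ℕ) [Fact p.Prime] (x : G) (hx : 0 < orderOf x) :
    ∃ u v : G, x = u * v ∧ u * v = v * u ∧ (∃ k : ℕ, orderOf u = p ^ k) ∧
      (orderOf v).Coprime p ∧ u ∈ Subgroup.zpowers x ∧ v ∈ Subgroup.zpowers x := by
  have hp : p.Prime := Fact.out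
  set n := orderOf x with hn
  have hn0 : n ≠ 0 := hx.ne'
  set k := n.factorization p with hk
  set m := ordCompl[p] n with hm
  have hnm : p ^ k * m = n := Nat.ordProj_mul_ordCompl_eq_self n p
  have hcop : Nat.Coprime p m := Nat.coprime_ordCompl hp hn0
  have hcop' : Nat.Coprime (p ^ k) m := Nat.Coprime.pow_left k hcop
  obtain ⟨α, β, hαβ⟩ : IsCoprime ((p ^ k : ℕ) : ℤ) (m : ℤ) := Nat.isCoprime_iff_coprime.mpr hcop'
  refine ⟨x ^ (β * m), x ^ (α * (p ^ k : ℕ)), ?_, ?_, ?_, ?_, ?_, ?_⟩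
  · rw [← zpow_add, add_comm, hαβ, zpow_one]
  · rw [← zpow_add, ← zpow_add, add_comm]
  · have h1 : (x ^ (β * m)) ^ (p ^ k) = 1 := by
      rw [← zpow_natCast, ← zpow_mul]
      have : β * (m : ℤ) * ((p ^ k : ℕ) : ℤ) = (n : ℤ) * β := by
        rw [← hnm]; push_cast; ring
      rw [this, zpow_mul, zpow_natCast, hn, pow_orderOf_eq_one, one_zpow]
    obtain ⟨j, -, hj⟩ := (Nat.dvd_prime_pow hp).mp (orderOf_dvd_of_pow_eq_one h1)
    exact ⟨j, hj⟩
  · have h1 : (x ^ (α * ((p ^ k : ℕ) : ℤ))) ^ m = 1 := by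
      rw [← zpow_natCast, ← zpow_mul]
      have : α * ((p ^ k : ℕ) : ℤ) * (m : ℤ) = (n : ℤ) * α := by
        rw [← hnm]; push_cast; ring
      rw [this, zpow_mul, zpow_natCast, hn, pow_orderOf_eq_one, one_zpow]
    exact Nat.Coprime.coprime_dvd_left (orderOf_dvd_of_pow_eq_one h1) hcop.symm
  · exact Subgroup.zpow_mem_zpowers x _
  · exact Subgroup.zpow_mem_zpowers x _

end Cfsg.Agent.Helper20
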