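import Mathlib
import Cfsg.Agent.Lib.Helper14.GAG40Defs

set_option autoImplicit false

/-!
# S4840 (Gagola, solvable case), piece CHAIN
-/

namespace Cfsg.Agent.Helper14.Gag40

open Cfsg
open scoped commutatorElement

section CHAIN
variable {p : ℕ} {X : Type*} [Group X]

/-- a `p`-element whose image in a quotient has order prime to `p` lies in the kernel -/
theorem chain_mem_of_coprime (Y : Subgroup X) [Y.Normal] {g : X}
    (hg : ∃ k : ℕ, orderOf g = p ^ k)
    (hc : (orderOf (QuotientGroup.mk' Y g)).Coprime p) : g ∈ Y := by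
  obtain ⟨k, hk⟩ := hg
  have h1 : orderOf (QuotientGroup.mk' Y g) ∣ p ^ k := by
    rw [← hk]
    exact orderOf_map_dvd _ g
  have h2 : (orderOf (QuotientGroup.mk' Y g)).Coprime (p ^ k) := Nat.Coprime.pow_right k hc
  have h3 : orderOf (QuotientGroup.mk' Y g) = 1 := Nat.Coprime.eq_one_of_dvd h2 h1
  rw [orderOf_eq_one_iff] at h3
  exact (QuotientGroup.eq_one_iff g).mp h3

theorem chain [Finite X] [hp : Fact p.Prime] (C Y : Subgroup X) [Y.Normal] (hCY : C ≤ Y)
    (h1 : ∀ y ∈ Y, (∃ k : ℕ, orderOf y = p ^ k) → y ∈ C)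
    (h2 : commutator X ≤ Y ∨ (Y.index).Coprime p) :
    (∀ P : Sylow p X, ⁅(P : Subgroup X), (P : Subgroup X)⁆ ≤ C) ∧
    (∀ g ∈ Cfsg.pResidual p X, (∃ k : ℕ, orderOf g = p ^ k) → g ∈ C) := by
  have hpp : p.Prime := hp.out
  -- elements of a Sylow `p`-subgroup are `p`-elements
  have hPel : ∀ P : Sylow p X, ∀ g ∈ (P : Subgroup X), ∃ k : ℕ, orderOf g = p ^ k := by
    intro P g hg
    obtain ⟨k, hk⟩ := (IsPGroup.iff_orderOf.mp P.isPGroup') ⟨g, hg⟩
    exact ⟨k, by rw [← hk, Subgroup.orderOf_mk]⟩
  have hPP : ∀ P : Sylow p X, ⁅(P : Subgroup X), (P : Subgroup X)⁆ ≤ (P : Subgroup X) := by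
    intro P
    rw [Subgroup.commutator_le]
    intro a ha b hb
    exact mul_mem (mul_mem (mul_mem ha hb) (inv_mem ha)) (inv_mem hb)
  rcases h2 with h2 | h2
  · refine ⟨?_, ?_⟩
    · intro P g hg
      have hgY : g ∈ Y := h2 (Subgroup.commutator_mono le_top le_top hg)
      exact h1 g hgY (hPel P g (hPP P hg))
    · -- the quotient is commutative
      have hcomm : ∀ a b : X ⧸ Y, a * b = b * a := by
        intro a b
        obtain ⟨a, rfl⟩ := QuotientGroup.mk_surjective a
        obtain ⟨b, rfl⟩ := QuotientGroup.mk_surjective b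
        rw [← QuotientGroup.mk_mul, ← QuotientGroup.mk_mul, QuotientGroup.eq]
        apply h2
        have : (a * b)⁻¹ * (b * a) = ⁅b⁻¹, a⁻¹⁆ := by
          rw [commutatorElement_def]; group
        rw [this]
        exact Subgroup.commutator_mem_commutator (Subgroup.mem_top _) (Subgroup.mem_top _)
      have key : ∀ g ∈ Cfsg.pResidual p X, (orderOf (QuotientGroup.mk' Y g)).Coprime p := by
        intro g hg
        unfold Cfsg.pResidual at hg
        induction hg using Subgroup.closure_induction with
        | mem x hx =>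
          exact Nat.Coprime.coprime_dvd_left (orderOf_map_dvd _ x) hx
        | one => rw [map_one, orderOf_one]; exact Nat.coprime_one_left p
        | mul x y _ _ hx hy =>
          rw [map_mul]
          have hc : Commute (QuotientGroup.mk' Y x) (QuotientGroup.mk' Y y) := hcomm _ _
          have hd := hc.orderOf_mul_dvd_lcm
          exact Nat.Coprime.coprime_dvd_left (hd.trans (Nat.lcm_dvd_mul _ _))
            (Nat.Coprime.mul_left hx hy)
        | inv x _ hx =>
          rw [map_inv, orderOf_inv]
          exact hx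
      intro g hg hgp
      exact h1 g (chain_mem_of_coprime Y hgp (key g hg)) hgp
  · -- every `p`-element lies in `Y`
    have hall : ∀ g : X, (∃ k : ℕ, orderOf g = p ^ k) → g ∈ C := by
      intro g hgp
      apply h1 g _ hgp
      apply chain_mem_of_coprime Y hgp
      have hd : orderOf (QuotientGroup.mk' Y g) ∣ Y.index := by
        rw [Subgroup.index_eq_card]
        exact orderOf_dvd_natCard _
      exact Nat.Coprime.coprime_dvd_left hd h2
    refine ⟨?_, ?_⟩
    · intro P g hg
      exact hall g (hPel P g (hPP P hg))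
    · intro g _ hgp
      exact hall g hgp

end CHAIN

end Cfsg.Agent.Helper14.Gag40
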