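import Mathlib
import Cfsg.Agent.Lib.Helper4.ThBRep
import Cfsg.Agent.Lib.Helper8.HHGlue3
import Cfsg.Agent.Lib.Helper14.Basic
import Cfsg.Agent.Lib.Helper23.BurnsideFrattini

/-!
# The representation of `G` on the Frattini quotient of a normal `p`-subgroup (helper20)

`secRho`: for a normal `p`-subgroup `V` of a finite group `G`, the action of `G` on
`V / Φ(V)` as a homomorphism into the linear automorphisms of a `ZMod p`-space; `(ρ(g) - 1)`
corresponds to `v ↦ [g, v]`; the kernel is `V` when `V = O_p(G)` contains its centraliser.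
-/

set_option autoImplicit false
set_option linter.unusedSectionVars false
set_option linter.style.haveILetI false

namespace Cfsg.Agent.Helper20.HHQ

open Cfsg Subgroup Cfsg.Agent.Helper8.HHLin Cfsg.Agent.Helper8.SecRep Cfsg.Agent.Helper4.ThB

universe u

section rho

variable {G : Type u} [Group G] [Finite G] {V Φ : Subgroup G} {p : ℕ} [hp : Fact p.Prime]
  (hsec : IsSec V Φ p) (hΓ : (⊤ : Subgroup G) ≤ nn V Φ)

/-- the action of `G` on the section, as a homomorphism to the linear automorphisms -/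
noncomputable def secRho : G →* (SecW hsec ≃ₗ[ZMod p] SecW hsec) :=
  (repEquiv (secLin₀ hsec ⊤ hΓ)).comp (Subgroup.topEquiv (G := G)).symm.toMonoidHom

include hΓ in
theorem conj_mem_of_top_le (g : G) {v : G} (hv : v ∈ V) : g * v * g⁻¹ ∈ V :=
  conj_mem_of_mem_normalizer (mem_nn.mp (hΓ (mem_top g))).1 hv

include hΓ in
theorem comm_mem_of_top_le (g : G) {v : G} (hv : v ∈ V) : g * v * g⁻¹ * v⁻¹ ∈ V :=
  V.mul_mem (conj_mem_of_top_le hΓ g hv) (V.inv_mem hv)

theorem secRho_mk (g : G) (v : ↥V) :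
    secRho hsec hΓ g (secMk hsec v) = secMk hsec ⟨g * v * g⁻¹, conj_mem_of_top_le hΓ g v.2⟩ := by
  have h1 := secLin₀_mk hsec ⊤ hΓ ⟨g, mem_top g⟩ v
  exact h1

theorem secRho_sub_one_mk (g : G) (v : ↥V) :
    (op (secRho hsec hΓ g) - 1) (secMk hsec v) =
      secMk hsec ⟨g * v * g⁻¹ * (v : G)⁻¹, comm_mem_of_top_le hΓ g v.2⟩ := by
  have h1 : (op (secRho hsec hΓ g) - 1) (secMk hsec v) =
      secRho hsec hΓ g (secMk hsec v) - secMk hsec v := rfl
  rw [h1, secRho_mk, sub_eq_add_neg, ← secMk_inv, ← secMk_mul]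
  rfl

theorem secRho_sub_one_eq_zero (g : G) (v : ↥V) (hgv : g * (v : G) = v * g) :
    (op (secRho hsec hΓ g) - 1) (secMk hsec v) = 0 := by
  rw [secRho_sub_one_mk, secMk_eq_zero]
  have : g * (v : G) * g⁻¹ * (v : G)⁻¹ = 1 := by
    rw [hgv]; group
  simp only [this]
  exact Φ.one_mem

theorem secRho_eq_one_iff (g : G) :
    secRho hsec hΓ g = 1 ↔ ∀ r ∈ V, g * r * g⁻¹ * r⁻¹ ∈ Φ := by
  have h1 := secLin₀_eq_one_iff hsec ⊤ hΓ ⟨g, mem_top g⟩
  rw [← h1]
  constructor
  · intro h
    have : op (secRho hsec hΓ g) = 1 := by rw [h]; rfl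
    exact this
  · intro h
    apply Cfsg.Agent.Helper4.ThB.op_injective
    show secLin₀ hsec ⊤ hΓ ⟨g, mem_top g⟩ = _
    rw [h]
    rfl

theorem le_ker_secRho : V ≤ (secRho hsec hΓ).ker := by
  intro v hv
  rw [MonoidHom.mem_ker, secRho_eq_one_iff]
  intro r hr
  exact hsec.comm v hv r hr

instance : Module.Finite (ZMod p) (SecW hsec) := Module.Finite.of_finite

end rho

section frat

variable {G : Type u} [Group G] [Finite G] {p : ℕ} [hp : Fact p.Prime]
  (V : Subgroup G) [hVn : V.Normal] (hVp : IsPGroup p ↥V)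

include hVp in
theorem fsec : IsSec V ((frattini ↥V).map V.subtype) p := isSec_frattini p V hVp

theorem ftop : (⊤ : Subgroup G) ≤ nn V ((frattini ↥V).map V.subtype) := by
  have h1 := normalizer_le_nn_frattini V
  rw [normalizer_eq_top_iff.mpr hVn] at h1
  exact h1

/-- the kernel of the action on `V / Φ(V)` is `V` when `V` is the largest normal `p`-subgroup and
contains its centraliser -/
theorem ker_secRho_le (hc : centralizer (V : Set G) ≤ V)
    (hmax : ∀ N : Subgroup G, N.Normal → IsPGroup p ↥N → N ≤ V) :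
    (secRho (fsec V hVp) (ftop V)).ker ≤ V := by
  set K := (secRho (fsec V hVp) (ftop V)).ker with hK
  haveI hKn : K.Normal := MonoidHom.normal_ker _
  apply hmax K hKn
  apply Cfsg.Agent.Helper14.isPGroup_of_pprime_elements_trivial
  rintro ⟨k, hk⟩ hcop
  rw [Subgroup.orderOf_mk] at hcop
  apply Subtype.ext
  show k = 1
  -- the cyclic group generated by `k` centralises `V`
  set A := zpowers k with hA
  have hcardA : (Nat.card ↥A).Coprime p := by
    rw [hA, Nat.card_zpowers]
    exact hcop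
  have hAsolv : Group.IsSolvable ↥A := by
    rw [hA]
    apply Group.isSolvable_of_comm
    rintro ⟨a, ha⟩ ⟨b, hb⟩
    apply Subtype.ext
    obtain ⟨i, rfl⟩ := mem_zpowers_iff.mp ha
    obtain ⟨j, rfl⟩ := mem_zpowers_iff.mp hb
    show k ^ i * k ^ j = k ^ j * k ^ i
    rw [← zpow_add, ← zpow_add, add_comm]
  have hAΦ : A ≤ normalizer (((frattini ↥V).map V.subtype : Subgroup G) : Set G) := by
    intro a _
    exact (mem_nn.mp (ftop V (mem_top a))).2
  have hact : ∀ a ∈ A, ∀ r ∈ V, a * r * a⁻¹ * r⁻¹ ∈ (frattini ↥V).map V.subtype := by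
    intro a ha
    have hak : a ∈ K := by
      obtain ⟨i, rfl⟩ := mem_zpowers_iff.mp ha
      exact K.zpow_mem hk i
    exact (secRho_eq_one_iff (fsec V hVp) (ftop V) a).mp hak
  have key := Cfsg.Agent.Helper23.centralizes_of_frattini V hVp A hcardA hAsolv hAΦ hact
  have hkc : k ∈ centralizer (V : Set G) := by
    rw [mem_centralizer_iff]
    intro v hv
    have := mem_centralizer_iff.mp (key hv) k (mem_zpowers k)
    exact this.symm
  have hkV : k ∈ V := hc hkc
  obtain ⟨e, he⟩ := (IsPGroup.iff_orderOf.mp hVp) ⟨k, hkV⟩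
  rw [Subgroup.orderOf_mk] at he
  rw [he] at hcop
  have : orderOf k = 1 := by
    rw [he]
    rcases Nat.eq_zero_or_pos e with h0 | hpos
    · rw [h0, pow_zero]
    · exfalso
      have h1 : p ∣ p ^ e := dvd_pow_self p hpos.ne'
      have h2 : p ∣ Nat.gcd (p ^ e) p := Nat.dvd_gcd h1 dvd_rfl
      rw [hcop] at h2
      exact hp.out.one_lt.ne' (Nat.dvd_one.mp h2)
  exact orderOf_eq_one_iff.mp this

end frat

end Cfsg.Agent.Helper20.HHQ
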