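import Mathlib
import Cfsg.Agent.Lib.Helper23.PSolvable
import Cfsg.Agent.Lib.Helper7.QPrimeCore

set_option autoImplicit false

namespace Cfsg.Agent.Helper20

open Cfsg

variable {H : Type*} [Group H]

/-- Elements of `O_{p',p}(H)` have a `p`-power power in `O_{p'}(H)`. -/
theorem exists_pow_mem_pPrimeCore (p : ℕ) [Fact p.Prime] {q : H} (hq : q ∈ pPrimePCore p H) :
    ∃ j : ℕ, q ^ p ^ j ∈ pPrimeCore p H := by
  haveI := Cfsg.Agent.Helper22.pPrimeCore_normal (G := H) p
  unfold pPrimePCore at hq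
  rw [Subgroup.mem_comap] at hq
  obtain ⟨j, hj⟩ := (Cfsg.Agent.Helper10.pCore_isPGroup (G := H ⧸ pPrimeCore p H) p) ⟨_, hq⟩
  refine ⟨j, ?_⟩
  have h1 : (QuotientGroup.mk' (pPrimeCore p H) q) ^ p ^ j = 1 := by
    have := congrArg Subtype.val hj
    simpa using this
  rw [← map_pow] at h1
  exact (QuotientGroup.eq_one_iff _).mp h1

/-- In a finite `p`-solvable group of order divisible by `p`, `O_{p',p}` contains an element of
order `p`. -/
theorem exists_orderOf_eq_mem_pPrimePCore [Finite H] (p : ℕ) [Fact p.Prime]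
    (hsolv : IsPSolvable p H) (hdiv : p ∣ Nat.card H) :
    ∃ y ∈ pPrimePCore p H, orderOf y = p := by
  have hp : p.Prime := Fact.out
  haveI hKn := Cfsg.Agent.Helper22.pPrimeCore_normal (G := H) p
  have hO := Cfsg.Agent.Helper23.PSolv.pPrimeCore_quotient_pPrimeCore (G := H) p
  have hs := Cfsg.Agent.Helper23.PSolv.isPSolvable_quotient (pPrimeCore p H) hsolv
  have hcent := Cfsg.Agent.Helper23.PSolv.centralizer_pCore_le hs hO
  have hne : pCore p (H ⧸ pPrimeCore p H) ≠ ⊥ := by
    intro hbot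
    rw [hbot] at hcent
    have htop : (⊤ : Subgroup (H ⧸ pPrimeCore p H)) ≤ ⊥ := by
      refine le_trans ?_ hcent
      intro x _
      rw [Subgroup.mem_centralizer_iff]
      intro y hy
      rw [SetLike.mem_coe, Subgroup.mem_bot] at hy
      rw [hy, one_mul, mul_one]
    have hsub : Subsingleton (H ⧸ pPrimeCore p H) := by
      constructor
      intro a b
      have ha : a ∈ (⊥ : Subgroup (H ⧸ pPrimeCore p H)) := htop (Subgroup.mem_top a)
      have hb : b ∈ (⊥ : Subgroup (H ⧸ pPrimeCore p H)) := htop (Subgroup.mem_top b)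
      rw [Subgroup.mem_bot] at ha hb
      rw [ha, hb]
    have hidx : (pPrimeCore p H).index = 1 := by
      rw [Subgroup.index_eq_card]
      exact Nat.card_unique
    have hcard := Subgroup.card_mul_index (pPrimeCore p H)
    rw [hidx, mul_one] at hcard
    have hcop := Cfsg.Agent.Helper22.card_pPrimeCore_coprime (G := H) p
    rw [hcard] at hcop
    exact hp.one_lt.ne' (Nat.Coprime.eq_one_of_dvd hcop.symm hdiv)
  have hPg := Cfsg.Agent.Helper10.pCore_isPGroup (G := H ⧸ pPrimeCore p H) p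
  haveI : Nontrivial (pCore p (H ⧸ pPrimeCore p H)) :=
    (Subgroup.nontrivial_iff_ne_bot _).mpr hne
  obtain ⟨k, hk⟩ := IsPGroup.iff_card.mp hPg
  have hk0 : k ≠ 0 := by
    intro h0
    rw [h0, pow_zero] at hk
    have := Finite.one_lt_card_iff_nontrivial.mpr ‹Nontrivial (pCore p (H ⧸ pPrimeCore p H))›
    omega
  have hpd : p ∣ Nat.card (pCore p (H ⧸ pPrimeCore p H)) := by
    rw [hk]; exact dvd_pow_self p hk0
  obtain ⟨⟨ybar, hybar⟩, hyo⟩ := exists_prime_orderOf_dvd_card' p hpd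
  rw [Subgroup.orderOf_mk] at hyo
  obtain ⟨y0, rfl⟩ := QuotientGroup.mk_surjective ybar
  have hy0 : y0 ∈ pPrimePCore p H := by
    unfold pPrimePCore
    rw [Subgroup.mem_comap]
    exact hybar
  have hdvd : p ∣ orderOf y0 := by
    rw [← hyo]
    exact orderOf_map_dvd (QuotientGroup.mk' (pPrimeCore p H)) y0
  refine ⟨y0 ^ (orderOf y0 / p), Subgroup.pow_mem _ hy0 _, ?_⟩
  exact orderOf_pow_orderOf_div (orderOf_pos y0).ne' hdvd

end Cfsg.Agent.Helper20
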