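import Mathlib

set_option autoImplicit false

namespace Cfsg.Agent.Helper20.MinInv

open scoped commutatorElement

section Basic

variable {G : Type*} [Group G]

theorem comm_le_of_le_normalizer {Q A : Subgroup G}
    (hA : A ≤ Subgroup.normalizer (Q : Set G)) : ⁅Q, A⁆ ≤ Q := by
  rw [Subgroup.commutator_le]
  intro q hq a ha
  have h1 : a * q⁻¹ * a⁻¹ ∈ Q :=
    (Subgroup.mem_normalizer_iff.mp (hA ha) q⁻¹).mp (Q.inv_mem hq)
  have : ⁅q, a⁆ = q * (a * q⁻¹ * a⁻¹) := by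
    simp only [commutatorElement_def]; group
  rw [this]
  exact Q.mul_mem hq h1

theorem normalizer_inf_le_normalizer_comm (X Y : Subgroup G) :
    Subgroup.normalizer (X : Set G) ⊓ Subgroup.normalizer (Y : Set G) ≤
      Subgroup.normalizer ((⁅X, Y⁆ : Subgroup G) : Set G) := by
  intro g hg
  simp_rw [Subgroup.mem_inf, Subgroup.mem_normalizer_iff_map_conj_eq] at hg ⊢
  rw [Subgroup.map_commutator, hg.1, hg.2]

theorem normalizer_le_normalizer_centralizer (X : Subgroup G) :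
    Subgroup.normalizer (X : Set G) ≤
      Subgroup.normalizer ((Subgroup.centralizer (X : Set G) : Subgroup G) : Set G) := by
  intro g hg
  rw [Subgroup.mem_normalizer_iff] at hg
  have key : ∀ g : G, (∀ x, x ∈ X ↔ g * x * g⁻¹ ∈ X) →
      ∀ c ∈ Subgroup.centralizer (X : Set G), g * c * g⁻¹ ∈ Subgroup.centralizer (X : Set G) := by
    intro g hg c hc
    rw [Subgroup.mem_centralizer_iff] at hc ⊢
    intro x hx
    have hx' : g⁻¹ * x * g ∈ X := by
      have := (hg (g⁻¹ * x * g)).mpr (by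
        have : g * (g⁻¹ * x * g) * g⁻¹ = x := by group
        rw [this]; exact hx)
      exact this
    have h := hc _ hx'
    calc x * (g * c * g⁻¹) = g * ((g⁻¹ * x * g) * c) * g⁻¹ := by group
      _ = g * (c * (g⁻¹ * x * g)) * g⁻¹ := by rw [h]
      _ = g * c * g⁻¹ * x := by group
  rw [Subgroup.mem_normalizer_iff]
  intro c
  constructor
  · exact key g hg c
  · intro hc
    have hg' : ∀ x, x ∈ X ↔ g⁻¹ * x * g⁻¹⁻¹ ∈ X := by
      intro x
      rw [hg (g⁻¹ * x * g⁻¹⁻¹)]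
      have : g * (g⁻¹ * x * g⁻¹⁻¹) * g⁻¹ = x := by group
      rw [this]
    have := key g⁻¹ hg' _ hc
    have h2 : g⁻¹ * (g * c * g⁻¹) * g⁻¹⁻¹ = c := by group
    rwa [h2] at this

theorem conj_pow_eq_mul_pow' (a x z : G) (hz : a * x * a⁻¹ = x * z) (hza : a * z * a⁻¹ = z) :
    ∀ k : ℕ, a ^ k * x * (a ^ k)⁻¹ = x * z ^ k
  | 0 => by simp
  | k + 1 => by
    have ih := conj_pow_eq_mul_pow' a x z hz hza k
    have hzk : a * z ^ k * a⁻¹ = z ^ k := by
      have : a * z ^ k * a⁻¹ = (a * z * a⁻¹) ^ k := by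
        rw [conj_pow]
      rw [this, hza]
    calc a ^ (k + 1) * x * (a ^ (k + 1))⁻¹ = a * (a ^ k * x * (a ^ k)⁻¹) * a⁻¹ := by
          rw [pow_succ']; group
      _ = a * (x * z ^ k) * a⁻¹ := by rw [ih]
      _ = (a * x * a⁻¹) * (a * z ^ k * a⁻¹) := by group
      _ = x * z * z ^ k := by rw [hz, hzk]
      _ = x * z ^ (k + 1) := by rw [pow_succ']; group

theorem conj_eq_self_of_coprime' (a x : G) (hfin : IsOfFinOrder a)
    (hza : a * (x⁻¹ * (a * x * a⁻¹)) * a⁻¹ = x⁻¹ * (a * x * a⁻¹))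
    (hcop : (orderOf a).Coprime (orderOf (x⁻¹ * (a * x * a⁻¹)))) : a * x * a⁻¹ = x := by
  set z := x⁻¹ * (a * x * a⁻¹) with hz
  have h1 : a * x * a⁻¹ = x * z := by rw [hz]; group
  have h2 := conj_pow_eq_mul_pow' a x z h1 hza (orderOf a)
  rw [pow_orderOf_eq_one] at h2
  have h3 : z ^ orderOf a = 1 := by
    have : x * z ^ orderOf a = x := by rw [← h2]; group
    exact mul_eq_left.mp this
  have h4 : orderOf z ∣ orderOf a := orderOf_dvd_of_pow_eq_one h3
  have h5 : orderOf z = 1 := Nat.Coprime.eq_one_of_dvd hcop.symm h4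
  rw [orderOf_eq_one_iff] at h5
  rw [h1, h5, mul_one]

/-- If `A` centralizes `⁅Q, A⁆` and the orders are coprime, `A` centralizes `Q`. -/
theorem le_centralizer_of_comm_comm_eq_bot [Finite G] {Q A : Subgroup G}
    (hcop : (Nat.card A).Coprime (Nat.card Q))
    (hAQ : A ≤ Subgroup.normalizer (Q : Set G))
    (h : ⁅⁅Q, A⁆, A⁆ = ⊥) : Q ≤ Subgroup.centralizer (A : Set G) := by
  intro x hx
  rw [Subgroup.mem_centralizer_iff]
  intro a ha
  have hxa : x⁻¹ * (a * x * a⁻¹) ∈ ⁅Q, A⁆ := by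
    have : x⁻¹ * (a * x * a⁻¹) = ⁅x⁻¹, a⁆ := by
      simp only [commutatorElement_def]; group
    rw [this]
    exact Subgroup.commutator_mem_commutator (Q.inv_mem hx) ha
  have hzQ : x⁻¹ * (a * x * a⁻¹) ∈ Q := comm_le_of_le_normalizer hAQ hxa
  have hcen : ⁅Q, A⁆ ≤ Subgroup.centralizer (A : Set G) :=
    (Subgroup.commutator_eq_bot_iff_le_centralizer).mp h
  have hza : a * (x⁻¹ * (a * x * a⁻¹)) * a⁻¹ = x⁻¹ * (a * x * a⁻¹) := by
    have := (Subgroup.mem_centralizer_iff.mp (hcen hxa)) a ha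
    rw [this]; group
  have ho1 : orderOf a ∣ Nat.card A := Subgroup.orderOf_dvd_natCard A ha
  have ho2 : orderOf (x⁻¹ * (a * x * a⁻¹)) ∣ Nat.card Q := Subgroup.orderOf_dvd_natCard Q hzQ
  have hc : (orderOf a).Coprime (orderOf (x⁻¹ * (a * x * a⁻¹))) :=
    Nat.Coprime.coprime_dvd_left ho1 (Nat.Coprime.coprime_dvd_right ho2 hcop)
  have := conj_eq_self_of_coprime' a x (isOfFinOrder_of_finite a) hza hc
  calc a * x = a * x * a⁻¹ * a := by group
    _ = x * a := by rw [this]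

/-- commutator power identity when the commutator commutes with `a` -/
theorem comm_pow_of_commute (a b : G) (h : ⁅a, b⁆ * a = a * ⁅a, b⁆) (n : ℕ) :
    ⁅a ^ n, b⁆ = ⁅a, b⁆ ^ n := by
  have key : ∀ n : ℕ, a ^ n * b * (a ^ n)⁻¹ = ⁅a, b⁆ ^ n * b := by
    intro n
    induction n with
    | zero => simp
    | succ n ih =>
      have hc : a * ⁅a, b⁆ ^ n * a⁻¹ = ⁅a, b⁆ ^ n := by
        have : a * ⁅a, b⁆ ^ n * a⁻¹ = (a * ⁅a, b⁆ * a⁻¹) ^ n := by rw [conj_pow]
        rw [this, ← h, mul_inv_cancel_right]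
      calc a ^ (n + 1) * b * (a ^ (n + 1))⁻¹ = a * (a ^ n * b * (a ^ n)⁻¹) * a⁻¹ := by
            rw [pow_succ']; group
        _ = a * (⁅a, b⁆ ^ n * b) * a⁻¹ := by rw [ih]
        _ = (a * ⁅a, b⁆ ^ n * a⁻¹) * (a * b * a⁻¹ * b⁻¹) * b := by group
        _ = ⁅a, b⁆ ^ n * ⁅a, b⁆ * b := by rw [hc, commutatorElement_def]
        _ = ⁅a, b⁆ ^ (n + 1) * b := by rw [pow_succ]
  rw [commutatorElement_def, key n, mul_inv_cancel_right]

end Basic


section NormMap

variable {G : Type*} [Group G] (Q P : Subgroup G)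

/-- conjugation by an element of the normalizer, as an endomorphism of `↥Q` -/
def conjHom (g : G) (hg : g ∈ Subgroup.normalizer (Q : Set G)) : ↥Q →* ↥Q where
  toFun a := ⟨g * a * g⁻¹, (Subgroup.mem_normalizer_iff.mp hg a).mp a.2⟩
  map_one' := by
    apply Subtype.ext
    simp
  map_mul' a b := by
    apply Subtype.ext
    show g * (a * b : G) * g⁻¹ = (g * a * g⁻¹) * (g * b * g⁻¹)
    group

theorem conjHom_coe (g : G) (hg : g ∈ Subgroup.normalizer (Q : Set G)) (a : ↥Q) :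
    ((conjHom Q g hg a : ↥Q) : G) = g * a * g⁻¹ := rfl

variable [Finite G] (hPQ : P ≤ Subgroup.normalizer (Q : Set G))

/-- the norm map into the abelianization -/
noncomputable def nrm : ↥Q →* Abelianization ↥Q :=
  letI := Fintype.ofFinite ↥P
  ∏ g : ↥P, (Abelianization.of).comp (conjHom Q g.1 (hPQ g.2))

theorem nrm_apply (a : ↥Q) :
    letI := Fintype.ofFinite ↥P
    nrm Q P hPQ a = ∏ g : ↥P, Abelianization.of (conjHom Q g.1 (hPQ g.2) a) := by
  unfold nrm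
  rw [MonoidHom.finsetProd_apply]
  rfl

theorem nrm_conj (h : G) (hh : h ∈ P) (a : ↥Q) :
    nrm Q P hPQ (conjHom Q h (hPQ hh) a) = nrm Q P hPQ a := by
  letI := Fintype.ofFinite ↥P
  rw [nrm_apply, nrm_apply]
  refine Fintype.prod_equiv (Equiv.mulRight (⟨h, hh⟩ : ↥P)) _ _ ?_
  intro g
  congr 1
  apply Subtype.ext
  simp only [conjHom_coe, Equiv.coe_mulRight, Subgroup.coe_mul]
  group

theorem nrm_fixed (a : ↥Q) (ha : (a : G) ∈ Subgroup.centralizer (P : Set G)) :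
    nrm Q P hPQ a = Abelianization.of a ^ Nat.card P := by
  letI := Fintype.ofFinite ↥P
  rw [nrm_apply]
  have : ∀ g : ↥P, conjHom Q g.1 (hPQ g.2) a = a := by
    intro g
    apply Subtype.ext
    rw [conjHom_coe]
    have := (Subgroup.mem_centralizer_iff.mp ha) g.1 g.2
    rw [this]; group
  simp only [this, Finset.prod_const, Finset.card_univ, Nat.card_eq_fintype_card]

theorem comm_le_ker_nrm : ⁅Q, P⁆ ≤ (nrm Q P hPQ).ker.map Q.subtype := by
  rw [Subgroup.commutator_le]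
  intro a ha h hh
  have hmem : ⁅a, h⁆ ∈ Q := comm_le_of_le_normalizer hPQ (Subgroup.commutator_mem_commutator ha hh)
  refine ⟨⟨⁅a, h⁆, hmem⟩, ?_, rfl⟩
  have e : (⟨⁅a, h⁆, hmem⟩ : ↥Q) = ⟨a, ha⟩ * (conjHom Q h (hPQ hh) ⟨a, ha⟩)⁻¹ := by
    apply Subtype.ext
    show ⁅a, h⁆ = a * (h * a * h⁻¹)⁻¹
    simp only [commutatorElement_def]; group
  show ⟨⁅a, h⁆, hmem⟩ ∈ (nrm Q P hPQ).ker
  rw [MonoidHom.mem_ker, e, map_mul, map_inv, nrm_conj Q P hPQ h hh, mul_inv_cancel]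

include hPQ in
/-- coprime action with `⁅Q, P⁆ = Q`: the fixed points lie in the derived subgroup. -/
theorem inf_centralizer_le_commutator (hcop : (Nat.card P).Coprime (Nat.card Q))
    (hQP : ⁅Q, P⁆ = Q) : Q ⊓ Subgroup.centralizer (P : Set G) ≤ ⁅Q, Q⁆ := by
  intro z hz
  obtain ⟨hzQ, hzP⟩ := Subgroup.mem_inf.mp hz
  have h1 : z ∈ (nrm Q P hPQ).ker.map Q.subtype := comm_le_ker_nrm Q P hPQ (by rw [hQP]; exact hzQ)
  obtain ⟨z', hz', hzz⟩ := h1
  have hz'eq : z' = ⟨z, hzQ⟩ := Subtype.ext hzz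
  subst hz'eq
  replace hz' : (⟨z, hzQ⟩ : ↥Q) ∈ (nrm Q P hPQ).ker := hz'
  rw [MonoidHom.mem_ker, nrm_fixed Q P hPQ _ hzP] at hz'
  have h2 : Abelianization.of (⟨z, hzQ⟩ : ↥Q) ^ Nat.card Q = 1 := by
    rw [← map_pow, pow_card_eq_one', map_one]
  have h3 : orderOf (Abelianization.of (⟨z, hzQ⟩ : ↥Q)) ∣ 1 := by
    rw [← Nat.Coprime.gcd_eq_one hcop]
    exact Nat.dvd_gcd (orderOf_dvd_of_pow_eq_one hz') (orderOf_dvd_of_pow_eq_one h2)
  have h4 : Abelianization.of (⟨z, hzQ⟩ : ↥Q) = 1 := orderOf_eq_one_iff.mp (Nat.dvd_one.mp h3)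
  have h5 : (⟨z, hzQ⟩ : ↥Q) ∈ commutator ↥Q := by
    rw [← Abelianization.ker_of, MonoidHom.mem_ker]; exact h4
  rw [← Subgroup.map_subtype_commutator]
  exact ⟨⟨z, hzQ⟩, h5, rfl⟩

end NormMap


section Agemo

variable {G : Type*} [Group G] [Finite G]

/-- the subgroup generated by the `q`-th powers of a nontrivial `q`-group is proper -/
theorem agemo_lt {q : ℕ} [Fact q.Prime] (Q : Subgroup G) (hQ : IsPGroup q ↥Q) (hne : Q ≠ ⊥) :
    Subgroup.closure {x : G | ∃ a ∈ Q, x = a ^ q} < Q := by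
  obtain ⟨n, hn⟩ := IsPGroup.iff_card.mp hQ
  have hn0 : n ≠ 0 := by
    rintro rfl
    rw [pow_zero] at hn
    exact hne (Subgroup.card_eq_one.mp hn)
  obtain ⟨m, rfl⟩ := Nat.exists_eq_succ_of_ne_zero hn0
  have hqpos : 0 < q := (Fact.out : q.Prime).pos
  obtain ⟨K, hK⟩ := Sylow.exists_subgroup_card_pow_prime (G := ↥Q) q (n := m)
    (by rw [hn]; exact pow_dvd_pow q (Nat.le_succ m))
  have hidx : K.index = q := by
    have := K.card_mul_index
    rw [hK, hn, pow_succ] at this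
    exact Nat.eq_of_mul_eq_mul_left (pow_pos hqpos m) this
  haveI : K.Normal := Subgroup.normal_of_index_eq_minFac_card (by
    rw [hidx, hn, Nat.Prime.pow_minFac Fact.out (Nat.succ_ne_zero m)])
  have hpow : ∀ a : ↥Q, a ^ q ∈ K := by
    intro a
    rw [← QuotientGroup.eq_one_iff, QuotientGroup.mk_pow]
    have : Nat.card (↥Q ⧸ K) = q := by rw [← Subgroup.index_eq_card, hidx]
    rw [← this]; exact pow_card_eq_one'
  have hle : Subgroup.closure {x : G | ∃ a ∈ Q, x = a ^ q} ≤ K.map Q.subtype := by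
    rw [Subgroup.closure_le]
    rintro x ⟨a, ha, rfl⟩
    exact ⟨⟨a, ha⟩ ^ q, hpow _, by simp⟩
  refine lt_of_le_of_ne (hle.trans (Subgroup.map_subtype_le K)) ?_
  intro heq
  have h1 : Q ≤ K.map Q.subtype := by
    calc Q = Subgroup.closure {x : G | ∃ a ∈ Q, x = a ^ q} := heq.symm
      _ ≤ K.map Q.subtype := hle
  have h2 : Nat.card (K.map Q.subtype) = q ^ m := by
    rw [Subgroup.card_map_of_injective Q.subtype_injective, hK]
  have h3 := Subgroup.card_le_of_le h1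
  rw [hn, h2] at h3
  have h4 : q ^ m < q ^ m.succ := Nat.pow_lt_pow_right (Fact.out : q.Prime).one_lt (Nat.lt_succ_self m)
  omega

end Agemo


section Main

variable {G : Type*} [Group G] [Finite G]

omit [Finite G] in
/-- a nontrivial nilpotent subgroup is not perfect -/
theorem commutator_ne_self_of_isNilpotent {Q : Subgroup G} (hnil : Group.IsNilpotent ↥Q)
    (hQ : Q ≠ ⊥) : ⁅Q, Q⁆ ≠ Q := by
  intro h
  obtain ⟨c, hc⟩ := (Subgroup.isNilpotent_iff_lowerCentralSeries Q).mp hnil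
  have key : ∀ k, Q.lowerCentralSeries k = Q := by
    intro k
    induction k with
    | zero => rfl
    | succ k ih => rw [Subgroup.lowerCentralSeries_succ, ih, h]
  rw [key c] at hc
  exact hQ hc

omit [Finite G] in
theorem conj_mem_agemo {q : ℕ} (Q : Subgroup G) {g : G}
    (hg : g ∈ Subgroup.normalizer (Q : Set G)) {x : G}
    (hx : x ∈ Subgroup.closure {x : G | ∃ a ∈ Q, x = a ^ q}) :
    g * x * g⁻¹ ∈ Subgroup.closure {x : G | ∃ a ∈ Q, x = a ^ q} := by
  induction hx using Subgroup.closure_induction with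
  | mem y hy =>
    obtain ⟨a, ha, rfl⟩ := hy
    apply Subgroup.subset_closure
    exact ⟨g * a * g⁻¹, (Subgroup.mem_normalizer_iff.mp hg a).mp ha, by rw [conj_pow]⟩
  | one => simp
  | mul y z _ _ hy hz =>
    have : g * (y * z) * g⁻¹ = (g * y * g⁻¹) * (g * z * g⁻¹) := by group
    rw [this]; exact Subgroup.mul_mem _ hy hz
  | inv y _ hy =>
    have : g * y⁻¹ * g⁻¹ = (g * y * g⁻¹)⁻¹ := by group
    rw [this]; exact Subgroup.inv_mem _ hy

omit [Finite G] in
theorem normalizer_le_normalizer_agemo {q : ℕ} (Q : Subgroup G) :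
    Subgroup.normalizer (Q : Set G) ≤
      Subgroup.normalizer ((Subgroup.closure {x : G | ∃ a ∈ Q, x = a ^ q} : Subgroup G) : Set G) := by
  intro g hg
  rw [Subgroup.mem_normalizer_iff]
  intro x
  constructor
  · exact conj_mem_agemo Q hg
  · intro hx
    have := conj_mem_agemo Q (Subgroup.inv_mem _ hg) hx
    have h2 : g⁻¹ * (g * x * g⁻¹) * g⁻¹⁻¹ = x := by group
    rwa [h2] at this

theorem minimal_structure {p q : ℕ} [Fact p.Prime] [Fact q.Prime] (hpq : p ≠ q)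
    (Q₁ P₁ Γ : Subgroup G) (hQ : IsPGroup q ↥Q₁) (hP : IsPGroup p ↥P₁) (hPΓ : P₁ ≤ Γ)
    (hΓP : Γ ≤ Subgroup.normalizer (P₁ : Set G)) (hΓQ : Γ ≤ Subgroup.normalizer (Q₁ : Set G))
    (hnc : ¬ P₁ ≤ Subgroup.centralizer (Q₁ : Set G))
    (hmin : ∀ N : Subgroup G, N < Q₁ → Γ ≤ Subgroup.normalizer (N : Set G) →
      P₁ ≤ Subgroup.centralizer (N : Set G)) :
    ⁅Q₁, P₁⁆ = Q₁ ∧
      ((IsMulCommutative ↥Q₁ ∧ ∀ a ∈ Q₁, a ^ q = 1) ∨
        (¬ IsMulCommutative ↥Q₁ ∧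
          P₁ ≤ Subgroup.centralizer ((Q₁ ⊓ Subgroup.centralizer (Q₁ : Set G) : Subgroup G) : Set G) ∧
          ⁅Q₁, Q₁⁆ = Q₁ ⊓ Subgroup.centralizer (Q₁ : Set G) ∧
          (∀ a ∈ Q₁ ⊓ Subgroup.centralizer (Q₁ : Set G), a ^ q = 1) ∧
          ∀ a ∈ Q₁, a ^ q ∈ Q₁ ⊓ Subgroup.centralizer (Q₁ : Set G))) := by
  have hPQ : P₁ ≤ Subgroup.normalizer (Q₁ : Set G) := hPΓ.trans hΓQ
  have hcop : (Nat.card P₁).Coprime (Nat.card Q₁) :=
    IsPGroup.coprime_card_of_ne p q hpq P₁ Q₁ hP hQ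
  -- symmetric form of centralizing
  have cent_symm : ∀ {X Y : Subgroup G}, X ≤ Subgroup.centralizer (Y : Set G) →
      Y ≤ Subgroup.centralizer (X : Set G) := by
    intro X Y h
    rw [← Subgroup.commutator_eq_bot_iff_le_centralizer] at h ⊢
    rw [Subgroup.commutator_comm]; exact h
  -- (a) ⁅Q₁, P₁⁆ = Q₁
  have hQP : ⁅Q₁, P₁⁆ = Q₁ := by
    by_contra hne
    have hle : ⁅Q₁, P₁⁆ ≤ Q₁ := comm_le_of_le_normalizer hPQ
    have hΓN : Γ ≤ Subgroup.normalizer ((⁅Q₁, P₁⁆ : Subgroup G) : Set G) :=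
      (le_inf hΓQ hΓP).trans (normalizer_inf_le_normalizer_comm Q₁ P₁)
    have h1 := hmin _ (lt_of_le_of_ne hle hne) hΓN
    have h2 : ⁅⁅Q₁, P₁⁆, P₁⁆ = ⊥ :=
      (Subgroup.commutator_eq_bot_iff_le_centralizer).mpr (cent_symm h1)
    exact hnc (cent_symm (le_centralizer_of_comm_comm_eq_bot hcop hPQ h2))
  refine ⟨hQP, ?_⟩
  have hQne : Q₁ ≠ ⊥ := by
    rintro rfl
    apply hnc
    intro x _
    rw [Subgroup.mem_centralizer_iff]
    intro y hy
    have : y = 1 := hy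
    rw [this, one_mul, mul_one]
  -- the subgroup generated by q-th powers
  set ℧ : Subgroup G := Subgroup.closure {x : G | ∃ a ∈ Q₁, x = a ^ q} with h℧
  have h℧lt : ℧ < Q₁ := agemo_lt Q₁ hQ hQne
  have hΓ℧ : Γ ≤ Subgroup.normalizer (℧ : Set G) :=
    hΓQ.trans (normalizer_le_normalizer_agemo Q₁)
  have hP℧ : P₁ ≤ Subgroup.centralizer (℧ : Set G) := hmin ℧ h℧lt hΓ℧
  have hpow℧ : ∀ a ∈ Q₁, a ^ q ∈ ℧ := fun a ha => Subgroup.subset_closure ⟨a, ha, rfl⟩
  by_cases hab : IsMulCommutative ↥Q₁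
  · left
    refine ⟨hab, ?_⟩
    have hcomm : ∀ a ∈ Q₁, ∀ b ∈ Q₁, a * b = b * a := by
      intro a ha b hb
      have := Subgroup.le_centralizer_iff_isMulCommutative.mpr hab
      exact ((Subgroup.mem_centralizer_iff.mp (this hb)) a ha)
    -- all of Q₁ = ⁅Q₁, P₁⁆ has exponent q
    have key : ∀ x ∈ ⁅Q₁, P₁⁆, x ∈ Q₁ ∧ x ^ q = 1 := by
      intro x hx
      rw [Subgroup.commutator_def] at hx
      induction hx using Subgroup.closure_induction with
      | mem y hy =>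
        obtain ⟨a, ha, g, hg, rfl⟩ := hy
        have hmem : g * a⁻¹ * g⁻¹ ∈ Q₁ :=
          (Subgroup.mem_normalizer_iff.mp (hPQ hg) a⁻¹).mp (Q₁.inv_mem ha)
        have e : ⁅a, g⁆ = a * (g * a⁻¹ * g⁻¹) := by
          simp only [commutatorElement_def]; group
        refine ⟨by rw [e]; exact Q₁.mul_mem ha hmem, ?_⟩
        have hc : Commute a (g * a⁻¹ * g⁻¹) := hcomm a ha _ hmem
        rw [e, hc.mul_pow, conj_pow, inv_pow]
        have h1 : g * (a ^ q)⁻¹ * g⁻¹ = (a ^ q)⁻¹ := by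
          have := (Subgroup.mem_centralizer_iff.mp (hP℧ hg)) _ (℧.inv_mem (hpow℧ a ha))
          rw [← this]; group
        rw [h1, mul_inv_cancel]
      | one => exact ⟨Q₁.one_mem, one_pow q⟩
      | mul y z _ _ hy hz =>
        refine ⟨Q₁.mul_mem hy.1 hz.1, ?_⟩
        have hc : Commute y z := hcomm y hy.1 z hz.1
        rw [hc.mul_pow, hy.2, hz.2, one_mul]
      | inv y _ hy =>
        exact ⟨Q₁.inv_mem hy.1, by rw [inv_pow, hy.2, inv_one]⟩
    intro a ha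
    exact (key a (by rw [hQP]; exact ha)).2
  · right
    refine ⟨hab, ?_⟩
    set Z : Subgroup G := Q₁ ⊓ Subgroup.centralizer (Q₁ : Set G) with hZ
    have hZle : Z ≤ Q₁ := inf_le_left
    have hZne : Z ≠ Q₁ := by
      intro h
      apply hab
      apply Subgroup.le_centralizer_iff_isMulCommutative.mp
      calc Q₁ = Z := h.symm
        _ ≤ Subgroup.centralizer (Q₁ : Set G) := inf_le_right
    have hΓZ : Γ ≤ Subgroup.normalizer (Z : Set G) := by
      intro g hg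
      have h1 := hΓQ hg
      have h2 := normalizer_le_normalizer_centralizer Q₁ h1
      rw [Subgroup.mem_normalizer_iff_map_conj_eq] at h1 h2 ⊢
      rw [hZ, Subgroup.map_inf_eq _ _ _ (MulAut.conj g).injective, h1, h2]
    have hPZ : P₁ ≤ Subgroup.centralizer (Z : Set G) := hmin Z (lt_of_le_of_ne hZle hZne) hΓZ
    -- derived subgroup
    have hnil : Group.IsNilpotent ↥Q₁ := hQ.isNilpotent
    have hDne : ⁅Q₁, Q₁⁆ ≠ Q₁ := commutator_ne_self_of_isNilpotent hnil hQne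
    have hDle : ⁅Q₁, Q₁⁆ ≤ Q₁ := comm_le_of_le_normalizer Subgroup.le_normalizer
    have hΓD : Γ ≤ Subgroup.normalizer ((⁅Q₁, Q₁⁆ : Subgroup G) : Set G) :=
      (le_inf hΓQ hΓQ).trans (normalizer_inf_le_normalizer_comm Q₁ Q₁)
    have hPD : P₁ ≤ Subgroup.centralizer ((⁅Q₁, Q₁⁆ : Subgroup G) : Set G) :=
      hmin _ (lt_of_le_of_ne hDle hDne) hΓD
    -- three subgroups: a normal subgroup N of Q₁ centralized by P₁ is central in Q₁
    have three : ∀ N : Subgroup G, N ≤ Q₁ → Q₁ ≤ Subgroup.normalizer (N : Set G) →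
        P₁ ≤ Subgroup.centralizer (N : Set G) → N ≤ Z := by
      intro N hNQ hQN hPN
      have h1 : ⁅⁅P₁, N⁆, Q₁⁆ = ⊥ := by
        rw [(Subgroup.commutator_eq_bot_iff_le_centralizer).mpr hPN, Subgroup.commutator_bot_left]
      have h2 : ⁅⁅N, Q₁⁆, P₁⁆ = ⊥ := by
        rw [eq_bot_iff]
        calc ⁅⁅N, Q₁⁆, P₁⁆ ≤ ⁅N, P₁⁆ :=
              Subgroup.commutator_mono (comm_le_of_le_normalizer hQN) le_rfl
          _ = ⊥ := by
              rw [Subgroup.commutator_comm]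
              exact (Subgroup.commutator_eq_bot_iff_le_centralizer).mpr hPN
      have h3 : ⁅⁅Q₁, P₁⁆, N⁆ = ⊥ := Subgroup.commutator_commutator_eq_bot_of_rotate h1 h2
      rw [hQP] at h3
      have h4 : N ≤ Subgroup.centralizer (Q₁ : Set G) :=
        cent_symm ((Subgroup.commutator_eq_bot_iff_le_centralizer).mp h3)
      exact le_inf hNQ h4
    have hDZ : ⁅Q₁, Q₁⁆ ≤ Z :=
      three _ hDle ((le_inf le_rfl le_rfl).trans
        ((inf_le_inf Subgroup.le_normalizer Subgroup.le_normalizer).trans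
          (normalizer_inf_le_normalizer_comm Q₁ Q₁))) hPD
    have hQ℧ : Q₁ ≤ Subgroup.normalizer (℧ : Set G) :=
      Subgroup.le_normalizer.trans (normalizer_le_normalizer_agemo Q₁)
    have h℧Z : ℧ ≤ Z := three ℧ h℧lt.le hQ℧ hP℧
    have hZD : Z ≤ ⁅Q₁, Q₁⁆ := by
      have h1 : Z ≤ Q₁ ⊓ Subgroup.centralizer (P₁ : Set G) := le_inf hZle (cent_symm hPZ)
      exact h1.trans (inf_centralizer_le_commutator Q₁ P₁ hPQ hcop hQP)
    have hDeq : ⁅Q₁, Q₁⁆ = Z := le_antisymm hDZ hZD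
    have hpowZ : ∀ a ∈ Q₁, a ^ q ∈ Z := fun a ha => h℧Z (hpow℧ a ha)
    refine ⟨hPZ, hDeq, ?_, hpowZ⟩
    -- exponent of Z
    have key : ∀ x ∈ ⁅Q₁, Q₁⁆, x ^ q = 1 := by
      intro x hx
      have hxx := hx
      rw [Subgroup.commutator_def] at hx
      induction hx using Subgroup.closure_induction with
      | mem y hy =>
        obtain ⟨a, ha, b, hb, rfl⟩ := hy
        have hcZ : ⁅a, b⁆ ∈ Z := hDZ (Subgroup.commutator_mem_commutator ha hb)
        have hc : ⁅a, b⁆ * a = a * ⁅a, b⁆ :=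
          (Subgroup.mem_centralizer_iff.mp (Subgroup.mem_inf.mp hcZ).2 a ha).symm
        rw [← comm_pow_of_commute a b hc q]
        have haq : a ^ q ∈ Subgroup.centralizer (Q₁ : Set G) := (Subgroup.mem_inf.mp (hpowZ a ha)).2
        have := (Subgroup.mem_centralizer_iff.mp haq) b hb
        rw [commutatorElement_def, ← this]
        group
      | one => exact one_pow q
      | mul y z hy hz ihy ihz =>
        have hyD : y ∈ ⁅Q₁, Q₁⁆ := by rw [Subgroup.commutator_def]; exact hy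
        have hzD : z ∈ ⁅Q₁, Q₁⁆ := by rw [Subgroup.commutator_def]; exact hz
        have hyZ := hDZ hyD
        have hc : Commute y z :=
          ((Subgroup.mem_centralizer_iff.mp (Subgroup.mem_inf.mp (hDZ hzD)).2) y
            (Subgroup.mem_inf.mp hyZ).1)
        rw [hc.mul_pow, ihy hyD, ihz hzD, one_mul]
      | inv y hy ihy =>
        have hyD : y ∈ ⁅Q₁, Q₁⁆ := by rw [Subgroup.commutator_def]; exact hy
        rw [inv_pow, ihy hyD, inv_one]
    intro a ha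
    exact key a (hZD ha)

end Main

end Cfsg.Agent.Helper20.MinInv
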