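import Mathlib
import Cfsg.Agent.Lib.Helper4.ThBGrp

/-!
# A `q`-subgroup invariant under a `p`-subgroup and moved by a given element (helper20)

Variant of helper4's `exists_invariant_qsubgroup`: in a `p`-solvable group with `O_p(G) = 1`, for a
`p`-subgroup `R` and `1 ≠ x ∈ R` there is an `R`-invariant `q`-subgroup (`q ≠ p`) not centralised
by `x`.
-/

set_option autoImplicit false
set_option linter.unusedSectionVars false
set_option linter.style.haveILetI false

namespace Cfsg.Agent.Helper20.HHQ

open Cfsg Cfsg.Agent.Helper4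

variable {G : Type*} [Group G] [Finite G]

theorem exists_invariant_qsubgroup_of_pgroup {p : ℕ} [hp : Fact p.Prime] (hsol : IsPSolvable p G)
    (hO : pCore p G = ⊥) (R : Subgroup G) (hR : IsPGroup p ↥R) (x : G) (hxR : x ∈ R)
    (hx1 : x ≠ 1) :
    ∃ (q : ℕ) (_ : Fact q.Prime) (T : Subgroup G), q ≠ p ∧ IsPGroup q ↥T ∧
      R ≤ Subgroup.normalizer (T : Set G) ∧ ∃ g ∈ T, x * g ≠ g * x := by
  classical
  have hpp : p.Prime := hp.out
  set K := pPrimeCore p G with hK
  haveI hKn : K.Normal := Helper22.pPrimeCore_normal p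
  have hKcop : (Nat.card K).Coprime p := Helper22.card_pPrimeCore_coprime p
  have hHH := HHD.centralizer_pPrimeCore_le hsol hO
  have hxK : x ∉ K := by
    intro hmem
    have h3 : orderOf x ∣ Nat.card K := Subgroup.orderOf_dvd_natCard _ hmem
    obtain ⟨e, he⟩ := (IsPGroup.iff_orderOf.mp hR) ⟨x, hxR⟩
    rw [Subgroup.orderOf_mk] at he
    have h4 : orderOf x ∣ p ^ e := by rw [he]
    have h5 : orderOf x = 1 :=
      Nat.eq_one_of_dvd_coprimes (Nat.Coprime.pow_right e hKcop) h3 h4
    exact hx1 (orderOf_eq_one_iff.mp h5)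
  have hRN : R ≤ Subgroup.normalizer (K : Set G) := by
    rw [Subgroup.normalizer_eq_top]
    exact le_top
  have hsyl : ∀ (q : ℕ) [Fact q.Prime], ∃ P : Subgroup G, P ≤ K ∧ IsPGroup q P ∧
      Nat.card P = q ^ (Nat.card K).factorization q ∧
      R ≤ Subgroup.normalizer (P : Set G) :=
    fun q _ => Helper15.exists_invariant_sylow_of_coprime q hR hKcop hRN
  by_contra hcon
  push Not at hcon
  set C : Subgroup G := K ⊓ Subgroup.centralizer ({x} : Set G) with hC
  have hCK : C = K := by
    apply Subgroup.eq_of_le_of_card_ge inf_le_left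
    apply Nat.le_of_dvd Nat.card_pos
    rw [← Nat.factorization_le_iff_dvd Nat.card_pos.ne' Nat.card_pos.ne']
    intro q
    by_cases hq : q.Prime
    · haveI : Fact q.Prime := ⟨hq⟩
      obtain ⟨P, hPK, hPq, hPcard, hPN⟩ := hsyl q
      have hPC : P ≤ C := by
        intro g hg
        refine Subgroup.mem_inf.mpr ⟨hPK hg, ?_⟩
        rw [Subgroup.mem_centralizer_iff]
        intro z hz
        rw [Set.mem_singleton_iff] at hz
        subst hz
        by_contra hne
        by_cases hqp : q = p
        · subst hqp
          have h0 : (Nat.card K).factorization q = 0 :=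
            Nat.factorization_eq_zero_of_not_dvd (fun hd => by
              have := Nat.dvd_gcd hd dvd_rfl
              rw [hKcop] at this
              exact hq.one_lt.ne' (Nat.dvd_one.mp this))
          rw [h0, pow_zero] at hPcard
          have : P = ⊥ := Subgroup.card_eq_one.mp hPcard
          rw [this, Subgroup.mem_bot] at hg
          subst hg
          exact hne (by simp)
        · exact hne (hcon q ⟨hq⟩ P hqp hPq hPN g hg)
      have hdvd : q ^ (Nat.card K).factorization q ∣ Nat.card C := by
        rw [← hPcard]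
        exact Subgroup.card_dvd_of_le hPC
      exact (hq.pow_dvd_iff_le_factorization Nat.card_pos.ne').mp hdvd
    · rw [Nat.factorization_eq_zero_of_not_prime _ hq]
      exact Nat.zero_le _
  apply hxK
  apply hHH
  rw [Subgroup.mem_centralizer_iff]
  intro k hk
  have : k ∈ C := by rw [hCK]; exact hk
  have h2 := Subgroup.mem_centralizer_iff.mp (Subgroup.mem_inf.mp this).2 x rfl
  exact h2.symm

end Cfsg.Agent.Helper20.HHQ
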