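import Mathlib
import Cfsg.Prelude.Def_OddOrderLocal
import Cfsg.Agent.Lib.Helper1.Hall
import Cfsg.Agent.Lib.Helper1.CoprimeAbelian

set_option autoImplicit false

namespace Cfsg.Agent.Helper20.BG12

open Cfsg
open scoped commutatorElement

universe u

/-! ### commutativity of nilpotent groups with commutative Sylow subgroups -/

theorem isMulCommutative_of_isNilpotent_of_sylow {N : Type*} [Group N] [Finite N]
    (hnil : Group.IsNilpotent N)
    (h : ∀ (q : ℕ) [Fact q.Prime] (S : Sylow q N), IsMulCommutative (S : Subgroup N)) :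
    IsMulCommutative N := by
  obtain ⟨ϕ⟩ := ((Group.isNilpotent_of_finite_tfae (G := N)).out 0 4).mp hnil
  rw [isMulCommutative_iff]
  intro x y
  obtain ⟨a, rfl⟩ := ϕ.surjective x
  obtain ⟨b, rfl⟩ := ϕ.surjective y
  rw [← map_mul, ← map_mul]
  congr 1
  funext q S
  haveI : Fact (q : ℕ).Prime := ⟨Nat.prime_of_mem_primeFactors q.2⟩
  have := (isMulCommutative_iff.mp (h q S)) (a q S) (b q S)
  exact this

/-! ### an automorphism of coprime order of a group of prime order -/

theorem conj_eq_of_pow_of_coprime {G : Type*} [Group G] {p : ℕ} [Fact p.Prime] {x y : G}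
    (hy : orderOf y = p) {i : ℕ} (hxy : x * y * x⁻¹ = y ^ i) (hfin : IsOfFinOrder x)
    (hcop : (orderOf x).Coprime (p - 1)) : x * y * x⁻¹ = y := by
  have key : ∀ k : ℕ, x ^ k * y * (x ^ k)⁻¹ = y ^ (i ^ k) := by
    intro k
    induction k with
    | zero => simp
    | succ k ih =>
      calc x ^ (k + 1) * y * (x ^ (k + 1))⁻¹ = x * (x ^ k * y * (x ^ k)⁻¹) * x⁻¹ := by
            rw [pow_succ']; group
        _ = x * y ^ (i ^ k) * x⁻¹ := by rw [ih]
        _ = (x * y * x⁻¹) ^ (i ^ k) := by rw [conj_pow]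
        _ = y ^ (i ^ (k + 1)) := by rw [hxy, ← pow_mul, pow_succ']
  have h1 := key (orderOf x)
  rw [pow_orderOf_eq_one, one_mul, inv_one, mul_one] at h1
  have h2 : y ^ 1 = y ^ (i ^ orderOf x) := by rw [pow_one]; exact h1
  rw [pow_eq_pow_iff_modEq, hy] at h2
  have h3 : ((i : ZMod p)) ^ orderOf x = 1 := by
    have := (ZMod.natCast_eq_natCast_iff _ _ _).mpr h2
    push_cast at this
    exact this.symm
  have hn : 0 < orderOf x := hfin.orderOf_pos
  have h4 : (i : ZMod p) ≠ 0 := by
    intro h0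
    rw [h0, zero_pow hn.ne'] at h3
    exact zero_ne_one h3
  have h5 : (i : ZMod p) ^ (p - 1) = 1 := ZMod.pow_card_sub_one_eq_one h4
  have h6 : (i : ZMod p) ^ (orderOf x).gcd (p - 1) = 1 := pow_gcd_eq_one.mpr ⟨h3, h5⟩
  rw [hcop, pow_one] at h6
  have h7 : i ≡ 1 [MOD p] := by
    apply (ZMod.natCast_eq_natCast_iff _ _ _).mp
    push_cast
    exact h6
  rw [hxy]
  have : y ^ i = y ^ 1 := by
    rw [pow_eq_pow_iff_modEq, hy]; exact h7
  rw [this, pow_one]


/-! ### an element of order prime to `p (p - 1)` normalizing an elementary abelian group of order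
`p ^ 2` and centralizing a subgroup of order `p` centralizes the whole group -/

section Act

variable {G : Type*} [Group G] [Finite G]

theorem zpowers_le_centralizer_of_commute {h : G} {S : Subgroup G}
    (hc : ∀ a ∈ S, h * a = a * h) : Subgroup.zpowers h ≤ Subgroup.centralizer (S : Set G) := by
  rw [Subgroup.zpowers_le]
  rw [Subgroup.mem_centralizer_iff]
  intro a ha
  exact (hc a ha).symm

theorem centralizes_of_coprime {p : ℕ} [Fact p.Prime] {A X : Subgroup G}
    (hA : IsElementaryAbelian p A) (hAc : Nat.card A = p ^ 2) (hXA : X ≤ A)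
    (hXc : Nat.card X = p) {h : G} (hh : h ∈ Subgroup.normalizer (A : Set G))
    (hX : ∀ z ∈ X, h * z = z * h) (hcp : (orderOf h).Coprime p)
    (hcp1 : (orderOf h).Coprime (p - 1)) : ∀ a ∈ A, h * a = a * h := by
  have hp : p.Prime := Fact.out
  set D := Subgroup.zpowers h with hD
  have hDA : D ≤ Subgroup.normalizer (A : Set G) := by
    rw [hD, Subgroup.zpowers_le]; exact hh
  haveI : IsMulCommutative A := hA.1
  have hcop : (Nat.card D).Coprime (Nat.card A) := by
    rw [hD, Nat.card_zpowers, hAc]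
    exact Nat.Coprime.pow_right 2 hcp
  have hbot := Cfsg.Agent.Helper1.commutator_inf_centralizer_eq_bot D A hDA hcop
  set Y := ⁅A, D⁆ with hY
  have hYA : Y ≤ A := Cfsg.Agent.Helper1.commutator_le_of_le_normalizer hDA
  -- it suffices to show Y = ⊥
  suffices hYbot : Y = ⊥ by
    intro a ha
    have h1 : A ≤ Subgroup.centralizer (D : Set G) :=
      (Subgroup.commutator_eq_bot_iff_le_centralizer).mp hYbot
    have := (Subgroup.mem_centralizer_iff.mp (h1 ha)) h (Subgroup.mem_zpowers h)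
    exact this
  by_contra hYne
  have hXcen : X ≤ Subgroup.centralizer (D : Set G) := by
    intro z hz
    rw [Subgroup.mem_centralizer_iff]
    intro d hd
    obtain ⟨k, rfl⟩ := Subgroup.mem_zpowers_iff.mp hd
    have hc : Commute h z := hX z hz
    exact (hc.zpow_left k).eq
  have hXne : X ≠ ⊥ := by
    intro h0
    rw [h0, Subgroup.card_bot] at hXc
    exact hp.one_lt.ne hXc
  -- card Y divides p^2
  have hdvd : Nat.card Y ∣ p ^ 2 := by rw [← hAc]; exact Subgroup.card_dvd_of_le hYA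
  obtain ⟨k, hk2, hk⟩ := (Nat.dvd_prime_pow hp).mp hdvd
  have hk0 : k ≠ 0 := by
    rintro rfl
    rw [pow_zero] at hk
    exact hYne (Subgroup.card_eq_one.mp hk)
  have hk2' : k ≠ 2 := by
    rintro rfl
    have hYA' : Y = A := Subgroup.eq_of_le_of_card_ge hYA (by rw [hk, hAc])
    apply hXne
    rw [eq_bot_iff, ← hbot]
    exact le_inf (by rw [hYA']; exact hXA) hXcen
  have hk1 : k = 1 := by omega
  rw [hk1, pow_one] at hk
  -- Y is cyclic of order p
  haveI : Fact (Nat.card Y).Prime := ⟨by rw [hk]; exact hp⟩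
  obtain ⟨y, hy1⟩ : ∃ y : Y, y ≠ 1 := by
    by_contra hall
    push Not at hall
    apply hYne
    rw [eq_bot_iff]
    intro z hz
    have := hall ⟨z, hz⟩
    rw [Subgroup.mem_bot]
    exact congrArg Subtype.val this
  have hyord' : orderOf y = p := by
    apply orderOf_eq_prime _ hy1
    rw [← hk]; exact pow_card_eq_one'
  have hyord : orderOf (y : G) = p := by
    rw [Subgroup.orderOf_coe, hyord']
  have hDY : D ≤ Subgroup.normalizer (Y : Set G) :=
    Cfsg.Agent.Helper1.le_normalizer_commutator_right A D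
  have hconjY : h * (y : G) * h⁻¹ ∈ Y :=
    (Subgroup.mem_normalizer_iff.mp (hDY (Subgroup.mem_zpowers h)) (y : G)).mp y.2
  have htop : Subgroup.zpowers y = ⊤ := by
    apply Subgroup.eq_top_of_card_eq
    rw [Nat.card_zpowers, hyord', hk]
  obtain ⟨i, hi⟩ : ∃ i : ℕ, h * (y : G) * h⁻¹ = (y : G) ^ i := by
    have h1 : (⟨_, hconjY⟩ : Y) ∈ Subgroup.zpowers y := by rw [htop]; trivial
    have h2 := (isOfFinOrder_of_finite y).mem_powers_iff_mem_zpowers.mpr h1
    obtain ⟨i, hi⟩ := Submonoid.mem_powers_iff _ _ |>.mp h2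
    refine ⟨i, ?_⟩
    have := congrArg Subtype.val hi
    simp only [Subgroup.coe_pow] at this
    exact this.symm
  have hfix := conj_eq_of_pow_of_coprime hyord hi (isOfFinOrder_of_finite h) hcp1
  have hycen : (y : G) ∈ Subgroup.centralizer (D : Set G) := by
    rw [Subgroup.mem_centralizer_iff]
    intro d hd
    obtain ⟨k, rfl⟩ := Subgroup.mem_zpowers_iff.mp hd
    have hc : Commute h (y : G) := by
      show h * (y : G) = (y : G) * h
      calc h * (y : G) = (h * (y : G) * h⁻¹) * h := by group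
        _ = (y : G) * h := by rw [hfix]
    exact (hc.zpow_left k).eq
  have : (y : G) ∈ Y ⊓ Subgroup.centralizer (D : Set G) := Subgroup.mem_inf.mpr ⟨y.2, hycen⟩
  rw [hbot, Subgroup.mem_bot] at this
  exact hy1 (Subtype.ext this)

end Act


/-! ### complements -/

section Compl

variable {G : Type*} [Group G]

theorem card_mul_of_isComplIn {A B M : Subgroup G} (h : IsComplIn A B M) :
    Nat.card A * Nat.card B = Nat.card M := by
  obtain ⟨hA, hB, hAB, hsurj⟩ := h
  let f : A × B → M := fun ab => ⟨ab.1 * ab.2, M.mul_mem (hA ab.1.2) (hB ab.2.2)⟩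
  have hinj : Function.Injective f := by
    rintro ⟨⟨a, ha⟩, ⟨b, hb⟩⟩ ⟨⟨a', ha'⟩, ⟨b', hb'⟩⟩ hh
    have h1 : a * b = a' * b' := congrArg Subtype.val hh
    have h2 : a'⁻¹ * a = b' * b⁻¹ := by
      calc a'⁻¹ * a = a'⁻¹ * (a * b) * b⁻¹ := by group
        _ = b' * b⁻¹ := by rw [h1]; group
    have h3 : a'⁻¹ * a ∈ A ⊓ B :=
      Subgroup.mem_inf.mpr ⟨A.mul_mem (A.inv_mem ha') ha, by rw [h2]; exact B.mul_mem hb' (B.inv_mem hb)⟩
    rw [hAB, Subgroup.mem_bot] at h3
    have h4 : a = a' := by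
      calc a = a' * (a'⁻¹ * a) := by group
        _ = a' := by rw [h3, mul_one]
    subst h4
    have h5 : b = b' := mul_left_cancel h1
    subst h5
    rfl
  have hsur : Function.Surjective f := by
    rintro ⟨m, hm⟩
    obtain ⟨a, ha, b, hb, rfl⟩ := hsurj m hm
    exact ⟨(⟨a, ha⟩, ⟨b, hb⟩), rfl⟩
  rw [← Nat.card_prod]
  exact Nat.card_congr (Equiv.ofBijective f ⟨hinj, hsur⟩)

theorem relIndex_eq_card_of_isComplIn [Finite G] {E K M : Subgroup G} (h : IsComplIn E K M) :
    K.relIndex M = Nat.card E := by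
  have h1 := card_mul_of_isComplIn h
  have h2 : (⊥ : Subgroup G).relIndex K * K.relIndex M = (⊥ : Subgroup G).relIndex M :=
    Subgroup.relIndex_mul_relIndex ⊥ K M bot_le h.2.1
  rw [Subgroup.relIndex_bot_left, Subgroup.relIndex_bot_left, ← h1, mul_comm] at h2
  exact Nat.eq_of_mul_eq_mul_right Nat.card_pos h2

/-- a subgroup of `M` of the right order meeting `K` trivially is a complement -/
theorem isComplIn_of_card [Finite G] {E K M : Subgroup G} (hEM : E ≤ M) (hKM : K ≤ M)
    (hcard : Nat.card E * Nat.card K = Nat.card M) (hdisj : E ⊓ K = ⊥) : IsComplIn E K M := by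
  refine ⟨hEM, hKM, hdisj, ?_⟩
  let f : E × K → M := fun ab => ⟨ab.1 * ab.2, M.mul_mem (hEM ab.1.2) (hKM ab.2.2)⟩
  have hinj : Function.Injective f := by
    rintro ⟨⟨a, ha⟩, ⟨b, hb⟩⟩ ⟨⟨a', ha'⟩, ⟨b', hb'⟩⟩ hh
    have h1 : a * b = a' * b' := congrArg Subtype.val hh
    have h2 : a'⁻¹ * a = b' * b⁻¹ := by
      calc a'⁻¹ * a = a'⁻¹ * (a * b) * b⁻¹ := by group
        _ = b' * b⁻¹ := by rw [h1]; group
    have h3 : a'⁻¹ * a ∈ E ⊓ K :=
      Subgroup.mem_inf.mpr ⟨E.mul_mem (E.inv_mem ha') ha, by rw [h2]; exact K.mul_mem hb' (K.inv_mem hb)⟩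
    rw [hdisj, Subgroup.mem_bot] at h3
    have h4 : a = a' := by
      calc a = a' * (a'⁻¹ * a) := by group
        _ = a' := by rw [h3, mul_one]
    subst h4
    have h5 : b = b' := mul_left_cancel h1
    subst h5
    rfl
  have hbij : Function.Bijective f := by
    rw [Nat.bijective_iff_injective_and_card]
    exact ⟨hinj, by rw [Nat.card_prod, hcard]⟩
  intro m hm
  obtain ⟨⟨⟨a, ha⟩, ⟨b, hb⟩⟩, hab⟩ := hbij.2 ⟨m, hm⟩
  exact ⟨a, ha, b, hb, (congrArg Subtype.val hab).symm⟩

/-- **Hall**: in a solvable `M = K ⋊ E` with `(|E|, |K|) = 1`, every subgroup of order prime to `|K|`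
lies in some complement of `K`. -/
theorem exists_isComplIn_ge [Finite G] {E K M X : Subgroup G} (hsolv : Group.IsSolvable ↥M)
    (h : IsComplIn E K M) (hcop : (Nat.card E).Coprime (Nat.card K)) (hXM : X ≤ M)
    (hX : (Nat.card X).Coprime (Nat.card K)) : ∃ E' : Subgroup G, IsComplIn E' K M ∧ X ≤ E' ∧
      Nat.card E' = Nat.card E := by
  have hcard := card_mul_of_isComplIn h
  have hXc : (Nat.card (X.subgroupOf M)).Coprime (Nat.card K) := by
    rw [Cfsg.Agent.S0001.card_subgroupOf_of_le hXM]; exact hX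
  obtain ⟨H, hH, hXH⟩ := Cfsg.Agent.Helper1.hall_contain (G := ↥M) (Nat.card E) (Nat.card K)
    hcard.symm hcop (X.subgroupOf M) hXc
  have hE'c : Nat.card (H.map M.subtype) = Nat.card E := by
    rw [Subgroup.card_map_of_injective M.subtype_injective, hH]
  refine ⟨H.map M.subtype, ?_, ?_, hE'c⟩
  · apply isComplIn_of_card (Subgroup.map_subtype_le H) h.2.1
    · rw [hE'c, hcard]
    · apply disjoint_iff.mp
      apply Subgroup.disjoint_of_coprime_natCard
      rw [hE'c]; exact hcop
  · intro x hx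
    exact ⟨⟨x, hXM hx⟩, hXH (Subgroup.mem_subgroupOf.mpr hx), rfl⟩

end Compl

end Cfsg.Agent.Helper20.BG12
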