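import Mathlib
import Cfsg.Prelude.Def_Transfer

set_option autoImplicit false

/-!
# S4016: cyclic Sylow `p`-subgroup and all `p'`-subgroups abelian (definitions)

`Hyp p G`: the Sylow `p`-subgroups of `G` are cyclic and every subgroup of order prime to `p` is
abelian.  `Concl p G`: `G` has a normal `p`-complement or a normal Sylow `p`-subgroup.
`Cfg p G`: the local structure of a minimal counterexample (a nonabelian simple group).
`V4Cfg G`: the residual configuration (`p = 3`, Klein four Sylow `2`-subgroup).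
-/

universe u

namespace Cfsg.Agent.Helper20.CS

/-- hypothesis of S4016 -/
def Hyp (p : ℕ) (G : Type u) [Group G] : Prop :=
  (∀ P : Sylow p G, IsCyclic ↥P) ∧
    ∀ H : Subgroup G, ¬ p ∣ Nat.card ↥H → ∀ a ∈ H, ∀ b ∈ H, a * b = b * a

/-- conclusion of S4016 -/
def Concl (p : ℕ) (G : Type u) [Group G] : Prop :=
  Cfsg.HasNormalPComplement p G ∨ ∀ P : Sylow p G, (P : Subgroup G).Normal

/-- The local structure of a minimal counterexample: `G` simple, `P` a Sylow `p`-subgroup,
`N_G(P) = P L` with `L` a `p'`-group acting nontrivially, and `N_G(P₁) = N_G(P)` for `1 ≠ P₁ ≤ P`. -/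
structure Cfg (p : ℕ) (G : Type u) [Group G] where
  /-- the Sylow `p`-subgroup -/
  P : Sylow p G
  /-- a complement of `P` in `N_G(P)` -/
  L : Subgroup G
  hyp : Hyp p G
  simple : IsSimpleGroup G
  sub : ∀ H : Subgroup G, H ≠ ⊤ → Concl p ↥H
  p_odd : p ≠ 2
  P_ne : (P : Subgroup G) ≠ ⊥
  L_card : ¬ p ∣ Nat.card ↥L
  sup_eq : (P : Subgroup G) ⊔ L = Subgroup.normalizer ((P : Subgroup G) : Set G)
  act : ∃ x ∈ L, ∃ u ∈ (P : Subgroup G), x * u ≠ u * x
  norm_eq : ∀ P₁ : Subgroup G, P₁ ≤ (P : Subgroup G) → P₁ ≠ ⊥ →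
    Subgroup.normalizer (P₁ : Set G) = Subgroup.normalizer ((P : Subgroup G) : Set G)

/-- `M = N_G(P)` -/
def Cfg.M {p : ℕ} {G : Type u} [Group G] (c : Cfg p G) : Subgroup G :=
  Subgroup.normalizer ((c.P : Subgroup G) : Set G)

/-- `L₀ = C_L(P)` -/
def Cfg.L0 {p : ℕ} {G : Type u} [Group G] (c : Cfg p G) : Subgroup G :=
  c.L ⊓ Subgroup.centralizer ((c.P : Subgroup G) : Set G)

/-- The residual configuration: `p = 3`, `y` an involution with `C_G(y) = N_G(P)` of order `4 |P|`,
Klein four Sylow `2`-subgroup `S ∋ y` with `C_G(S) = S`, one class of involutions. -/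
structure V4Cfg (G : Type u) [Group G] where
  /-- the Sylow `3`-subgroup -/
  P : Sylow 3 G
  /-- the involution centralizing `P` -/
  y : G
  /-- the Sylow `2`-subgroup -/
  S : Sylow 2 G
  hyp : Hyp 3 G
  simple : IsSimpleGroup G
  nonab : ∃ a b : G, a * b ≠ b * a
  norm_eq : ∀ P₁ : Subgroup G, P₁ ≤ (P : Subgroup G) → P₁ ≠ ⊥ →
    Subgroup.normalizer (P₁ : Set G) = Subgroup.normalizer ((P : Subgroup G) : Set G)
  y_ord : orderOf y = 2
  y_cent : ∀ u ∈ (P : Subgroup G), y * u = u * y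
  cent_y : Subgroup.centralizer ({y} : Set G) = Subgroup.normalizer ((P : Subgroup G) : Set G)
  card_cent_y : Nat.card ↥(Subgroup.centralizer ({y} : Set G)) = 4 * Nat.card ↥(P : Subgroup G)
  klein : IsKleinFour ↥(S : Subgroup G)
  y_mem : y ∈ (S : Subgroup G)
  card_cent_S : Nat.card ↥(Subgroup.centralizer ((S : Subgroup G) : Set G)) = 4
  conj : ∀ t : G, orderOf t = 2 → ∃ g : G, g * y * g⁻¹ = t

end Cfsg.Agent.Helper20.CS
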