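import Mathlib
import Cfsg.Prelude.Def_Solvable

set_option autoImplicit false

/-! Definitions and basic facts for the subgroups of the alternating group of degree 8
with trivial 2-core and trivial odd core (statement S2553). -/

namespace Cfsg.Agent.Helper20.GL4Sub

open scoped Pointwise

/-- the alternating group of degree 8, as a type -/
abbrev A8 : Type := ↥(alternatingGroup (Fin 8))

/-- `K` has no nontrivial normal 2-subgroup and no nontrivial normal subgroup of odd order -/
def CoreFree {G : Type*} [Group G] (K : Subgroup G) : Prop :=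
  ∀ M : Subgroup G, M ≤ K → K ≤ Subgroup.normalizer (M : Set G) →
    (IsPGroup 2 M ∨ (Nat.card M).Coprime 2) → M = ⊥

/-- the subnormal subgroups of `K` -/
inductive SubN {G : Type*} [Group G] (K : Subgroup G) : Subgroup G → Prop
  | refl : SubN K K
  | step {X Y : Subgroup G} : SubN K X → Y ≤ X → X ≤ Subgroup.normalizer (Y : Set G) → SubN K Y

/-- the points of `Fin 8` moved by some element of `S` -/
def moved (S : Subgroup A8) : Set (Fin 8) :=
  {x | ∃ s ∈ S, ((s : A8) : Equiv.Perm (Fin 8)) x ≠ x}

/-- the stabilizer of the last point in the alternating group of degree 8 -/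
def stabLast : Subgroup A8 :=
  (MulAction.stabilizer (Equiv.Perm (Fin 8)) (Fin.last 7)).subgroupOf (alternatingGroup (Fin 8))

/-- every proper subgroup has index at least 8 -/
def Idx8 : Prop := ∀ L : Subgroup A8, L ≠ ⊤ → 8 ≤ L.index

/-- the normalizer of a subgroup of order 7 has order 21 -/
def N7 : Prop :=
  ∀ P : Subgroup A8, Nat.card P = 7 → Nat.card (Subgroup.normalizer (P : Set A8)) = 21

/-- inside a nonabelian simple subgroup, the normalizer of a subgroup of order 7 has order 21 -/
def N7S : Prop :=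
  ∀ S : Subgroup A8, IsSimpleGroup S → ¬ IsMulCommutative S → ∀ P : Subgroup A8, P ≤ S →
    Nat.card P = 7 → Nat.card (S ⊓ Subgroup.normalizer (P : Set A8) : Subgroup A8) = 21

/-- the Sylow 7 test for nonabelian simple subgroups -/
def SevenTest : Prop :=
  ∀ S : Subgroup A8, IsSimpleGroup S → ¬ IsMulCommutative S → 7 ∣ Nat.card S →
    21 ∣ Nat.card S ∧ (Nat.card S / 21) % 7 = 1

/-- the orders of the nonabelian simple subgroups -/
def Orders : Prop :=
  ∀ S : Subgroup A8, IsSimpleGroup S → ¬ IsMulCommutative S →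
    Nat.card S = 60 ∨ Nat.card S = 168 ∨ Nat.card S = 360 ∨ Nat.card S = 2520 ∨
      Nat.card S = 20160

/-- core-freeness passes to normal subgroups -/
def Inherit (G : Type*) [Group G] : Prop :=
  ∀ A B : Subgroup G, CoreFree A → B ≤ A → A ≤ Subgroup.normalizer (B : Set G) → CoreFree B

/-- a core-free nontrivial subgroup has a nonabelian simple subnormal subgroup -/
def MinSimple : Prop :=
  ∀ K : Subgroup A8, K ≠ ⊥ → CoreFree K →
    ∃ S : Subgroup A8, SubN K S ∧ IsSimpleGroup S ∧ ¬ IsMulCommutative S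

/-- a nonabelian simple subgroup normal in a normal subgroup of `X` is normal in `X` -/
def NormalStep : Prop :=
  ∀ S Y X : Subgroup A8, IsSimpleGroup S → ¬ IsMulCommutative S → S ≤ Y →
    Y ≤ Subgroup.normalizer (S : Set A8) → Y ≤ X → X ≤ Subgroup.normalizer (Y : Set A8) →
      X ≤ Subgroup.normalizer (S : Set A8)

/-- a core-free nontrivial subgroup has a nonabelian simple normal subgroup -/
def Socn : Prop :=
  ∀ K : Subgroup A8, K ≠ ⊥ → CoreFree K →
    ∃ S : Subgroup A8, S ≤ K ∧ K ≤ Subgroup.normalizer (S : Set A8) ∧ IsSimpleGroup S ∧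
      ¬ IsMulCommutative S

/-- a core-free nontrivial subgroup has a nonabelian simple normal subgroup with trivial
centralizer -/
def Socle : Prop :=
  ∀ K : Subgroup A8, K ≠ ⊥ → CoreFree K →
    ∃ S : Subgroup A8, S ≤ K ∧ K ≤ Subgroup.normalizer (S : Set A8) ∧ IsSimpleGroup S ∧
      ¬ IsMulCommutative S ∧ K ⊓ Subgroup.centralizer (S : Set A8) = ⊥

/-- proper subgroups of a simple group of order 360 (of type 0) have index at least 6 -/
def Idx6 : Prop :=
  ∀ (S : Type) [Group S] [Finite S] [IsSimpleGroup S], Nat.card S = 360 →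
    ∀ T : Subgroup S, T ≠ ⊤ → 6 ≤ T.index

/-- a group of order 45 (of type 0) has an element of order 15 -/
def Ord45 : Prop :=
  ∀ (T : Type) [Group T] [Finite T], Nat.card T = 45 → ∃ g : T, orderOf g = 15

/-- a permutation of 8 points with a fixed point does not have order 15 -/
def NoFix15 : Prop :=
  ∀ (g : Equiv.Perm (Fin 8)) (x : Fin 8), g x = x → orderOf g ≠ 15

theorem card_A8 : Nat.card A8 = 20160 := by
  have h := two_mul_card_alternatingGroup (α := Fin 8)
  rw [Fintype.card_perm, Fintype.card_fin] at h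
  rw [Nat.card_eq_fintype_card]
  have h8 : Nat.factorial 8 = 40320 := by decide
  rw [h8] at h
  change Fintype.card ↥(alternatingGroup (Fin 8)) = 20160
  omega

/-- the order of a product of two subgroups meeting trivially, one normalizing the other -/
theorem card_sup_eq_mul {G : Type*} [Group G] [Finite G] (S M : Subgroup G) (hd : S ⊓ M = ⊥)
    (hN : M ≤ Subgroup.normalizer (S : Set G)) :
    Nat.card (S ⊔ M : Subgroup G) = Nat.card S * Nat.card M := by
  classical
  have hcoe : ((S ⊔ M : Subgroup G) : Set G) = (S : Set G) * (M : Set G) :=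
    Subgroup.coe_mul_of_right_le_normalizer_left S M hN
  let f : S × M → (S ⊔ M : Subgroup G) := fun p =>
    ⟨(p.1 : G) * (p.2 : G), by
      have : (p.1 : G) * (p.2 : G) ∈ ((S ⊔ M : Subgroup G) : Set G) := by
        rw [hcoe]; exact Set.mul_mem_mul p.1.2 p.2.2
      exact this⟩
  have hinj : Function.Injective f := by
    rintro ⟨s, m⟩ ⟨s', m'⟩ h
    have h' : (s : G) * (m : G) = (s' : G) * (m' : G) := congrArg Subtype.val h
    have hmem : (s' : G)⁻¹ * (s : G) ∈ S ⊓ M := by
      refine ⟨S.mul_mem (S.inv_mem s'.2) s.2, ?_⟩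
      have : (s' : G)⁻¹ * (s : G) = (m' : G) * (m : G)⁻¹ := by
        rw [inv_mul_eq_iff_eq_mul, ← mul_assoc, ← h', mul_assoc, mul_inv_cancel, mul_one]
      rw [SetLike.mem_coe, this]
      exact M.mul_mem m'.2 (M.inv_mem m.2)
    rw [hd, Subgroup.mem_bot, inv_mul_eq_one] at hmem
    have hs : s = s' := Subtype.ext hmem.symm
    subst hs
    have hm : (m : G) = (m' : G) := mul_left_cancel h'
    exact Prod.ext rfl (Subtype.ext hm)
  have hsurj : Function.Surjective f := by
    rintro ⟨x, hx⟩
    have hx' : x ∈ (S : Set G) * (M : Set G) := by rw [← hcoe]; exact hx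
    obtain ⟨s, hs, m, hm, rfl⟩ := Set.mem_mul.1 hx'
    exact ⟨(⟨s, hs⟩, ⟨m, hm⟩), rfl⟩
  rw [← Nat.card_prod]
  exact (Nat.card_congr (Equiv.ofBijective f ⟨hinj, hsurj⟩)).symm

end Cfsg.Agent.Helper20.GL4Sub
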