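import Mathlib

set_option autoImplicit false

namespace Cfsg.Agent.Helper20

variable {G : Type*} [Group G]

/-- A finite group is not the union of the conjugates of a proper subgroup. -/
theorem eq_top_of_forall_conj_mem [Finite G] (H : Subgroup G)
    (h : ∀ x : G, ∃ g : G, g⁻¹ * x * g ∈ H) : H = ⊤ := by
  classical
  have := Fintype.ofFinite G
  have key := MulAction.sum_card_fixedBy_eq_card_orbits_mul_card_group G (G ⧸ H)
  have hsub : Subsingleton (MulAction.orbitRel.Quotient G (G ⧸ H)) :=
    (MulAction.pretransitive_iff_subsingleton_quotient G (G ⧸ H)).mp inferInstance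
  have hone : Fintype.card (Quotient (MulAction.orbitRel G (G ⧸ H))) = 1 := by
    rw [Fintype.card_eq_one_iff]
    exact ⟨Quotient.mk _ ((1 : G) : G ⧸ H), fun y => hsub.elim _ _⟩
  rw [hone, one_mul] at key
  -- every element has a fixed point
  have hpos : ∀ a : G, 1 ≤ Fintype.card (MulAction.fixedBy (G ⧸ H) a) := by
    intro a
    obtain ⟨g, hg⟩ := h a
    apply Fintype.card_pos_iff.mpr
    refine ⟨⟨(g : G ⧸ H), ?_⟩⟩
    rw [MulAction.mem_fixedBy, MulAction.Quotient.smul_mk, QuotientGroup.eq]
    have e : (a • g)⁻¹ * g = (g⁻¹ * a * g)⁻¹ := by simp [mul_assoc]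
    rw [e]
    exact H.inv_mem hg
  have hid : Fintype.card (MulAction.fixedBy (G ⧸ H) (1 : G)) = H.index := by
    rw [Subgroup.index, Nat.card_eq_fintype_card]
    apply Fintype.card_congr
    exact (Equiv.subtypeUnivEquiv (fun q => by simp))
  -- split off the identity
  have hsum : ∑ a : G, Fintype.card (MulAction.fixedBy (G ⧸ H) a)
      = Fintype.card (MulAction.fixedBy (G ⧸ H) (1 : G)) +
        ∑ a ∈ (Finset.univ : Finset G).erase 1, Fintype.card (MulAction.fixedBy (G ⧸ H) a) :=
    (Finset.add_sum_erase _ _ (Finset.mem_univ _)).symm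
  have hge : ((Finset.univ : Finset G).erase 1).card ≤
      ∑ a ∈ (Finset.univ : Finset G).erase 1, Fintype.card (MulAction.fixedBy (G ⧸ H) a) := by
    rw [Finset.card_eq_sum_ones]
    exact Finset.sum_le_sum (fun a _ => hpos a)
  rw [Finset.card_erase_of_mem (Finset.mem_univ _), Finset.card_univ] at hge
  have hG : 0 < Fintype.card G := Fintype.card_pos
  have hidx : H.index ≤ 1 := by
    rw [hsum, hid] at key
    omega
  have hidx0 : H.index ≠ 0 := Subgroup.index_ne_zero_of_finite
  exact Subgroup.index_eq_one.mp (by omega)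

end Cfsg.Agent.Helper20
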