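import Mathlib

set_option autoImplicit false

namespace Cfsg.Agent.Helper20

variable {G : Type*} [Group G]

/-- Conjugation preserves the order of an element. -/
theorem orderOf_conj (g n : G) : orderOf (g * n * g⁻¹) = orderOf n := by
  have := MulEquiv.orderOf_eq (MulAut.conj g) n
  rwa [MulAut.conj_apply] at this

/-- A cyclic subgroup generated by an element of `p`-power order is a `p`-group. -/
theorem isPGroup_zpowers_of_orderOf {p : ℕ} {g : G} {k : ℕ} (hg : orderOf g = p ^ k) :
    IsPGroup p (Subgroup.zpowers g) := by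
  apply IsPGroup.of_card (n := k)
  rw [Nat.card_zpowers, hg]

/-- An element of a `p`-subgroup has `p`-power order. -/
theorem exists_orderOf_eq_of_mem_isPGroup {p : ℕ} [Fact p.Prime] {P : Subgroup G}
    (hP : IsPGroup p P) {g : G} (hg : g ∈ P) : ∃ k : ℕ, orderOf g = p ^ k := by
  obtain ⟨k, hk⟩ := (IsPGroup.iff_orderOf.mp hP) ⟨g, hg⟩
  exact ⟨k, by rw [← hk, Subgroup.orderOf_mk]⟩

/-- An element of `p`-power order lies in every normal Sylow `p`-subgroup. -/
theorem mem_sylow_of_normal_of_orderOf {p : ℕ} [Fact p.Prime] (P : Sylow p G)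
    [(P : Subgroup G).Normal] {g : G} {k : ℕ} (hg : orderOf g = p ^ k) : g ∈ (P : Subgroup G) := by
  have h1 : IsPGroup p (Subgroup.zpowers g) := isPGroup_zpowers_of_orderOf hg
  have h2 : IsPGroup p (Subgroup.zpowers g ⊔ (P : Subgroup G) : Subgroup G) :=
    h1.to_sup_of_normal_right P.isPGroup'
  have h3 : (Subgroup.zpowers g ⊔ (P : Subgroup G) : Subgroup G) = P :=
    P.is_maximal' h2 le_sup_right
  rw [← h3]
  exact (le_sup_left : Subgroup.zpowers g ≤ _) (Subgroup.mem_zpowers g)

/-- In a group with a normal Sylow `p`-subgroup `P`, the elements of `p`-power order are exactly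
the elements of `P`. -/
theorem setOf_orderOf_pow_eq_of_normal {p : ℕ} [Fact p.Prime] (P : Sylow p G)
    [(P : Subgroup G).Normal] : {g : G | ∃ k : ℕ, orderOf g = p ^ k} = ((P : Subgroup G) : Set G) := by
  ext g
  constructor
  · rintro ⟨k, hk⟩
    exact mem_sylow_of_normal_of_orderOf P hk
  · intro hg
    exact exists_orderOf_eq_of_mem_isPGroup P.isPGroup' hg

/-- If the number of elements of `p`-power order is at most the order of a Sylow `p`-subgroup `P`,
then `P` is normal. -/
theorem sylow_normal_of_card_le [Finite G] {p : ℕ} [Fact p.Prime] (P : Sylow p G)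
    (h : Nat.card {g : G // ∃ k : ℕ, orderOf g = p ^ k} ≤ Nat.card (P : Subgroup G)) :
    (P : Subgroup G).Normal := by
  have hsub : ((P : Subgroup G) : Set G) ⊆ {g : G | ∃ k : ℕ, orderOf g = p ^ k} :=
    fun g hg => exists_orderOf_eq_of_mem_isPGroup P.isPGroup' hg
  have heq : ((P : Subgroup G) : Set G) = {g : G | ∃ k : ℕ, orderOf g = p ^ k} := by
    apply Set.eq_of_subset_of_ncard_le hsub _ (Set.toFinite _)
    rw [← Nat.card_coe_set_eq, ← Nat.card_coe_set_eq]
    exact h
  constructor
  intro n hn g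
  have hn' : n ∈ ((P : Subgroup G) : Set G) := hn
  rw [heq] at hn'
  obtain ⟨k, hk⟩ := hn'
  have : g * n * g⁻¹ ∈ ((P : Subgroup G) : Set G) := by
    rw [heq]
    exact ⟨k, by rw [orderOf_conj, hk]⟩
  exact this

end Cfsg.Agent.Helper20
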