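import Mathlib
import Cfsg.Agent.Lib.Helper20.SylowBasic

set_option autoImplicit false

namespace Cfsg.Agent.Helper20

open scoped Pointwise

variable {G : Type*} [Group G]

/-- Membership in a pointwise conjugate subgroup. -/
theorem mem_conj_smul_iff (g x : G) (H : Subgroup G) :
    x ∈ MulAut.conj g • H ↔ g⁻¹ * x * g ∈ H := by
  rw [Subgroup.mem_pointwise_smul_iff_inv_smul_mem, MulAut.smul_def, MulAut.conj_inv_apply]

/-- Membership in a conjugate Sylow subgroup. -/
theorem mem_sylow_smul_iff {p : ℕ} (g x : G) (P : Sylow p G) :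
    x ∈ ((g • P : Sylow p G) : Subgroup G) ↔ g⁻¹ * x * g ∈ (P : Subgroup G) := by
  rw [Sylow.coe_subgroup_smul, mem_conj_smul_iff]

/-- Any two Sylow `p`-subgroups of a finite group are conjugate. -/
theorem exists_conj_sylow [Finite G] {p : ℕ} [Fact p.Prime] (P Q : Sylow p G) :
    ∃ g : G, ∀ x : G, x ∈ (Q : Subgroup G) ↔ g⁻¹ * x * g ∈ (P : Subgroup G) := by
  obtain ⟨g, hg⟩ := MulAction.exists_smul_eq G P Q
  refine ⟨g, fun x => ?_⟩
  rw [← hg, mem_sylow_smul_iff]

/-- The subgroup generated by pairwise commuting elements of `p`-power order is a `p`-group. -/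
theorem isPGroup_closure_of_commute {p : ℕ} {S : Set G}
    (hcomm : ∀ x ∈ S, ∀ y ∈ S, x * y = y * x) (hp : ∀ x ∈ S, ∃ k : ℕ, x ^ p ^ k = 1) :
    IsPGroup p (Subgroup.closure S) := by
  have hc : IsMulCommutative (Subgroup.closure S) := Subgroup.isMulCommutative_closure hcomm
  have key : ∀ x ∈ Subgroup.closure S, ∃ k : ℕ, x ^ p ^ k = 1 := by
    intro x hx
    induction hx using Subgroup.closure_induction with
    | mem x hx => exact hp x hx
    | one => exact ⟨0, by simp⟩
    | mul x y hx hy ihx ihy =>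
      obtain ⟨k, hk⟩ := ihx
      obtain ⟨l, hl⟩ := ihy
      refine ⟨k + l, ?_⟩
      have hxy : Commute x y := by
        have := hc.is_comm.comm ⟨x, hx⟩ ⟨y, hy⟩
        exact congrArg Subtype.val this
      rw [hxy.mul_pow, pow_add, pow_mul, hk, one_pow, mul_comm (p ^ k), pow_mul, hl, one_pow, one_mul]
    | inv x hx ih =>
      obtain ⟨k, hk⟩ := ih
      exact ⟨k, by rw [inv_pow, hk, inv_one]⟩
  intro ⟨x, hx⟩
  obtain ⟨k, hk⟩ := key x hx
  exact ⟨k, Subtype.ext (by simpa using hk)⟩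

end Cfsg.Agent.Helper20
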