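import Mathlib
import Cfsg.Agent.Lib.Helper20.SylowConj

set_option autoImplicit false

namespace Cfsg.Agent.Helper20

variable {G : Type*} [Group G]

/-- An element of `p`-power order is conjugate into any given Sylow `p`-subgroup. -/
theorem exists_conj_mem_sylow [Finite G] {p : ℕ} [Fact p.Prime] (P : Sylow p G) {c : G}
    (hc : ∃ k : ℕ, orderOf c = p ^ k) : ∃ g : G, g⁻¹ * c * g ∈ (P : Subgroup G) := by
  obtain ⟨k, hk⟩ := hc
  obtain ⟨R, hR⟩ := (isPGroup_zpowers_of_orderOf hk).exists_le_sylow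
  obtain ⟨g, hg⟩ := exists_conj_sylow P R
  exact ⟨g, (hg c).mp (hR (Subgroup.mem_zpowers c))⟩

/-- An element of `p`-power order of a subgroup `K` containing the Sylow `p`-subgroup `P` of `G`
is conjugate into `P` by an element of `K`. -/
theorem exists_conj_mem_sylow_of_le [Finite G] {p : ℕ} [Fact p.Prime] (P : Sylow p G)
    {K : Subgroup G} (hPK : (P : Subgroup G) ≤ K) {c : G} (hcK : c ∈ K)
    (hc : ∃ k : ℕ, orderOf c = p ^ k) : ∃ g ∈ K, g⁻¹ * c * g ∈ (P : Subgroup G) := by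
  obtain ⟨k, hk⟩ := hc
  have hc' : ∃ k : ℕ, orderOf (⟨c, hcK⟩ : K) = p ^ k := ⟨k, by rw [← hk, Subgroup.orderOf_mk]⟩
  obtain ⟨g, hg⟩ := exists_conj_mem_sylow (P.subtype hPK) hc'
  refine ⟨(g : G), g.2, ?_⟩
  rw [Sylow.coe_subtype, Subgroup.mem_subgroupOf] at hg
  simpa using hg

end Cfsg.Agent.Helper20
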