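import Mathlib
import Cfsg.Agent.Lib.Helper20.SylowConj2
import Cfsg.Agent.Lib.Helper20.ConjUnion
import Cfsg.Agent.Lib.Helper20.PrimaryParts

set_option autoImplicit false

namespace Cfsg.Agent.Helper20

variable {G : Type*} [Group G]

/-- If `p` does not divide the index of the centralizer of `y`, then some conjugate of the Sylow
`p`-subgroup `P` centralizes `y`. -/
theorem exists_conj_sylow_commute [Finite G] {p : ℕ} [Fact p.Prime] (P : Sylow p G) (y : G)
    (hy : ¬ p ∣ (Subgroup.centralizer ({y} : Set G)).index) :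
    ∃ g : G, ∀ u ∈ (P : Subgroup G), (g⁻¹ * u * g) * y = y * (g⁻¹ * u * g) := by
  set C := Subgroup.centralizer ({y} : Set G) with hC
  have hcard : ¬ p ∣ Nat.card (G ⧸ C) := hy
  obtain ⟨q, hq⟩ := P.isPGroup'.nonempty_fixed_point_of_prime_not_dvd_card (G ⧸ C) hcard
  induction q using QuotientGroup.induction_on with | H g => ?_
  refine ⟨g, fun u hu => ?_⟩
  have h1 : (u • (g : G ⧸ C)) = (g : G ⧸ C) := hq ⟨u, hu⟩
  rw [MulAction.Quotient.smul_mk, QuotientGroup.eq, smul_eq_mul] at h1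
  have h2 : g⁻¹ * u * g ∈ C := by
    have e : g⁻¹ * u * g = ((u * g)⁻¹ * g)⁻¹ := by group
    rw [e]
    exact C.inv_mem h1
  exact Subgroup.mem_centralizer_singleton_iff.mp h2

/-- If every `p'`-element is centralized by some conjugate of the Sylow `p`-subgroup `P`, then `P`
is normal and centralized by every `p'`-element. -/
theorem sylow_normal_of_forall_conj_commute [Finite G] {p : ℕ} [Fact p.Prime] (P : Sylow p G)
    (h : ∀ y : G, (orderOf y).Coprime p →
      ∃ g : G, ∀ u ∈ (P : Subgroup G), (g⁻¹ * u * g) * y = y * (g⁻¹ * u * g)) :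
    (P : Subgroup G).Normal ∧
      ∀ y : G, (orderOf y).Coprime p → ∀ u ∈ (P : Subgroup G), u * y = y * u := by
  have hN : Subgroup.normalizer ((P : Subgroup G) : Set G) = ⊤ := by
    apply eq_top_of_forall_conj_mem
    intro x
    obtain ⟨u, v, hxuv, huv, hu, hv, -, -⟩ := exists_pPart_decomp p x (orderOf_pos x)
    obtain ⟨g, hg⟩ := h v hv
    -- P1 = g⁻¹ • P centralizes v
    set P1 : Sylow p G := g⁻¹ • P with hP1
    have hP1v : ∀ w ∈ (P1 : Subgroup G), w * v = v * w := by
      intro w hw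
      rw [hP1, mem_sylow_smul_iff, inv_inv] at hw
      have := hg _ hw
      have e : g⁻¹ * (g * w * g⁻¹) * g = w := by group
      rwa [e] at this
    have hP1C : (P1 : Subgroup G) ≤ Subgroup.centralizer ({v} : Set G) := by
      intro w hw
      exact Subgroup.mem_centralizer_singleton_iff.mpr (hP1v w hw)
    have huC : u ∈ Subgroup.centralizer ({v} : Set G) :=
      Subgroup.mem_centralizer_singleton_iff.mpr huv
    obtain ⟨c, hcC, hc⟩ := exists_conj_mem_sylow_of_le P1 hP1C huC hu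
    have hcv : c * v = v * c := Subgroup.mem_centralizer_singleton_iff.mp hcC
    -- k = c * g⁻¹
    refine ⟨c * g⁻¹, ?_⟩
    have e : (c * g⁻¹)⁻¹ * x * (c * g⁻¹) =
        ((c * g⁻¹)⁻¹ * u * (c * g⁻¹)) * ((c * g⁻¹)⁻¹ * v * (c * g⁻¹)) := by
      rw [hxuv]; group
    rw [e]
    apply Subgroup.mul_mem
    · apply Subgroup.le_normalizer
      have h1 : c⁻¹ * u * c ∈ (P1 : Subgroup G) := hc
      rw [hP1, mem_sylow_smul_iff, inv_inv] at h1
      have e2 : (c * g⁻¹)⁻¹ * u * (c * g⁻¹) = g * (c⁻¹ * u * c) * g⁻¹ := by group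
      rw [e2]; exact h1
    · apply Subgroup.centralizer_le_normalizer
      rw [Subgroup.mem_centralizer_iff]
      intro w hw
      -- w ∈ P; g⁻¹ w g ∈ P1 commutes with v; then conjugate by c
      have h1 : g⁻¹ * w * g ∈ (P1 : Subgroup G) := by
        rw [hP1, mem_sylow_smul_iff, inv_inv]
        have e3 : g * (g⁻¹ * w * g) * g⁻¹ = w := by group
        rw [e3]; exact hw
      have h2 := hP1v _ h1
      have hcv' : c⁻¹ * v * c = v := by rw [mul_assoc, hcv.symm]; group
      calc w * ((c * g⁻¹)⁻¹ * v * (c * g⁻¹))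
          = w * (g * (c⁻¹ * v * c) * g⁻¹) := by group
        _ = w * (g * v * g⁻¹) := by rw [hcv']
        _ = g * ((g⁻¹ * w * g) * v) * g⁻¹ := by group
        _ = g * (v * (g⁻¹ * w * g)) * g⁻¹ := by rw [h2]
        _ = (g * v * g⁻¹) * w := by group
        _ = (g * (c⁻¹ * v * c) * g⁻¹) * w := by rw [hcv']
        _ = ((c * g⁻¹)⁻¹ * v * (c * g⁻¹)) * w := by group
  have hPn : (P : Subgroup G).Normal := Subgroup.normalizer_eq_top_iff.mp hN
  refine ⟨hPn, ?_⟩
  intro y hy u hu
  obtain ⟨g, hg⟩ := h y hy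
  have h1 : g * u * g⁻¹ ∈ (P : Subgroup G) := hPn.conj_mem u hu g
  have := hg _ h1
  have e : g⁻¹ * (g * u * g⁻¹) * g = u := by group
  rwa [e] at this

end Cfsg.Agent.Helper20
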