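import Mathlib

set_option autoImplicit false

namespace Cfsg.Agent.Helper20

variable {G : Type*} [Group G]

/-- If `G = K H` then `|K : H ∩ K| = |G : H|`. -/
theorem relIndex_eq_index_of_mul (H K : Subgroup G)
    (h : ∀ g : G, ∃ k ∈ K, ∃ h ∈ H, g = k * h) : H.relIndex K = H.index := by
  unfold Subgroup.relIndex Subgroup.index
  apply Nat.card_congr
  refine Equiv.ofBijective (Quotient.map' (fun k : K => (k : G)) ?_) ⟨?_, ?_⟩
  · intro a b hab
    rw [QuotientGroup.leftRel_apply] at hab ⊢
    exact hab
  · intro a b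
    induction a using Quotient.inductionOn' with | h a => ?_
    induction b using Quotient.inductionOn' with | h b => ?_
    intro hab
    rw [Quotient.map'_mk'', Quotient.map'_mk'', Quotient.eq''] at hab
    apply Quotient.sound'
    rw [QuotientGroup.leftRel_apply] at hab ⊢
    exact hab
  · intro q
    induction q using Quotient.inductionOn' with | h g => ?_
    obtain ⟨k, hk, h', hh', rfl⟩ := h g
    refine ⟨Quotient.mk'' ⟨k, hk⟩, ?_⟩
    rw [Quotient.map'_mk'']
    apply Quotient.sound'
    rw [QuotientGroup.leftRel_apply]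
    simpa using hh'

/-- If `G = K H` then `|G : H ∩ K| = |G : H| |G : K|`. -/
theorem index_inf_of_mul (H K : Subgroup G)
    (h : ∀ g : G, ∃ k ∈ K, ∃ h ∈ H, g = k * h) : (H ⊓ K).index = H.index * K.index := by
  rw [← Subgroup.relIndex_mul_index (inf_le_right : H ⊓ K ≤ K), Subgroup.inf_relIndex_right,
    relIndex_eq_index_of_mul H K h]

/-- A subgroup of a finite group containing a Sylow `q`-subgroup for every prime `q` is the whole
group. -/
theorem eq_top_of_forall_sylow_le [Finite G] (N : Subgroup G)
    (h : ∀ (q : ℕ) [Fact q.Prime], ∃ Q : Sylow q G, (Q : Subgroup G) ≤ N) : N = ⊤ := by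
  apply Subgroup.eq_top_of_card_eq
  apply Nat.dvd_antisymm (Subgroup.card_subgroup_dvd_card N)
  rw [← Nat.factorization_prime_le_iff_dvd Nat.card_pos.ne' Nat.card_pos.ne']
  intro q hq
  have := Fact.mk hq
  obtain ⟨Q, hQ⟩ := h q
  have h1 : Nat.card (Q : Subgroup G) ∣ Nat.card N := Subgroup.card_dvd_of_le hQ
  rw [Sylow.card_eq_multiplicity] at h1
  exact (hq.pow_dvd_iff_le_factorization Nat.card_pos.ne').mp h1

end Cfsg.Agent.Helper20
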