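import Mathlib
import Cfsg.Agent.Lib.Helper20.SylowBasic
import Cfsg.Agent.Lib.Helper20.IndexLemmas

set_option autoImplicit false

namespace Cfsg.Agent.Helper20

variable {G : Type*} [Group G]

section internal

variable {P K : Subgroup G} (hPn : P.Normal) (hKn : K.Normal) (hinf : P ⊓ K = ⊥) (hsup : P ⊔ K = ⊤)

include hPn hKn hinf in
theorem df_commute {a b : G} (ha : a ∈ P) (hb : b ∈ K) : a * b = b * a :=
  (Subgroup.commute_of_normal_of_disjoint P K hPn hKn (disjoint_iff.mpr hinf) a b ha hb).eq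

include hKn hsup in
theorem df_decomp (g : G) : ∃ a ∈ P, ∃ b ∈ K, g = a * b := by
  have hg : g ∈ ((P ⊔ K : Subgroup G) : Set G) := by rw [hsup]; trivial
  have := hKn
  rw [Subgroup.mul_normal P K] at hg
  obtain ⟨a, ha, b, hb, rfl⟩ := Set.mem_mul.mp hg
  exact ⟨a, ha, b, hb, rfl⟩

include hinf in
theorem df_unique {a a' b b' : G} (ha : a ∈ P) (ha' : a' ∈ P) (hb : b ∈ K) (hb' : b' ∈ K)
    (h : a * b = a' * b') : a = a' ∧ b = b' := by
  have h1 : a'⁻¹ * a = b' * b⁻¹ := by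
    calc a'⁻¹ * a = a'⁻¹ * (a * b) * b⁻¹ := by group
      _ = a'⁻¹ * (a' * b') * b⁻¹ := by rw [h]
      _ = b' * b⁻¹ := by group
  have h2 : a'⁻¹ * a ∈ P ⊓ K := by
    refine Subgroup.mem_inf.mpr ⟨Subgroup.mul_mem _ (Subgroup.inv_mem _ ha') ha, ?_⟩
    rw [h1]
    exact Subgroup.mul_mem _ hb' (Subgroup.inv_mem _ hb)
  rw [hinf, Subgroup.mem_bot] at h2
  have h3 : a = a' := by
    calc a = a' * (a'⁻¹ * a) := by group
      _ = a' := by rw [h2, mul_one]
  refine ⟨h3, ?_⟩
  subst h3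
  exact mul_left_cancel h

end internal

/-- In a group with a Sylow `p`-subgroup `P` as direct factor with complement `K`, every element of
prime power order for a prime other than `p` lies in `K`. -/
theorem df_mem_right {p : ℕ} [Fact p.Prime] {P : Sylow p G} {K : Subgroup G}
    (hPn : (P : Subgroup G).Normal) (hKn : K.Normal) (hinf : (P : Subgroup G) ⊓ K = ⊥)
    (hsup : (P : Subgroup G) ⊔ K = ⊤) {y : G} {q b : ℕ} (hq : q.Prime) (hqp : q ≠ p)
    (hy : orderOf y = q ^ b) : y ∈ K := by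
  obtain ⟨u, hu, k, hk, rfl⟩ := df_decomp hKn hsup y
  have hc : Commute u k := df_commute hPn hKn hinf hu hk
  have h1 : (u * k) ^ (q ^ b) = 1 := by rw [← hy]; exact pow_orderOf_eq_one _
  rw [hc.mul_pow] at h1
  have h2 : u ^ (q ^ b) ∈ (P : Subgroup G) ⊓ K := by
    refine Subgroup.mem_inf.mpr ⟨Subgroup.pow_mem _ hu _, ?_⟩
    have : u ^ (q ^ b) = (k ^ (q ^ b))⁻¹ := eq_inv_of_mul_eq_one_left h1
    rw [this]
    exact Subgroup.inv_mem _ (Subgroup.pow_mem _ hk _)
  rw [hinf, Subgroup.mem_bot] at h2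
  obtain ⟨a, ha⟩ := exists_orderOf_eq_of_mem_isPGroup P.isPGroup' hu
  have h3 : orderOf u ∣ q ^ b := orderOf_dvd_of_pow_eq_one h2
  have hp : p.Prime := Fact.out
  have hcop : Nat.Coprime (p ^ a) (q ^ b) :=
    Nat.Coprime.pow _ _ ((Nat.coprime_primes hp hq).mpr hqp.symm)
  rw [ha] at h3
  have h4 : p ^ a = 1 := Nat.Coprime.eq_one_of_dvd hcop h3
  rw [h4] at ha
  rw [orderOf_eq_one_iff.mp ha, one_mul]
  exact hk

/-- direct factor ⟹ `p`-elements commute with `q`-elements. -/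
theorem commute_of_directFactor {p : ℕ} [Fact p.Prime] {P : Sylow p G} {K : Subgroup G}
    (hPn : (P : Subgroup G).Normal) (hKn : K.Normal) (hinf : (P : Subgroup G) ⊓ K = ⊥)
    (hsup : (P : Subgroup G) ⊔ K = ⊤) {x y : G} (hx : ∃ a : ℕ, orderOf x = p ^ a)
    (hy : ∃ q b : ℕ, q.Prime ∧ q ≠ p ∧ orderOf y = q ^ b) : x * y = y * x := by
  obtain ⟨a, ha⟩ := hx
  obtain ⟨q, b, hq, hqp, hb⟩ := hy
  have := hPn
  exact df_commute hPn hKn hinf (mem_sylow_of_normal_of_orderOf P ha)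
    (df_mem_right hPn hKn hinf hsup hq hqp hb)

/-- If `p`-elements commute with all elements of prime power order for other primes, then a Sylow
`p`-subgroup is a direct factor. -/
theorem directFactor_of_commute [Finite G] (p : ℕ) [Fact p.Prime]
    (h : ∀ x y : G, (∃ a : ℕ, orderOf x = p ^ a) →
      (∃ q b : ℕ, q.Prime ∧ q ≠ p ∧ orderOf y = q ^ b) → x * y = y * x) :
    ∃ (P : Sylow p G) (K : Subgroup G), (P : Subgroup G).Normal ∧ K.Normal ∧
      (P : Subgroup G) ⊓ K = ⊥ ∧ (P : Subgroup G) ⊔ K = ⊤ := by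
  let P : Sylow p G := default
  have hcent : ∀ (q : ℕ) [Fact q.Prime], q ≠ p → ∀ Q : Sylow q G,
      (Q : Subgroup G) ≤ Subgroup.centralizer ((P : Subgroup G) : Set G) := by
    intro q _ hq Q y hy
    rw [Subgroup.mem_centralizer_iff]
    intro x hx
    obtain ⟨a, ha⟩ := exists_orderOf_eq_of_mem_isPGroup P.isPGroup' hx
    obtain ⟨b, hb⟩ := exists_orderOf_eq_of_mem_isPGroup Q.isPGroup' hy
    exact h x y ⟨a, ha⟩ ⟨q, b, Fact.out, hq, hb⟩
  have hnorm : Subgroup.normalizer ((P : Subgroup G) : Set G) = ⊤ := by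
    apply eq_top_of_forall_sylow_le
    intro q _
    by_cases hq : q = p
    · subst hq
      exact ⟨P, Subgroup.le_normalizer⟩
    · exact ⟨default, (hcent q hq default).trans (Subgroup.centralizer_le_normalizer _)⟩
  have hPn : (P : Subgroup G).Normal := Subgroup.normalizer_eq_top_iff.mp hnorm
  obtain ⟨H, hH⟩ := Subgroup.exists_right_complement'_of_coprime (P.card_coprime_index)
  have hdisj : (P : Subgroup G) ⊓ H = ⊥ := hH.disjoint.eq_bot
  have hHc : H ≤ Subgroup.centralizer ((P : Subgroup G) : Set G) := by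
    have htop : (Subgroup.centralizer ((P : Subgroup G) : Set G)).subgroupOf H = ⊤ := by
      apply eq_top_of_forall_sylow_le
      intro q _
      refine ⟨default, ?_⟩
      intro y hy
      rw [Subgroup.mem_subgroupOf, Subgroup.mem_centralizer_iff]
      intro x hx
      obtain ⟨b, hb⟩ := exists_orderOf_eq_of_mem_isPGroup (default : Sylow q H).isPGroup' hy
      have hb' : orderOf (y : G) = q ^ b := by rw [Subgroup.orderOf_coe, hb]
      by_cases hq : q = p
      · subst hq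
        have h1 : (y : G) ∈ (P : Subgroup G) := mem_sylow_of_normal_of_orderOf P hb'
        have h2 : (y : G) ∈ (P : Subgroup G) ⊓ H := Subgroup.mem_inf.mpr ⟨h1, y.2⟩
        rw [hdisj, Subgroup.mem_bot] at h2
        rw [h2, one_mul, mul_one]
      · obtain ⟨a, ha⟩ := exists_orderOf_eq_of_mem_isPGroup P.isPGroup' hx
        exact h x y ⟨a, ha⟩ ⟨q, b, Fact.out, hq, hb'⟩
    intro y hy
    have : (⟨y, hy⟩ : H) ∈ (Subgroup.centralizer ((P : Subgroup G) : Set G)).subgroupOf H := by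
      rw [htop]; trivial
    exact Subgroup.mem_subgroupOf.mp this
  have hHn : H.Normal := by
    constructor
    intro n hn g
    obtain ⟨⟨x, h'⟩, hxh⟩ := hH.2 g
    have hg : g = (x : G) * (h' : G) := hxh.symm
    have hc : ∀ m ∈ H, (x : G) * m = m * (x : G) := by
      intro m hm
      have := hHc hm
      rw [Subgroup.mem_centralizer_iff] at this
      exact this x x.2
    have e : g * n * g⁻¹ = (h' : G) * n * (h' : G)⁻¹ := by
      have h1 : ((h' : G) * n * (h' : G)⁻¹) ∈ H :=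
        Subgroup.mul_mem _ (Subgroup.mul_mem _ h'.2 hn) (Subgroup.inv_mem _ h'.2)
      calc g * n * g⁻¹ = (x : G) * ((h' : G) * n * (h' : G)⁻¹) * (x : G)⁻¹ := by rw [hg]; group
        _ = ((h' : G) * n * (h' : G)⁻¹) * (x : G) * (x : G)⁻¹ := by rw [hc _ h1]
        _ = (h' : G) * n * (h' : G)⁻¹ := by group
    rw [e]
    exact Subgroup.mul_mem _ (Subgroup.mul_mem _ h'.2 hn) (Subgroup.inv_mem _ h'.2)
  exact ⟨P, H, hPn, hHn, hdisj, hH.sup_eq_top⟩

end Cfsg.Agent.Helper20
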