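import Mathlib
import Cfsg.Prelude.Def_Transfer

/-!
# S4395 (maximal Schmidt groups): definitions

* `MinNonPNilp p X` : `X` is minimal non-`p`-nilpotent.
* `Heis β` : the group on `V × C` with `(v,c)(v',c') = (v+v', c+c'+β v v')`, `β` biadditive.
* `Heis.autHom β` : additive automorphisms of `V` preserving `β` act on `Heis β`.
* `cycHom n g hg : Multiplicative (ZMod n) →* M`, `1 ↦ g` (for `g ^ n = 1`).
* `G0 β m n` : `Heis β ⋊ C_n`, the generator of `C_n` acting through `m`.
-/

set_option autoImplicit false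

namespace Cfsg.Agent.Helper20.Sch

/-- minimal non-`p`-nilpotent group -/
def MinNonPNilp (p : ℕ) (X : Type*) [Group X] : Prop :=
  ¬ Cfsg.HasNormalPComplement p X ∧
    ∀ K : Subgroup X, K ≠ ⊤ → Cfsg.HasNormalPComplement p ↥K

/-- Heisenberg-type group attached to a biadditive map. -/
@[ext] structure Heis {V C : Type*} [AddCommGroup V] [AddCommGroup C] (β : V →+ V →+ C) where
  /-- the `V`-coordinate -/
  fst : V
  /-- the `C`-coordinate -/
  snd : C

namespace Heis

variable {V C : Type*} [AddCommGroup V] [AddCommGroup C] (β : V →+ V →+ C)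

instance : Mul (Heis β) := ⟨fun a b => ⟨a.fst + b.fst, a.snd + b.snd + β a.fst b.fst⟩⟩
instance : One (Heis β) := ⟨⟨0, 0⟩⟩
instance : Inv (Heis β) := ⟨fun a => ⟨-a.fst, -a.snd + β a.fst a.fst⟩⟩

@[simp] theorem mul_fst (a b : Heis β) : (a * b).fst = a.fst + b.fst := rfl
@[simp] theorem mul_snd (a b : Heis β) : (a * b).snd = a.snd + b.snd + β a.fst b.fst := rfl
@[simp] theorem one_fst : (1 : Heis β).fst = 0 := rfl
@[simp] theorem one_snd : (1 : Heis β).snd = 0 := rfl
@[simp] theorem inv_fst (a : Heis β) : (a⁻¹).fst = -a.fst := rfl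
@[simp] theorem inv_snd (a : Heis β) : (a⁻¹).snd = -a.snd + β a.fst a.fst := rfl

instance : Group (Heis β) :=
  Group.ofLeftAxioms
    (fun a b c => by
      ext
      · simp [add_assoc]
      · simp only [mul_snd, mul_fst, map_add, AddMonoidHom.add_apply]; abel)
    (fun a => by ext <;> simp)
    (fun a => by ext <;> simp)

/-- the projection to `V` -/
def fstHom : Heis β →* Multiplicative V where
  toFun a := Multiplicative.ofAdd a.fst
  map_one' := rfl
  map_mul' _ _ := rfl

@[simp] theorem fstHom_apply (a : Heis β) : fstHom β a = Multiplicative.ofAdd a.fst := rfl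

/-- the central embedding of `C` -/
def sndHom : Multiplicative C →* Heis β where
  toFun c := ⟨0, Multiplicative.toAdd c⟩
  map_one' := rfl
  map_mul' a b := by ext <;> simp

@[simp] theorem sndHom_apply_fst (c : Multiplicative C) : (sndHom β c).fst = 0 := rfl
@[simp] theorem sndHom_apply_snd (c : Multiplicative C) :
    (sndHom β c).snd = Multiplicative.toAdd c := rfl

/-- the automorphism of `Heis β` induced by an additive automorphism `m` of `V` preserving `β` -/
def aut (m : V ≃+ V) (hm : ∀ x y, β (m x) (m y) = β x y) : MulAut (Heis β) where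
  toFun a := ⟨m a.fst, a.snd⟩
  invFun a := ⟨m.symm a.fst, a.snd⟩
  left_inv a := by ext <;> simp
  right_inv a := by ext <;> simp
  map_mul' a b := by
    ext
    · simp
    · simp [hm a.fst b.fst]

@[simp] theorem aut_apply_fst (m : V ≃+ V) (hm : ∀ x y, β (m x) (m y) = β x y) (a : Heis β) :
    (aut β m hm a).fst = m a.fst := rfl
@[simp] theorem aut_apply_snd (m : V ≃+ V) (hm : ∀ x y, β (m x) (m y) = β x y) (a : Heis β) :
    (aut β m hm a).snd = a.snd := rfl

theorem aut_pow_apply (m : V ≃+ V) (hm : ∀ x y, β (m x) (m y) = β x y) (k : ℕ) (a : Heis β) :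
    ((aut β m hm) ^ k) a = ⟨m^[k] a.fst, a.snd⟩ := by
  induction k with
  | zero => rfl
  | succ k ih =>
    rw [pow_succ', MulAut.mul_apply, ih, Function.iterate_succ_apply']
    rfl

end Heis

/-- the homomorphism `C_n → M` sending the generator to `g` (with `g ^ n = 1`). -/
def cycHom {M : Type*} [Group M] (n : ℕ) (g : M) (hg : g ^ n = 1) :
    Multiplicative (ZMod n) →* M :=
  AddMonoidHom.toMultiplicativeLeft
    (ZMod.lift n ⟨zmultiplesHom (Additive M) (Additive.ofMul g), by
      simp only [zmultiplesHom_apply, natCast_zsmul]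
      rw [← ofMul_pow, hg]; rfl⟩)

theorem cycHom_intCast {M : Type*} [Group M] (n : ℕ) (g : M) (hg : g ^ n = 1) (z : ℤ) :
    cycHom n g hg (Multiplicative.ofAdd ((z : ℤ) : ZMod n)) = g ^ z := by
  simp only [cycHom, AddMonoidHom.toMultiplicativeLeft_apply_apply, toAdd_ofAdd, ZMod.lift_coe]
  simp [zmultiplesHom_apply, ← ofMul_zpow]

theorem cycHom_one {M : Type*} [Group M] (n : ℕ) (g : M) (hg : g ^ n = 1) :
    cycHom n g hg (Multiplicative.ofAdd (1 : ZMod n)) = g := by
  have := cycHom_intCast n g hg 1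
  simpa using this

section G0

variable {V C : Type*} [AddCommGroup V] [AddCommGroup C] (β : V →+ V →+ C)

/-- the action of `C_n` on `Heis β` through `m` (with `aut β m hm ^ n = 1`) -/
def actHom (m : V ≃+ V) (hm : ∀ x y, β (m x) (m y) = β x y) (n : ℕ)
    (hn : Heis.aut β m hm ^ n = 1) : Multiplicative (ZMod n) →* MulAut (Heis β) :=
  cycHom n (Heis.aut β m hm) hn

/-- `Heis β ⋊ C_n` -/
abbrev G0 (m : V ≃+ V) (hm : ∀ x y, β (m x) (m y) = β x y) (n : ℕ)
    (hn : Heis.aut β m hm ^ n = 1) : Type _ :=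
  Heis β ⋊[actHom β m hm n hn] Multiplicative (ZMod n)

theorem aut_pow_eq_one (m : V ≃+ V) (hm : ∀ x y, β (m x) (m y) = β x y) {q : ℕ}
    (hmq : ∀ x, m^[q] x = x) (r : ℕ) (hr : 1 ≤ r) : Heis.aut β m hm ^ (q ^ r) = 1 := by
  obtain ⟨s, rfl⟩ : ∃ s, r = s + 1 := ⟨r - 1, by omega⟩
  rw [pow_succ', pow_mul]
  have h1 : Heis.aut β m hm ^ q = 1 := by
    ext a
    · rw [Heis.aut_pow_apply]; exact hmq a.fst
    · rw [Heis.aut_pow_apply]; rfl
  rw [h1, one_pow]

end G0

/-- multiplication by a nonzero element of a field, as an additive automorphism -/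
def mulAddEquiv {F : Type*} [Field F] (μ : F) (hμ : μ ≠ 0) : F ≃+ F where
  toFun x := μ * x
  invFun x := μ⁻¹ * x
  left_inv x := by simp [← mul_assoc, inv_mul_cancel₀ hμ]
  right_inv x := by simp [← mul_assoc, mul_inv_cancel₀ hμ]
  map_add' := mul_add μ

@[simp] theorem mulAddEquiv_apply {F : Type*} [Field F] (μ : F) (hμ : μ ≠ 0) (x : F) :
    mulAddEquiv μ hμ x = μ * x := rfl

theorem mulAddEquiv_iterate {F : Type*} [Field F] (μ : F) (hμ : μ ≠ 0) (k : ℕ) (x : F) :
    (mulAddEquiv μ hμ)^[k] x = μ ^ k * x := by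
  induction k generalizing x with
  | zero => simp
  | succ k ih => rw [Function.iterate_succ_apply', ih, mulAddEquiv_apply, pow_succ']; ring

/-- the derived subgroup of a subgroup `P ≤ X`, as a subgroup of `X` -/
def derSub {X : Type*} [Group X] (P : Subgroup X) : Subgroup X :=
  (commutator ↥P).map P.subtype

end Cfsg.Agent.Helper20.Sch
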