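import Mathlib
import Cfsg.Prelude.Def_Solvable
import Cfsg.Prelude.Def_Local
import Cfsg.Prelude.Def_CaseTheorems
import Cfsg.Agent.Lib.Helper20.GL4SubDefs
import Cfsg.Agent.Lib.Helper12.FrattiniAct

set_option autoImplicit false

/-! Definitions for statement S3104: nonsolvable 2-constrained groups whose 2-core has
sectional 2-rank at most 4. -/

namespace Cfsg.Agent.Helper20.TC

open Cfsg Cfsg.Agent.Helper20.GL4Sub
open scoped Pointwise

/-- an elementary abelian 2-group of order 16 -/
def IsE16 (V : Type*) [Group V] : Prop :=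
  (∀ a b : V, a * b = b * a) ∧ (∀ a : V, a ^ 2 = 1) ∧ Nat.card V = 16

/-- the configuration of automorphisms of `V` that produces a section of rank 5:
three commuting independent involutions `a i` centralizing the four-group `W`, whose
products of two or three have all their fixed points in `W`, and for each `i` an
automorphism `c i` commuting with `a i` which has no fixed point on
`C_V(a i) / [V, a i]` outside the image of `W` -/
structure Good {V : Type*} [Group V] (a c : Fin 3 → MulAut V) (W : Subgroup V) : Prop where
  sq : ∀ i, a i * a i = 1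
  comm : ∀ i j, a i * a j = a j * a i
  indep : ∀ e : Fin 3 → Bool,
    (if e 0 then a 0 else 1) * (if e 1 then a 1 else 1) * (if e 2 then a 2 else 1) = 1 →
      ∀ i, e i = false
  card_W : Nat.card W = 4
  fixW : ∀ i, ∀ w ∈ W, a i w = w
  fix2 : ∀ i j, i ≠ j → ∀ v, (a i * a j) v = v → v ∈ W
  fix3 : ∀ v, (a 0 * a 1 * a 2) v = v → v ∈ W
  cc : ∀ i, c i * a i = a i * c i
  ffree : ∀ i v, a i v = v → (∃ u, c i v = v * (a i u * u⁻¹)) → v ∈ W

section sect

variable {X : Type*} [Group X]

/-- the preimage in `X` of the group generated by the `a i` -/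
def secY (R : Subgroup X) [R.Normal] (a : Fin 3 → MulAut (↥R ⧸ frattini ↥R)) : Subgroup X :=
  (Subgroup.closure (Set.range a)).comap (Cfsg.Agent.Helper12.FA.rho R)

/-- the preimage in `R ≤ X` of the subgroup `W` of the Frattini quotient -/
def secN (R : Subgroup X) (W : Subgroup (↥R ⧸ frattini ↥R)) : Subgroup X :=
  (W.comap (QuotientGroup.mk' (frattini ↥R))).map R.subtype

end sect

/-- the stabilizer in the alternating group of degree 8 of the pair `{i, j}` -/
def pairStab (i j : Fin 8) : Subgroup A8 :=
  (MulAction.stabilizer (Equiv.Perm (Fin 8)) ({i, j} : Set (Fin 8))).subgroupOf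
    (alternatingGroup (Fin 8))

/-! ### the model: the symmetric group of degree 6 on the even-weight vectors modulo the
all-ones vector, in coordinates -/

/-- the standard space of dimension 4 over the field with 2 elements -/
abbrev U4 : Type := Fin 4 → ZMod 2

/-- the permutation module of degree 6 -/
abbrev P6 : Type := Fin 6 → ZMod 2

/-- the even-weight vector with last coordinate 0 attached to `v` -/
def iota (v : U4) : P6 := ![v 0, v 1, v 2, v 3, v 0 + v 1 + v 2 + v 3, 0]

/-- coordinates of a vector modulo the all-ones vector -/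
def proj (w : P6) : U4 := ![w 0 + w 5, w 1 + w 5, w 2 + w 5, w 3 + w 5]

/-- the action of a permutation of degree 6 on `U4` -/
def act (σ : Equiv.Perm (Fin 6)) (v : U4) : U4 := proj (fun i => iota v (σ.symm i))

theorem proj_add (w w' : P6) : proj (w + w') = proj w + proj w' := by
  funext j
  fin_cases j <;> simp [proj] <;> ring

theorem iota_add (v v' : U4) : iota (v + v') = iota v + iota v' := by
  funext i
  fin_cases i <;> simp [iota] <;> ring

theorem proj_const (c : ZMod 2) : proj (fun _ => c) = 0 := by
  funext j
  have h : c + c = 0 := by revert c; decide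
  fin_cases j <;> simp [proj, h]

theorem proj_iota (v : U4) : proj (iota v) = v := by
  funext j
  fin_cases j <;> simp [proj, iota]

theorem sum_iota (v : U4) : ∑ i, iota v i = 0 := by
  have h : ∀ a b c d : ZMod 2, a + b + c + d + (a + b + c + d) + 0 = 0 := by decide
  simp [Fin.sum_univ_succ, iota]
  have := h (v 0) (v 1) (v 2) (v 3)
  rw [← this]; ring

theorem iota_proj (w : P6) (hw : ∑ i, w i = 0) : iota (proj w) = w + fun _ => w 5 := by
  have h : ∀ a b c d e f : ZMod 2, a + b + c + d + e + f = 0 →
      (a + f) + (b + f) + (c + f) + (d + f) = e + f ∧ f + f = 0 := by decide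
  have hs : w 0 + w 1 + w 2 + w 3 + w 4 + w 5 = 0 := by
    rw [← hw]; simp [Fin.sum_univ_succ]; ring
  obtain ⟨h1, h2⟩ := h _ _ _ _ _ _ hs
  funext i
  fin_cases i
  · simp [iota, proj]
  · simp [iota, proj]
  · simp [iota, proj]
  · simp [iota, proj]
  · simpa [iota, proj] using h1
  · simpa [iota, proj] using h2.symm

theorem act_add (σ : Equiv.Perm (Fin 6)) (v v' : U4) : act σ (v + v') = act σ v + act σ v' := by
  unfold act
  rw [iota_add, ← proj_add]
  rfl

theorem act_one (v : U4) : act 1 v = v := by
  unfold act
  exact proj_iota v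

theorem act_mul (σ τ : Equiv.Perm (Fin 6)) (v : U4) : act (σ * τ) v = act σ (act τ v) := by
  unfold act
  set w : P6 := fun j => iota v (τ.symm j) with hwdef
  have hw : ∑ i, w i = 0 := by
    rw [← sum_iota v]
    exact Equiv.sum_comp τ.symm (iota v)
  rw [iota_proj w hw]
  have h1 : (fun i => ((w + fun _ => w 5 : P6)) (σ.symm i)) =
      ((fun i => w (σ.symm i)) + fun _ => w 5 : P6) := by
    funext i; rfl
  rw [h1, proj_add, proj_const, add_zero]
  rfl

/-- the model group: `U4` written multiplicatively -/
abbrev V0 : Type := Multiplicative U4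

/-- the action of the symmetric group of degree 6 on the model group -/
def psi : Equiv.Perm (Fin 6) →* MulAut V0 where
  toFun σ :=
    { toFun := fun v => Multiplicative.ofAdd (act σ v.toAdd)
      invFun := fun v => Multiplicative.ofAdd (act σ⁻¹ v.toAdd)
      left_inv := fun v => by
        show Multiplicative.ofAdd (act σ⁻¹ (act σ v.toAdd)) = v
        rw [← act_mul, inv_mul_cancel, act_one]; rfl
      right_inv := fun v => by
        show Multiplicative.ofAdd (act σ (act σ⁻¹ v.toAdd)) = v
        rw [← act_mul, mul_inv_cancel, act_one]; rfl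
      map_mul' := fun v v' => by
        show Multiplicative.ofAdd (act σ (v.toAdd + v'.toAdd)) = _
        rw [act_add]; rfl }
  map_one' := by
    apply MulEquiv.ext
    intro v
    show Multiplicative.ofAdd (act 1 v.toAdd) = v
    rw [act_one]; rfl
  map_mul' σ τ := by
    apply MulEquiv.ext
    intro v
    show Multiplicative.ofAdd (act (σ * τ) v.toAdd) = Multiplicative.ofAdd (act σ (act τ v.toAdd))
    rw [act_mul]

theorem psi_apply (σ : Equiv.Perm (Fin 6)) (v : V0) :
    psi σ v = Multiplicative.ofAdd (act σ v.toAdd) := rfl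

/-! ### closed hypotheses linking the pieces of the odd-core case -/

/-- groups of small order not divisible by the order of a small simple group are solvable -/
def SolvSmall : Prop :=
  ∀ (H : Type) [Group H] [Finite H], Nat.card H ≤ 1092 → ¬ 60 ∣ Nat.card H →
    ¬ 168 ∣ Nat.card H → ¬ 360 ∣ Nat.card H → ¬ 504 ∣ Nat.card H → ¬ 660 ∣ Nat.card H →
      ¬ 1092 ∣ Nat.card H → Group.IsSolvable H

/-- the automorphism group of an elementary abelian group of order 3, 5, 7 or 9 is small -/
def Aut48 : Prop :=
  ∀ (M : Type) [Group M] [Finite M], (∀ a b : M, a * b = b * a) →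
    (Nat.card M = 3 ∨ Nat.card M = 5 ∨ Nat.card M = 7 ∨ Nat.card M = 9) →
    (Nat.card M = 9 → ∀ a : M, a ^ 3 = 1) → Nat.card (MulAut M) < 60

/-- the centralizer in the symmetric group of degree 8 of an element of order 3, 5 or 7
which is not a 3-cycle is small -/
def CentSmall : Prop :=
  ∀ (x : Equiv.Perm (Fin 8)) (p : ℕ), (p = 3 ∨ p = 5 ∨ p = 7) → orderOf x = p →
    ¬ x.IsThreeCycle →
      Nat.card (Subgroup.centralizer ({x} : Set (Equiv.Perm (Fin 8)))) < 60

/-- two subgroups of the alternating group of degree 8 isomorphic to the symmetric group of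
degree 6 are conjugate -/
def S6Conj : Prop :=
  ∀ G1 G2 : Subgroup A8, Nonempty (G1 ≃* Equiv.Perm (Fin 6)) →
    Nonempty (G2 ≃* Equiv.Perm (Fin 6)) →
      ∃ g : A8, G1.map (MulAut.conj g).toMonoidHom = G2

end Cfsg.Agent.Helper20.TC
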