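import Mathlib
import Cfsg.Agent.Lib.Helper10.EODefs

/-!
# S2264 piece EO-MINPOLY (helper20): the minimal polynomial of an isometry is self-reciprocal
-/

set_option autoImplicit false

open Polynomial Matrix

namespace Cfsg.Agent.Helper10.EO

section mat
variable {F : Type*} [Field F]

theorem eo_minpoly_aeval_transpose {ι : Type*} [Fintype ι] [DecidableEq ι]
    (A : Matrix ι ι F) (p : F[X]) : aeval Aᵀ p = (aeval A p)ᵀ := by
  rw [aeval_eq_sum_range, aeval_eq_sum_range, Matrix.transpose_sum]
  refine Finset.sum_congr rfl fun i _ => ?_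
  rw [Matrix.transpose_smul, Matrix.transpose_pow]

theorem eo_minpoly_pow_rel {ι : Type*} [Fintype ι] [DecidableEq ι]
    (A J : Matrix ι ι F) (hA : Aᵀ * J * A = J) (j : ℕ) : Aᵀ ^ j * J * A ^ j = J := by
  induction j with
  | zero => simp
  | succ j ih =>
    calc Aᵀ ^ (j + 1) * J * A ^ (j + 1)
        = Aᵀ ^ j * (Aᵀ * J * A) * A ^ j := by
          rw [pow_succ, pow_succ']
          simp only [Matrix.mul_assoc]
      _ = J := by rw [hA, ih]

theorem eo_minpoly_reflect_sum {ι : Type*} [Fintype ι] [DecidableEq ι]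
    (A : Matrix ι ι F) (p : F[X]) :
    aeval A p.reverse = ∑ j ∈ Finset.range (p.natDegree + 1), p.coeff j • A ^ (p.natDegree - j) := by
  have hdeg : p.reverse.natDegree < p.natDegree + 1 :=
    Nat.lt_succ_of_le (reverse_natDegree_le p)
  rw [aeval_eq_sum_range' hdeg, ← Finset.sum_range_reflect]
  refine Finset.sum_congr rfl fun j hj => ?_
  have hj' : j < p.natDegree + 1 := Finset.mem_range.1 hj
  have h1 : p.natDegree + 1 - 1 - j = p.natDegree - j := by omega
  rw [h1, coeff_reverse, revAt_le (by omega : p.natDegree - j ≤ p.natDegree)]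
  congr 2
  omega

theorem eo_minpoly_aeval_reverse {ι : Type*} [Fintype ι] [DecidableEq ι]
    (A J : Matrix ι ι F) (hJ : IsUnit J.det) (hA : Aᵀ * J * A = J) (p : F[X])
    (hp : aeval A p = 0) : aeval A p.reverse = 0 := by
  have key : J * aeval A p.reverse = (aeval Aᵀ p) * J * A ^ p.natDegree := by
    rw [eo_minpoly_reflect_sum, Finset.mul_sum, aeval_eq_sum_range, Finset.sum_mul, Finset.sum_mul]
    refine Finset.sum_congr rfl fun j hj => ?_
    have hj' : j ≤ p.natDegree := Nat.lt_succ_iff.1 (Finset.mem_range.1 hj)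
    rw [Matrix.mul_smul, Matrix.smul_mul, Matrix.smul_mul]
    congr 1
    have h2 : A ^ p.natDegree = A ^ j * A ^ (p.natDegree - j) := by
      rw [← pow_add]; congr 1; omega
    rw [h2, ← Matrix.mul_assoc, eo_minpoly_pow_rel A J hA j]
  rw [eo_minpoly_aeval_transpose, hp, Matrix.transpose_zero, Matrix.zero_mul,
    Matrix.zero_mul] at key
  have hJ' : IsUnit J := (Matrix.isUnit_iff_isUnit_det J).2 hJ
  exact (hJ'.mul_right_eq_zero).1 key

/-- PIECE EO-MINPOLY. -/
theorem minpoly_self_reciprocal {ι : Type*} [Fintype ι] [DecidableEq ι] [Nonempty ι]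
    (A J : Matrix ι ι F) (hJ : IsUnit J.det) (hA : Aᵀ * J * A = J) :
    (minpoly F A).coeff 0 ≠ 0 ∧ star (minpoly F A) = minpoly F A := by
  have hint : IsIntegral F A := Matrix.isIntegral A
  have hmonic : (minpoly F A).Monic := minpoly.monic hint
  have hne : minpoly F A ≠ 0 := hmonic.ne_zero
  -- `A` is invertible
  have hdetA : IsUnit A.det := by
    have h := congrArg Matrix.det hA
    rw [Matrix.det_mul, Matrix.det_mul, Matrix.det_transpose] at h
    have hJ0 : J.det ≠ 0 := hJ.ne_zero
    have h1 : A.det * A.det = 1 := by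
      have h2 : (A.det * A.det) * J.det = 1 * J.det :=
        calc (A.det * A.det) * J.det = A.det * J.det * A.det := by ring
          _ = J.det := h
          _ = 1 * J.det := (one_mul _).symm
      exact mul_right_cancel₀ hJ0 h2
    exact IsUnit.of_mul_eq_one _ h1
  have hAu : IsUnit A := (Matrix.isUnit_iff_isUnit_det A).2 hdetA
  -- constant coefficient
  have hc0 : (minpoly F A).coeff 0 ≠ 0 := by
    intro h0
    have hX : (X : F[X]) ∣ minpoly F A := X_dvd_iff.2 h0
    obtain ⟨g, hg⟩ := hX
    have hg0 : g ≠ 0 := by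
      rintro rfl
      rw [mul_zero] at hg
      exact hne hg
    have h1 : aeval A (minpoly F A) = 0 := minpoly.aeval F A
    rw [hg, map_mul, aeval_X] at h1
    have h2 : aeval A g = 0 := (hAu.mul_right_eq_zero).1 h1
    have h3 : minpoly F A ∣ g := minpoly.dvd F A h2
    have h4 : (minpoly F A).natDegree ≤ g.natDegree := natDegree_le_of_dvd h3 hg0
    have h5 : (minpoly F A).natDegree = g.natDegree + 1 := by
      rw [hg, natDegree_mul X_ne_zero hg0, natDegree_X, add_comm]
    omega
  refine ⟨hc0, ?_⟩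
  -- the reverse kills `A`
  have hrev : aeval A (minpoly F A).reverse = 0 :=
    eo_minpoly_aeval_reverse A J hJ hA _ (minpoly.aeval F A)
  have hdvd : minpoly F A ∣ (minpoly F A).reverse := minpoly.dvd F A hrev
  have htr : (minpoly F A).natTrailingDegree = 0 :=
    natTrailingDegree_eq_zero.2 (Or.inr hc0)
  have hdeg : (minpoly F A).reverse.natDegree = (minpoly F A).natDegree := by
    rw [reverse_natDegree, htr, Nat.sub_zero]
  have hlead : (minpoly F A).reverse.leadingCoeff = (minpoly F A).coeff 0 := by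
    rw [reverse_leadingCoeff, trailingCoeff, htr]
  have hrne : (minpoly F A).reverse ≠ 0 := fun h => hne (reverse_eq_zero.1 h)
  obtain ⟨g, hg⟩ := hdvd
  have hg0 : g ≠ 0 := by
    rintro rfl
    rw [mul_zero] at hg
    exact hrne hg
  have hgdeg : g.natDegree = 0 := by
    have h1 : (minpoly F A).reverse.natDegree = (minpoly F A).natDegree + g.natDegree := by
      rw [hg, natDegree_mul hne hg0]
    omega
  obtain ⟨c, hc⟩ : ∃ c, g = C c := ⟨g.coeff 0, eq_C_of_natDegree_eq_zero hgdeg⟩
  have hcval : c = (minpoly F A).coeff 0 := by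
    have h1 : (minpoly F A).reverse.leadingCoeff = c := by
      rw [hg, hc, leadingCoeff_mul, hmonic.leadingCoeff, one_mul, leadingCoeff_C]
    rw [← h1, hlead]
  unfold star
  rw [hg, hc, hcval, mul_comm (minpoly F A) _, ← mul_assoc, ← C_mul, inv_mul_cancel₀ hc0, C_1,
    one_mul]

end mat

end Cfsg.Agent.Helper10.EO
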