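import Mathlib
import Cfsg.Agent.Lib.Helper11.FHDefs

/-!
# Feit–Higman (S1142), piece TRIG (helper20)

Trigonometric closed forms of the Lucas sequences `aseq`, `bseq`, the relation between them, and
the bounds on `yj`.
-/

set_option autoImplicit false

namespace Cfsg.Agent.Helper11.FH

open Matrix Real

theorem aseq_trig (u θ : ℝ) (k : ℕ) :
    aseq (2 * u * cos θ) (u ^ 2) (k + 1) * sin θ = u ^ k * sin ((k + 1) * θ) := by
  induction k using Nat.twoStepInduction with
  | zero => simp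
  | one =>
    rw [show (1 : ℕ) + 1 = 0 + 2 from rfl, aseq_add_two]
    simp only [zero_add, aseq_one, aseq_zero, mul_one, mul_zero, sub_zero, pow_one, Nat.cast_one]
    rw [show ((1 : ℝ) + 1) * θ = 2 * θ by ring, sin_two_mul]
    ring
  | more k ih1 ih2 =>
    rw [show k + 2 + 1 = (k + 1) + 2 from rfl, aseq_add_two]
    have e1 : (((k + 2 : ℕ) : ℝ) + 1) * θ = ((k : ℝ) + 2) * θ + θ := by push_cast; ring
    have e2 : (((k + 1 : ℕ) : ℝ) + 1) * θ = ((k : ℝ) + 2) * θ := by push_cast; ring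
    have e3 : ((k : ℝ) + 1) * θ = ((k : ℝ) + 2) * θ - θ := by ring
    rw [e2] at ih2
    rw [e3] at ih1
    rw [e1, sin_add]
    rw [sin_sub] at ih1
    have h : (2 * u * cos θ * aseq (2 * u * cos θ) (u ^ 2) (k + 1 + 1) -
        u ^ 2 * aseq (2 * u * cos θ) (u ^ 2) (k + 1)) * sin θ =
        2 * u * cos θ * (aseq (2 * u * cos θ) (u ^ 2) (k + 1 + 1) * sin θ) -
        u ^ 2 * (aseq (2 * u * cos θ) (u ^ 2) (k + 1) * sin θ) := by ring
    rw [h, ih1, ih2]
    ring

theorem bseq_trig (u θ : ℝ) (k : ℕ) :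
    bseq (2 * u * cos θ) (u ^ 2) k = 2 * u ^ k * cos (k * θ) := by
  induction k using Nat.twoStepInduction with
  | zero => simp
  | one => simp
  | more k ih1 ih2 =>
    rw [bseq_add_two, ih1, ih2]
    have e1 : ((k + 2 : ℕ) : ℝ) * θ = ((k : ℝ) + 1) * θ + θ := by push_cast; ring
    have e2 : ((k + 1 : ℕ) : ℝ) * θ = ((k : ℝ) + 1) * θ := by push_cast; ring
    have e3 : (k : ℝ) * θ = ((k : ℝ) + 1) * θ - θ := by ring
    rw [e1, e2, e3, cos_add, cos_sub]
    have hs : sin θ ^ 2 = 1 - cos θ ^ 2 := by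
      have := sin_sq_add_cos_sq θ
      linarith
    ring

/-- `b_{k+1} = y a_{k+1} - 2 p a_k` -/
theorem bseq_eq_aseq (y p : ℝ) (k : ℕ) :
    bseq y p (k + 1) = y * aseq y p (k + 1) - 2 * p * aseq y p k := by
  induction k using Nat.twoStepInduction with
  | zero => simp
  | one =>
    rw [show (1 : ℕ) + 1 = 0 + 2 from rfl, bseq_add_two, aseq_add_two]
    simp
    ring
  | more k ih1 ih2 =>
    rw [show k + 2 + 1 = (k + 1) + 2 from rfl, bseq_add_two, ih2, ih1, aseq_add_two (k := k + 1),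
      show k + 1 + 1 = k + 2 from rfl, aseq_add_two (k := k)]
    ring

theorem yj_bounds (n j : ℕ) (s t : ℝ) (hs : 1 < s) (ht : 1 < t) (hj : 0 < j) (hjn : 2 * j < n) :
    -(s + t) < yj n s t j ∧ yj n s t j < s * t + 1 ∧ (yj n s t j) ^ 2 < 4 * s * t := by
  have hn : (0 : ℝ) < n := by
    have : 0 < n := by omega
    exact_mod_cast this
  have hjR : (0 : ℝ) < j := by exact_mod_cast hj
  have hjnR : (2 : ℝ) * j < n := by exact_mod_cast hjn
  set θ : ℝ := 2 * π * j / n with hθ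
  have hθ0 : 0 < θ := by
    rw [hθ]; positivity
  have hθπ : θ < π := by
    rw [hθ, div_lt_iff₀ hn]
    have : 2 * π * j = π * (2 * j) := by ring
    rw [this]
    exact mul_lt_mul_of_pos_left hjnR pi_pos
  have hc1 : cos θ < 1 := by
    have h := cos_lt_cos_of_nonneg_of_le_pi (le_refl 0) hθπ.le hθ0
    simpa using h
  have hc2 : -1 < cos θ := by
    have h := cos_lt_cos_of_nonneg_of_le_pi hθ0.le (le_refl π) hθπ
    simpa using h
  have hst : 0 < s * t := by nlinarith
  set r : ℝ := Real.sqrt (s * t) with hr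
  have hr0 : 0 < r := Real.sqrt_pos.mpr hst
  have hr2 : r * r = s * t := Real.mul_self_sqrt hst.le
  have hy : yj n s t j = 2 * r * cos θ := rfl
  have h1 : 2 * r ≤ s + t := by
    nlinarith [sq_nonneg (s - t), sq_nonneg (s + t - 2 * r), sq_nonneg (s + t + 2 * r)]
  have h2 : 2 * r ≤ s * t + 1 := by
    nlinarith [sq_nonneg (r - 1)]
  refine ⟨?_, ?_, ?_⟩
  · rw [hy]
    nlinarith
  · rw [hy]
    nlinarith
  · rw [hy]
    have hc : cos θ ^ 2 < 1 := by nlinarith
    have : (2 * r * cos θ) ^ 2 = 4 * (s * t) * cos θ ^ 2 := by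
      rw [← hr2]; ring
    rw [this]
    nlinarith

end Cfsg.Agent.Helper11.FH
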