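import Mathlib

namespace Cfsg.Agent.Helper20.QuatReg

section LinAlg

variable {p : ℕ} [Fact p.Prime] {V : Type*} [AddCommGroup V] [Module (ZMod p) V]

theorem two_ne_zero_zmod (hp2 : p ≠ 2) : (2 : ZMod p) ≠ 0 := by
  intro h
  have h' : ((2 : ℕ) : ZMod p) = 0 := by exact_mod_cast h
  rw [ZMod.natCast_eq_zero_iff] at h'
  exact hp2 ((Nat.prime_dvd_prime_iff_eq (Fact.out : p.Prime) Nat.prime_two).mp h')

theorem card_sq (hp2 : p ≠ 2) (ξ η : V →ₗ[ZMod p] V)
    (hξ : ∀ v, ξ (ξ v) = -v) (hη : ∀ v, η (η v) = -v) (hηξ : ∀ v, η (ξ v) = -ξ (η v)) :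
    ∃ a b : ZMod p, Nat.card V = Nat.card {v : V // a • ξ v + b • η v = v} ^ 2 := by
  obtain ⟨a, b, hab⟩ := ZMod.sq_add_sq p (-1)
  refine ⟨a, b, ?_⟩
  set τ : V →ₗ[ZMod p] V := a • ξ + b • η with hτ
  have hτv : ∀ v, τ v = a • ξ v + b • η v := fun v => by simp [hτ]
  have hττ : ∀ v, τ (τ v) = v := by
    intro v
    have : τ (τ v) = (-(a^2 + b^2)) • v := by
      simp only [hτv, map_add, map_smul, hξ, hη, hηξ]
      module
    rw [this, hab]; simp
  have hτζ : ∀ v, τ (ξ (η v)) = - ξ (η (τ v)) := by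
    intro v
    simp only [hτv, map_add, map_smul, hξ, hη, hηξ, map_neg, neg_neg]
    module
  have hζζ : ∀ v, ξ (η (η (ξ v))) = v := by
    intro v; simp only [hη, map_neg, hξ, neg_neg]
  have hζζ' : ∀ v, η (ξ (ξ (η v))) = v := by
    intro v; simp only [hη, map_neg, hξ, neg_neg]
  -- W ≃ W'
  have e1 : {v : V // τ v = v} ≃ {v : V // τ v = -v} :=
    { toFun := fun v => ⟨ξ (η v.1), by rw [hτζ, v.2]⟩
      invFun := fun v => ⟨η (ξ v.1), by
        have h1 : η (ξ v.1) = -ξ (η v.1) := hηξ _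
        rw [h1, map_neg, hτζ, v.2, map_neg, map_neg, neg_neg]⟩
      left_inv := fun v => Subtype.ext (hζζ' v.1)
      right_inv := fun v => Subtype.ext (hζζ v.1) }
  set c : ZMod p := (2 : ZMod p)⁻¹ with hc
  have h2c : 2 * c = 1 := mul_inv_cancel₀ (two_ne_zero_zmod hp2)
  have e2 : V ≃ {v : V // τ v = v} × {v : V // τ v = -v} :=
    { toFun := fun v => (⟨c • (v + τ v), by
          rw [map_smul, map_add, hττ, add_comm]⟩,
        ⟨c • (v - τ v), by
          rw [map_smul, map_sub, hττ, ← smul_neg, neg_sub]⟩)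
      invFun := fun u => u.1.1 + u.2.1
      left_inv := fun v => by
        show c • (v + τ v) + c • (v - τ v) = v
        have : c • (v + τ v) + c • (v - τ v) = (2 * c) • v := by module
        rw [this, h2c, one_smul]
      right_inv := fun u => by
        obtain ⟨⟨u, hu⟩, ⟨u', hu'⟩⟩ := u
        apply Prod.ext
        · apply Subtype.ext
          show c • (u + u' + τ (u + u')) = u
          rw [map_add, hu, hu']
          have : c • (u + u' + (u + -u')) = (2 * c) • u := by module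
          rw [this, h2c, one_smul]
        · apply Subtype.ext
          show c • (u + u' - τ (u + u')) = u'
          rw [map_add, hu, hu']
          have : c • (u + u' - (u + -u')) = (2 * c) • u' := by module
          rw [this, h2c, one_smul] }
  have hW : {v : V // a • ξ v + b • η v = v} = {v : V // τ v = v} := by
    simp only [hτv]
  rw [hW, Nat.card_congr e2, Nat.card_prod, ← Nat.card_congr e1, sq]

end LinAlg


section Free

theorem card_dvd_of_free {D X : Type*} [Group D] [MulAction D X]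
    (hfree : ∀ (d : D) (x : X), d • x = x → d = 1) : Nat.card D ∣ Nat.card X := by
  have h : ∀ b : X, MulAction.stabilizer D b = ⊥ := fun b => by
    rw [Subgroup.eq_bot_iff_forall]; intro d hd; exact hfree d b hd
  rw [Nat.card_congr (MulAction.selfEquivOrbitsQuotientProd h), Nat.card_prod]
  exact dvd_mul_left _ _

theorem card_dvd_of_free' {D X : Type*} [Group D] (σ : D → X → X) (h1 : ∀ x, σ 1 x = x)
    (hmul : ∀ d d' x, σ (d * d') x = σ d (σ d' x)) (hfree : ∀ d x, σ d x = x → d = 1) :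
    Nat.card D ∣ Nat.card X := by
  letI : MulAction D X := { smul := σ, one_smul := h1, mul_smul := hmul }
  exact card_dvd_of_free hfree

end Free

section Rel

variable {H : Type*} [Group H] {x y g : H}

theorem yx_eq (hyx : y * x * y⁻¹ = x⁻¹) : y * x = x⁻¹ * y := by
  rw [← hyx]; group

theorem yxy (hy : y ^ 2 = x ^ 2) (hyx : y * x * y⁻¹ = x⁻¹) : y * x * y = x := by
  calc y * x * y = (y * x * y⁻¹) * y ^ 2 := by group
    _ = x := by rw [hyx, hy]; group

theorem cube_comm_x (hy : y ^ 2 = x ^ 2) (hyx : y * x * y⁻¹ = x⁻¹) (hgx : g * x * g⁻¹ = y)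
    (hgy : g * y * g⁻¹ = x * y) : g ^ 3 * x = x * g ^ 3 := by
  have h1 : g ^ 3 * x * (g ^ 3)⁻¹ = x := by
    calc g ^ 3 * x * (g ^ 3)⁻¹ = g * (g * (g * x * g⁻¹) * g⁻¹) * g⁻¹ := by
          simp only [pow_three']; group
      _ = g * (g * y * g⁻¹) * g⁻¹ := by rw [hgx]
      _ = g * (x * y) * g⁻¹ := by rw [hgy]
      _ = (g * x * g⁻¹) * (g * y * g⁻¹) := by group
      _ = y * (x * y) := by rw [hgx, hgy]
      _ = y * x * y := by group
      _ = x := yxy hy hyx
  calc g ^ 3 * x = (g ^ 3 * x * (g ^ 3)⁻¹) * g ^ 3 := by group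
    _ = x * g ^ 3 := by rw [h1]

theorem cube_comm_y (hy : y ^ 2 = x ^ 2) (hyx : y * x * y⁻¹ = x⁻¹) (hgx : g * x * g⁻¹ = y)
    (hgy : g * y * g⁻¹ = x * y) : g ^ 3 * y = y * g ^ 3 := by
  have h1 : g ^ 3 * y * (g ^ 3)⁻¹ = y := by
    calc g ^ 3 * y * (g ^ 3)⁻¹ = g * (g * (g * y * g⁻¹) * g⁻¹) * g⁻¹ := by
          simp only [pow_three']; group
      _ = g * (g * (x * y) * g⁻¹) * g⁻¹ := by rw [hgy]
      _ = g * ((g * x * g⁻¹) * (g * y * g⁻¹)) * g⁻¹ := by group
      _ = g * (y * (x * y)) * g⁻¹ := by rw [hgx, hgy]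
      _ = g * (y * x * y) * g⁻¹ := by group
      _ = g * x * g⁻¹ := by rw [yxy hy hyx]
      _ = y := hgx
  calc g ^ 3 * y = (g ^ 3 * y * (g ^ 3)⁻¹) * g ^ 3 := by group
    _ = y * g ^ 3 := by rw [h1]

theorem x2_ne (hx : orderOf x = 4) : x ^ 2 ≠ 1 := by
  intro h
  have := orderOf_dvd_of_pow_eq_one h
  rw [hx] at this
  omega

theorem x4_eq (hx : orderOf x = 4) : x ^ 4 = 1 := by
  rw [← hx]; exact pow_orderOf_eq_one x

theorem not_comm (hx : orderOf x = 4) (hyx : y * x * y⁻¹ = x⁻¹) : y * x ≠ x * y := by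
  intro h
  have h1 : x = x⁻¹ := by
    calc x = y * x * y⁻¹ := by rw [h]; group
      _ = x⁻¹ := hyx
  apply x2_ne hx
  calc x ^ 2 = x * x := pow_two x
    _ = x * x⁻¹ := by nth_rewrite 2 [h1]; rfl
    _ = 1 := mul_inv_cancel x

end Rel


section Grp

variable {H : Type*} [Group H] [Finite H] (T : Subgroup H) {x y g w : H}

theorem closure_eq (hT : Nat.card T = 8) (hxT : x ∈ T) (hyT : y ∈ T) (hx : orderOf x = 4)
    (hyx : y * x * y⁻¹ = x⁻¹) : Subgroup.closure {x, y} = T := by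
  set L := Subgroup.closure ({x, y} : Set H) with hL
  have hLT : L ≤ T := (Subgroup.closure_le T).mpr (by
    intro u hu
    rcases hu with rfl | rfl
    · exact hxT
    · exact hyT)
  have hxL : x ∈ L := Subgroup.subset_closure (by simp)
  have hyL : y ∈ L := Subgroup.subset_closure (by simp)
  have hzL : Subgroup.zpowers x ≤ L := (Subgroup.zpowers_le).mpr hxL
  have h4 : Nat.card (Subgroup.zpowers x) = 4 := by rw [Nat.card_zpowers, hx]
  have hd1 : 4 ∣ Nat.card L := by rw [← h4]; exact Subgroup.card_dvd_of_le hzL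
  have hd2 : Nat.card L ∣ 8 := by rw [← hT]; exact Subgroup.card_dvd_of_le hLT
  have hne : Nat.card L ≠ 4 := by
    intro h
    have : Subgroup.zpowers x = L := Subgroup.eq_of_le_of_card_ge hzL (by rw [h, h4])
    have hy' : y ∈ Subgroup.zpowers x := this ▸ hyL
    obtain ⟨i, rfl⟩ := Subgroup.mem_zpowers_iff.mp hy'
    apply not_comm hx hyx
    rw [← zpow_add_one, ← zpow_one_add, add_comm]
  have h8 : Nat.card L = 8 := by
    have hle : Nat.card L ≤ 8 := Nat.le_of_dvd (by norm_num) hd2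
    interval_cases (Nat.card L) <;> omega
  exact Subgroup.eq_of_le_of_card_ge hLT (by rw [h8, hT])

omit [Finite H] in
theorem mem_centralizer_T (hcl : Subgroup.closure {x, y} = T) {e : H} (hex : e * x = x * e)
    (hey : e * y = y * e) : e ∈ Subgroup.centralizer (T : Set H) := by
  rw [← hcl, Subgroup.centralizer_closure, Subgroup.mem_centralizer_iff]
  intro u hu
  rcases hu with rfl | rfl
  · exact hex.symm
  · exact hey.symm

omit [Finite H] in
theorem conj_mem_diff [T.Normal] (hx : orderOf x = 4) {u : H} (huT : u ∈ T)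
    (hu : u ^ 2 = x ^ 2) (h : H) : h * u * h⁻¹ ∈ (T : Set H) \ {1, x ^ 2} := by
  refine ⟨‹T.Normal›.conj_mem u huT h, ?_⟩
  have hsq : (h * u * h⁻¹) ^ 2 = h * x ^ 2 * h⁻¹ := by rw [conj_pow, hu]
  have hne : h * x ^ 2 * h⁻¹ ≠ 1 := by
    intro h1
    apply x2_ne hx
    calc x ^ 2 = h⁻¹ * (h * x ^ 2 * h⁻¹) * h := by group
      _ = 1 := by rw [h1]; group
  intro hmem
  rcases hmem with h1 | h1
  · rw [h1, one_pow] at hsq
    exact hne hsq.symm
  · have h1' : h * u * h⁻¹ = x ^ 2 := h1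
    rw [h1', ← pow_mul] at hsq
    norm_num at hsq
    rw [x4_eq hx] at hsq
    exact hne hsq.symm

theorem card_diff (hT : Nat.card T = 8) (hxT : x ∈ T) (hx : orderOf x = 4) :
    Nat.card ↥((T : Set H) \ {1, x ^ 2}) = 6 := by
  rw [Nat.card_coe_set_eq, Set.ncard_diff, Set.ncard_pair (x2_ne hx).symm]
  · have : (T : Set H).ncard = 8 := by
      rw [← Nat.card_coe_set_eq]; exact hT
    rw [this]
  · intro u hu
    rcases hu with rfl | rfl
    · exact T.one_mem
    · exact T.pow_mem hxT 2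

theorem index_le [T.Normal] (hT : Nat.card T = 8) (hxT : x ∈ T) (hyT : y ∈ T)
    (hx : orderOf x = 4) (hy : y ^ 2 = x ^ 2) (hyx : y * x * y⁻¹ = x⁻¹) :
    (Subgroup.centralizer (T : Set H)).index ≤ 36 := by
  set D := Subgroup.centralizer (T : Set H) with hD
  have hcl := closure_eq T hT hxT hyT hx hyx
  have hDx : ∀ e ∈ D, e * x = x * e := fun e he =>
    ((Subgroup.mem_centralizer_iff.mp he) x hxT).symm
  have hDy : ∀ e ∈ D, e * y = y * e := fun e he =>
    ((Subgroup.mem_centralizer_iff.mp he) y hyT).symm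
  let F : H ⧸ D → ↥((T : Set H) \ {1, x ^ 2}) × ↥((T : Set H) \ {1, x ^ 2}) := fun q =>
    Quotient.liftOn' q
      (fun h => (⟨h * x * h⁻¹, conj_mem_diff T hx hxT rfl h⟩,
        ⟨h * y * h⁻¹, conj_mem_diff T hx hyT hy h⟩))
      (by
        intro a b hab
        rw [QuotientGroup.leftRel_apply] at hab
        have hb : b = a * (a⁻¹ * b) := by group
        have e1 := hDx _ hab
        have e2 := hDy _ hab
        apply Prod.ext
        · apply Subtype.ext
          show a * x * a⁻¹ = b * x * b⁻¹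
          rw [hb]
          calc a * x * a⁻¹ = a * (x * (a⁻¹ * b)) * (a⁻¹ * b)⁻¹ * a⁻¹ := by group
            _ = a * ((a⁻¹ * b) * x) * (a⁻¹ * b)⁻¹ * a⁻¹ := by rw [e1]
            _ = a * (a⁻¹ * b) * x * (a * (a⁻¹ * b))⁻¹ := by group
        · apply Subtype.ext
          show a * y * a⁻¹ = b * y * b⁻¹
          rw [hb]
          calc a * y * a⁻¹ = a * (y * (a⁻¹ * b)) * (a⁻¹ * b)⁻¹ * a⁻¹ := by group
            _ = a * ((a⁻¹ * b) * y) * (a⁻¹ * b)⁻¹ * a⁻¹ := by rw [e2]
            _ = a * (a⁻¹ * b) * y * (a * (a⁻¹ * b))⁻¹ := by group)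
  have hF : Function.Injective F := by
    intro q q'
    induction q using QuotientGroup.induction_on with
    | H a =>
      induction q' using QuotientGroup.induction_on with
      | H b =>
        intro hab
        have h1 : a * x * a⁻¹ = b * x * b⁻¹ := congrArg (fun z => (z.1 : H)) hab
        have h2 : a * y * a⁻¹ = b * y * b⁻¹ := congrArg (fun z => (z.2 : H)) hab
        rw [QuotientGroup.eq]
        apply mem_centralizer_T T hcl
        · calc a⁻¹ * b * x = a⁻¹ * (b * x * b⁻¹) * b := by group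
            _ = a⁻¹ * (a * x * a⁻¹) * b := by rw [h1]
            _ = x * (a⁻¹ * b) := by group
        · calc a⁻¹ * b * y = a⁻¹ * (b * y * b⁻¹) * b := by group
            _ = a⁻¹ * (a * y * a⁻¹) * b := by rw [h2]
            _ = y * (a⁻¹ * b) := by group
  have h36 := Nat.card_le_card_of_injective F hF
  rw [Nat.card_prod, card_diff T hT hxT hx] at h36
  rw [Subgroup.index_eq_card]
  exact h36

theorem three_dvd_index [T.Normal] (hT : Nat.card T = 8) (hxT : x ∈ T) (hyT : y ∈ T)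
    (hx : orderOf x = 4) (hy : y ^ 2 = x ^ 2) (hyx : y * x * y⁻¹ = x⁻¹)
    (hgx : g * x * g⁻¹ = y) (hgy : g * y * g⁻¹ = x * y) :
    3 ∣ (Subgroup.centralizer (T : Set H)).index := by
  set D := Subgroup.centralizer (T : Set H) with hD
  have hcl := closure_eq T hT hxT hyT hx hyx
  have hg3 : g ^ 3 ∈ D :=
    mem_centralizer_T T hcl (cube_comm_x hy hyx hgx hgy) (cube_comm_y hy hyx hgx hgy)
  have hgD : g ∉ D := by
    intro hg
    have h1 := (Subgroup.mem_centralizer_iff.mp hg) x hxT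
    apply not_comm hx hyx
    have hyx' : y = x := by
      rw [← hgx, ← h1]; group
    rw [hyx']
  have ho : orderOf (g : H ⧸ D) = 3 := by
    apply orderOf_eq_prime
    · rw [← QuotientGroup.mk_pow, QuotientGroup.eq_one_iff]; exact hg3
    · rw [Ne, QuotientGroup.eq_one_iff]; exact hgD
  rw [Subgroup.index_eq_card, ← ho]
  exact orderOf_dvd_natCard _

theorem arith {n r d t idx : ℕ} (h1 : n + 1 = r ^ 2) (h2 : d * t + 1 = r) (h3 : n = idx * d)
    (h4 : 3 ∣ d) (h5 : 3 ∣ idx) (h6 : idx ≤ 36) (h7 : 8 ∣ n) (hn : 0 < n) : False := by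
  obtain ⟨d₁, rfl⟩ := h4
  obtain ⟨i₁, rfl⟩ := h5
  subst h2
  subst h3
  have hd₁ : 0 < d₁ := by
    rcases Nat.eq_zero_or_pos d₁ with h | h
    · subst h; simp at hn
    · exact h
  have key : 3 * i₁ = 3 * d₁ * t ^ 2 + 2 * t := by
    have : 3 * d₁ * (3 * i₁) = 3 * d₁ * (3 * d₁ * t ^ 2 + 2 * t) := by
      nlinarith [h1]
    exact Nat.eq_of_mul_eq_mul_left (by omega) this
  have ht : t ≤ 18 := by
    have : 2 * t ≤ 3 * i₁ := by rw [key]; exact Nat.le_add_left _ _
    omega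
  interval_cases t
  · have hi : i₁ = 0 := by omega
    subst hi
    simp at hn
  · omega
  · omega
  · have hd : d₁ = 1 := by omega
    have hi : i₁ = 11 := by omega
    subst hd; subst hi
    omega
  all_goals omega

end Grp


section Main

variable {H K : Type*} [Group H] [CommGroup K] (φ : H →* MulAut K)

/-- the additive version of the action -/
def dl (h : H) : Additive K →+ Additive K := MonoidHom.toAdditive (φ h).toMonoidHom

theorem dl_apply (h : H) (v : Additive K) :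
    dl φ h v = Additive.ofMul (φ h (Additive.toMul v)) := rfl

theorem dl_mul (h h' : H) (v : Additive K) : dl φ (h * h') v = dl φ h (dl φ h' v) := by
  simp only [dl_apply, map_mul, MulAut.mul_apply, toMul_ofMul]

theorem dl_one (v : Additive K) : dl φ 1 v = v := by
  simp only [dl_apply, map_one, MulAut.one_apply, ofMul_toMul]

theorem act_sq_eq_inv (hfree : ∀ (h : H) (k : K), k ≠ 1 → φ h k = k → h = 1) {x : H}
    (hx : orderOf x = 4) (k : K) : φ (x ^ 2) k = k⁻¹ := by
  by_contra hne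
  have h1 : k * φ (x ^ 2) k ≠ 1 := fun h => hne (by
    rw [eq_inv_iff_mul_eq_one, mul_comm]; exact h)
  have h2 : φ (x ^ 2) (k * φ (x ^ 2) k) = k * φ (x ^ 2) k := by
    rw [map_mul, ← MulAut.mul_apply, ← map_mul, ← pow_add,
      show x ^ (2 + 2) = 1 from x4_eq hx, map_one, MulAut.one_apply, mul_comm]
  exact x2_ne hx (hfree _ _ h1 h2)

theorem card_add_one [Finite K] (hK : ∃ k : K, k ≠ 1)
    (hfree : ∀ (h : H) (k : K), k ≠ 1 → φ h k = k → h = 1)
    (htrans : ∀ k k' : K, k ≠ 1 → k' ≠ 1 → ∃ h : H, φ h k = k') :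
    Nat.card H + 1 = Nat.card K := by
  obtain ⟨k0, hk0⟩ := hK
  let f : H → ↥({1}ᶜ : Set K) := fun h => ⟨φ h k0, by
    show φ h k0 ≠ 1
    exact (EmbeddingLike.map_ne_one_iff).mpr hk0⟩
  have hinj : Function.Injective f := by
    intro h h' hh
    have h1 : φ h k0 = φ h' k0 := congrArg Subtype.val hh
    have h2 : φ (h'⁻¹ * h) k0 = k0 := by
      rw [map_mul, MulAut.mul_apply, h1, ← MulAut.mul_apply, ← map_mul, inv_mul_cancel,
        map_one, MulAut.one_apply]
    have := hfree _ _ hk0 h2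
    exact (inv_mul_eq_one.mp this).symm
  have hsurj : Function.Surjective f := by
    rintro ⟨k, hk⟩
    obtain ⟨h, hh⟩ := htrans k0 k hk0 hk
    exact ⟨h, Subtype.ext hh⟩
  rw [Nat.card_congr (Equiv.ofBijective f ⟨hinj, hsurj⟩), Nat.card_coe_set_eq,
    ← Set.ncard_add_ncard_compl ({1} : Set K), Set.ncard_singleton, add_comm]

theorem core [Finite H] [Finite K] {p : ℕ} [Fact p.Prime] [Module (ZMod p) (Additive K)]
    (hp2 : p ≠ 2) (hK : ∃ k : K, k ≠ 1)
    (hfree : ∀ (h : H) (k : K), k ≠ 1 → φ h k = k → h = 1)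
    (htrans : ∀ k k' : K, k ≠ 1 → k' ≠ 1 → ∃ h : H, φ h k = k') (T : Subgroup H) [T.Normal]
    (hT : Nat.card T = 8) (x y g w : H) (hxT : x ∈ T) (hyT : y ∈ T) (hx : orderOf x = 4)
    (hy : y ^ 2 = x ^ 2) (hyx : y * x * y⁻¹ = x⁻¹) (hgx : g * x * g⁻¹ = y)
    (hgy : g * y * g⁻¹ = x * y) (hw : orderOf w = 3) (hwc : w ∈ Subgroup.center H) : False := by
  have hz : ∀ k, φ (x ^ 2) k = k⁻¹ := act_sq_eq_inv φ hfree hx
  have hzv : ∀ v : Additive K, dl φ (x ^ 2) v = -v := by
    intro v; rw [dl_apply, hz]; rfl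
  let ξ : Additive K →ₗ[ZMod p] Additive K := (dl φ x).toZModLinearMap p
  let η : Additive K →ₗ[ZMod p] Additive K := (dl φ y).toZModLinearMap p
  have hξv : ∀ v, ξ v = dl φ x v := fun v => rfl
  have hηv : ∀ v, η v = dl φ y v := fun v => rfl
  have hξ : ∀ v, ξ (ξ v) = -v := by
    intro v
    rw [hξv, hξv, ← dl_mul, ← pow_two, hzv]
  have hη : ∀ v, η (η v) = -v := by
    intro v
    rw [hηv, hηv, ← dl_mul, ← pow_two, hy, hzv]
  have hηξ : ∀ v, η (ξ v) = -ξ (η v) := by
    intro v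
    rw [hηv, hξv, hξv, hηv, ← dl_mul, ← dl_mul]
    have hxi : x⁻¹ = x ^ 3 := inv_eq_of_mul_eq_one_right (by rw [← pow_succ']; exact x4_eq hx)
    have : y * x = x ^ 2 * (x * y) := by
      rw [yx_eq hyx, hxi, ← mul_assoc, ← pow_succ]
    rw [this, dl_mul, hzv]
  obtain ⟨a, b, hcard⟩ := card_sq hp2 ξ η hξ hη hηξ
  set D := Subgroup.centralizer (T : Set H) with hD
  have hDx : ∀ e ∈ D, e * x = x * e := fun e he =>
    ((Subgroup.mem_centralizer_iff.mp he) x hxT).symm
  have hDy : ∀ e ∈ D, e * y = y * e := fun e he =>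
    ((Subgroup.mem_centralizer_iff.mp he) y hyT).symm
  -- the fixed space of τ
  set S : Set (Additive K) := {v | a • ξ v + b • η v = v} with hS
  have h0S : (0 : Additive K) ∈ S := by
    show a • ξ 0 + b • η 0 = 0
    simp
  have hσ : ∀ (d : D) (v : ↥(S \ {0})), dl φ d.1 v.1 ∈ S \ {0} := by
    intro d v
    constructor
    · show a • ξ (dl φ d.1 v.1) + b • η (dl φ d.1 v.1) = dl φ d.1 v.1
      have e1 : ξ (dl φ d.1 v.1) = dl φ d.1 (ξ v.1) := by
        rw [hξv, hξv, ← dl_mul, ← dl_mul, hDx d.1 d.2]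
      have e2 : η (dl φ d.1 v.1) = dl φ d.1 (η v.1) := by
        rw [hηv, hηv, ← dl_mul, ← dl_mul, hDy d.1 d.2]
      rw [e1, e2, ← ZMod.map_smul (dl φ d.1) a, ← ZMod.map_smul (dl φ d.1) b, ← map_add]
      congr 1
      exact v.2.1
    · intro h0
      have h0' : dl φ d.1 v.1 = 0 := h0
      apply v.2.2
      show v.1 = 0
      calc v.1 = dl φ (d.1⁻¹ * d.1) v.1 := by rw [inv_mul_cancel, dl_one]
        _ = 0 := by rw [dl_mul, h0', map_zero]
  have hdvd : Nat.card D ∣ Nat.card ↥(S \ {0}) := by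
    apply card_dvd_of_free' (fun (d : D) (v : ↥(S \ {0})) => (⟨dl φ d.1 v.1, hσ d v⟩ : ↥(S \ {0})))
    · intro v
      apply Subtype.ext
      show dl φ 1 v.1 = v.1
      exact dl_one φ _
    · intro d d' v
      apply Subtype.ext
      show dl φ (d.1 * d'.1) v.1 = dl φ d.1 (dl φ d'.1 v.1)
      exact dl_mul φ _ _ _
    · intro d v hv
      have h1 : dl φ d.1 v.1 = v.1 := congrArg Subtype.val hv
      have h2 : (Additive.toMul v.1 : K) ≠ 1 := fun h => v.2.2 (by
        show v.1 = 0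
        exact h)
      exact Subtype.ext (hfree d.1 (Additive.toMul v.1) h2 h1)
  obtain ⟨t, ht⟩ := hdvd
  have hr : Nat.card D * t + 1 = Nat.card {v : Additive K // a • ξ v + b • η v = v} := by
    rw [← ht, Nat.card_coe_set_eq, Set.ncard_diff_singleton_add_one h0S (Set.toFinite _),
      ← Nat.card_coe_set_eq]
    rfl
  have hn1 : Nat.card H + 1 = Nat.card {v : Additive K // a • ξ v + b • η v = v} ^ 2 := by
    rw [← hcard, card_add_one φ hK hfree htrans]
    rfl
  have hn3 : Nat.card H = D.index * Nat.card D := (Subgroup.index_mul_card D).symm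
  have h3D : 3 ∣ Nat.card D := by
    rw [← hw]
    exact Subgroup.orderOf_dvd_natCard D (Subgroup.center_le_centralizer _ hwc)
  have h3i : 3 ∣ D.index := three_dvd_index T hT hxT hyT hx hy hyx hgx hgy
  have h36 : D.index ≤ 36 := index_le T hT hxT hyT hx hy hyx
  have h8 : 8 ∣ Nat.card H := by
    rw [← hT]; exact Subgroup.card_subgroup_dvd_card T
  exact arith hn1 hr hn3 h3D h3i h36 h8 Nat.card_pos

theorem no_quat_regular {H K : Type*} [Group H] [Finite H] [CommGroup K] [Finite K]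
    (φ : H →* MulAut K) (p : ℕ) (hp : p.Prime) (hp2 : p ≠ 2) (hexp : ∀ k : K, k ^ p = 1)
    (hK : ∃ k : K, k ≠ 1) (hfree : ∀ (h : H) (k : K), k ≠ 1 → φ h k = k → h = 1)
    (htrans : ∀ k k' : K, k ≠ 1 → k' ≠ 1 → ∃ h : H, φ h k = k') (T : Subgroup H) [T.Normal]
    (hT : Nat.card T = 8) (x y g w : H) (hxT : x ∈ T) (hyT : y ∈ T) (hx : orderOf x = 4)
    (hy : y ^ 2 = x ^ 2) (hyx : y * x * y⁻¹ = x⁻¹) (hgx : g * x * g⁻¹ = y)
    (hgy : g * y * g⁻¹ = x * y) (hw : orderOf w = 3) (hwc : w ∈ Subgroup.center H) : False := by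
  haveI : Fact p.Prime := ⟨hp⟩
  letI : Module (ZMod p) (Additive K) :=
    AddCommGroup.zmodModule (n := p) (fun v => hexp (Additive.toMul v))
  exact core φ hp2 hK hfree htrans T hT x y g w hxT hyT hx hy hyx hgx hgy hw hwc

end Main

end Cfsg.Agent.Helper20.QuatReg
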