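import Mathlib

set_option autoImplicit false

namespace Cfsg.Agent.Helper20

/-- A group generated by an element `g` with `g ^ n = 1` is a homomorphic image of
`Multiplicative (ZMod n)`. -/
theorem exists_surjective_zmod_hom {H : Type*} [Group H] (n : ℕ) (g : H) (hg : g ^ n = 1)
    (hgen : ∀ x : H, x ∈ Subgroup.zpowers g) :
    ∃ π : Multiplicative (ZMod n) →* H, Function.Surjective π := by
  let f : ℤ →+ Additive H := zmultiplesHom (Additive H) (Additive.ofMul g)
  have hf : f (n : ℤ) = 0 := by
    change ((n : ℤ) • Additive.ofMul g : Additive H) = 0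
    rw [natCast_zsmul]
    change Additive.ofMul (g ^ n) = 0
    rw [hg]
    rfl
  let F : ZMod n →+ Additive H := ZMod.lift n ⟨f, hf⟩
  refine ⟨AddMonoidHom.toMultiplicativeLeft F, ?_⟩
  intro x
  obtain ⟨k, hk⟩ := Subgroup.mem_zpowers_iff.mp (hgen x)
  refine ⟨Multiplicative.ofAdd ((k : ℤ) : ZMod n), ?_⟩
  change Additive.toMul (F ((k : ℤ) : ZMod n)) = x
  rw [ZMod.lift_coe]
  change Additive.toMul ((k : ℤ) • Additive.ofMul g : Additive H) = x
  rw [← hk]
  rfl

/-- A cyclic group of order `n` is isomorphic to `Multiplicative (ZMod n)`. -/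
theorem nonempty_mulEquiv_zmod_of_card {H : Type*} [Group H] [hH : IsCyclic H] (n : ℕ)
    (hn : Nat.card H = n) : Nonempty (H ≃* Multiplicative (ZMod n)) := by
  subst hn
  exact ⟨(zmodCyclicMulEquiv hH).symm⟩

/-- A group of order `2` is isomorphic to `Multiplicative (ZMod 2)`. -/
theorem nonempty_mulEquiv_zmod_two {H : Type*} [Group H] (hn : Nat.card H = 2) :
    Nonempty (H ≃* Multiplicative (ZMod 2)) := by
  have : Fact (Nat.Prime 2) := ⟨Nat.prime_two⟩
  have : IsCyclic H := isCyclic_of_prime_card hn
  exact nonempty_mulEquiv_zmod_of_card 2 hn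

/-- A group all of whose elements lie in `{1, k}` with `k * k = 1` is a homomorphic image of
`Multiplicative (ZMod 2)`. -/
theorem exists_surjective_zmod_two_hom {H : Type*} [Group H] (k : H) (hk : k * k = 1)
    (hall : ∀ x : H, x = 1 ∨ x = k) :
    ∃ π : Multiplicative (ZMod 2) →* H, Function.Surjective π := by
  apply exists_surjective_zmod_hom 2 k (by rw [pow_two, hk])
  intro x
  rcases hall x with rfl | rfl
  · exact Subgroup.one_mem _
  · exact Subgroup.mem_zpowers _

end Cfsg.Agent.Helper20
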