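import Mathlib
import Cfsg.Agent.Lib.Helper10.PCDefs

/-! # S2276 piece FIRSTRET (helper20 for helper10) -/

set_option autoImplicit false

namespace Cfsg.Agent.Helper10.PC

open Equiv Equiv.Perm

/-- local copy of the CERTP statement (own name): a `p`-element preserving a set of `p` points and
fixing one of them fixes all of them -/
theorem firstret_fixed {Ω : Type*} [DecidableEq Ω] (p : ℕ) (hp : p.Prime) (σ : Perm Ω)
    (hσ : IsPElt p σ) (D : Finset Ω) (hD : D.card = p) (hinv : ∀ x ∈ D, σ x ∈ D) (x₀ : Ω)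
    (hx₀ : x₀ ∈ D) (hfix : σ x₀ = x₀) : ∀ y ∈ D, σ y = y := by
  intro y hy
  by_contra hne
  obtain ⟨k, hk⟩ := hσ
  have hper : Function.IsPeriodicPt (⇑σ) (p ^ k) y := by
    unfold Function.IsPeriodicPt Function.IsFixedPt
    rw [Equiv.Perm.iterate_eq_pow, hk]
    rfl
  obtain ⟨j, _, hj⟩ := (Nat.dvd_prime_pow hp).1 hper.minimalPeriod_dvd
  have hj1 : 1 ≤ j := by
    rcases j with _ | j
    · exfalso
      rw [pow_zero] at hj
      exact hne (Function.minimalPeriod_eq_one_iff_isFixedPt.1 hj)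
    · omega
  have hinD : ∀ i : ℕ, (⇑σ)^[i] y ∈ D := by
    intro i
    induction i with
    | zero => simpa using hy
    | succ i ih =>
      rw [Function.iterate_succ_apply']
      exact hinv _ ih
  have hfixit : ∀ i : ℕ, (⇑σ)^[i] x₀ = x₀ := by
    intro i
    induction i with
    | zero => rfl
    | succ i ih => rw [Function.iterate_succ_apply', ih, hfix]
  have hne0 : ∀ i : ℕ, (⇑σ)^[i] y ≠ x₀ := by
    intro i h
    have h2 : (⇑σ)^[i] y = (⇑σ)^[i] x₀ := by rw [h, hfixit i]
    have h3 : y = x₀ := (Function.Injective.iterate σ.injective i) h2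
    exact hne (by rw [h3, hfix])
  have hinj : Set.InjOn (fun i : ℕ => (⇑σ)^[i] y) (↑(Finset.range (p ^ j)) : Set ℕ) := by
    intro a ha b hb hab
    have := Function.iterate_injOn_Iio_minimalPeriod (f := ⇑σ) (x := y)
    apply this
    · simpa [hj] using ha
    · simpa [hj] using hb
    · exact hab
  have hcard : ((Finset.range (p ^ j)).image (fun i : ℕ => (⇑σ)^[i] y)).card = p ^ j := by
    rw [Finset.card_image_of_injOn hinj, Finset.card_range]
  have hsub : (Finset.range (p ^ j)).image (fun i : ℕ => (⇑σ)^[i] y) ⊆ D.erase x₀ := by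
    intro z hz
    obtain ⟨i, _, rfl⟩ := Finset.mem_image.1 hz
    exact Finset.mem_erase.2 ⟨hne0 i, hinD i⟩
  have h1 := Finset.card_le_card hsub
  rw [hcard, Finset.card_erase_of_mem hx₀, hD] at h1
  have h2 : p ^ 1 ≤ p ^ j := Nat.pow_le_pow_right hp.pos hj1
  rw [pow_one] at h2
  have := hp.pos
  omega

theorem firstret_mem_iff (q n : ℕ) (hqn : q ∣ n) [NeZero n] (x : ZMod n) :
    x ∈ mulSet n q ↔ q ∣ x.val := by
  constructor
  · rintro ⟨k, rfl⟩
    rw [ZMod.val_natCast]
    exact (Nat.dvd_mod_iff hqn).2 (Dvd.intro_left k rfl)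
  · rintro ⟨k, hk⟩
    refine ⟨k, ?_⟩
    rw [Nat.mul_comm k q, ← hk, ZMod.natCast_zmod_val]

theorem firstret_not_mem (q n : ℕ) (hqn : q ∣ n) [NeZero n] (m : ZMod n) (hm : m ∈ mulSet n q)
    (j : ℕ) (hj0 : 0 < j) (hjq : j < q) : m + (j : ZMod n) ∉ mulSet n q := by
  rw [firstret_mem_iff q n hqn] at hm ⊢
  have hnpos : 0 < n := Nat.pos_of_ne_zero (NeZero.ne n)
  have hmlt : m.val < n := ZMod.val_lt m
  obtain ⟨a, ha⟩ := hm
  obtain ⟨b, hb⟩ := hqn
  have hab : a < b := by
    by_contra hcon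
    push Not at hcon
    have : q * b ≤ q * a := Nat.mul_le_mul_left q hcon
    omega
  have hle : m.val + q ≤ n := by
    rw [ha, hb]
    calc q * a + q = q * (a + 1) := by ring
      _ ≤ q * b := Nat.mul_le_mul_left q hab
  have hjn : j < n := by omega
  have hjval : ((j : ℕ) : ZMod n).val = j := ZMod.val_natCast_of_lt hjn
  have hval : (m + (j : ZMod n)).val = m.val + j := by
    rw [ZMod.val_add_of_lt (by rw [hjval]; omega), hjval]
  rw [hval]
  intro hdvd
  have : q ∣ j := (Nat.dvd_add_right ⟨a, ha⟩).1 hdvd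
  exact absurd (Nat.le_of_dvd hj0 this) (by omega)

theorem firstret_add_mem (q n : ℕ) (x : ZMod n) (hx : x ∈ mulSet n q) :
    x + ((q : ℕ) : ZMod n) ∈ mulSet n q := by
  obtain ⟨k, rfl⟩ := hx
  exact ⟨k + 1, by push_cast; ring⟩

theorem not_isPElt_firstret (p q n : ℕ) (hp : p.Prime) (hp5 : 5 ≤ p) (hn : n = p * q) [NeZero n]
    (w' : Perm (ZMod n)) (hsupp : ∀ x, w' x ≠ x → x ∈ mulSet n q)
    (h1 : w' ((q : ℕ) : ZMod n) = 0) (h0 : w' 0 = ((2 * q : ℕ) : ZMod n)) :
    ¬ IsPElt p (rot n * w') := by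
  intro hσ
  have hqn : q ∣ n := ⟨p, by rw [hn, Nat.mul_comm]⟩
  have hnpos : 0 < n := Nat.pos_of_ne_zero (NeZero.ne n)
  have hqpos : 0 < q := by
    rcases Nat.eq_zero_or_pos q with h | h
    · exfalso
      rw [h, Nat.mul_zero] at hn
      omega
    · exact h
  set σ : Perm (ZMod n) := rot n * w' with hσdef
  have hσapp : ∀ x, σ x = w' x + 1 := by
    intro x
    rw [hσdef, Perm.mul_apply, rot_apply]
  -- w' preserves mulSet
  have hwmem : ∀ x, x ∈ mulSet n q → w' x ∈ mulSet n q := by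
    intro x hx
    by_cases hfx : w' x = x
    · rw [hfx]; exact hx
    · apply hsupp
      intro h
      exact hfx (w'.injective h)
  -- the first q steps
  have hstep : ∀ x, x ∈ mulSet n q → ∀ j : ℕ, 1 ≤ j → j ≤ q → (σ ^ j) x = w' x + (j : ZMod n) := by
    intro x hx j hj1
    induction j, hj1 using Nat.le_induction with
    | base =>
      intro _
      rw [pow_one, hσapp]
      push_cast
      rfl
    | succ j hj ih =>
      intro hjq
      have ih' := ih (by omega)
      rw [pow_succ', Perm.mul_apply, ih', hσapp]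
      have hnm : w' x + (j : ZMod n) ∉ mulSet n q :=
        firstret_not_mem q n hqn (w' x) (hwmem x hx) j (by omega) (by omega)
      have hfx : w' (w' x + (j : ZMod n)) = w' x + (j : ZMod n) := by
        by_contra hcon
        exact hnm (hsupp _ hcon)
      rw [hfx]
      push_cast
      ring
  set τ : Perm (ZMod n) := σ ^ q with hτdef
  have hτapp : ∀ x, x ∈ mulSet n q → τ x = w' x + ((q : ℕ) : ZMod n) := by
    intro x hx
    exact hstep x hx q hqpos le_rfl
  have hτP : IsPElt p τ := by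
    obtain ⟨k, hk⟩ := hσ
    refine ⟨k, ?_⟩
    rw [hτdef, ← pow_mul, Nat.mul_comm, pow_mul, hk, one_pow]
  -- the finset of multiples of q
  set D : Finset (ZMod n) := (Finset.range p).image (fun k : ℕ => ((k * q : ℕ) : ZMod n)) with hDdef
  have hDmem : ∀ x, x ∈ D ↔ x ∈ mulSet n q := by
    intro x
    constructor
    · intro hx
      obtain ⟨k, _, rfl⟩ := Finset.mem_image.1 hx
      exact ⟨k, rfl⟩
    · rintro ⟨k, rfl⟩
      refine Finset.mem_image.2 ⟨k % p, Finset.mem_range.2 (Nat.mod_lt _ hp.pos), ?_⟩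
      have hk : k * q = n * (k / p) + (k % p) * q := by
        conv_lhs => rw [← Nat.div_add_mod k p]
        rw [hn]
        ring
      rw [hk]
      push_cast
      rw [ZMod.natCast_self]
      ring
  have hDcard : D.card = p := by
    rw [hDdef, Finset.card_image_of_injOn, Finset.card_range]
    intro a ha b hb hab
    have ha' : a < p := Finset.mem_range.1 ha
    have hb' : b < p := Finset.mem_range.1 hb
    have h1' : a * q < n := by rw [hn]; exact Nat.mul_lt_mul_of_pos_right ha' hqpos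
    have h2' : b * q < n := by rw [hn]; exact Nat.mul_lt_mul_of_pos_right hb' hqpos
    have hv : ((a * q : ℕ) : ZMod n).val = ((b * q : ℕ) : ZMod n).val := by
      simp only at hab
      rw [hab]
    rw [ZMod.val_natCast_of_lt h1', ZMod.val_natCast_of_lt h2'] at hv
    exact Nat.eq_of_mul_eq_mul_right hqpos hv
  have hinv : ∀ x ∈ D, τ x ∈ D := by
    intro x hx
    have hx' := (hDmem x).1 hx
    rw [hDmem, hτapp x hx']
    exact firstret_add_mem q n _ (hwmem x hx')
  have hq_mem : ((q : ℕ) : ZMod n) ∈ mulSet n q := ⟨1, by rw [Nat.one_mul]⟩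
  have h0_mem : (0 : ZMod n) ∈ mulSet n q := ⟨0, by simp⟩
  have hfixq : τ ((q : ℕ) : ZMod n) = ((q : ℕ) : ZMod n) := by
    rw [hτapp _ hq_mem, h1, zero_add]
  have hall := firstret_fixed p hp τ hτP D hDcard hinv ((q : ℕ) : ZMod n) ((hDmem _).2 hq_mem) hfixq
  have hτ0 := hall 0 ((hDmem _).2 h0_mem)
  rw [hτapp 0 h0_mem, h0] at hτ0
  have h3q : ((3 * q : ℕ) : ZMod n) = 0 := by
    rw [← hτ0]
    push_cast
    ring
  rw [ZMod.natCast_eq_zero_iff] at h3q
  rw [hn] at h3q
  have : p ∣ 3 := by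
    have h := h3q
    rw [Nat.mul_comm 3 q, Nat.mul_comm p q] at h
    exact (Nat.mul_dvd_mul_iff_left hqpos).1 h
  have := Nat.le_of_dvd (by norm_num) this
  omega

end Cfsg.Agent.Helper10.PC
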