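import Mathlib
import Cfsg.Agent.Lib.Helper10.PCDefs

/-! # S2276 piece SHAPE (helper20 for helper10) -/

set_option autoImplicit false

namespace Cfsg.Agent.Helper10.PC

open Equiv Equiv.Perm

universe u

section general
variable {Ω : Type u} [Fintype Ω] [DecidableEq Ω]

theorem shape_period (p : ℕ) (hp : p.Prime) (w : Perm Ω) (hw : IsPElt p w) (c : Ω) :
    ∃ j : ℕ, Function.minimalPeriod w c = p ^ j := by
  obtain ⟨k, hk⟩ := hw
  have hper : Function.IsPeriodicPt (⇑w) (p ^ k) c := by
    unfold Function.IsPeriodicPt Function.IsFixedPt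
    rw [Equiv.Perm.iterate_eq_pow, hk]
    rfl
  have hdvd : Function.minimalPeriod (⇑w) c ∣ p ^ k := hper.minimalPeriod_dvd
  obtain ⟨j, _, hj⟩ := (Nat.dvd_prime_pow hp).1 hdvd
  exact ⟨j, hj⟩

theorem shape (p : ℕ) (hp : p.Prime) (w : Perm Ω) (hw : IsPElt p w) (hw1 : w ≠ 1) :
    (∃ c, p ^ 2 ∣ Function.minimalPeriod w c) ∨
    (∃ c c', Function.minimalPeriod w c = p ∧ Function.minimalPeriod w c' = p ∧ c' ∉ orb w c) ∨
    (∃ c, Function.minimalPeriod w c = p ∧ ∀ y, w y ≠ y → y ∈ orb w c) := by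
  by_cases hA : ∃ c, p ^ 2 ∣ Function.minimalPeriod w c
  · exact Or.inl hA
  · right
    have hper : ∀ c, w c ≠ c → Function.minimalPeriod w c = p := by
      intro c hc
      obtain ⟨j, hj⟩ := shape_period p hp w hw c
      rcases j with _ | _ | j
      · exfalso
        rw [pow_zero] at hj
        exact hc (Function.minimalPeriod_eq_one_iff_isFixedPt.1 hj)
      · simpa using hj
      · exfalso
        apply hA
        refine ⟨c, ?_⟩
        rw [hj]
        exact pow_dvd_pow p (by omega)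
    have hex : ∃ c, w c ≠ c := by
      by_contra hcon
      push Not at hcon
      exact hw1 (Equiv.ext hcon)
    obtain ⟨c, hc⟩ := hex
    by_cases hB : ∃ c', w c' ≠ c' ∧ c' ∉ orb w c
    · obtain ⟨c', hc', hcc'⟩ := hB
      exact Or.inl ⟨c, c', hper c hc, hper c' hc', hcc'⟩
    · push Not at hB
      exact Or.inr ⟨c, hper c hc, hB⟩

end general

end Cfsg.Agent.Helper10.PC
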