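import Mathlib
import Cfsg.Agent.Lib.Helper10.PUDefs

/-!
# S2263 piece PU-ROOT1 (helper20 for helper10)

`f` irreducible over `F`, `|F| = q^2`, `f ∣ X^E - 1`, `(q+1) ∣ E`  ⟹  `f ∣ X^(E/(q+1)) - C c`
for some `c` with `c^(q+1) = 1`.
-/

set_option autoImplicit false

namespace Cfsg.Agent.Helper10.PU

open Polynomial Matrix

section poly
variable {F : Type*} [Field F]

/-- An element of a field extension fixed by the `|F|`-power map lies in the base field
(same proof as the lemma of that name in `S2261`). -/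
theorem pu_root1_mem_range [Fintype F] {K : Type*} [Field K] [Algebra F K] (y : K)
    (hy : y ^ Fintype.card F = y) : ∃ a : F, algebraMap F K a = y := by
  classical
  have hq1 : 1 < Fintype.card F := Fintype.one_lt_card
  set P : K[X] := X ^ Fintype.card F - X with hP
  have hP0 : P ≠ 0 := FiniteField.X_pow_card_sub_X_ne_zero K hq1
  have hdeg : P.natDegree = Fintype.card F := FiniteField.X_pow_card_sub_X_natDegree_eq K hq1
  let S : Finset K := Finset.univ.image (algebraMap F K)
  have hScard : S.card = Fintype.card F := by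
    rw [Finset.card_image_of_injective _ (algebraMap F K).injective, Finset.card_univ]
  have hSsub : S ⊆ P.roots.toFinset := by
    intro x hx
    rw [Finset.mem_image] at hx
    obtain ⟨a, _, rfl⟩ := hx
    rw [Multiset.mem_toFinset, Polynomial.mem_roots hP0, Polynomial.IsRoot.def, hP]
    simp only [eval_sub, eval_pow, eval_X]
    rw [← map_pow, FiniteField.pow_card, sub_self]
  have hle : P.roots.toFinset.card ≤ S.card := by
    rw [hScard, ← hdeg]
    exact le_trans (Multiset.toFinset_card_le _) (Polynomial.card_roots' P)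
  have heq := Finset.eq_of_subset_of_card_le hSsub hle
  have hymem : y ∈ P.roots.toFinset := by
    rw [Multiset.mem_toFinset, Polynomial.mem_roots hP0, Polynomial.IsRoot.def, hP]
    simp only [eval_sub, eval_pow, eval_X]
    rw [hy, sub_self]
  rw [← heq, Finset.mem_image] at hymem
  obtain ⟨a, _, ha⟩ := hymem
  exact ⟨a, ha⟩

theorem irreducible_dvd_X_pow_sub_C [Fintype F] (q : ℕ) (hF : Fintype.card F = q ^ 2) (f : F[X])
    (hf : f.Monic) (hirr : Irreducible f) (E : ℕ) (hE : f ∣ X ^ E - 1) (hqE : (q + 1) ∣ E) :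
    ∃ c : F, c ^ (q + 1) = 1 ∧ f ∣ X ^ (E / (q + 1)) - C c := by
  haveI : Fact (Irreducible f) := ⟨hirr⟩
  have hq1 : 1 ≤ q := by
    rcases Nat.eq_zero_or_pos q with h | h
    · exfalso
      have : 1 < Fintype.card F := Fintype.one_lt_card
      rw [hF, h] at this
      norm_num at this
    · exact h
  set α : AdjoinRoot f := AdjoinRoot.root f with hα
  have hαE : α ^ E = 1 := by
    have h0 : AdjoinRoot.mk f (X ^ E - 1) = 0 := AdjoinRoot.mk_eq_zero.mpr hE
    rw [map_sub, map_pow, map_one, AdjoinRoot.mk_X, sub_eq_zero] at h0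
    exact h0
  set k : ℕ := E / (q + 1) with hk
  have hkE : k * (q + 1) = E := Nat.div_mul_cancel hqE
  set y : AdjoinRoot f := α ^ k with hy
  have hy1 : y ^ (q + 1) = 1 := by
    rw [hy, ← pow_mul, hkE, hαE]
  have hqq : q ^ 2 = (q + 1) * (q - 1) + 1 := by
    obtain ⟨m, rfl⟩ : ∃ m, q = m + 1 := ⟨q - 1, by omega⟩
    simp only [Nat.add_sub_cancel]
    ring
  have hycard : y ^ Fintype.card F = y := by
    rw [hF, hqq, pow_succ, pow_mul, hy1, one_pow, one_mul]
  obtain ⟨c, hc⟩ := pu_root1_mem_range (F := F) y hycard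
  refine ⟨c, ?_, ?_⟩
  · apply (algebraMap F (AdjoinRoot f)).injective
    rw [map_pow, hc, hy1, map_one]
  · rw [← AdjoinRoot.mk_eq_zero, map_sub, map_pow, AdjoinRoot.mk_X, AdjoinRoot.mk_C, sub_eq_zero]
    rw [← hα, ← hy, ← hc]
    rfl

end poly

end Cfsg.Agent.Helper10.PU
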