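import Mathlib
import Cfsg.Prelude.Def_Solvable
import Cfsg.Agent.Lib.Helper8.ABDefs

/-!
Definitions and basic API for S3300 (large extraspecial `E = O_2(C(z))` of width `n ≥ 3`, `C(z)` has a
normal subgroup `K` of index `2`, `O^2(G) = G`  ==>  `z` is fused into `E - {z}`).

Plan: `plans/S3300_proof.md`.  We argue by contradiction (`hwc`: `z` is weakly closed in `E`).
`χ : H →* ℤˣ` is the sign character with kernel `K`; `valH χ x = -1` iff `x ∈ H` and `x ∉ K`.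
-/

set_option autoImplicit false

namespace Cfsg.Agent.Helper20.W3

open Cfsg.Agent.Helper8.XS Cfsg.Agent.Helper8.AB

/-- Global data for a sign character `ψ : H →* ℤˣ`: `H = C(z)` and every element of `H` of order less
than `n` is killed by `ψ`. -/
structure GlobP {G : Type*} [Group G] (z : G) (H : Subgroup G) (ψ : ↥H →* ℤˣ) (n : ℕ) : Prop where
  hzz : z * z = 1
  hz1 : z ≠ 1
  hH : ∀ g : G, g ∈ H ↔ g * z = z * g
  hmin : ∀ w : ↥H, orderOf (w : G) < n → ψ w = 1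

/-- The working context of S3300, with the negated conclusion `hwc` (`z` weakly closed in `E`). -/
structure Ctx3 {G : Type*} [Group G] (z : G) (H E K : Subgroup G) (n : ℕ) : Prop where
  hres : Cfsg.pResidual 2 G = ⊤
  hzz : z * z = 1
  hz1 : z ≠ 1
  hH : ∀ g : G, g ∈ H ↔ g * z = z * g
  loc : Loc z E
  hEH : E ≤ H
  hn : 3 ≤ n
  hcard : Nat.card E = 2 ^ (2 * n + 1)
  hKH : K ≤ H
  hKn : ∀ h ∈ H, ∀ k ∈ K, h * k * h⁻¹ ∈ K
  hKi : K.relIndex H = 2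
  hwc : ∀ g : G, g * z * g⁻¹ ∈ E → g * z * g⁻¹ = z

/-- The cosets `x = rH` (conjugates `k = r z r⁻¹`) with `z ∈ H_k ∖ K_k`. -/
noncomputable def Dset {G : Type*} [Group G] {H : Subgroup G} [Fintype (G ⧸ H)] (χ : ↥H →* ℤˣ)
    (z : G) : Finset (G ⧸ H) :=
  open Classical in Finset.univ.filter (fun x => valH χ (x.out⁻¹ * z * x.out) = -1)

/-- The cosets `x = rH` (conjugates `k = r z r⁻¹`) with `z, y ∈ H_k ∖ K_k`. -/
noncomputable def Tset {G : Type*} [Group G] {H : Subgroup G} [Fintype (G ⧸ H)] (χ : ↥H →* ℤˣ)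
    (z y : G) : Finset (G ⧸ H) :=
  open Classical in Finset.univ.filter
    (fun x => valH χ (x.out⁻¹ * z * x.out) = -1 ∧ valH χ (x.out⁻¹ * y * x.out) = -1)

/-- The common neighbours of `z` and `u = s z s⁻¹`: conjugates `k` of `z` with `k ∈ H ∖ K` and
`k ∈ H_u ∖ K_u`. -/
def Nset {G : Type*} [Group G] {H : Subgroup G} (χ : ↥H →* ℤˣ) (z s : G) : Set G :=
  {k | (∃ r : G, k = r * z * r⁻¹) ∧ valH χ k = -1 ∧ valH χ (s⁻¹ * k * s) = -1}

/-- The set `[k,E] ∩ C_E(u) ∩ ker ν`. -/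
def Xset {G : Type*} [Group G] (E : Subgroup G) (u : G) (ν : G → ℤˣ) (k : G) : Set G :=
  {x | x ∈ E ∧ x * u = u * x ∧ ν x = 1 ∧ ∃ e ∈ E, x = k⁻¹ * e⁻¹ * k * e}

/-- Abstract local data for the parity count: `u`, `k` commuting involutions acting on the extraspecial
group `E`, both with elementary abelian centralizer in `E`; `ν` is a sign character on `C(u)` with
`ν z = -1`. -/
structure Tri {G : Type*} [Group G] (z : G) (E : Subgroup G) (u k : G) (ν : G → ℤˣ) (n : ℕ) :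
    Prop where
  xs : XSp E z
  hn : 3 ≤ n
  hcard : Nat.card E = 2 ^ (2 * n + 1)
  huu : u * u = 1
  hkk : k * k = 1
  huz : u * z = z * u
  hkz : k * z = z * k
  hku : k * u = u * k
  huE : ∀ e ∈ E, u⁻¹ * e * u ∈ E
  hkE : ∀ e ∈ E, k⁻¹ * e * k ∈ E
  hνmul : ∀ x y : G, x * u = u * x → y * u = u * y → ν (x * y) = ν x * ν y
  hνz : ν z = -1
  hAu : ∀ x ∈ E, x * u = u * x → ∀ y ∈ E, y * u = u * y → x * y = y * x
  hAu2 : ∀ x ∈ E, x * u = u * x → x * x = 1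
  hAk : ∀ x ∈ E, x * k = k * x → ∀ y ∈ E, y * k = k * y → x * y = y * x
  hAk2 : ∀ x ∈ E, x * k = k * x → x * x = 1

section api

variable {G : Type*} [Group G] {H : Subgroup G}

theorem val_eq_or (χ : ↥H →* ℤˣ) (x : G) : valH χ x = 1 ∨ valH χ x = -1 :=
  Int.units_eq_one_or _

theorem val_mul_self (χ : ↥H →* ℤˣ) (x : G) : valH χ x * valH χ x = 1 :=
  Int.units_mul_self _

theorem val_ne_one_iff (χ : ↥H →* ℤˣ) (x : G) : valH χ x ≠ 1 ↔ valH χ x = -1 := by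
  rcases val_eq_or χ x with h | h
  · rw [h]; decide
  · rw [h]; decide

theorem val_neg_mem (χ : ↥H →* ℤˣ) {x : G} (h : valH χ x = -1) : x ∈ H := by
  by_contra hx
  rw [valH_of_not_mem χ hx] at h
  exact absurd h (by decide)

theorem val_neg_iff {K : Subgroup G} (χ : ↥H →* ℤˣ) (hχ : ∀ h : ↥H, χ h = 1 ↔ (h : G) ∈ K)
    (x : G) : valH χ x = -1 ↔ x ∈ H ∧ x ∉ K := by
  constructor
  · intro h
    have hx := val_neg_mem χ h
    refine ⟨hx, fun hK => ?_⟩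
    rw [valH_of_mem χ hx, (hχ ⟨x, hx⟩).2 hK] at h
    exact absurd h (by decide)
  · rintro ⟨hx, hK⟩
    rw [valH_of_mem χ hx]
    rcases Int.units_eq_one_or (χ ⟨x, hx⟩) with h | h
    · exact absurd ((hχ ⟨x, hx⟩).1 h) hK
    · exact h

theorem val_one_of_mem {K : Subgroup G} (χ : ↥H →* ℤˣ) (hχ : ∀ h : ↥H, χ h = 1 ↔ (h : G) ∈ K)
    {x : G} (hx : x ∈ H) (hK : x ∈ K) : valH χ x = 1 := by
  rw [valH_of_mem χ hx]
  exact (hχ ⟨x, hx⟩).2 hK

/-- commutators of elements of `H` are killed -/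
theorem val_comm (χ : ↥H →* ℤˣ) {a b : G} (ha : a ∈ H) (hb : b ∈ H) :
    valH χ (a⁻¹ * b⁻¹ * a * b) = 1 := by
  rw [valH_mul χ (H.mul_mem (H.mul_mem (H.inv_mem ha) (H.inv_mem hb)) ha) hb,
    valH_mul χ (H.mul_mem (H.inv_mem ha) (H.inv_mem hb)) ha,
    valH_mul χ (H.inv_mem ha) (H.inv_mem hb), valH_inv χ ha, valH_inv χ hb]
  rw [mul_comm (valH χ a)⁻¹, mul_assoc (valH χ b)⁻¹, inv_mul_cancel, mul_one, inv_mul_cancel]

/-- squares of elements of `H` are killed -/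
theorem val_sq (χ : ↥H →* ℤˣ) {a : G} (ha : a ∈ H) : valH χ (a * a) = 1 := by
  rw [valH_mul χ ha ha]
  exact val_mul_self χ a

theorem mem_Dset [Fintype (G ⧸ H)] (χ : ↥H →* ℤˣ) (z : G) (x : G ⧸ H) :
    x ∈ Dset χ z ↔ valH χ (x.out⁻¹ * z * x.out) = -1 := by
  unfold Dset
  simp

theorem mem_Tset [Fintype (G ⧸ H)] (χ : ↥H →* ℤˣ) (z y : G) (x : G ⧸ H) :
    x ∈ Tset χ z y ↔
      valH χ (x.out⁻¹ * z * x.out) = -1 ∧ valH χ (x.out⁻¹ * y * x.out) = -1 := by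
  unfold Tset
  simp

theorem mem_Nset (χ : ↥H →* ℤˣ) (z s k : G) :
    k ∈ Nset χ z s ↔
      (∃ r : G, k = r * z * r⁻¹) ∧ valH χ k = -1 ∧ valH χ (s⁻¹ * k * s) = -1 :=
  Iff.rfl

theorem mem_Xset (E : Subgroup G) (u : G) (ν : G → ℤˣ) (k x : G) :
    x ∈ Xset E u ν k ↔ x ∈ E ∧ x * u = u * x ∧ ν x = 1 ∧ ∃ e ∈ E, x = k⁻¹ * e⁻¹ * k * e :=
  Iff.rfl

end api

end Cfsg.Agent.Helper20.W3
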