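import Mathlib
import Cfsg.Agent.Lib.Helper11.CGDefs
import Cfsg.Agent.Lib.Helper11.CGBase
import Cfsg.Agent.Lib.Helper1.CGCLOS

/-!
# S2405, piece DRVA (helper20): the driver `caseA`

One root element and a torus element: `a = x_r(1) h_{p_j}(k)`, `b = n_w`.
-/

set_option autoImplicit false

namespace Cfsg.Agent.Helper11.CG

open Cfsg Cfsg.Lie Cfsg.Agent.Lead.Chev

variable {F : Type*} [Field F]

theorem caseA [Finite F] (D : ChevalleyDatum) (hFc : ChevFacts D F) (w : List ℕ)
    (hw : ∀ i ∈ w, i < D.rank) (r j i0 N : ℕ) (hr : r < D.nroots) (hj : j < D.rank)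
    (hc0 : D.cartan j r = 0)
    (hc1 : D.cartan j (iter D w i0 r) = 1 ∨ D.cartan j (iter D w i0 r) = -1)
    (hper : iter D w N r = r)
    (zs cs : List ℤ) (hzs : ∀ c ∈ zs, ((c : ℤ) : F) = 0) (hcs : ∀ c ∈ cs, ((c : ℤ) : F) ≠ 0)
    (cert : List (ℕ × ℕ × ℕ)) (hchk : closChk D zs cs (orbitList D w r N) cert = true)
    (hcov : coverChk D (orbitList D w r N) cert = true) :
    ∃ a b : ↥(D.group F), Subgroup.closure ({a, b} : Set ↥(D.group F)) = ⊤ := by
  obtain ⟨k, hk0, hkgen, hkpow⟩ := exists_gen (F := F)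
  set x : GL D.Idx F := xGL D hFc.xadd r 1 with hx
  set h : GL D.Idx F := hGLt D hFc.xadd (D.simple j) k with hh
  set b : GL D.Idx F := nWordGL D hFc.xadd w with hb
  have hxG : x ∈ D.group F := xGL_mem_group D hFc.xadd r 1
  have hhG : h ∈ D.group F := hGLt_mem_group D hFc.xadd (D.simple j) k
  have hbG : b ∈ D.group F := nWordGL_mem_group D hFc.xadd w
  have haG : x * h ∈ D.group F := mul_mem hxG hhG
  refine ⟨⟨x * h, haG⟩, ⟨b, hbG⟩, ?_⟩
  apply closure_subtype_eq_top D (x * h) b haG hbG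
  set K : Subgroup (GL D.Idx F) := Subgroup.closure {x * h, b} with hK
  have haK : x * h ∈ K := Subgroup.subset_closure (by simp)
  have hbK : b ∈ K := Subgroup.subset_closure (by simp)
  -- the two factors commute
  have hcomm : Commute x h := by
    have h1 := hGLt_conj D hFc j hj r hr k hk0 (1 : F)
    rw [hc0, zpow_zero, one_mul] at h1
    -- h * x * h⁻¹ = x
    show x * h = h * x
    have : h * x = x * h := by
      calc h * x = h * x * h⁻¹ * h := by group
        _ = x * h := by rw [h1]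
    exact this.symm
  have hxpow : x ^ (Nat.card F - 1) = x⁻¹ := by
    rw [hx, xGL_pow, cast_card_sub_one, xGL_inv]
    congr 1
    ring
  have hhpow : h ^ (Nat.card F - 1) = 1 := hGLt_pow_eq_one D hFc j hj k hk0 _ hkpow
  obtain ⟨hxK, hhK⟩ := mem_of_commute_pow K x h hcomm (Nat.card F - 1) hxpow hhpow haK
  -- move along the orbit
  obtain ⟨ε, hε, hεK⟩ := one_iter D hFc K w hw hbK i0 r hr 1 hxK
  have hs0 : iter D w i0 r < D.nroots := iter_lt D hFc w hw i0 r hr
  have hε0 : ε * 1 ≠ 0 := by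
    rcases hε with rfl | rfl <;> simp
  have hgen' : ∀ v : F, v ≠ 0 → ∃ m : ℕ, v = (k ^ (D.cartan j (iter D w i0 r))) ^ m := by
    apply gen_zpow k hk0 hkgen
    rcases hc1 with h1 | h1
    · exact Or.inl h1
    · exact Or.inr (Or.inl h1)
  have hfull0 : Full D hFc.xadd K (iter D w i0 r) :=
    full_of_torus D hFc K j hj k hk0 hhK (iter D w i0 r) hs0 (ε * 1) hε0 hεK hgen'
  have hfull : ∀ s ∈ orbitList D w r N, Full D hFc.xadd K s :=
    full_orbit D hFc K w hw hbK r N i0 hr hper hfull0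
  exact group_le_of_cover D hFc K zs cs hzs hcs (orbitList D w r N) cert hchk hcov hfull

end Cfsg.Agent.Helper11.CG
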