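import Mathlib
import Cfsg.Agent.Lib.Helper11.FHDefs
import Cfsg.Agent.Lib.Helper20.FHTRIG

/-!
# Feit–Higman (S1142), piece SIGMA (helper20)

The Schur-element sum `sigmaSeq n s t (yj n s t j)` in closed form.
-/

set_option autoImplicit false

namespace Cfsg.Agent.Helper20.FHS

open Real Cfsg.Agent.Helper11.FH

theorem chi_even' (s t y : ℝ) (i : ℕ) : chi s t y (2 * i) = bseq y (s * t) i := by
  unfold chi
  rw [if_pos (by omega), show 2 * i / 2 = i by omega]

theorem chi_odd' (s t y : ℝ) (i : ℕ) :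
    chi s t y (2 * i + 1) =
      (s - 1) * aseq y (s * t) (i + 1) + s * (t - 1) * aseq y (s * t) i := by
  unfold chi
  rw [if_neg (by omega), show (2 * i + 1) / 2 = i by omega]

theorem aseq_trig_u (u θ : ℝ) (i : ℕ) :
    aseq (2 * u * cos θ) (u ^ 2) i * sin θ * u = u ^ i * sin (i * θ) := by
  cases i with
  | zero => simp
  | succ i =>
    rw [aseq_trig]
    push_cast
    ring

theorem F_even (s t u θ : ℝ) (hu : u ^ 2 = s * t) (hu0 : u ≠ 0) (i : ℕ) :
    chi s t (2 * u * cos θ) (2 * i) ^ 2 / alt s t (2 * i) = 4 * cos (i * θ) ^ 2 := by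
  rw [chi_even', alt_two_mul, ← hu, bseq_trig]
  have h : (u ^ 2) ^ i ≠ 0 := pow_ne_zero _ (pow_ne_zero _ hu0)
  rw [div_eq_iff h]
  ring

theorem F_odd (s t u θ : ℝ) (hu : u ^ 2 = s * t) (hu0 : u ≠ 0) (hs : s ≠ 0)
    (hσ : sin θ ≠ 0) (i : ℕ) :
    chi s t (2 * u * cos θ) (2 * i + 1) ^ 2 / alt s t (2 * i + 1) =
      ((s - 1) ^ 2 / s * sin ((i + 1) * θ) ^ 2 +
        2 * (s - 1) * (t - 1) * u / (s * t) * (sin (i * θ) * sin ((i + 1) * θ)) +
        (t - 1) ^ 2 / t * sin (i * θ) ^ 2) / sin θ ^ 2 := by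
  rw [chi_odd', alt_two_mul_add_one, ← hu]
  have h1 := aseq_trig u θ i
  have h0 := aseq_trig_u u θ i
  have hU : u ^ i ≠ 0 := pow_ne_zero _ hu0
  have e1 : sin ((i + 1) * θ) = aseq (2 * u * cos θ) (u ^ 2) (i + 1) * sin θ / u ^ i := by
    rw [h1]; field_simp
  have e0 : sin (i * θ) = aseq (2 * u * cos θ) (u ^ 2) i * sin θ * u / u ^ i := by
    rw [h0]; field_simp
  rw [e1, e0]
  have ht' : t = u ^ 2 / s := by rw [hu]; field_simp
  generalize aseq (2 * u * cos θ) (u ^ 2) (i + 1) = a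
  generalize aseq (2 * u * cos θ) (u ^ 2) i = b
  clear h1 h0 e1 e0
  subst ht'
  field_simp
  ring

theorem two_sin_mul_sum_cos (θ φ : ℝ) (n : ℕ) :
    2 * sin θ * ∑ i ∈ Finset.range n, cos (2 * i * θ + φ) =
      sin ((2 * n - 1) * θ + φ) - sin (φ - θ) := by
  induction n with
  | zero =>
    simp only [Finset.range_zero, Finset.sum_empty, mul_zero, Nat.cast_zero, zero_sub]
    rw [show (-1 : ℝ) * θ + φ = φ - θ by ring, sub_self]
  | succ n ih =>
    rw [Finset.sum_range_succ, mul_add, ih]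
    have e1 : (2 * ((n + 1 : ℕ) : ℝ) - 1) * θ + φ = (2 * n * θ + φ) + θ := by push_cast; ring
    have e2 : (2 * (n : ℝ) - 1) * θ + φ = (2 * n * θ + φ) - θ := by ring
    rw [e1, e2, sin_add, sin_sub]
    ring

theorem sum_cos_eq_zero (θ φ : ℝ) (n j : ℕ) (hσ : sin θ ≠ 0)
    (hnθ : (n : ℝ) * θ = j * (2 * π)) :
    ∑ i ∈ Finset.range n, cos (2 * i * θ + φ) = 0 := by
  have h := two_sin_mul_sum_cos θ φ n
  have e : (2 * (n : ℝ) - 1) * θ + φ = (φ - θ) + ((2 * j : ℕ) : ℝ) * (2 * π) := by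
    push_cast; linear_combination 2 * hnθ
  rw [e, Real.sin_add_nat_mul_two_pi, sub_self] at h
  have h2 : 2 * sin θ ≠ 0 := mul_ne_zero two_ne_zero hσ
  exact (mul_eq_zero.mp h).resolve_left h2

theorem sum_affine (θ φ a b : ℝ) (n j : ℕ) (hσ : sin θ ≠ 0)
    (hnθ : (n : ℝ) * θ = j * (2 * π)) (f : ℕ → ℝ)
    (hf : ∀ i : ℕ, f i = a + b * cos (2 * i * θ + φ)) :
    ∑ i ∈ Finset.range n, f i = n * a := by
  rw [Finset.sum_congr rfl (fun i _ => hf i), Finset.sum_add_distrib, ← Finset.mul_sum,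
    sum_cos_eq_zero θ φ n j hσ hnθ, Finset.sum_const, Finset.card_range]
  simp

theorem sum_range_two_mul (f : ℕ → ℝ) (n : ℕ) :
    ∑ k ∈ Finset.range (2 * n), f k =
      ∑ i ∈ Finset.range n, f (2 * i) + ∑ i ∈ Finset.range n, f (2 * i + 1) := by
  induction n with
  | zero => simp
  | succ n ih =>
    rw [show 2 * (n + 1) = 2 * n + 1 + 1 by ring, Finset.sum_range_succ, Finset.sum_range_succ, ih,
      Finset.sum_range_succ, Finset.sum_range_succ]
    ring

end Cfsg.Agent.Helper20.FHS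

namespace Cfsg.Agent.Helper11.FH

open Matrix Real Cfsg.Agent.Helper20.FHS

theorem sigmaSeq_eq (n j : ℕ) (s t : ℝ) (hs : 1 < s) (ht : 1 < t) (hj : 0 < j) (hjn : 2 * j < n) :
    sigmaSeq n s t (yj n s t j) =
      2 * n * (s * t + 1 - yj n s t j) * (s + t + yj n s t j) / (4 * s * t - (yj n s t j) ^ 2) := by
  have hn : (0 : ℝ) < n := by
    have : 0 < n := by omega
    exact_mod_cast this
  have hjR : (0 : ℝ) < j := by exact_mod_cast hj
  have hjnR : (2 : ℝ) * j < n := by exact_mod_cast hjn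
  set θ : ℝ := 2 * π * j / n with hθ
  have hθ0 : 0 < θ := by
    rw [hθ]; positivity
  have hθπ : θ < π := by
    rw [hθ, div_lt_iff₀ hn]
    have : 2 * π * j = π * (2 * j) := by ring
    rw [this]
    exact mul_lt_mul_of_pos_left hjnR pi_pos
  have hσ : sin θ ≠ 0 := (sin_pos_of_pos_of_lt_pi hθ0 hθπ).ne'
  have hnθ : (n : ℝ) * θ = j * (2 * π) := by
    rw [hθ]; field_simp
  have hst : 0 < s * t := by nlinarith
  set u : ℝ := Real.sqrt (s * t) with hu_def
  have hu0' : 0 < u := Real.sqrt_pos.mpr hst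
  have hu0 : u ≠ 0 := hu0'.ne'
  have hu : u ^ 2 = s * t := Real.sq_sqrt hst.le
  have hu' : u ^ 2 = t * s := by rw [hu, mul_comm]
  have hs0 : s ≠ 0 := by positivity
  have ht0 : t ≠ 0 := by positivity
  have hy : yj n s t j = 2 * u * cos θ := rfl
  rw [hy]
  set y : ℝ := 2 * u * cos θ with hy_def
  -- the function F
  set F : ℕ → ℝ := fun k => chi s t y k ^ 2 / alt s t k with hF
  -- reflection
  have hrefl : ∀ k ∈ Finset.range n,
      chi t s y (k + 1) ^ 2 / alt t s (k + 1) = F (n + (n - 1 - k)) := by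
    intro k hk
    have hkn : k < n := Finset.mem_range.mp hk
    rcases Nat.even_or_odd' (k + 1) with ⟨i, hi | hi⟩
    · -- k + 1 = 2 i
      have e : n + (n - 1 - k) = 2 * (n - i) := by omega
      have hin : i ≤ n := by omega
      rw [hF]
      simp only
      rw [e, hi, hy_def, F_even t s u θ hu' hu0 i, F_even s t u θ hu hu0 (n - i),
        Nat.cast_sub hin, sub_mul, hnθ, cos_nat_mul_two_pi_sub]
    · -- k + 1 = 2 i + 1
      have e : n + (n - 1 - k) = 2 * (n - (i + 1)) + 1 := by omega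
      have hin : i + 1 ≤ n := by omega
      rw [hF]
      simp only
      rw [e, hi, hy_def, F_odd t s u θ hu' hu0 ht0 hσ i, F_odd s t u θ hu hu0 hs0 hσ (n - (i + 1))]
      have c1 : (((n - (i + 1) : ℕ) : ℝ) + 1) * θ = (n : ℝ) * θ - i * θ := by
        rw [Nat.cast_sub hin]; push_cast; ring
      have c2 : ((n - (i + 1) : ℕ) : ℝ) * θ = (n : ℝ) * θ - (i + 1) * θ := by
        rw [Nat.cast_sub hin]; push_cast; ring
      rw [c1, c2, hnθ, sin_nat_mul_two_pi_sub, sin_nat_mul_two_pi_sub]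
      ring
  have hsum : sigmaSeq n s t y =
      ∑ i ∈ Finset.range n, F (2 * i) + ∑ i ∈ Finset.range n, F (2 * i + 1) := by
    unfold sigmaSeq
    rw [Finset.sum_congr rfl hrefl, Finset.sum_range_reflect (fun k => F (n + k)) n,
      ← Finset.sum_range_add, ← two_mul, sum_range_two_mul]
  rw [hsum]
  -- the four trigonometric sums
  have hE : ∑ i ∈ Finset.range n, F (2 * i) = n * 2 := by
    refine sum_affine θ 0 2 2 n j hσ hnθ _ (fun i => ?_)
    rw [hF]
    simp only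
    rw [hy_def, F_even s t u θ hu hu0 i, cos_sq]
    ring_nf
  have hS0 : ∑ i ∈ Finset.range n, sin (i * θ) ^ 2 = n * (1 / 2) := by
    refine sum_affine θ 0 (1 / 2) (-1 / 2) n j hσ hnθ _ (fun i => ?_)
    rw [sin_sq_eq_half_sub]
    ring_nf
  have hS1 : ∑ i ∈ Finset.range n, sin ((i + 1) * θ) ^ 2 = n * (1 / 2) := by
    refine sum_affine θ (2 * θ) (1 / 2) (-1 / 2) n j hσ hnθ _ (fun i => ?_)
    rw [sin_sq_eq_half_sub]
    ring_nf
  have hS01 : ∑ i ∈ Finset.range n, sin (i * θ) * sin ((i + 1) * θ) = n * (cos θ / 2) := by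
    refine sum_affine θ θ (cos θ / 2) (-1 / 2) n j hσ hnθ _ (fun i => ?_)
    have e1 : cos (2 * (i : ℝ) * θ + θ) =
        cos ((i + 1) * θ) * cos (i * θ) - sin ((i + 1) * θ) * sin (i * θ) := by
      rw [← cos_add]; ring_nf
    have e2 : cos θ =
        cos ((i + 1) * θ) * cos (i * θ) + sin ((i + 1) * θ) * sin (i * θ) := by
      rw [← cos_sub]; ring_nf
    rw [e1, e2]
    ring
  have hO : ∑ i ∈ Finset.range n, F (2 * i + 1) =
      ((s - 1) ^ 2 / s * (n * (1 / 2)) +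
        2 * (s - 1) * (t - 1) * u / (s * t) * (n * (cos θ / 2)) +
        (t - 1) ^ 2 / t * (n * (1 / 2))) / sin θ ^ 2 := by
    have hO' : ∑ i ∈ Finset.range n, F (2 * i + 1) =
        ((s - 1) ^ 2 / s * ∑ i ∈ Finset.range n, sin ((i + 1) * θ) ^ 2 +
          2 * (s - 1) * (t - 1) * u / (s * t) *
            ∑ i ∈ Finset.range n, sin (i * θ) * sin ((i + 1) * θ) +
          (t - 1) ^ 2 / t * ∑ i ∈ Finset.range n, sin (i * θ) ^ 2) / sin θ ^ 2 := by
      rw [Finset.mul_sum, Finset.mul_sum, Finset.mul_sum,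
        ← Finset.sum_add_distrib, ← Finset.sum_add_distrib, Finset.sum_div]
      refine Finset.sum_congr rfl (fun i _ => ?_)
      rw [hF]
      simp only
      rw [hy_def, F_odd s t u θ hu hu0 hs0 hσ i]
    rw [hO', hS0, hS1, hS01]
  rw [hE, hO]
  have hsin2 : sin θ ^ 2 = 1 - cos θ ^ 2 := by
    have := sin_sq_add_cos_sq θ
    linarith
  have hc : 1 - cos θ ^ 2 ≠ 0 := by
    rw [← hsin2]; exact pow_ne_zero _ hσ
  rw [hsin2, hy_def]
  have ht' : t = u ^ 2 / s := by rw [hu]; field_simp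
  have hden : 4 * s * t - (2 * u * cos θ) ^ 2 = 4 * u ^ 2 * (1 - cos θ ^ 2) := by
    linear_combination (-4) * hu
  rw [hden]
  clear_value u
  subst ht'
  field_simp
  ring

end Cfsg.Agent.Helper11.FH
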