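import Mathlib
import Cfsg.Agent.Lib.Helper21.PGroupFrattini

set_option autoImplicit false

namespace Cfsg.Agent.Helper20

/-- a commutative group of exponent `p` generated by a finite set `T` has order at most
`p ^ |T|` -/
theorem card_le_pow_of_exponent_prime {V : Type*} [CommGroup V] [Finite V] (p : ℕ) [Fact p.Prime]
    (hexp : ∀ a : V, a ^ p = 1) (T : Finset V) (hT : Subgroup.closure (T : Set V) = ⊤) :
    Nat.card V ≤ p ^ T.card := by
  classical
  have hmod : ∀ a : Additive V, p • a = 0 := by
    intro a
    have := hexp (Additive.toMul a)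
    exact congrArg Additive.ofMul this
  obtain ⟨inst⟩ : Nonempty (Module (ZMod p) (Additive V)) := ⟨AddCommGroup.zmodModule hmod⟩
  let T' : Finset (Additive V) := T.image Additive.ofMul
  have hspan : Submodule.span (ZMod p) (T' : Set (Additive V)) = ⊤ := by
    rw [eq_top_iff]
    intro v _
    have hv : Additive.toMul v ∈ Subgroup.closure (T : Set V) := by
      rw [hT]; exact Subgroup.mem_top _
    have key : ∀ x : V, x ∈ Subgroup.closure (T : Set V) →
        Additive.ofMul x ∈ Submodule.span (ZMod p) (T' : Set (Additive V)) := by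
      intro x hx
      induction hx using Subgroup.closure_induction with
      | mem y hy =>
        apply Submodule.subset_span
        rw [Finset.coe_image]
        exact ⟨y, hy, rfl⟩
      | one => exact Submodule.zero_mem _
      | mul a b _ _ ha hb => exact Submodule.add_mem _ ha hb
      | inv a _ ha => exact Submodule.neg_mem _ ha
    exact key _ hv
  have hfin : Module.Finite (ZMod p) (Additive V) := Module.Finite.of_finite
  have h1 : Module.finrank (ZMod p) (Additive V) ≤ T.card := by
    have h2 := finrank_span_finset_le_card (R := ZMod p) T'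
    rw [Set.finrank, hspan, finrank_top] at h2
    exact le_trans h2 Finset.card_image_le
  have h3 : Nat.card (Additive V) = p ^ Module.finrank (ZMod p) (Additive V) := by
    rw [Module.natCard_eq_pow_finrank (K := ZMod p) (V := Additive V), Nat.card_zmod]
  have h4 : Nat.card (Additive V) = Nat.card V := rfl
  rw [← h4, h3]
  exact Nat.pow_le_pow_right (Fact.out : p.Prime).pos h1

/-- the Frattini quotient of a `p`-group generated by `d` elements has order `p ^ r` with
`r ≤ d` -/
theorem frattini_index_eq_pow_le {P : Type*} [Group P] [Finite P] (p : ℕ) [Fact p.Prime]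
    (hP : IsPGroup p P) (S : Finset P) (hS : Subgroup.closure (S : Set P) = ⊤) :
    ∃ r ≤ S.card, (frattini P).index = p ^ r := by
  classical
  obtain ⟨r, hr⟩ := hP.index (frattini P)
  refine ⟨r, ?_, hr⟩
  have hcomm : ∀ a b : P ⧸ frattini P, a * b = b * a := by
    intro a b
    obtain ⟨x, rfl⟩ := QuotientGroup.mk_surjective a
    obtain ⟨y, rfl⟩ := QuotientGroup.mk_surjective b
    have h1 := Cfsg.Agent.Helper21.commutator_mem_frattini_of_isPGroup hP x y
    rw [← QuotientGroup.eq_one_iff] at h1
    rw [QuotientGroup.mk_mul, QuotientGroup.mk_mul, QuotientGroup.mk_mul, QuotientGroup.mk_inv,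
      QuotientGroup.mk_inv] at h1
    calc (x : P ⧸ frattini P) * y = ((x : P ⧸ frattini P) * y * (x : P ⧸ frattini P)⁻¹ *
        (y : P ⧸ frattini P)⁻¹) * (y * x) := by group
      _ = y * x := by rw [h1, one_mul]
  let _ : CommGroup (P ⧸ frattini P) :=
    { (inferInstance : Group (P ⧸ frattini P)) with mul_comm := hcomm }
  have hexp : ∀ a : P ⧸ frattini P, a ^ p = 1 := by
    intro a
    obtain ⟨x, rfl⟩ := QuotientGroup.mk_surjective a
    rw [← QuotientGroup.mk_pow, QuotientGroup.eq_one_iff]
    exact Cfsg.Agent.Helper21.pow_mem_frattini_of_isPGroup hP x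
  let T : Finset (P ⧸ frattini P) := S.image (QuotientGroup.mk' (frattini P))
  have hT : Subgroup.closure (T : Set (P ⧸ frattini P)) = ⊤ := by
    rw [Finset.coe_image, ← MonoidHom.map_closure, hS,
      Subgroup.map_top_of_surjective _ (QuotientGroup.mk'_surjective _)]
  have h1 := card_le_pow_of_exponent_prime p hexp T hT
  have h2 : Nat.card (P ⧸ frattini P) = p ^ r := by
    rw [← hr]; rfl
  rw [h2] at h1
  have h3 : p ^ r ≤ p ^ S.card :=
    le_trans h1 (Nat.pow_le_pow_right (Fact.out : p.Prime).pos Finset.card_image_le)
  exact (Nat.pow_le_pow_iff_right (Fact.out : p.Prime).one_lt).mp h3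

end Cfsg.Agent.Helper20
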