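import Mathlib
import Cfsg.Agent.S4208
import Cfsg.Agent.Lib.Helper20.FrattiniRank

set_option autoImplicit false

namespace Cfsg.Agent.Helper20

theorem prod_range_pow_sub_pow (p r : ℕ) (hp : 1 ≤ p) :
    ∏ i ∈ Finset.range r, (p ^ r - p ^ i) =
      (∏ i ∈ Finset.range r, p ^ i) * ∏ j ∈ Finset.range r, (p ^ (j + 1) - 1) := by
  have h1 : ∏ j ∈ Finset.range r, (p ^ (j + 1) - 1) =
      ∏ i ∈ Finset.range r, (p ^ (r - i) - 1) := by
    rw [← Finset.prod_range_reflect (fun j => p ^ (j + 1) - 1) r]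
    apply Finset.prod_congr rfl
    intro i hi
    rw [Finset.mem_range] at hi
    have : r - 1 - i + 1 = r - i := by omega
    rw [this]
  rw [h1, ← Finset.prod_mul_distrib]
  apply Finset.prod_congr rfl
  intro i hi
  rw [Finset.mem_range] at hi
  have h2 : p ^ r = p ^ i * p ^ (r - i) := by
    rw [← pow_add]
    congr 1
    omega
  rw [Nat.mul_sub, mul_one, ← h2]

/-- the order of the automorphism group of a `p`-group generated by at most `d` elements -/
theorem card_mulAut_dvd (Q : Type*) [Group Q] [Finite Q] (p : ℕ) [Fact p.Prime]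
    (hQ : IsPGroup p Q) (S : Finset Q) (hS : Subgroup.closure (S : Set Q) = ⊤) (d : ℕ)
    (hd : S.card ≤ d) :
    ∃ K : ℕ, Nat.card (MulAut Q) ∣ p ^ K * ∏ j ∈ Finset.range d, (p ^ (j + 1) - 1) := by
  obtain ⟨n, hn⟩ := IsPGroup.iff_card.mp hQ
  obtain ⟨r, hr, hidx⟩ := frattini_index_eq_pow_le p hQ S hS
  have h1 := Cfsg.Agent.S4208.result hn hidx
  rw [prod_range_pow_sub_pow p r (Fact.out : p.Prime).one_lt.le, Finset.prod_pow_eq_pow_sum,
    ← mul_assoc, ← pow_add] at h1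
  refine ⟨_, dvd_trans h1 (mul_dvd_mul_left _ ?_)⟩
  apply Finset.prod_dvd_prod_of_subset
  intro j hj
  rw [Finset.mem_range] at hj ⊢
  omega

/-- a `p'`-element normalizing a `p`-subgroup generated by at most `d` elements, of order coprime
to `∏_{j ≤ d} (p^j - 1)`, centralizes it -/
theorem mem_centralizer_of_coprime {G : Type*} [Group G] [Finite G] (p : ℕ) [Fact p.Prime]
    (Q : Subgroup G) (hQ : IsPGroup p Q) (S : Finset Q)
    (hS : Subgroup.closure (S : Set Q) = ⊤) (d : ℕ) (hd : S.card ≤ d) (g : G)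
    (hg : g ∈ Subgroup.normalizer (Q : Set G)) (h1 : Nat.Coprime (orderOf g) p)
    (h2 : Nat.Coprime (orderOf g) (∏ j ∈ Finset.range d, (p ^ (j + 1) - 1))) :
    g ∈ Subgroup.centralizer (Q : Set G) := by
  obtain ⟨K, hK⟩ := card_mulAut_dvd Q p hQ S hS d hd
  set α := Q.normalizerMonoidHom ⟨g, hg⟩ with hα
  have h3 : orderOf α ∣ orderOf g := by
    have := orderOf_map_dvd Q.normalizerMonoidHom (⟨g, hg⟩ : Subgroup.normalizer (Q : Set G))
    rwa [← Subgroup.orderOf_coe] at this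
  have h4 : orderOf α ∣ p ^ K * ∏ j ∈ Finset.range d, (p ^ (j + 1) - 1) :=
    dvd_trans (orderOf_dvd_natCard α) hK
  have h5 : Nat.Coprime (orderOf g) (p ^ K * ∏ j ∈ Finset.range d, (p ^ (j + 1) - 1)) :=
    Nat.Coprime.mul_right (Nat.Coprime.pow_right K h1) h2
  have h6 : orderOf α = 1 := Nat.eq_one_of_dvd_coprimes h5 h3 h4
  rw [orderOf_eq_one_iff] at h6
  have h7 : (⟨g, hg⟩ : Subgroup.normalizer (Q : Set G)) ∈ Q.normalizerMonoidHom.ker := h6
  rw [Subgroup.normalizerMonoidHom_ker] at h7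
  exact h7

end Cfsg.Agent.Helper20
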