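import Mathlib
import Cfsg.Prelude.Def_KGroupFacts

set_option autoImplicit false

namespace Cfsg.Agent.Helper20

universe u v

/-- The identity is a stem extension. -/
theorem isStemExtension_id (G : Type u) [Group G] : Cfsg.IsStemExtension (MonoidHom.id G) := by
  refine ⟨Function.surjective_id, ?_, ?_⟩ <;>
  · intro x hx
    rw [MonoidHom.mem_ker, MonoidHom.id_apply] at hx
    subst hx
    exact Subgroup.one_mem _

/-- If every finite stem extension of the finite group `G` has trivial kernel, then `G` has
trivial Schur multiplier. -/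
theorem hasCyclicSchurMultiplier_one_of_forall_ker_eq_bot (G : Type u) [Group G] [Finite G]
    (h : ∀ (Γ : Type u) [Group Γ] [Finite Γ] (σ : Γ →* G), Cfsg.IsStemExtension σ → σ.ker = ⊥) :
    Cfsg.HasCyclicSchurMultiplier G 1 := by
  constructor
  · refine ⟨G, inferInstance, inferInstance, MonoidHom.id G, isStemExtension_id G, ⟨?_⟩⟩
    have hk : (MonoidHom.id G).ker = ⊥ := by
      ext x; simp
    have : Unique ((MonoidHom.id G).ker) := by
      rw [hk]; infer_instance
    have : Unique (Multiplicative (ZMod 1)) := by
      have : Unique (ZMod 1) := by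
        change Unique (Fin 1)
        infer_instance
      exact inferInstanceAs (Unique (ZMod 1))
    exact MulEquiv.ofUnique
  · intro Γ _ _ σ hσ
    have hk : σ.ker = ⊥ := h Γ σ hσ
    refine ⟨1, ?_⟩
    intro x
    refine ⟨1, ?_⟩
    have hx : (x : Γ) ∈ (⊥ : Subgroup Γ) := hk ▸ x.2
    rw [Subgroup.mem_bot] at hx
    ext
    simp [hx]

end Cfsg.Agent.Helper20
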