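import Mathlib
import Cfsg.Agent.Lib.Helper15.S62Defs

/-!
# S2362, piece S62-CARDFIB: `card_moved`
-/

set_option autoImplicit false

namespace Cfsg.Agent.Helper15.S62

universe u

section linalg

variable {F : Type u} [Field F] {V : Type u} [AddCommGroup V] [Module F V]

/-- PIECE S62-CARDFIB -/
theorem card_moved [Finite V] (B : LinearMap.BilinForm F V) (hsymm : ∀ x y, B x y = B y x)
    (C W : Submodule F V) (h : IsCompl C W) (horth : ∀ w ∈ W, ∀ x ∈ C, B w x = 0)
    (s : Module.End F V) (hC : ∀ x ∈ C, s x = x) (hW : ∀ w ∈ W, s w ∈ W)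
    (hfree : ∀ w ∈ W, s w = w → w = 0) (c : F) :
    Nat.card {v : V // B v v = c ∧ s v ≠ v} =
      ∑ᶠ x : C, Nat.card {w : W // w ≠ 0 ∧ B (w : V) (w : V) = c - B (x : V) (x : V)} := by
  classical
  haveI : Fintype C := Fintype.ofFinite C
  have key : ∀ p : C × W,
      (p.2 ≠ 0 ∧ B (p.2 : V) (p.2 : V) = c - B (p.1 : V) (p.1 : V)) ↔
        (B (Submodule.prodEquivOfIsCompl C W h p) (Submodule.prodEquivOfIsCompl C W h p) = c ∧
          s (Submodule.prodEquivOfIsCompl C W h p) ≠ Submodule.prodEquivOfIsCompl C W h p) := by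
    rintro ⟨x, w⟩
    rw [Submodule.coe_prodEquivOfIsCompl']
    have h1 : B ((x : V) + (w : V)) ((x : V) + (w : V))
        = B (x : V) (x : V) + B (w : V) (w : V) := by
      have e1 : B (w : V) (x : V) = 0 := horth w w.2 x x.2
      have e2 : B (x : V) (w : V) = 0 := by rw [hsymm]; exact e1
      simp only [map_add, LinearMap.add_apply, e1, e2]
      ring
    have h2 : s ((x : V) + (w : V)) = (x : V) + s (w : V) := by
      rw [map_add, hC x x.2]
    show (w ≠ 0 ∧ B (w : V) (w : V) = c - B (x : V) (x : V)) ↔ _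
    rw [h1, h2]
    constructor
    · rintro ⟨hw0, hw⟩
      refine ⟨by rw [hw]; ring, ?_⟩
      intro hs
      have : s (w : V) = (w : V) := add_left_cancel hs
      exact hw0 (Subtype.ext (hfree w w.2 this))
    · rintro ⟨hb, hs⟩
      refine ⟨?_, by rw [← hb]; ring⟩
      rintro rfl
      apply hs
      simp
  have e1 : {p : C × W // p.2 ≠ 0 ∧ B (p.2 : V) (p.2 : V) = c - B (p.1 : V) (p.1 : V)} ≃
      {v : V // B v v = c ∧ s v ≠ v} :=
    Equiv.subtypeEquiv (Submodule.prodEquivOfIsCompl C W h).toEquiv key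
  rw [← Nat.card_congr e1,
    Nat.card_congr (Equiv.subtypeProdEquivSigmaSubtype
      (fun (x : C) (w : W) => w ≠ 0 ∧ B (w : V) (w : V) = c - B (x : V) (x : V))),
    Nat.card_sigma, finsum_eq_sum_of_fintype]

end linalg

end Cfsg.Agent.Helper15.S62
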