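import Mathlib
import Cfsg.Agent.Lib.Helper15.S62Defs

/-!
# S2362, piece S62-DIM3A: `unipotent_sq_ne_zero`
-/

set_option autoImplicit false

namespace Cfsg.Agent.Helper15.S62

universe u

section linalg

variable {F : Type u} [Field F] {V : Type u} [AddCommGroup V] [Module F V]

/-- PIECE S62-DIM3A -/
theorem unipotent_sq_ne_zero {C : Type u} [AddCommGroup C] [Module F C] [FiniteDimensional F C]
    (h2 : (2 : F) ≠ 0) (hdim : Module.finrank F C = 3)
    (B : LinearMap.BilinForm F C) (hsymm : ∀ x y, B x y = B y x)
    (hnd : ∀ x, (∀ y, B x y = 0) → x = 0) (u : Module.End F C)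
    (hu : ∀ x y, B (u x) (u y) = B x y) (hu1 : u ≠ 1) : (u - 1) ^ 2 ≠ 0 := by
  intro hN2
  set N : Module.End F C := u - 1 with hNdef
  have hu_eq : ∀ x, u x = x + N x := by
    intro x
    simp [hNdef]
  have hNN : ∀ x, N (N x) = 0 := by
    intro x
    have := congrArg (fun f : Module.End F C => f x) hN2
    simpa [pow_two, Module.End.mul_apply] using this
  have hstar : ∀ x y, B (N x) y + B x (N y) + B (N x) (N y) = 0 := by
    intro x y
    have := hu x y
    rw [hu_eq, hu_eq] at this
    simp only [map_add, LinearMap.add_apply] at this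
    linear_combination this
  have h0 : ∀ x y, B (N x) (N y) = 0 := by
    intro x y
    have := hstar x (N y)
    rw [hNN] at this
    simpa using this
  have hskew : ∀ x y, B (N x) y = - B x (N y) := by
    intro x y
    have := hstar x y
    rw [h0] at this
    linear_combination this
  have hiso : ∀ x, B (N x) x = 0 := by
    intro x
    have h1 := hskew x x
    rw [hsymm x (N x)] at h1
    have : (2 : F) * B (N x) x = 0 := by linear_combination h1
    exact (mul_eq_zero.1 this).resolve_left h2
  have hNne : N ≠ 0 := by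
    intro h
    apply hu1
    rw [hNdef] at h
    exact sub_eq_zero.1 h
  have hrk : Module.finrank F (LinearMap.range N) ≤ 1 := by
    have hle : LinearMap.range N ≤ LinearMap.ker N := by
      rintro _ ⟨x, rfl⟩
      exact LinearMap.mem_ker.2 (hNN x)
    have h1 := Submodule.finrank_mono hle
    have h3 := LinearMap.finrank_range_add_finrank_ker N
    omega
  obtain ⟨v, hv⟩ := finrank_le_one_iff.1 hrk
  obtain ⟨a, ha⟩ : ∃ a, N a ≠ 0 := by
    by_contra hcon
    push Not at hcon
    exact hNne (LinearMap.ext hcon)
  have hv0 : (v : C) ≠ 0 := by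
    intro hv0
    obtain ⟨c, hc⟩ := hv ⟨N a, LinearMap.mem_range_self N a⟩
    have hc' : c • (v : C) = N a := congrArg Subtype.val hc
    rw [hv0, smul_zero] at hc'
    exact ha hc'.symm
  have key : ∀ x, N x = 0 ∨ B (v : C) x = 0 := by
    intro x
    obtain ⟨c, hc⟩ := hv ⟨N x, LinearMap.mem_range_self N x⟩
    have hc' : c • (v : C) = N x := congrArg Subtype.val hc
    have h1 := hiso x
    rw [← hc', map_smul, LinearMap.smul_apply, smul_eq_mul, mul_eq_zero] at h1
    rcases h1 with h1 | h1
    · left
      rw [← hc', h1, zero_smul]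
    · right
      exact h1
  obtain ⟨b, hb⟩ : ∃ b, B (v : C) b ≠ 0 := by
    by_contra hcon
    push Not at hcon
    exact hv0 (hnd _ hcon)
  have hNb : N b = 0 := (key b).resolve_right hb
  have hBa : B (v : C) a = 0 := (key a).resolve_left ha
  rcases key (a + b) with h1 | h1
  · rw [map_add, hNb, add_zero] at h1
    exact ha h1
  · rw [map_add, hBa, zero_add] at h1
    exact hb h1

end linalg

end Cfsg.Agent.Helper15.S62
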