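import Mathlib
import Cfsg.Agent.Lib.Helper15.S62Defs

/-!
# S2362, piece S62-DIM3B: `commute_unipotent`
-/

set_option autoImplicit false

namespace Cfsg.Agent.Helper15.S62

universe u

section linalg

variable {F : Type u} [Field F] {V : Type u} [AddCommGroup V] [Module F V]

/-- PIECE S62-DIM3B -/
theorem commute_unipotent {C : Type u} [AddCommGroup C] [Module F C] [FiniteDimensional F C]
    (hdim : Module.finrank F C = 3) (u a : Module.End F C) (h3 : (u - 1) ^ 3 = 0)
    (h2 : (u - 1) ^ 2 ≠ 0) (hcomm : Commute a u) :
    ∃ α : F, (a - algebraMap F (Module.End F C) α) ^ 3 = 0 := by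
  classical
  set N : Module.End F C := u - 1 with hNdef
  have hcN : Commute a N := hcomm.sub_right (Commute.one_right a)
  have haN : ∀ y, a (N y) = N (a y) := by
    intro y
    have := congrArg (fun f : Module.End F C => f y) hcN.eq
    simpa [Module.End.mul_apply] using this
  have hN3 : ∀ y, N (N (N y)) = 0 := by
    intro y
    have := congrArg (fun f : Module.End F C => f y) h3
    simpa [pow_succ, Module.End.mul_apply] using this
  obtain ⟨x, hx⟩ : ∃ x, N (N x) ≠ 0 := by
    by_contra hcon
    push Not at hcon
    apply h2
    apply LinearMap.ext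
    intro y
    simpa [pow_two, Module.End.mul_apply] using hcon y
  -- the basis x, N x, N² x
  have hli : LinearIndependent F ![x, N x, N (N x)] := by
    rw [Fintype.linearIndependent_iff]
    intro g hg
    rw [Fin.sum_univ_three] at hg
    simp only [Matrix.cons_val_zero, Matrix.cons_val_one, Matrix.cons_val_two,
      Matrix.head_cons, Matrix.tail_cons] at hg
    have e0 : g 0 = 0 := by
      have := congrArg (fun y => N (N y)) hg
      simp only [map_add, map_smul, hN3, smul_zero, add_zero, map_zero] at this
      exact (smul_eq_zero.1 this).resolve_right hx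
    rw [e0, zero_smul, zero_add] at hg
    have e1 : g 1 = 0 := by
      have := congrArg (fun y => N y) hg
      simp only [map_add, map_smul, hN3, smul_zero, add_zero, map_zero] at this
      exact (smul_eq_zero.1 this).resolve_right hx
    rw [e1, zero_smul, zero_add] at hg
    have e2 : g 2 = 0 := (smul_eq_zero.1 hg).resolve_right hx
    intro i
    fin_cases i
    · exact e0
    · exact e1
    · exact e2
  have hcard : Fintype.card (Fin 3) = Module.finrank F C := by simp [hdim]
  let bs := basisOfLinearIndependentOfCardEqFinrank hli hcard
  have hbs : ⇑bs = ![x, N x, N (N x)] := coe_basisOfLinearIndependentOfCardEqFinrank hli hcard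
  have hrep : a x = bs.repr (a x) 0 • x + bs.repr (a x) 1 • N x + bs.repr (a x) 2 • N (N x) := by
    have := bs.sum_repr (a x)
    rw [Fin.sum_univ_three, hbs] at this
    simpa using this.symm
  set α := bs.repr (a x) 0
  set β := bs.repr (a x) 1
  set γ := bs.repr (a x) 2
  have hEapp : ∀ y, (algebraMap F (Module.End F C) α + β • N + γ • N ^ 2) y
      = α • y + β • N y + γ • N (N y) := by
    intro y
    simp only [LinearMap.add_apply, LinearMap.smul_apply, Module.algebraMap_end_apply, pow_two,
      Module.End.mul_apply]
  have hE0 : a x = (algebraMap F (Module.End F C) α + β • N + γ • N ^ 2) x := by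
    rw [hEapp]
    exact hrep
  have hE1 : a (N x) = (algebraMap F (Module.End F C) α + β • N + γ • N ^ 2) (N x) := by
    rw [hEapp, haN, hrep]
    simp only [map_add, map_smul, hN3, smul_zero, add_zero]
  have hE2 : a (N (N x)) = (algebraMap F (Module.End F C) α + β • N + γ • N ^ 2) (N (N x)) := by
    rw [hEapp, haN, haN, hrep]
    simp only [map_add, map_smul, hN3, smul_zero, add_zero, map_zero]
  have hE : a = algebraMap F (Module.End F C) α + β • N + γ • N ^ 2 := by
    apply bs.ext
    intro i
    rw [hbs]
    fin_cases i
    · exact hE0
    · exact hE1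
    · exact hE2
  refine ⟨α, ?_⟩
  have hfac : a - algebraMap F (Module.End F C) α = N * (β • (1 : Module.End F C) + γ • N) := by
    rw [hE]
    simp only [mul_add, mul_smul_comm, mul_one, pow_two]
    abel
  have hc : Commute N (β • (1 : Module.End F C) + γ • N) :=
    Commute.add_right (Commute.smul_right (Commute.one_right N) β)
      (Commute.smul_right (Commute.refl N) γ)
  rw [hfac, hc.mul_pow, h3, zero_mul]

end linalg

end Cfsg.Agent.Helper15.S62
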