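import Mathlib

set_option autoImplicit false

namespace Cfsg.Agent.Helper20

open scoped commutatorElement

/-- commutators are unchanged by multiplying the entries by central elements -/
theorem commutatorElement_mul_central {E : Type*} [Group E] (a b z₁ z₂ : E)
    (h1 : z₁ ∈ Subgroup.center E) (h2 : z₂ ∈ Subgroup.center E) :
    ⁅a * z₁, b * z₂⁆ = ⁅a, b⁆ := by
  rw [Subgroup.mem_center_iff] at h1 h2
  rw [commutatorElement_def, commutatorElement_def]
  have e1 : a * z₁ = z₁ * a := h1 a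
  have e2 : b * z₂ = z₂ * b := h2 b
  calc a * z₁ * (b * z₂) * (a * z₁)⁻¹ * (b * z₂)⁻¹
      = z₁ * a * (z₂ * b) * (z₁ * a)⁻¹ * (z₂ * b)⁻¹ := by rw [e1, e2]
    _ = z₁ * (a * z₂) * b * a⁻¹ * z₁⁻¹ * b⁻¹ * z₂⁻¹ := by group
    _ = z₁ * (z₂ * a) * b * a⁻¹ * z₁⁻¹ * b⁻¹ * z₂⁻¹ := by rw [h2 a]
    _ = z₁ * z₂ * (a * b * a⁻¹) * (z₁⁻¹ * b⁻¹) * z₂⁻¹ := by group
    _ = z₁ * z₂ * (a * b * a⁻¹) * (b⁻¹ * z₁⁻¹) * z₂⁻¹ := by
        rw [← mul_inv_rev, ← mul_inv_rev, h1 b]
    _ = z₁ * (z₂ * (a * b * a⁻¹ * b⁻¹)) * z₁⁻¹ * z₂⁻¹ := by group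
    _ = z₁ * ((a * b * a⁻¹ * b⁻¹) * z₂) * z₁⁻¹ * z₂⁻¹ := by
        rw [h2 (a * b * a⁻¹ * b⁻¹)]
    _ = (z₁ * (a * b * a⁻¹ * b⁻¹)) * z₂ * z₁⁻¹ * z₂⁻¹ := by group
    _ = ((a * b * a⁻¹ * b⁻¹) * z₁) * z₂ * z₁⁻¹ * z₂⁻¹ := by
        rw [h1 (a * b * a⁻¹ * b⁻¹)]
    _ = (a * b * a⁻¹ * b⁻¹) * (z₁ * z₂) * z₁⁻¹ * z₂⁻¹ := by group
    _ = (a * b * a⁻¹ * b⁻¹) * (z₂ * z₁) * z₁⁻¹ * z₂⁻¹ := by
        rw [h1 z₂]
    _ = a * b * a⁻¹ * b⁻¹ := by group

variable {E Q : Type*} [Group E] [Group Q]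

/-- If `H` is a subgroup supplementing a central subgroup (every element is `h * z`), then the
commutator subgroup of `E` is contained in `⁅H, H⁆`. -/
theorem commutator_le_of_central_supplement (H : Subgroup E)
    (hsup : ∀ x : E, ∃ h ∈ H, ∃ z ∈ Subgroup.center E, x = h * z) :
    commutator E ≤ ⁅H, H⁆ := by
  rw [commutator_def, Subgroup.commutator_le]
  intro a _ b _
  obtain ⟨a', ha', z₁, hz₁, rfl⟩ := hsup a
  obtain ⟨b', hb', z₂, hz₂, rfl⟩ := hsup b
  rw [commutatorElement_mul_central a' b' z₁ z₂ hz₁ hz₂]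
  exact Subgroup.commutator_mem_commutator ha' hb'

/-- For a central extension `ρ : E → Q` of a perfect group, the commutator subgroup maps onto. -/
theorem commutator_map_surjective (ρ : E →* Q) (hρ : Function.Surjective ρ)
    [hQ : Group.IsPerfect Q] : ∀ q : Q, ∃ x ∈ commutator E, ρ x = q := by
  have h1 : (commutator E).map ρ = ⊤ := by
    rw [commutator_def, Subgroup.map_commutator, ← MonoidHom.range_eq_map,
      MonoidHom.range_eq_top_of_surjective ρ hρ, ← commutator_def, hQ.commutator_eq_top]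
  intro q
  have : q ∈ (commutator E).map ρ := h1 ▸ Subgroup.mem_top q
  exact Subgroup.mem_map.mp this

/-- For a central extension `ρ : E → Q` of a perfect group, the commutator subgroup of `E` is
perfect. -/
theorem isPerfect_commutator_of_central (ρ : E →* Q) (hρ : Function.Surjective ρ)
    (hc : ρ.ker ≤ Subgroup.center E) [hQ : Group.IsPerfect Q] :
    Group.IsPerfect (commutator E) := by
  rw [Subgroup.isPerfect_iff]
  apply le_antisymm
  · exact Subgroup.commutator_le_right _ _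
  · apply commutator_le_of_central_supplement
    intro x
    obtain ⟨h, hh, hx⟩ := commutator_map_surjective ρ hρ (ρ x)
    refine ⟨h, hh, h⁻¹ * x, ?_, by group⟩
    apply hc
    rw [MonoidHom.mem_ker, map_mul, map_inv, hx, inv_mul_cancel]

/-- Two homomorphisms from a perfect group that agree modulo a central subgroup are equal. -/
theorem hom_eq_of_perfect_of_central {G X : Type*} [Group G] [Group X] [hG : Group.IsPerfect G]
    (ξ : X →* Q) (hc : ξ.ker ≤ Subgroup.center X) (η₁ η₂ : G →* X)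
    (h : ξ.comp η₁ = ξ.comp η₂) : η₁ = η₂ := by
  have hmem : ∀ g : G, η₁ g * (η₂ g)⁻¹ ∈ Subgroup.center X := by
    intro g
    apply hc
    rw [MonoidHom.mem_ker, map_mul, map_inv, ← MonoidHom.comp_apply, ← MonoidHom.comp_apply, h,
      mul_inv_cancel]
  let δ : G →* Subgroup.center X :=
    { toFun := fun g => ⟨η₁ g * (η₂ g)⁻¹, hmem g⟩
      map_one' := by
        apply Subtype.ext
        simp
      map_mul' := by
        intro a b
        apply Subtype.ext
        change η₁ (a * b) * (η₂ (a * b))⁻¹ = η₁ a * (η₂ a)⁻¹ * (η₁ b * (η₂ b)⁻¹)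
        have hz := Subgroup.mem_center_iff.mp (hmem b)
        rw [map_mul, map_mul, mul_inv_rev]
        calc η₁ a * η₁ b * ((η₂ b)⁻¹ * (η₂ a)⁻¹)
            = η₁ a * (η₁ b * (η₂ b)⁻¹) * (η₂ a)⁻¹ := by group
          _ = η₁ a * ((η₂ a)⁻¹ * (η₁ b * (η₂ b)⁻¹)) := by
              rw [hz (η₂ a)⁻¹]; group
          _ = η₁ a * (η₂ a)⁻¹ * (η₁ b * (η₂ b)⁻¹) := by group }
  have hker : δ.ker = ⊤ := by
    rw [eq_top_iff, ← hG.commutator_eq_top, commutator_def, Subgroup.commutator_le]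
    intro a _ b _
    rw [MonoidHom.mem_ker, map_commutatorElement, commutatorElement_def]
    have hab : δ a * δ b = δ b * δ a := by
      apply Subtype.ext
      exact (Subgroup.mem_center_iff.mp (δ a).2 (δ b)).symm
    rw [hab]
    group
  apply MonoidHom.ext
  intro g
  have hg : g ∈ δ.ker := hker ▸ Subgroup.mem_top g
  rw [MonoidHom.mem_ker] at hg
  have : η₁ g * (η₂ g)⁻¹ = 1 := congrArg Subtype.val hg
  exact mul_inv_eq_one.mp this

end Cfsg.Agent.Helper20
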