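import Mathlib

set_option autoImplicit false

namespace Cfsg.Agent.Helper20

/-- The kernel of a homomorphism from an abelian group to a free abelian group of finite rank has
a complement. -/
theorem exists_complement_ker_add {A : Type*} [AddCommGroup A] {X : Type*} [Finite X]
    (ψ : A →+ (X →₀ ℤ)) : ∃ S : AddSubgroup A, S ⊓ ψ.ker = ⊥ ∧ S ⊔ ψ.ker = ⊤ := by
  let f : A →ₗ[ℤ] (X →₀ ℤ) := ψ.toIntLinearMap
  let L : Submodule ℤ (X →₀ ℤ) := LinearMap.range f
  have hfree : Module.Free ℤ L := inferInstance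
  let g : A →ₗ[ℤ] L := f.rangeRestrict
  have hg : Function.Surjective g := LinearMap.surjective_rangeRestrict f
  obtain ⟨h, hh⟩ := Module.projective_lifting_property g LinearMap.id hg
  refine ⟨(LinearMap.range h).toAddSubgroup, ?_, ?_⟩
  · rw [eq_bot_iff]
    rintro x ⟨⟨l, rfl⟩, hx2⟩
    have h1 : g (h l) = l := by
      have := LinearMap.congr_fun hh l
      simpa using this
    have h2 : ψ (h l) = 0 := hx2
    have h3 : (g (h l) : X →₀ ℤ) = 0 := h2
    rw [h1] at h3
    have : l = 0 := Subtype.ext h3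
    rw [this, map_zero]
    exact AddSubgroup.zero_mem _
  · rw [eq_top_iff]
    intro x _
    rw [AddSubgroup.mem_sup]
    refine ⟨h (g x), ⟨g x, rfl⟩, x - h (g x), ?_, by abel⟩
    rw [AddMonoidHom.mem_ker, map_sub, sub_eq_zero]
    have h1 : g (h (g x)) = g x := by
      have := LinearMap.congr_fun hh (g x)
      simpa using this
    have h2 : ψ (h (g x)) = ((g (h (g x)) : L) : X →₀ ℤ) := rfl
    rw [h2, h1]
    rfl

/-- Multiplicative version: for a commutative group `T` and a homomorphism to a free abelian group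
of finite rank, the kernel has a complement. -/
theorem exists_complement_ker_mul {T : Type*} [Group T] (hcomm : ∀ a b : T, a * b = b * a)
    {X : Type*} [Finite X] (φ : T →* Multiplicative (X →₀ ℤ)) :
    ∃ S : Subgroup T, (∀ x ∈ S, φ x = 1 → x = 1) ∧
      ∀ x : T, ∃ s ∈ S, ∃ k : T, φ k = 1 ∧ x = s * k := by
  let _ : CommGroup T := { (inferInstance : Group T) with mul_comm := hcomm }
  obtain ⟨S, hS1, hS2⟩ := exists_complement_ker_add (MonoidHom.toAdditiveLeft φ)
  refine ⟨AddSubgroup.toSubgroup' S, ?_, ?_⟩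
  · intro x hx hφ
    have h1 : Additive.ofMul x ∈ S ⊓ (MonoidHom.toAdditiveLeft φ).ker := by
      refine ⟨hx, ?_⟩
      change Additive.ofMul x ∈ (MonoidHom.toAdditiveLeft φ).ker
      rw [AddMonoidHom.mem_ker]
      change Multiplicative.toAdd (φ x) = 0
      rw [hφ]
      rfl
    rw [hS1, AddSubgroup.mem_bot] at h1
    exact h1
  · intro x
    have h1 : Additive.ofMul x ∈ S ⊔ (MonoidHom.toAdditiveLeft φ).ker := by
      rw [hS2]; exact AddSubgroup.mem_top _
    rw [AddSubgroup.mem_sup] at h1
    obtain ⟨y, hy, z, hz, hyz⟩ := h1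
    refine ⟨Additive.toMul y, hy, Additive.toMul z, ?_, ?_⟩
    · rw [AddMonoidHom.mem_ker] at hz
      exact hz
    · exact hyz.symm

end Cfsg.Agent.Helper20
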