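import Mathlib

set_option autoImplicit false

namespace Cfsg.Agent.Helper20

open scoped commutatorElement

universe u v

/-- A group whose center has finite index has finitely many commutators. -/
theorem finite_commutatorSet_of_finiteIndex_center (E : Type*) [Group E]
    [(Subgroup.center E).FiniteIndex] : Finite (commutatorSet E) := by
  have hfin : Finite (E ⧸ Subgroup.center E) := Subgroup.finite_quotient_of_finiteIndex
  let φ : (E ⧸ Subgroup.center E) × (E ⧸ Subgroup.center E) → E :=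
    fun st => ⁅(Quotient.out st.1 : E), (Quotient.out st.2 : E)⁆
  have hsub : commutatorSet E ⊆ Set.range φ := by
    rintro g ⟨a, b, rfl⟩
    refine ⟨((a : E ⧸ Subgroup.center E), (b : E ⧸ Subgroup.center E)), ?_⟩
    obtain ⟨z₁, hz₁⟩ := QuotientGroup.mk_out_eq_mul (Subgroup.center E) a
    obtain ⟨z₂, hz₂⟩ := QuotientGroup.mk_out_eq_mul (Subgroup.center E) b
    change ⁅(Quotient.out (a : E ⧸ Subgroup.center E) : E),
      (Quotient.out (b : E ⧸ Subgroup.center E) : E)⁆ = ⁅a, b⁆
    rw [hz₁, hz₂]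
    have h1 := Subgroup.mem_center_iff.mp z₁.2
    have h2 := Subgroup.mem_center_iff.mp z₂.2
    rw [commutatorElement_def, commutatorElement_def]
    have e1 : a * (z₁ : E) = (z₁ : E) * a := (h1 a)
    have e2 : b * (z₂ : E) = (z₂ : E) * b := (h2 b)
    calc a * ↑z₁ * (b * ↑z₂) * (a * ↑z₁)⁻¹ * (b * ↑z₂)⁻¹
        = (z₁ : E) * a * ((z₂ : E) * b) * ((z₁ : E) * a)⁻¹ * ((z₂ : E) * b)⁻¹ := by rw [e1, e2]
      _ = (z₁ : E) * (a * (z₂ : E)) * b * a⁻¹ * (z₁ : E)⁻¹ * b⁻¹ * (z₂ : E)⁻¹ := by group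
      _ = (z₁ : E) * ((z₂ : E) * a) * b * a⁻¹ * (z₁ : E)⁻¹ * b⁻¹ * (z₂ : E)⁻¹ := by rw [h2 a]
      _ = (z₁ : E) * (z₂ : E) * (a * b * a⁻¹) * ((z₁ : E)⁻¹ * b⁻¹) * (z₂ : E)⁻¹ := by group
      _ = (z₁ : E) * (z₂ : E) * (a * b * a⁻¹) * (b⁻¹ * (z₁ : E)⁻¹) * (z₂ : E)⁻¹ := by
          rw [← mul_inv_rev, ← mul_inv_rev, h1 b]
      _ = (z₁ : E) * ((z₂ : E) * (a * b * a⁻¹ * b⁻¹)) * (z₁ : E)⁻¹ * (z₂ : E)⁻¹ := by group
      _ = (z₁ : E) * ((a * b * a⁻¹ * b⁻¹) * (z₂ : E)) * (z₁ : E)⁻¹ * (z₂ : E)⁻¹ := by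
          rw [h2 (a * b * a⁻¹ * b⁻¹)]
      _ = ((z₁ : E) * (a * b * a⁻¹ * b⁻¹)) * (z₂ : E) * (z₁ : E)⁻¹ * (z₂ : E)⁻¹ := by group
      _ = ((a * b * a⁻¹ * b⁻¹) * (z₁ : E)) * (z₂ : E) * (z₁ : E)⁻¹ * (z₂ : E)⁻¹ := by
          rw [h1 (a * b * a⁻¹ * b⁻¹)]
      _ = (a * b * a⁻¹ * b⁻¹) * ((z₁ : E) * (z₂ : E)) * (z₁ : E)⁻¹ * (z₂ : E)⁻¹ := by group
      _ = (a * b * a⁻¹ * b⁻¹) * ((z₂ : E) * (z₁ : E)) * (z₁ : E)⁻¹ * (z₂ : E)⁻¹ := by
          rw [h1 (z₂ : E)]
      _ = a * b * a⁻¹ * b⁻¹ := by group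
  exact (Set.Finite.subset (Set.finite_range φ) hsub).to_subtype

/-- **Schur**: a group whose center has finite index has finite commutator subgroup. -/
theorem finite_commutator_of_finiteIndex_center (E : Type*) [Group E]
    [(Subgroup.center E).FiniteIndex] : Finite (commutator E) := by
  have := finite_commutatorSet_of_finiteIndex_center E
  infer_instance

/-- A group with a finite-index central subgroup has finite commutator subgroup. -/
theorem finite_commutator_of_central_finiteIndex (E : Type*) [Group E] (N : Subgroup E)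
    [N.FiniteIndex] (hN : N ≤ Subgroup.center E) : Finite (commutator E) := by
  have : (Subgroup.center E).FiniteIndex := Subgroup.finiteIndex_of_le hN
  exact finite_commutator_of_finiteIndex_center E

section UCE

variable (Q : Type u) [Group Q]

/-- the canonical presentation `FreeGroup Q → Q` -/
def presMap : FreeGroup Q →* Q := FreeGroup.lift id

theorem presMap_of (q : Q) : presMap Q (FreeGroup.of q) = q := by
  simp [presMap]

theorem presMap_surjective : Function.Surjective (presMap Q) :=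
  fun q => ⟨FreeGroup.of q, presMap_of Q q⟩

/-- the relation subgroup `R` -/
def presKer : Subgroup (FreeGroup Q) := (presMap Q).ker

instance presKer_normal : (presKer Q).Normal := by
  unfold presKer; infer_instance

/-- the subgroup `[F, R]` -/
def presComm : Subgroup (FreeGroup Q) := ⁅(⊤ : Subgroup (FreeGroup Q)), presKer Q⁆

instance presComm_normal : (presComm Q).Normal := by
  unfold presComm; exact Subgroup.commutator_normal ⊤ (presKer Q)

theorem presComm_le_presKer : presComm Q ≤ presKer Q :=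
  Subgroup.commutator_le_right ⊤ (presKer Q)

/-- the group `F / [F, R]` -/
abbrev UCE : Type u := FreeGroup Q ⧸ presComm Q

/-- the canonical central extension `F / [F, R] → Q` -/
def uceMap : UCE Q →* Q := QuotientGroup.lift (presComm Q) (presMap Q) (presComm_le_presKer Q)

theorem uceMap_mk (f : FreeGroup Q) : uceMap Q (f : UCE Q) = presMap Q f := rfl

theorem uceMap_surjective : Function.Surjective (uceMap Q) :=
  fun q => ⟨((FreeGroup.of q : FreeGroup Q) : UCE Q), by rw [uceMap_mk, presMap_of]⟩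

theorem uceMap_ker_le_center : (uceMap Q).ker ≤ Subgroup.center (UCE Q) := by
  intro x hx
  obtain ⟨f, rfl⟩ := QuotientGroup.mk_surjective x
  rw [MonoidHom.mem_ker, uceMap_mk] at hx
  have hf : f ∈ presKer Q := hx
  rw [Subgroup.mem_center_iff]
  intro y
  obtain ⟨g, rfl⟩ := QuotientGroup.mk_surjective y
  have h1 : ⁅g⁻¹, f⁻¹⁆ ∈ presComm Q :=
    Subgroup.commutator_mem_commutator (Subgroup.mem_top g⁻¹) (Subgroup.inv_mem _ hf)
  rw [← QuotientGroup.mk_mul, ← QuotientGroup.mk_mul]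
  rw [QuotientGroup.eq]
  have : (g * f)⁻¹ * (f * g) = (⁅g⁻¹, f⁻¹⁆)⁻¹ := by
    rw [commutatorElement_def]; group
  rw [this]
  exact Subgroup.inv_mem _ h1

/-- universal property of `F / [F, R]` among central extensions -/
theorem exists_uce_lift {X : Type v} [Group X] (ξ : X →* Q) (hξ : Function.Surjective ξ)
    (hc : ξ.ker ≤ Subgroup.center X) : ∃ η : UCE Q →* X, ξ.comp η = uceMap Q := by
  let f₀ : FreeGroup Q →* X := FreeGroup.lift (fun q => Function.surjInv hξ q)
  have h1 : ξ.comp f₀ = presMap Q := by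
    apply FreeGroup.ext_hom
    intro q
    rw [MonoidHom.comp_apply, presMap_of]
    change ξ (FreeGroup.lift (fun q => Function.surjInv hξ q) (FreeGroup.of q)) = q
    rw [FreeGroup.lift_apply_of]
    exact Function.surjInv_eq hξ q
  have h2 : presComm Q ≤ f₀.ker := by
    unfold presComm
    rw [Subgroup.commutator_le]
    intro g₁ _ g₂ hg₂
    rw [MonoidHom.mem_ker, map_commutatorElement]
    have hk : f₀ g₂ ∈ ξ.ker := by
      rw [MonoidHom.mem_ker, ← MonoidHom.comp_apply, h1]
      exact hg₂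
    have hz := Subgroup.mem_center_iff.mp (hc hk)
    rw [commutatorElement_def, hz (f₀ g₁)]
    group
  refine ⟨QuotientGroup.lift (presComm Q) f₀ h2, ?_⟩
  apply MonoidHom.ext
  intro x
  obtain ⟨f, rfl⟩ := QuotientGroup.mk_surjective x
  rw [MonoidHom.comp_apply, QuotientGroup.lift_mk, uceMap_mk, ← h1, MonoidHom.comp_apply]

instance uce_ker_finiteIndex [Finite Q] : (uceMap Q).ker.FiniteIndex := by
  constructor
  rw [Subgroup.index_ker, MonoidHom.range_eq_top_of_surjective _ (uceMap_surjective Q)]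
  have : Nat.card (⊤ : Subgroup Q) = Nat.card Q := Subgroup.card_top
  rw [this]
  exact Nat.card_pos.ne'

instance uce_finite_commutator [Finite Q] : Finite (commutator (UCE Q)) :=
  finite_commutator_of_central_finiteIndex (UCE Q) (uceMap Q).ker (uceMap_ker_le_center Q)

end UCE

end Cfsg.Agent.Helper20
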