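import Mathlib
import Cfsg.Agent.Lib.Helper20.UCE
import Cfsg.Agent.Lib.Helper20.SplitFree

set_option autoImplicit false

namespace Cfsg.Agent.Helper20

universe u v

section

variable (Q : Type u) [Group Q]

/-- image of the commutator subgroup under a surjection -/
theorem map_commutator_of_surjective {G H : Type*} [Group G] [Group H] (f : G →* H)
    (hf : Function.Surjective f) : (commutator G).map f = commutator H := by
  rw [commutator_def, Subgroup.map_commutator, Subgroup.map_top_of_surjective f hf,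
    ← commutator_def]

theorem presComm_le_commutator : presComm Q ≤ commutator (FreeGroup Q) := by
  rw [commutator_def]
  exact Subgroup.commutator_mono le_rfl le_top

/-- the abelianization map on `F / [F, R]` with values in the abelianization of `F` -/
noncomputable def uceAb : UCE Q →* Abelianization (FreeGroup Q) :=
  QuotientGroup.lift (presComm Q) Abelianization.of (by
    rw [Abelianization.ker_of]
    exact presComm_le_commutator Q)

theorem uceAb_ker : (uceAb Q).ker = commutator (UCE Q) := by
  unfold uceAb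
  rw [QuotientGroup.ker_lift, Abelianization.ker_of]
  exact map_commutator_of_surjective _ (QuotientGroup.mk'_surjective _)

/-- the abelianization map with values in `Q →₀ ℤ` -/
noncomputable def uceFin : UCE Q →* Multiplicative (Q →₀ ℤ) :=
  (AddMonoidHom.toMultiplicativeRight
    ((FreeAbelianGroup.equivFinsupp Q).toAddMonoidHom :
      Additive (Abelianization (FreeGroup Q)) →+ (Q →₀ ℤ))).comp (uceAb Q)

theorem uceFin_eq_one_iff (x : UCE Q) : uceFin Q x = 1 ↔ x ∈ commutator (UCE Q) := by
  rw [← uceAb_ker, MonoidHom.mem_ker]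
  unfold uceFin
  rw [MonoidHom.comp_apply]
  constructor
  · intro h
    have h1 : (FreeAbelianGroup.equivFinsupp Q) (Additive.ofMul (uceAb Q x)) = 0 := h
    have h2 : (FreeAbelianGroup.equivFinsupp Q) (Additive.ofMul (uceAb Q x)) =
        (FreeAbelianGroup.equivFinsupp Q) 0 := by rw [h1, map_zero]
    have h3 := (FreeAbelianGroup.equivFinsupp Q).injective h2
    exact h3
  · intro h
    rw [h, map_one]

/-- Complement theorem: every subgroup `T` of the (central) kernel of `F/[F,R] → Q` splits as
`S × (T ∩ E')`. -/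
theorem exists_complement_in_ker [Finite Q] (T : Subgroup (UCE Q)) (hT : T ≤ (uceMap Q).ker) :
    ∃ S : Subgroup (UCE Q), S ≤ T ∧ S ⊓ commutator (UCE Q) = ⊥ ∧
      ∀ x ∈ T, ∃ s ∈ S, ∃ k ∈ T ⊓ commutator (UCE Q), x = s * k := by
  have hcomm : ∀ a b : T, a * b = b * a := by
    intro a b
    have hb : (b : UCE Q) ∈ Subgroup.center (UCE Q) := uceMap_ker_le_center Q (hT b.2)
    apply Subtype.ext
    exact (Subgroup.mem_center_iff.mp hb (a : UCE Q))
  obtain ⟨S', hS1, hS2⟩ := exists_complement_ker_mul hcomm ((uceFin Q).comp T.subtype)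
  refine ⟨S'.map T.subtype, ?_, ?_, ?_⟩
  · rintro _ ⟨x, _, rfl⟩
    exact x.2
  · rw [eq_bot_iff]
    rintro _ ⟨⟨x, hx, rfl⟩, hx2⟩
    have h1 : ((uceFin Q).comp T.subtype) x = 1 := (uceFin_eq_one_iff Q _).mpr hx2
    rw [hS1 x hx h1]
    exact Subgroup.one_mem _
  · intro x hx
    obtain ⟨s, hs, k, hk, hxsk⟩ := hS2 ⟨x, hx⟩
    refine ⟨(s : UCE Q), ⟨s, hs, rfl⟩, (k : UCE Q), ⟨k.2, ?_⟩, ?_⟩
    · exact (uceFin_eq_one_iff Q _).mp hk
    · exact congrArg Subtype.val hxsk

end

end Cfsg.Agent.Helper20
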