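import Mathlib
import Cfsg.Prelude.Def_KGroupFacts
import Cfsg.Agent.Lib.Helper20.SchurCover1
import Cfsg.Agent.Lib.Helper20.PerfectCover

set_option autoImplicit false

namespace Cfsg.Agent.Helper20

universe u v

section

variable (Q : Type u) [Group Q]

/-- the Schur multiplier as a subgroup of `F / [F, R]`: `(R ∩ F') / [F, R]` -/
def schurM : Subgroup (UCE Q) := (uceMap Q).ker ⊓ commutator (UCE Q)

theorem schurM_le_ker : schurM Q ≤ (uceMap Q).ker := inf_le_left

theorem schurM_le_commutator : schurM Q ≤ commutator (UCE Q) := inf_le_right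

theorem schurM_le_center : schurM Q ≤ Subgroup.center (UCE Q) :=
  le_trans (schurM_le_ker Q) (uceMap_ker_le_center Q)

instance schurM_finite [Finite Q] : Finite (schurM Q) :=
  Finite.of_injective (Subgroup.inclusion (schurM_le_commutator Q))
    (Subgroup.inclusion_injective _)

noncomputable instance schurM_commGroup : CommGroup (schurM Q) :=
  { (schurM Q).toGroup with
    mul_comm := by
      intro a b
      apply Subtype.ext
      exact (Subgroup.mem_center_iff.mp (schurM_le_center Q b.2) (a : UCE Q)) }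

/-- `S` is a complement of the Schur multiplier in the kernel of `F / [F, R] → Q`. -/
structure IsSchurCompl (S : Subgroup (UCE Q)) : Prop where
  le : S ≤ (uceMap Q).ker
  disj : S ⊓ commutator (UCE Q) = ⊥
  sup : ∀ x ∈ (uceMap Q).ker, ∃ s ∈ S, ∃ k ∈ schurM Q, x = s * k

theorem exists_isSchurCompl [Finite Q] : ∃ S : Subgroup (UCE Q), IsSchurCompl Q S := by
  obtain ⟨S, h1, h2, h3⟩ := exists_complement_in_ker Q (uceMap Q).ker le_rfl
  exact ⟨S, h1, h2, h3⟩

variable {Q}

theorem IsSchurCompl.normal {S : Subgroup (UCE Q)} (hS : IsSchurCompl Q S) : S.Normal := by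
  constructor
  intro n hn g
  have hc := Subgroup.mem_center_iff.mp (uceMap_ker_le_center Q (hS.le hn)) g
  rw [hc, mul_assoc, mul_inv_cancel, mul_one]
  exact hn

/-- the covering map `E / S → Q` -/
noncomputable def coverMap (S : Subgroup (UCE Q)) [S.Normal] (hS : S ≤ (uceMap Q).ker) :
    UCE Q ⧸ S →* Q :=
  QuotientGroup.lift S (uceMap Q) hS

theorem coverMap_mk (S : Subgroup (UCE Q)) [S.Normal] (hS : S ≤ (uceMap Q).ker) (x : UCE Q) :
    coverMap S hS (x : UCE Q ⧸ S) = uceMap Q x := rfl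

theorem coverMap_surjective (S : Subgroup (UCE Q)) [S.Normal] (hS : S ≤ (uceMap Q).ker) :
    Function.Surjective (coverMap S hS) := by
  intro q
  obtain ⟨x, hx⟩ := uceMap_surjective Q q
  exact ⟨(x : UCE Q ⧸ S), hx⟩

theorem coverMap_isStem {S : Subgroup (UCE Q)} [S.Normal] (hS : IsSchurCompl Q S) :
    Cfsg.IsStemExtension (coverMap S hS.le) := by
  refine ⟨coverMap_surjective S hS.le, ?_, ?_⟩
  · intro x hx
    obtain ⟨e, rfl⟩ := QuotientGroup.mk_surjective x
    rw [MonoidHom.mem_ker, coverMap_mk] at hx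
    have hc := Subgroup.mem_center_iff.mp (uceMap_ker_le_center Q hx)
    rw [Subgroup.mem_center_iff]
    intro y
    obtain ⟨e', rfl⟩ := QuotientGroup.mk_surjective y
    rw [← QuotientGroup.mk_mul, ← QuotientGroup.mk_mul, hc e']
  · intro x hx
    obtain ⟨e, rfl⟩ := QuotientGroup.mk_surjective x
    rw [MonoidHom.mem_ker, coverMap_mk] at hx
    obtain ⟨s, hs, k, hk, rfl⟩ := hS.sup e hx
    have h1 : ((s * k : UCE Q) : UCE Q ⧸ S) = (k : UCE Q ⧸ S) := by
      rw [QuotientGroup.mk_mul, (QuotientGroup.eq_one_iff s).mpr hs, one_mul]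
    rw [h1, ← map_commutator_of_surjective (QuotientGroup.mk' S) (QuotientGroup.mk'_surjective S)]
    exact ⟨k, schurM_le_commutator Q hk, rfl⟩

/-- the kernel of the cover is isomorphic to the Schur multiplier -/
theorem nonempty_ker_coverMap_equiv {S : Subgroup (UCE Q)} [S.Normal] (hS : IsSchurCompl Q S) :
    Nonempty ((coverMap S hS.le).ker ≃* schurM Q) := by
  let f : schurM Q →* (coverMap S hS.le).ker :=
    { toFun := fun k => ⟨((k : UCE Q) : UCE Q ⧸ S), by
        rw [MonoidHom.mem_ker, coverMap_mk]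
        exact schurM_le_ker Q k.2⟩
      map_one' := rfl
      map_mul' := fun a b => rfl }
  have hinj : Function.Injective f := by
    rw [← MonoidHom.ker_eq_bot_iff, eq_bot_iff]
    intro k hk
    rw [MonoidHom.mem_ker] at hk
    have h1 : ((k : UCE Q) : UCE Q ⧸ S) = 1 := congrArg Subtype.val hk
    rw [QuotientGroup.eq_one_iff] at h1
    have h2 : (k : UCE Q) ∈ S ⊓ commutator (UCE Q) := ⟨h1, schurM_le_commutator Q k.2⟩
    rw [hS.disj, Subgroup.mem_bot] at h2
    rw [Subgroup.mem_bot]
    exact Subtype.ext h2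
  have hsurj : Function.Surjective f := by
    rintro ⟨x, hx⟩
    obtain ⟨e, rfl⟩ := QuotientGroup.mk_surjective x
    rw [MonoidHom.mem_ker, coverMap_mk] at hx
    obtain ⟨s, hs, k, hk, rfl⟩ := hS.sup e hx
    refine ⟨⟨k, hk⟩, ?_⟩
    apply Subtype.ext
    change ((k : UCE Q) : UCE Q ⧸ S) = ((s * k : UCE Q) : UCE Q ⧸ S)
    rw [QuotientGroup.mk_mul, (QuotientGroup.eq_one_iff s).mpr hs, one_mul]
  exact ⟨(MulEquiv.ofBijective f ⟨hinj, hsurj⟩).symm⟩

theorem finite_cover [Finite Q] {S : Subgroup (UCE Q)} [S.Normal] (hS : IsSchurCompl Q S) :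
    Finite (UCE Q ⧸ S) := by
  obtain ⟨e⟩ := nonempty_ker_coverMap_equiv hS
  have hfk : Finite (coverMap S hS.le).ker := Finite.of_equiv _ e.symm.toEquiv
  have h1 := Subgroup.card_eq_card_quotient_mul_card_subgroup (coverMap S hS.le).ker
  have h2 : Nat.card ((UCE Q ⧸ S) ⧸ (coverMap S hS.le).ker) = Nat.card Q :=
    Nat.card_congr (QuotientGroup.quotientKerEquivOfSurjective _
      (coverMap_surjective S hS.le)).toEquiv
  apply Nat.finite_of_card_ne_zero
  rw [h1, h2]
  exact Nat.mul_ne_zero Nat.card_pos.ne' Nat.card_pos.ne'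

end

end Cfsg.Agent.Helper20
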