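import Mathlib
import Cfsg.Prelude.Def_KGroupFacts
import Cfsg.Agent.Lib.Helper20.SchurCover2

set_option autoImplicit false

namespace Cfsg.Agent.Helper20

universe u v w

section

variable {Q : Type u} [Group Q]

/-- For a central extension `ξ : X → Q` and a lift `η` of the universal central extension,
the commutator subgroup of `X` is the image of the commutator subgroup of `F / [F, R]`. -/
theorem commutator_le_map_uce_lift {X : Type v} [Group X] (ξ : X →* Q)
    (hc : ξ.ker ≤ Subgroup.center X) (η : UCE Q →* X) (hη : ξ.comp η = uceMap Q) :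
    commutator X ≤ (commutator (UCE Q)).map η := by
  have h1 : commutator X ≤ ⁅η.range, η.range⁆ := by
    apply commutator_le_of_central_supplement
    intro x
    obtain ⟨e, he⟩ := uceMap_surjective Q (ξ x)
    refine ⟨η e, ⟨e, rfl⟩, (η e)⁻¹ * x, ?_, by group⟩
    apply hc
    rw [MonoidHom.mem_ker, map_mul, map_inv, ← MonoidHom.comp_apply, hη, he, inv_mul_cancel]
  refine le_trans h1 ?_
  rw [MonoidHom.range_eq_map, ← Subgroup.map_commutator, ← commutator_def]

theorem uce_lift_mem_ker {X : Type v} [Group X] (ξ : X →* Q) (η : UCE Q →* X)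
    (hη : ξ.comp η = uceMap Q) {x : UCE Q} (hx : x ∈ (uceMap Q).ker) : η x ∈ ξ.ker := by
  rw [MonoidHom.mem_ker, ← MonoidHom.comp_apply, hη]
  exact hx

/-- elements of `X' ∩ ker ξ` come from the Schur multiplier -/
theorem exists_schurM_of_mem_ker_inf_commutator {X : Type v} [Group X] (ξ : X →* Q)
    (hc : ξ.ker ≤ Subgroup.center X) (η : UCE Q →* X) (hη : ξ.comp η = uceMap Q)
    {k : X} (hk1 : k ∈ ξ.ker) (hk2 : k ∈ commutator X) : ∃ m ∈ schurM Q, η m = k := by
  obtain ⟨e, he, rfl⟩ := commutator_le_map_uce_lift ξ hc η hη hk2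
  refine ⟨e, ⟨?_, he⟩, rfl⟩
  change e ∈ (uceMap Q).ker
  rw [MonoidHom.mem_ker, ← hη, MonoidHom.comp_apply]
  exact hk1

/-- a lift of the universal central extension to a stem extension is surjective -/
theorem uce_lift_surjective {Δ : Type v} [Group Δ] (τ : Δ →* Q) (hτ : Cfsg.IsStemExtension τ)
    (η : UCE Q →* Δ) (hη : τ.comp η = uceMap Q) : Function.Surjective η := by
  intro x
  obtain ⟨e, he⟩ := uceMap_surjective Q (τ x)
  have h1 : (η e)⁻¹ * x ∈ τ.ker := by
    rw [MonoidHom.mem_ker, map_mul, map_inv, ← MonoidHom.comp_apply, hη, he, inv_mul_cancel]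
  obtain ⟨m, _, hm⟩ := exists_schurM_of_mem_ker_inf_commutator τ hτ.2.1 η hη h1 (hτ.2.2 h1)
  refine ⟨e * m, ?_⟩
  rw [map_mul, hm]
  group

/-- a lift to a stem extension maps the Schur multiplier onto the kernel -/
theorem exists_schurM_of_mem_ker {Δ : Type v} [Group Δ] (τ : Δ →* Q)
    (hτ : Cfsg.IsStemExtension τ) (η : UCE Q →* Δ) (hη : τ.comp η = uceMap Q)
    {k : Δ} (hk : k ∈ τ.ker) : ∃ m ∈ schurM Q, η m = k :=
  exists_schurM_of_mem_ker_inf_commutator τ hτ.2.1 η hη hk (hτ.2.2 hk)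

/-- the restriction of a lift to the Schur multiplier, with values in the kernel -/
noncomputable def schurMToKer {X : Type v} [Group X] (ξ : X →* Q) (η : UCE Q →* X)
    (hη : ξ.comp η = uceMap Q) : schurM Q →* ξ.ker where
  toFun m := ⟨η m, uce_lift_mem_ker ξ η hη (schurM_le_ker Q m.2)⟩
  map_one' := by
    apply Subtype.ext
    simp
  map_mul' a b := by
    apply Subtype.ext
    simp

theorem schurMToKer_coe {X : Type v} [Group X] (ξ : X →* Q) (η : UCE Q →* X)
    (hη : ξ.comp η = uceMap Q) (m : schurM Q) :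
    ((schurMToKer ξ η hη m : ξ.ker) : X) = η m := rfl

theorem schurMToKer_surjective {Δ : Type v} [Group Δ] (τ : Δ →* Q)
    (hτ : Cfsg.IsStemExtension τ) (η : UCE Q →* Δ) (hη : τ.comp η = uceMap Q) :
    Function.Surjective (schurMToKer τ η hη) := by
  rintro ⟨k, hk⟩
  obtain ⟨m, hm, rfl⟩ := exists_schurM_of_mem_ker τ hτ η hη hk
  exact ⟨⟨m, hm⟩, rfl⟩

variable (Q)

/-- the subgroup `(R ∩ F') / [F, R]` is the Schur multiplier of the finite group `Q` -/
theorem hasSchurMultiplier_schurM [Finite Q] : Cfsg.HasSchurMultiplier Q (schurM Q) := by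
  constructor
  · obtain ⟨S, hS⟩ := exists_isSchurCompl Q
    have := hS.normal
    exact ⟨UCE Q ⧸ S, inferInstance, finite_cover hS, coverMap S hS.le, coverMap_isStem hS,
      nonempty_ker_coverMap_equiv hS⟩
  · intro Γ _ _ σ hσ
    obtain ⟨η, hη⟩ := exists_uce_lift Q σ hσ.1 hσ.2.1
    exact ⟨schurMToKer σ η hη, schurMToKer_surjective σ hσ η hη⟩

variable {Q}

/-- uniqueness of the Schur multiplier -/
theorem nonempty_equiv_schurM [Finite Q] {A : Type v} [CommGroup A]
    (hA : Cfsg.HasSchurMultiplier Q A) : Nonempty (schurM Q ≃* A) := by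
  obtain ⟨⟨Γ₀, _, _, σ₀, hσ₀, ⟨e₀⟩⟩, hA2⟩ := hA
  obtain ⟨S, hS⟩ := exists_isSchurCompl Q
  have := hS.normal
  have := finite_cover hS
  obtain ⟨π, hπ⟩ := hA2 (UCE Q ⧸ S) (coverMap S hS.le) (coverMap_isStem hS)
  obtain ⟨e₁⟩ := nonempty_ker_coverMap_equiv hS
  obtain ⟨η, hη⟩ := exists_uce_lift Q σ₀ hσ₀.1 hσ₀.2.1
  -- surjection `schurM Q → A`
  let f : schurM Q →* A := e₀.toMonoidHom.comp (schurMToKer σ₀ η hη)
  have hf : Function.Surjective f :=
    e₀.surjective.comp (schurMToKer_surjective σ₀ hσ₀ η hη)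
  -- surjection `A → schurM Q`
  let g : A →* schurM Q := e₁.toMonoidHom.comp π
  have hg : Function.Surjective g := e₁.surjective.comp hπ
  have : Finite A := Finite.of_surjective f hf
  have hcard : Nat.card (schurM Q) = Nat.card A :=
    le_antisymm (Nat.card_le_card_of_surjective g hg) (Nat.card_le_card_of_surjective f hf)
  have hbij : Function.Bijective f :=
    (Nat.bijective_iff_surjective_and_card f).mpr ⟨hf, hcard⟩
  exact ⟨MulEquiv.ofBijective f hbij⟩

end

end Cfsg.Agent.Helper20
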