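import Mathlib

set_option autoImplicit false

namespace Cfsg.Agent.Helper20

section

variable {G : Type*} [CommGroup G]

/-- the `n`-torsion subgroup of a commutative group -/
abbrev torsionSub (G : Type*) [CommGroup G] (n : ℕ) : Subgroup G := (powMonoidHom n : G →* G).ker

theorem mem_torsionSub_iff (n : ℕ) (x : G) : x ∈ torsionSub G n ↔ x ^ n = 1 := by
  rw [MonoidHom.mem_ker, powMonoidHom_apply]

/-- `|G[p m]| ≤ |G[p]| * |G[m]|` -/
theorem card_torsionSub_mul_le [Finite G] (p m : ℕ) :
    Nat.card (torsionSub G (p * m)) ≤ Nat.card (torsionSub G p) * Nat.card (torsionSub G m) := by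
  let T := torsionSub G (p * m)
  let f : T →* G := (powMonoidHom p : G →* G).comp T.subtype
  have h1 := Subgroup.card_eq_card_quotient_mul_card_subgroup f.ker
  have h2 : Nat.card (T ⧸ f.ker) = Nat.card f.range :=
    Nat.card_congr (QuotientGroup.quotientKerEquivRange f).toEquiv
  have h3 : Nat.card f.range ≤ Nat.card (torsionSub G m) := by
    apply Subgroup.card_le_of_le
    rintro _ ⟨x, rfl⟩
    rw [mem_torsionSub_iff]
    change ((x : G) ^ p) ^ m = 1
    rw [← pow_mul]
    exact (mem_torsionSub_iff (p * m) _).mp x.2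
  have h4 : Nat.card f.ker ≤ Nat.card (torsionSub G p) := by
    let g : f.ker → torsionSub G p := fun x => ⟨((x : T) : G), by
      rw [mem_torsionSub_iff]
      exact x.2⟩
    apply Nat.card_le_card_of_injective g
    intro x y hxy
    apply Subtype.ext
    apply Subtype.ext
    have := congrArg Subtype.val hxy
    exact this
  calc Nat.card T = Nat.card (T ⧸ f.ker) * Nat.card f.ker := h1
    _ = Nat.card f.range * Nat.card f.ker := by rw [h2]
    _ ≤ Nat.card (torsionSub G m) * Nat.card (torsionSub G p) := Nat.mul_le_mul h3 h4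
    _ = Nat.card (torsionSub G p) * Nat.card (torsionSub G m) := mul_comm _ _

/-- A finite commutative group with `|G[p]| ≤ p` for all primes `p` is cyclic. -/
theorem isCyclic_of_card_torsionSub_le [Finite G]
    (h : ∀ p : ℕ, p.Prime → Nat.card (torsionSub G p) ≤ p) : IsCyclic G := by
  classical
  have key : ∀ n : ℕ, 0 < n → Nat.card (torsionSub G n) ≤ n := by
    intro n
    induction n using Nat.strong_induction_on with
    | _ n ih =>
      intro hn
      by_cases hn1 : n = 1
      · subst hn1
        have : torsionSub G 1 = ⊥ := by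
          ext x
          rw [mem_torsionSub_iff, pow_one, Subgroup.mem_bot]
        rw [this, Subgroup.card_bot]
      · have hp : n.minFac.Prime := Nat.minFac_prime hn1
        obtain ⟨m, hm⟩ := Nat.minFac_dvd n
        have hm0 : 0 < m := by
          rcases Nat.eq_zero_or_pos m with h0 | h0
          · rw [h0, mul_zero] at hm; omega
          · exact h0
        have hmn : m < n := by
          rw [hm]
          have := hp.two_le
          nlinarith
        calc Nat.card (torsionSub G n) = Nat.card (torsionSub G (n.minFac * m)) := by rw [← hm]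
          _ ≤ Nat.card (torsionSub G n.minFac) * Nat.card (torsionSub G m) :=
              card_torsionSub_mul_le _ _
          _ ≤ n.minFac * m := Nat.mul_le_mul (h _ hp) (ih m hmn hm0)
          _ = n := hm.symm
  have : Fintype G := Fintype.ofFinite G
  apply isCyclic_of_card_pow_eq_one_le
  intro n hn
  have h1 := key n hn
  have h2 : Nat.card (torsionSub G n) = (Finset.univ.filter fun a : G => a ^ n = 1).card := by
    rw [← Fintype.card_subtype, ← Nat.card_eq_fintype_card]
    apply Nat.card_congr
    exact Equiv.subtypeEquivRight (fun x => mem_torsionSub_iff n x)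
  rw [← h2]
  exact h1

/-- A finite noncyclic commutative group has more than `p` elements of order dividing `p` for
some prime `p`. -/
theorem exists_prime_lt_card_torsionSub [Finite G] (hG : ¬ IsCyclic G) :
    ∃ p : ℕ, p.Prime ∧ p < Nat.card (torsionSub G p) := by
  by_contra hcon
  push Not at hcon
  exact hG (isCyclic_of_card_torsionSub_le hcon)

/-- In an elementary abelian `p`-group, nonzero elements are detected by homomorphisms to
`ZMod p`. -/
theorem exists_addHom_zmod_ne_zero (p : ℕ) [hp : Fact p.Prime] {V : Type*} [AddCommGroup V]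
    (hV : ∀ x : V, p • x = 0) (x : V) (hx : x ≠ 0) : ∃ φ : V →+ ZMod p, φ x ≠ 0 := by
  obtain ⟨inst⟩ : Nonempty (Module (ZMod p) V) := ⟨AddCommGroup.zmodModule hV⟩
  obtain ⟨f, hf⟩ := Module.Projective.exists_dual_ne_zero (ZMod p) hx
  exact ⟨f.toAddMonoidHom, hf⟩

/-- An element which is not a `p`-th power is detected by a homomorphism to `ZMod p`. -/
theorem exists_hom_zmod_ne_one (p : ℕ) [hp : Fact p.Prime] (g : G)
    (hg : g ∉ (powMonoidHom p : G →* G).range) :
    ∃ f : G →* Multiplicative (ZMod p), f g ≠ 1 := by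
  let N : Subgroup G := (powMonoidHom p : G →* G).range
  let V := Additive (G ⧸ N)
  have hV : ∀ x : V, p • x = 0 := by
    intro x
    obtain ⟨y, rfl⟩ := QuotientGroup.mk_surjective (Additive.toMul x)
    change Additive.ofMul ((y : G ⧸ N) ^ p) = 0
    rw [← QuotientGroup.mk_pow]
    have : ((y ^ p : G) : G ⧸ N) = 1 := by
      rw [QuotientGroup.eq_one_iff]
      exact ⟨y, rfl⟩
    rw [this]
    rfl
  have hx : (Additive.ofMul ((g : G ⧸ N)) : V) ≠ 0 := by
    intro h0
    have : ((g : G) : G ⧸ N) = 1 := h0
    rw [QuotientGroup.eq_one_iff] at this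
    exact hg this
  obtain ⟨φ, hφ⟩ := exists_addHom_zmod_ne_zero p hV _ hx
  let f : G →* Multiplicative (ZMod p) :=
    (AddMonoidHom.toMultiplicativeRight φ).comp (QuotientGroup.mk' N)
  refine ⟨f, ?_⟩
  intro h1
  apply hφ
  have : f g = Multiplicative.ofAdd (φ (Additive.ofMul ((g : G ⧸ N)))) := rfl
  rw [this] at h1
  exact h1

/-- In a finite commutative group with `p < |G[p]|` there are two "independent" homomorphisms to
`ZMod p`. -/
theorem exists_two_homs [Finite G] (p : ℕ) [hp : Fact p.Prime]
    (h : p < Nat.card (torsionSub G p)) :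
    ∃ (f₁ f₂ : G →* Multiplicative (ZMod p)) (v w : G), f₁ v ≠ 1 ∧ f₁ w = 1 ∧ f₂ w ≠ 1 := by
  let N : Subgroup G := (powMonoidHom p : G →* G).range
  have hcard : Nat.card G = Nat.card (torsionSub G p) * Nat.card N := by
    have h1 := Subgroup.card_eq_card_quotient_mul_card_subgroup (torsionSub G p)
    have h2 : Nat.card (G ⧸ torsionSub G p) = Nat.card N :=
      Nat.card_congr (QuotientGroup.quotientKerEquivRange (powMonoidHom p : G →* G)).toEquiv
    rw [h1, h2, mul_comm]
  have hNpos : 0 < Nat.card N := Nat.card_pos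
  have hppos : 0 < p := hp.out.pos
  -- N is proper
  have hNlt : Nat.card N < Nat.card G := by
    rw [hcard]
    have : 1 < Nat.card (torsionSub G p) := lt_trans hp.out.one_lt h
    nlinarith
  obtain ⟨v, hv⟩ : ∃ v : G, v ∉ N := by
    by_contra hcon
    push Not at hcon
    have : N = ⊤ := eq_top_iff.mpr fun x _ => hcon x
    rw [this, Subgroup.card_top] at hNlt
    exact lt_irrefl _ hNlt
  obtain ⟨f₁, hf₁⟩ := exists_hom_zmod_ne_one p v hv
  -- the kernel of f₁ strictly contains N
  have hK : Nat.card G ≤ Nat.card f₁.ker * p := by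
    have h1 := Subgroup.card_eq_card_quotient_mul_card_subgroup f₁.ker
    have h2 : Nat.card (G ⧸ f₁.ker) = Nat.card f₁.range :=
      Nat.card_congr (QuotientGroup.quotientKerEquivRange f₁).toEquiv
    have h3 : Nat.card f₁.range ≤ p := by
      have : Nat.card (Multiplicative (ZMod p)) = p := by
        change Nat.card (ZMod p) = p
        exact Nat.card_zmod p
      calc Nat.card f₁.range ≤ Nat.card (Multiplicative (ZMod p)) := Subgroup.card_le_card_group _
        _ = p := this
    rw [h1, h2, mul_comm]
    exact Nat.mul_le_mul_left _ h3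
  obtain ⟨w, hw, hwN⟩ : ∃ w : G, w ∈ f₁.ker ∧ w ∉ N := by
    by_contra hcon
    push Not at hcon
    have hle : f₁.ker ≤ N := fun x hx => hcon x hx
    have h1 := Subgroup.card_le_of_le hle
    have : Nat.card G < Nat.card G := by
      calc Nat.card G ≤ Nat.card f₁.ker * p := hK
        _ ≤ Nat.card N * p := Nat.mul_le_mul_right _ h1
        _ < Nat.card N * Nat.card (torsionSub G p) := Nat.mul_lt_mul_of_pos_left h hNpos
        _ = Nat.card G := by rw [hcard, mul_comm]
    exact lt_irrefl _ this
  obtain ⟨f₂, hf₂⟩ := exists_hom_zmod_ne_one p w hwN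
  exact ⟨f₁, f₂, v, w, hf₁, MonoidHom.mem_ker.mp hw, hf₂⟩

end

end Cfsg.Agent.Helper20
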