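import Mathlib

set_option autoImplicit false

namespace Cfsg.Agent.Helper20

open scoped commutatorElement

universe u v

/-- The central extension of `G` by `A` defined by a bimultiplicative map `β`, with
multiplication `(g, a) * (h, b) = (g * h, a * b * β g h)`. -/
structure BiExt {G : Type u} {A : Type v} [Group G] [CommGroup A] (β : G →* G →* A) :
    Type (max u v) where
  /-- the `G`-component -/
  fst : G
  /-- the `A`-component -/
  snd : A

namespace BiExt

variable {G : Type u} {A : Type v} [Group G] [CommGroup A] (β : G →* G →* A)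

@[ext] theorem ext' {β : G →* G →* A} {x y : BiExt β} (h1 : x.fst = y.fst) (h2 : x.snd = y.snd) :
    x = y := by
  cases x; cases y; simp_all

instance : Mul (BiExt β) := ⟨fun x y => ⟨x.fst * y.fst, x.snd * y.snd * β x.fst y.fst⟩⟩
instance : One (BiExt β) := ⟨⟨1, 1⟩⟩
instance : Inv (BiExt β) := ⟨fun x => ⟨x.fst⁻¹, x.snd⁻¹ * β x.fst x.fst⟩⟩

@[simp] theorem mul_fst (x y : BiExt β) : (x * y).fst = x.fst * y.fst := rfl
@[simp] theorem mul_snd (x y : BiExt β) : (x * y).snd = x.snd * y.snd * β x.fst y.fst := rfl
@[simp] theorem one_fst : (1 : BiExt β).fst = 1 := rfl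
@[simp] theorem one_snd : (1 : BiExt β).snd = 1 := rfl
@[simp] theorem inv_fst (x : BiExt β) : (x⁻¹).fst = x.fst⁻¹ := rfl
@[simp] theorem inv_snd (x : BiExt β) : (x⁻¹).snd = x.snd⁻¹ * β x.fst x.fst := rfl

instance : Group (BiExt β) :=
  Group.ofLeftAxioms
    (by
      intro x y z
      apply ext'
      · simp [mul_assoc]
      · simp only [mul_fst, mul_snd, map_mul, MonoidHom.mul_apply]
        rw [mul_assoc, mul_assoc, mul_assoc, mul_assoc, mul_assoc, mul_assoc]
        congr 1
        congr 1
        rw [mul_comm (β x.fst y.fst), mul_assoc, mul_assoc]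
        congr 1
        rw [mul_comm, mul_assoc])
    (by
      intro x
      apply ext'
      · simp
      · simp)
    (by
      intro x
      apply ext'
      · simp
      · simp only [mul_snd, inv_snd, inv_fst, one_snd, map_inv, MonoidHom.inv_apply]
        rw [mul_comm (x.snd⁻¹), mul_assoc, mul_assoc, inv_mul_cancel_left, mul_inv_cancel])

/-- the projection to `G` -/
def proj : BiExt β →* G where
  toFun := fun x => x.fst
  map_one' := rfl
  map_mul' := fun _ _ => rfl

@[simp] theorem proj_apply (x : BiExt β) : proj β x = x.fst := rfl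

theorem proj_surjective : Function.Surjective (proj β) := fun g => ⟨⟨g, 1⟩, rfl⟩

/-- the inclusion of `A` -/
def incl : A →* BiExt β where
  toFun := fun a => ⟨1, a⟩
  map_one' := rfl
  map_mul' := by
    intro a b
    apply ext'
    · simp
    · simp

@[simp] theorem incl_fst (a : A) : (incl β a).fst = 1 := rfl
@[simp] theorem incl_snd (a : A) : (incl β a).snd = a := rfl

theorem incl_injective : Function.Injective (incl β) := by
  intro a b h
  have := congrArg BiExt.snd h
  simpa using this

theorem mem_ker_proj_iff (x : BiExt β) : x ∈ (proj β).ker ↔ x.fst = 1 := Iff.rfl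

theorem range_incl : (incl β).range = (proj β).ker := by
  ext x
  constructor
  · rintro ⟨a, rfl⟩
    rfl
  · intro hx
    rw [mem_ker_proj_iff] at hx
    refine ⟨x.snd, ?_⟩
    apply ext'
    · simp [hx]
    · simp

/-- the kernel of the projection is isomorphic to `A` -/
noncomputable def kerEquiv : (proj β).ker ≃* A :=
  ((MonoidHom.ofInjective (incl_injective β)).trans
    (MulEquiv.subgroupCongr (range_incl β))).symm

theorem ker_proj_le_center : (proj β).ker ≤ Subgroup.center (BiExt β) := by
  intro x hx
  rw [mem_ker_proj_iff] at hx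
  rw [Subgroup.mem_center_iff]
  intro y
  apply ext'
  · simp [hx]
  · simp [hx, mul_comm]

instance [Finite G] [Finite A] : Finite (BiExt β) := by
  let e : BiExt β ≃ G × A :=
    { toFun := fun x => (x.fst, x.snd)
      invFun := fun p => ⟨p.1, p.2⟩
      left_inv := fun x => by cases x; rfl
      right_inv := fun p => rfl }
  exact Finite.of_equiv _ e.symm

theorem incl_mem_center (a : A) : incl β a ∈ Subgroup.center (BiExt β) :=
  ker_proj_le_center β (by rw [← range_incl]; exact ⟨a, rfl⟩)

/-- the commutator of two lifts when `G` is commutative -/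
theorem commutator_lift (hG : ∀ g h : G, g * h = h * g) (g h : G) :
    ⁅(⟨g, 1⟩ : BiExt β), (⟨h, 1⟩ : BiExt β)⁆ = incl β (β g h * (β h g)⁻¹) := by
  have hz := Subgroup.mem_center_iff.mp (incl_mem_center β (β g h * (β h g)⁻¹))
  have key : (⟨g, 1⟩ : BiExt β) * ⟨h, 1⟩ = ⟨h, 1⟩ * ⟨g, 1⟩ * incl β (β g h * (β h g)⁻¹) := by
    apply ext'
    · simp only [mul_fst, incl_fst, mul_one]
      exact hG g h
    · simp only [mul_fst, mul_snd, incl_fst, incl_snd, one_mul, map_one]
      rw [mul_one, mul_comm (β g h), mul_inv_cancel_left]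
  rw [commutatorElement_def, key, hz]
  group

end BiExt

end Cfsg.Agent.Helper20
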