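import Mathlib

set_option autoImplicit false

namespace Cfsg.Agent.Helper20

universe u v w

/-- a quotient of a finite abelian group embeds into it (via Pontryagin duality) -/
theorem exists_injective_of_surjective_comm {S : Type u} {Q : Type v} [CommGroup S] [Finite S]
    [CommGroup Q] (f : S →* Q) (hf : Function.Surjective f) :
    ∃ g : Q →* S, Function.Injective g := by
  have : Finite Q := Finite.of_surjective f hf
  have : NeZero (Monoid.exponent S) := ⟨Monoid.exponent_ne_zero_of_finite⟩
  have : NeZero (Monoid.exponent Q) := ⟨Monoid.exponent_ne_zero_of_finite⟩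
  obtain ⟨eS⟩ := CommGroup.monoidHom_mulEquiv_of_hasEnoughRootsOfUnity S ℂ
  obtain ⟨eQ⟩ := CommGroup.monoidHom_mulEquiv_of_hasEnoughRootsOfUnity Q ℂ
  let c : (Q →* ℂˣ) →* (S →* ℂˣ) :=
    { toFun := fun χ => χ.comp f
      map_one' := by
        ext x
        simp
      map_mul' := by
        intro a b
        ext x
        simp }
  have hc : Function.Injective c := by
    intro a b hab
    ext q
    obtain ⟨s, rfl⟩ := hf q
    have := DFunLike.congr_fun hab s
    change a (f s) = b (f s) at this
    rw [this]
  refine ⟨(eS.toMonoidHom.comp c).comp eQ.symm.toMonoidHom, ?_⟩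
  intro a b hab
  apply eQ.symm.injective
  apply hc
  apply eS.injective
  exact hab

/-- a group embedding into the image of a finite abelian group embeds into that group -/
theorem exists_injective_of_range_le {S : Type u} {X : Type v} {Y : Type w} [CommGroup S]
    [Finite S] [CommGroup X] [Group Y] (f : S →* X) (ψ : Y →* X) (hψ : Function.Injective ψ)
    (hle : ψ.range ≤ f.range) : ∃ g : Y →* S, Function.Injective g := by
  obtain ⟨g, hg⟩ := exists_injective_of_surjective_comm f.rangeRestrict f.rangeRestrict_surjective
  let i : Y →* f.range :=
    { toFun := fun y => ⟨ψ y, hle ⟨y, rfl⟩⟩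
      map_one' := by
        apply Subtype.ext
        simp
      map_mul' := by
        intro a b
        apply Subtype.ext
        simp }
  refine ⟨g.comp i, ?_⟩
  intro a b hab
  have h1 := hg hab
  have h2 : ψ a = ψ b := congrArg Subtype.val h1
  exact hψ h2

end Cfsg.Agent.Helper20
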