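import Mathlib
import Cfsg.Prelude.Def_KGroupFacts
import Cfsg.Agent.Lib.Helper20.SchurCover3

set_option autoImplicit false

namespace Cfsg.Agent.Helper20

open scoped commutatorElement

universe u v w

section CommHom

variable {D : Type*} [Group D]

/-- for `b` whose commutators with `H` are central, `h ↦ ⁅h, b⁆` is a homomorphism -/
def commHomLeft (H : Subgroup D) (b : D)
    (hb : ∀ h ∈ H, ⁅h, b⁆ ∈ Subgroup.center D) : H →* D where
  toFun h := ⁅(h : D), b⁆
  map_one' := by simp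
  map_mul' x y := by
    have hy := Subgroup.mem_center_iff.mp (hb y y.2)
    have hx := Subgroup.mem_center_iff.mp (hb x x.2)
    change ⁅(x : D) * (y : D), b⁆ = ⁅(x : D), b⁆ * ⁅(y : D), b⁆
    have h1 : ⁅(x : D) * (y : D), b⁆ = (x : D) * ⁅(y : D), b⁆ * (x : D)⁻¹ * ⁅(x : D), b⁆ := by
      simp only [commutatorElement_def]; group
    rw [h1, hy (x : D), mul_assoc (⁅(y : D), b⁆), mul_inv_cancel, mul_one, hx]

theorem commHomLeft_apply (H : Subgroup D) (b : D)
    (hb : ∀ h ∈ H, ⁅h, b⁆ ∈ Subgroup.center D) (h : H) :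
    commHomLeft H b hb h = ⁅(h : D), b⁆ := rfl

theorem commHomLeft_commutator (H : Subgroup D) (b : D)
    (hb : ∀ h ∈ H, ⁅h, b⁆ ∈ Subgroup.center D) {d : H} (hd : d ∈ commutator H) :
    commHomLeft H b hb d = 1 := by
  have h1 : commutator H ≤ (commHomLeft H b hb).ker := by
    rw [commutator_def, Subgroup.commutator_le]
    intro x _ y _
    rw [MonoidHom.mem_ker, map_commutatorElement, commutatorElement_eq_one_iff_commute]
    exact (Subgroup.mem_center_iff.mp (hb y y.2) _)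
  exact h1 hd

/-- If `a ^ n` lies in `H' Z(D)` and commutators of `H` with `b` are central then
`⁅a, b⁆ ^ n = 1`. -/
theorem comm_pow_eq_one_of_pow_mem (H : Subgroup D) (b : D)
    (hb : ∀ h ∈ H, ⁅h, b⁆ ∈ Subgroup.center D) (a : H) (n : ℕ)
    (d : H) (hd : d ∈ commutator H) (z : H) (hz : (z : D) ∈ Subgroup.center D)
    (han : a ^ n = d * z) : ⁅(a : D), b⁆ ^ n = 1 := by
  rw [← commHomLeft_apply H b hb a, ← map_pow, han, map_mul, commHomLeft_commutator H b hb hd,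
    one_mul, commHomLeft_apply]
  rw [commutatorElement_eq_one_iff_commute]
  exact (Subgroup.mem_center_iff.mp hz b).symm

end CommHom

section

variable {Q₁ : Type u} {Q₂ : Type v} {Δ : Type w} [Group Q₁] [Group Q₂] [Group Δ]
  (τ : Δ →* Q₁ × Q₂)

/-- the preimage of the first factor -/
def prodLeft : Subgroup Δ := ((MonoidHom.snd Q₁ Q₂).comp τ).ker

/-- the preimage of the second factor -/
def prodRight : Subgroup Δ := ((MonoidHom.fst Q₁ Q₂).comp τ).ker

theorem mem_prodLeft (d : Δ) : d ∈ prodLeft τ ↔ (τ d).2 = 1 := MonoidHom.mem_ker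

theorem mem_prodRight (d : Δ) : d ∈ prodRight τ ↔ (τ d).1 = 1 := MonoidHom.mem_ker

instance prodLeft_normal : (prodLeft τ).Normal := MonoidHom.normal_ker _

instance prodRight_normal : (prodRight τ).Normal := MonoidHom.normal_ker _

/-- the restriction of `τ` to the preimage of the first factor -/
def prodLeftMap : prodLeft τ →* Q₁ :=
  ((MonoidHom.fst Q₁ Q₂).comp τ).comp (prodLeft τ).subtype

/-- the restriction of `τ` to the preimage of the second factor -/
def prodRightMap : prodRight τ →* Q₂ :=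
  ((MonoidHom.snd Q₁ Q₂).comp τ).comp (prodRight τ).subtype

theorem prodLeftMap_apply (a : prodLeft τ) : prodLeftMap τ a = (τ (a : Δ)).1 := rfl

theorem prodRightMap_apply (b : prodRight τ) : prodRightMap τ b = (τ (b : Δ)).2 := rfl

theorem tau_coe_prodLeft (a : prodLeft τ) : τ (a : Δ) = (prodLeftMap τ a, 1) := by
  apply Prod.ext
  · rfl
  · exact (mem_prodLeft τ _).mp a.2

theorem tau_coe_prodRight (b : prodRight τ) : τ (b : Δ) = (1, prodRightMap τ b) := by
  apply Prod.ext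
  · exact (mem_prodRight τ _).mp b.2
  · rfl

theorem prodLeftMap_surjective (hτ : Function.Surjective τ) :
    Function.Surjective (prodLeftMap τ) := by
  intro q
  obtain ⟨d, hd⟩ := hτ (q, 1)
  refine ⟨⟨d, ?_⟩, ?_⟩
  · rw [mem_prodLeft, hd]
  · rw [prodLeftMap_apply]
    change (τ d).1 = q
    rw [hd]

theorem prodRightMap_surjective (hτ : Function.Surjective τ) :
    Function.Surjective (prodRightMap τ) := by
  intro q
  obtain ⟨d, hd⟩ := hτ (1, q)
  refine ⟨⟨d, ?_⟩, ?_⟩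
  · rw [mem_prodRight, hd]
  · rw [prodRightMap_apply]
    change (τ d).2 = q
    rw [hd]

theorem coe_mem_ker_of_mem_ker_prodLeftMap {a : prodLeft τ} (ha : a ∈ (prodLeftMap τ).ker) :
    (a : Δ) ∈ τ.ker := by
  rw [MonoidHom.mem_ker] at ha ⊢
  rw [tau_coe_prodLeft, ha]
  rfl

theorem coe_mem_ker_of_mem_ker_prodRightMap {b : prodRight τ} (hb : b ∈ (prodRightMap τ).ker) :
    (b : Δ) ∈ τ.ker := by
  rw [MonoidHom.mem_ker] at hb ⊢
  rw [tau_coe_prodRight, hb]
  rfl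

theorem prodLeftMap_ker_le_center (hc : τ.ker ≤ Subgroup.center Δ) :
    (prodLeftMap τ).ker ≤ Subgroup.center (prodLeft τ) := by
  intro a ha
  have h1 := Subgroup.mem_center_iff.mp (hc (coe_mem_ker_of_mem_ker_prodLeftMap τ ha))
  rw [Subgroup.mem_center_iff]
  intro x
  apply Subtype.ext
  exact h1 (x : Δ)

theorem prodRightMap_ker_le_center (hc : τ.ker ≤ Subgroup.center Δ) :
    (prodRightMap τ).ker ≤ Subgroup.center (prodRight τ) := by
  intro a ha
  have h1 := Subgroup.mem_center_iff.mp (hc (coe_mem_ker_of_mem_ker_prodRightMap τ ha))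
  rw [Subgroup.mem_center_iff]
  intro x
  apply Subtype.ext
  exact h1 (x : Δ)

theorem exists_mul_of_surjective (hτ : Function.Surjective τ) (d : Δ) :
    ∃ a ∈ prodLeft τ, ∃ b ∈ prodRight τ, d = a * b := by
  obtain ⟨a, ha⟩ := hτ ((τ d).1, 1)
  refine ⟨a, ?_, a⁻¹ * d, ?_, by group⟩
  · rw [mem_prodLeft, ha]
  · rw [mem_prodRight, map_mul, map_inv, ha]
    simp

theorem comm_mem_ker {a b : Δ} (ha : a ∈ prodLeft τ) (hb : b ∈ prodRight τ) :
    ⁅a, b⁆ ∈ τ.ker := by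
  rw [MonoidHom.mem_ker, map_commutatorElement, commutatorElement_eq_one_iff_commute]
  rw [mem_prodLeft] at ha
  rw [mem_prodRight] at hb
  have h1 : τ a = ((τ a).1, 1) := Prod.ext rfl ha
  have h2 : τ b = (1, (τ b).2) := Prod.ext hb rfl
  rw [h1, h2]
  change (_, _) = (_, _)
  simp

theorem commutator_prodLeft_prodRight_le_ker : ⁅prodLeft τ, prodRight τ⁆ ≤ τ.ker := by
  rw [Subgroup.commutator_le]
  intro a ha b hb
  exact comm_mem_ker τ ha hb

/-- the commutator subgroup of an extension of a direct product -/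
theorem commutator_le_sup (hτ : Function.Surjective τ) :
    commutator Δ ≤ (⁅prodLeft τ, prodLeft τ⁆ ⊔ ⁅prodLeft τ, prodRight τ⁆) ⊔
      ⁅prodRight τ, prodRight τ⁆ := by
  set N : Subgroup Δ := (⁅prodLeft τ, prodLeft τ⁆ ⊔ ⁅prodLeft τ, prodRight τ⁆) ⊔
      ⁅prodRight τ, prodRight τ⁆ with hN
  have hNn : N.Normal := by
    rw [hN]
    infer_instance
  rw [commutator_def, Subgroup.commutator_le]
  intro x _ y _
  obtain ⟨a₁, ha₁, b₁, hb₁, rfl⟩ := exists_mul_of_surjective τ hτ x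
  obtain ⟨a₂, ha₂, b₂, hb₂, rfl⟩ := exists_mul_of_surjective τ hτ y
  have hcomm : ∀ s t : Δ, ⁅s, t⁆ ∈ N →
      Commute (QuotientGroup.mk' N s) (QuotientGroup.mk' N t) := by
    intro s t hst
    rw [← commutatorElement_eq_one_iff_commute, ← map_commutatorElement]
    exact (QuotientGroup.eq_one_iff _).mpr hst
  have haa : ⁅a₁, a₂⁆ ∈ N :=
    le_sup_left (a := (⁅prodLeft τ, prodLeft τ⁆ ⊔ ⁅prodLeft τ, prodRight τ⁆))
      (le_sup_left (a := ⁅prodLeft τ, prodLeft τ⁆)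
        (Subgroup.commutator_mem_commutator ha₁ ha₂))
  have hab : ⁅a₁, b₂⁆ ∈ N :=
    le_sup_left (a := (⁅prodLeft τ, prodLeft τ⁆ ⊔ ⁅prodLeft τ, prodRight τ⁆))
      (le_sup_right (b := ⁅prodLeft τ, prodRight τ⁆)
        (Subgroup.commutator_mem_commutator ha₁ hb₂))
  have hba : ⁅a₂, b₁⁆ ∈ N :=
    le_sup_left (a := (⁅prodLeft τ, prodLeft τ⁆ ⊔ ⁅prodLeft τ, prodRight τ⁆))
      (le_sup_right (b := ⁅prodLeft τ, prodRight τ⁆)
        (Subgroup.commutator_mem_commutator ha₂ hb₁))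
  have hbb : ⁅b₁, b₂⁆ ∈ N :=
    le_sup_right (b := ⁅prodRight τ, prodRight τ⁆)
      (Subgroup.commutator_mem_commutator hb₁ hb₂)
  have c1 := hcomm a₁ a₂ haa
  have c2 := hcomm a₁ b₂ hab
  have c3 := (hcomm a₂ b₁ hba).symm
  have c4 := hcomm b₁ b₂ hbb
  have c5 : Commute (QuotientGroup.mk' N (a₁ * b₁)) (QuotientGroup.mk' N (a₂ * b₂)) := by
    rw [map_mul, map_mul]
    exact Commute.mul_left (Commute.mul_right c1 c2) (Commute.mul_right c3 c4)
  rw [← commutatorElement_eq_one_iff_commute, ← map_commutatorElement] at c5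
  exact (QuotientGroup.eq_one_iff _).mp c5

/-- decomposition of the kernel of a stem extension of a direct product -/
theorem exists_decomp_of_mem_ker (hτ : Cfsg.IsStemExtension τ) {k : Δ} (hk : k ∈ τ.ker) :
    ∃ d₁ ∈ ⁅prodLeft τ, prodLeft τ⁆ ⊓ τ.ker, ∃ c ∈ ⁅prodLeft τ, prodRight τ⁆,
      ∃ d₂ ∈ ⁅prodRight τ, prodRight τ⁆ ⊓ τ.ker, k = d₁ * c * d₂ := by
  have h1 := commutator_le_sup τ hτ.1 (hτ.2.2 hk)
  obtain ⟨x, hx, d₂, hd₂, hxd⟩ := Subgroup.mem_sup_of_normal_right.mp h1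
  obtain ⟨d₁, hd₁, c, hc, hdc⟩ := Subgroup.mem_sup_of_normal_right.mp hx
  have hc' : c ∈ τ.ker := commutator_prodLeft_prodRight_le_ker τ hc
  have hd₁' : d₁ ∈ prodLeft τ := Subgroup.commutator_le_right _ _ hd₁
  have hd₂' : d₂ ∈ prodRight τ := Subgroup.commutator_le_right _ _ hd₂
  rw [mem_prodLeft] at hd₁'
  rw [mem_prodRight] at hd₂'
  rw [MonoidHom.mem_ker] at hk hc'
  have h2 : τ d₁ * τ d₂ = 1 := by
    rw [← hk, ← hxd, ← hdc, map_mul, map_mul, hc', mul_one]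
  have h3 : (τ d₁).1 = 1 := by
    have := congrArg Prod.fst h2
    rw [Prod.fst_mul, hd₂', mul_one] at this
    exact this
  have h4 : (τ d₂).2 = 1 := by
    have := congrArg Prod.snd h2
    rw [Prod.snd_mul, hd₁', one_mul] at this
    exact this
  refine ⟨d₁, ⟨hd₁, ?_⟩, c, hc, d₂, ⟨hd₂, ?_⟩, ?_⟩
  · change d₁ ∈ τ.ker
    rw [MonoidHom.mem_ker]
    exact Prod.ext h3 hd₁'
  · change d₂ ∈ τ.ker
    rw [MonoidHom.mem_ker]
    exact Prod.ext hd₂' h4
  · rw [hdc, hxd]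

/-- the part of the kernel in `Δ₁'` comes from the Schur multiplier of `Q₁` -/
theorem exists_schurM_left (hc : τ.ker ≤ Subgroup.center Δ)
    (η₁ : UCE Q₁ →* prodLeft τ) (hη₁ : (prodLeftMap τ).comp η₁ = uceMap Q₁) {d : Δ}
    (hd : d ∈ ⁅prodLeft τ, prodLeft τ⁆ ⊓ τ.ker) : ∃ m ∈ schurM Q₁, ((η₁ m : prodLeft τ) : Δ) = d := by
  obtain ⟨hd1, hd2⟩ := hd
  rw [← Subgroup.map_subtype_commutator] at hd1
  obtain ⟨d', hd', rfl⟩ := hd1
  have h1 : d' ∈ (prodLeftMap τ).ker := by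
    rw [MonoidHom.mem_ker, prodLeftMap_apply]
    have : τ ((prodLeft τ).subtype d') = 1 := hd2
    rw [Subgroup.subtype_apply] at this
    rw [this]
    rfl
  obtain ⟨m, hm, hmd⟩ := exists_schurM_of_mem_ker_inf_commutator (prodLeftMap τ)
    (prodLeftMap_ker_le_center τ hc) η₁ hη₁ h1 hd'
  exact ⟨m, hm, by rw [hmd]; rfl⟩

theorem exists_schurM_right (hc : τ.ker ≤ Subgroup.center Δ)
    (η₂ : UCE Q₂ →* prodRight τ) (hη₂ : (prodRightMap τ).comp η₂ = uceMap Q₂) {d : Δ}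
    (hd : d ∈ ⁅prodRight τ, prodRight τ⁆ ⊓ τ.ker) :
    ∃ m ∈ schurM Q₂, ((η₂ m : prodRight τ) : Δ) = d := by
  obtain ⟨hd1, hd2⟩ := hd
  rw [← Subgroup.map_subtype_commutator] at hd1
  obtain ⟨d', hd', rfl⟩ := hd1
  have h1 : d' ∈ (prodRightMap τ).ker := by
    rw [MonoidHom.mem_ker, prodRightMap_apply]
    have : τ ((prodRight τ).subtype d') = 1 := hd2
    rw [Subgroup.subtype_apply] at this
    rw [this]
    rfl
  obtain ⟨m, hm, hmd⟩ := exists_schurM_of_mem_ker_inf_commutator (prodRightMap τ)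
    (prodRightMap_ker_le_center τ hc) η₂ hη₂ h1 hd'
  exact ⟨m, hm, by rw [hmd]; rfl⟩

end

end Cfsg.Agent.Helper20
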