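import Mathlib
import Cfsg.Prelude.Def_KGroupFacts
import Cfsg.Agent.Lib.Helper20.ProdStem

set_option autoImplicit false

namespace Cfsg.Agent.Helper20

open scoped commutatorElement

universe u v w

section

variable {Q₁ : Type u} {Q₂ : Type v} {Δ : Type w} [Group Q₁] [Group Q₂] [Group Δ]
  (τ : Δ →* Q₁ × Q₂)

theorem pow_card_abelianization_mem_commutator {Q : Type*} [Group Q] [Finite Q] (q : Q) :
    q ^ Nat.card (Abelianization Q) ∈ commutator Q := by
  have h1 : (Abelianization.of q) ^ Nat.card (Abelianization Q) = 1 := pow_card_eq_one'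
  rw [← map_pow] at h1
  exact (QuotientGroup.eq_one_iff _).mp h1

/-- `⁅a, b⁆ ^ |Q₁ᵃᵇ| = 1` for `a` over `Q₁` and `b` over `Q₂` -/
theorem comm_pow_card_left [Finite Q₁] (hτ : Function.Surjective τ)
    (hc : τ.ker ≤ Subgroup.center Δ) {a b : Δ} (ha : a ∈ prodLeft τ) (hb : b ∈ prodRight τ) :
    ⁅a, b⁆ ^ Nat.card (Abelianization Q₁) = 1 := by
  have hb' : ∀ h ∈ prodLeft τ, ⁅h, b⁆ ∈ Subgroup.center Δ :=
    fun h hh => hc (comm_mem_ker τ hh hb)
  have h1 := pow_card_abelianization_mem_commutator (prodLeftMap τ ⟨a, ha⟩)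
  rw [← map_commutator_of_surjective (prodLeftMap τ) (prodLeftMap_surjective τ hτ)] at h1
  obtain ⟨d, hd, hda⟩ := h1
  have hz : d⁻¹ * (⟨a, ha⟩ : prodLeft τ) ^ Nat.card (Abelianization Q₁) ∈
      (prodLeftMap τ).ker := by
    rw [MonoidHom.mem_ker, map_mul, map_inv, map_pow, hda, inv_mul_cancel]
  exact comm_pow_eq_one_of_pow_mem (prodLeft τ) b hb' ⟨a, ha⟩ _ d hd _
    (hc (coe_mem_ker_of_mem_ker_prodLeftMap τ hz)) (by group)

/-- `⁅a, b⁆ ^ |Q₂ᵃᵇ| = 1` for `a` over `Q₁` and `b` over `Q₂` -/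
theorem comm_pow_card_right [Finite Q₂] (hτ : Function.Surjective τ)
    (hc : τ.ker ≤ Subgroup.center Δ) {a b : Δ} (ha : a ∈ prodLeft τ) (hb : b ∈ prodRight τ) :
    ⁅a, b⁆ ^ Nat.card (Abelianization Q₂) = 1 := by
  have hinv : ∀ h : Δ, ⁅h, a⁆ = ⁅a, h⁆⁻¹ := fun h => (commutatorElement_inv a h).symm
  have ha' : ∀ h ∈ prodRight τ, ⁅h, a⁆ ∈ Subgroup.center Δ := by
    intro h hh
    rw [hinv]
    exact Subgroup.inv_mem _ (hc (comm_mem_ker τ ha hh))
  have h1 := pow_card_abelianization_mem_commutator (prodRightMap τ ⟨b, hb⟩)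
  rw [← map_commutator_of_surjective (prodRightMap τ) (prodRightMap_surjective τ hτ)] at h1
  obtain ⟨d, hd, hda⟩ := h1
  have hz : d⁻¹ * (⟨b, hb⟩ : prodRight τ) ^ Nat.card (Abelianization Q₂) ∈
      (prodRightMap τ).ker := by
    rw [MonoidHom.mem_ker, map_mul, map_inv, map_pow, hda, inv_mul_cancel]
  have h2 := comm_pow_eq_one_of_pow_mem (prodRight τ) a ha' ⟨b, hb⟩
    (Nat.card (Abelianization Q₂)) d hd _
    (hc (coe_mem_ker_of_mem_ker_prodRightMap τ hz)) (by group)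
  have h3 : ⁅a, b⁆ = ⁅b, a⁆⁻¹ := (commutatorElement_inv b a).symm
  rw [h3, inv_pow, h2, inv_one]

/-- if the commutator quotients have coprime orders, the two preimages commute -/
theorem commutator_prodLeft_prodRight_eq_bot [Finite Q₁] [Finite Q₂]
    (hτ : Function.Surjective τ) (hc : τ.ker ≤ Subgroup.center Δ)
    (hcop : Nat.Coprime (Nat.card (Abelianization Q₁)) (Nat.card (Abelianization Q₂))) :
    ⁅prodLeft τ, prodRight τ⁆ = ⊥ := by
  rw [eq_bot_iff, Subgroup.commutator_le]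
  intro a ha b hb
  rw [Subgroup.mem_bot]
  have h1 := orderOf_dvd_of_pow_eq_one (comm_pow_card_left τ hτ hc ha hb)
  have h2 := orderOf_dvd_of_pow_eq_one (comm_pow_card_right τ hτ hc ha hb)
  have h3 := Nat.dvd_gcd h1 h2
  rw [Nat.Coprime] at hcop
  rw [hcop, Nat.dvd_one, orderOf_eq_one_iff] at h3
  exact h3

end

end Cfsg.Agent.Helper20
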