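import Mathlib
import Cfsg.Prelude.Def_KGroupFacts
import Cfsg.Agent.Lib.Helper20.ProdStem2

set_option autoImplicit false

namespace Cfsg.Agent.Helper20

open scoped commutatorElement

universe u v w

section

theorem map_commutator_le {G H : Type*} [Group G] [Group H] (f : G →* H) :
    (commutator G).map f ≤ commutator H := by
  rw [commutator_def, Subgroup.map_commutator, commutator_def]
  exact Subgroup.commutator_mono le_top le_top

variable {Q₁ : Type u} {Q₂ : Type v} [Group Q₁] [Group Q₂]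

/-- the product of two stem extensions is a stem extension -/
theorem isStemExtension_prodMap {Γ₁ : Type*} {Γ₂ : Type*} [Group Γ₁] [Group Γ₂]
    (σ₁ : Γ₁ →* Q₁) (σ₂ : Γ₂ →* Q₂) (h₁ : Cfsg.IsStemExtension σ₁)
    (h₂ : Cfsg.IsStemExtension σ₂) : Cfsg.IsStemExtension (σ₁.prodMap σ₂) := by
  refine ⟨?_, ?_, ?_⟩
  · rw [MonoidHom.coe_prodMap]
    exact Function.Surjective.prodMap h₁.1 h₂.1
  · rintro ⟨a, b⟩ hab
    rw [MonoidHom.mem_ker, MonoidHom.prodMap_def] at hab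
    have ha : a ∈ σ₁.ker := congrArg Prod.fst hab
    have hb : b ∈ σ₂.ker := congrArg Prod.snd hab
    have ha' := Subgroup.mem_center_iff.mp (h₁.2.1 ha)
    have hb' := Subgroup.mem_center_iff.mp (h₂.2.1 hb)
    rw [Subgroup.mem_center_iff]
    rintro ⟨x, y⟩
    exact Prod.ext (ha' x) (hb' y)
  · rintro ⟨a, b⟩ hab
    rw [MonoidHom.mem_ker, MonoidHom.prodMap_def] at hab
    have ha : a ∈ σ₁.ker := congrArg Prod.fst hab
    have hb : b ∈ σ₂.ker := congrArg Prod.snd hab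
    have h3 : ((a, b) : Γ₁ × Γ₂) = MonoidHom.inl Γ₁ Γ₂ a * MonoidHom.inr Γ₁ Γ₂ b := by
      simp
    rw [h3]
    exact Subgroup.mul_mem _
      (map_commutator_le (MonoidHom.inl Γ₁ Γ₂) ⟨a, h₁.2.2 ha, rfl⟩)
      (map_commutator_le (MonoidHom.inr Γ₁ Γ₂) ⟨b, h₂.2.2 hb, rfl⟩)

/-- the kernel of a product map -/
noncomputable def kerProdMapEquiv {Γ₁ : Type*} {Γ₂ : Type*} [Group Γ₁] [Group Γ₂]
    (σ₁ : Γ₁ →* Q₁) (σ₂ : Γ₂ →* Q₂) : (σ₁.prodMap σ₂).ker ≃* σ₁.ker × σ₂.ker :=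
  (MulEquiv.subgroupCongr (MonoidHom.ker_prodMap σ₁ σ₂)).trans
    (Subgroup.prodEquiv σ₁.ker σ₂.ker)

variable {Δ : Type w} [Group Δ] (τ : Δ →* Q₁ × Q₂)

/-- the map from the Schur multiplier of `Q₁` to the kernel of `τ` -/
noncomputable def schurMLeft (η₁ : UCE Q₁ →* prodLeft τ)
    (hη₁ : (prodLeftMap τ).comp η₁ = uceMap Q₁) : schurM Q₁ →* τ.ker :=
  ((prodLeft τ).subtype.comp (η₁.comp (schurM Q₁).subtype)).codRestrict τ.ker (fun m =>
    coe_mem_ker_of_mem_ker_prodLeftMap τ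
      (uce_lift_mem_ker (prodLeftMap τ) η₁ hη₁ (schurM_le_ker Q₁ m.2)))

theorem schurMLeft_coe (η₁ : UCE Q₁ →* prodLeft τ)
    (hη₁ : (prodLeftMap τ).comp η₁ = uceMap Q₁) (m : schurM Q₁) :
    ((schurMLeft τ η₁ hη₁ m : τ.ker) : Δ) = ((η₁ (m : UCE Q₁) : prodLeft τ) : Δ) := rfl

/-- the map from the Schur multiplier of `Q₂` to the kernel of `τ` -/
noncomputable def schurMRight (η₂ : UCE Q₂ →* prodRight τ)
    (hη₂ : (prodRightMap τ).comp η₂ = uceMap Q₂) : schurM Q₂ →* τ.ker :=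
  ((prodRight τ).subtype.comp (η₂.comp (schurM Q₂).subtype)).codRestrict τ.ker (fun m =>
    coe_mem_ker_of_mem_ker_prodRightMap τ
      (uce_lift_mem_ker (prodRightMap τ) η₂ hη₂ (schurM_le_ker Q₂ m.2)))

theorem schurMRight_coe (η₂ : UCE Q₂ →* prodRight τ)
    (hη₂ : (prodRightMap τ).comp η₂ = uceMap Q₂) (m : schurM Q₂) :
    ((schurMRight τ η₂ hη₂ m : τ.ker) : Δ) = ((η₂ (m : UCE Q₂) : prodRight τ) : Δ) := rfl

/-- the kernel of a central extension as a commutative group -/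
@[reducible] def kerCommGroup {Δ' Q' : Type*} [Group Δ'] [Group Q'] (τ' : Δ' →* Q')
    (hc : τ'.ker ≤ Subgroup.center Δ') : CommGroup τ'.ker :=
  { (inferInstance : Group τ'.ker) with
    mul_comm := fun a b => Subtype.ext (Subgroup.mem_center_iff.mp (hc b.2) (a : Δ')) }

end

end Cfsg.Agent.Helper20
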