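import Mathlib

set_option autoImplicit false

namespace Cfsg.Agent.Helper20

open DihedralGroup

/-- the rotation subgroup of the dihedral group -/
def rotSubgroup (n : ℕ) : Subgroup (DihedralGroup n) := Subgroup.zpowers (r 1)

theorem mem_rotSubgroup_iff (n : ℕ) (x : DihedralGroup n) :
    x ∈ rotSubgroup n ↔ ∃ i : ZMod n, x = r i := by
  unfold rotSubgroup
  constructor
  · intro hx
    obtain ⟨k, rfl⟩ := Subgroup.mem_zpowers_iff.mp hx
    exact ⟨(k : ZMod n), r_one_zpow k⟩
  · rintro ⟨i, rfl⟩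
    rw [Subgroup.mem_zpowers_iff]
    refine ⟨(ZMod.cast i : ℤ), ?_⟩
    rw [r_one_zpow, ZMod.intCast_zmod_cast]

instance rotSubgroup_normal (n : ℕ) : (rotSubgroup n).Normal := by
  constructor
  intro x hx g
  rw [mem_rotSubgroup_iff] at hx ⊢
  obtain ⟨i, rfl⟩ := hx
  cases g with
  | r j => exact ⟨i, by simp [r_mul_r, inv_r]⟩
  | sr j => exact ⟨-i, by simp [sr_mul_r, inv_sr, sr_mul_sr]⟩

instance rotSubgroup_isCyclic (n : ℕ) : IsCyclic (rotSubgroup n) := by
  unfold rotSubgroup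
  infer_instance

theorem exists_zpow_mul_mem_rotSubgroup (n : ℕ) (x : DihedralGroup n) :
    ∃ i : ℤ, (sr 0 : DihedralGroup n) ^ i * x ∈ rotSubgroup n := by
  cases x with
  | r j => exact ⟨0, by rw [zpow_zero, one_mul, mem_rotSubgroup_iff]; exact ⟨j, rfl⟩⟩
  | sr j => exact ⟨1, by rw [zpow_one, sr_mul_sr, mem_rotSubgroup_iff]; exact ⟨j - 0, rfl⟩⟩

/-- a rotation commuting with the reflection `sr 0` satisfies `2 i = 0` -/
theorem two_mul_eq_zero_of_commute (n : ℕ) (i : ZMod n)
    (h : (sr 0 : DihedralGroup n) * r i = r i * sr 0) : 2 * i = 0 := by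
  rw [sr_mul_r, r_mul_sr] at h
  have h1 : (0 : ZMod n) + i = 0 - i := by
    injection h
  have : i = -i := by simpa using h1
  calc 2 * i = i + i := two_mul i
    _ = i + -i := by rw [← this]
    _ = 0 := add_neg_cancel i

end Cfsg.Agent.Helper20
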