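import Mathlib
import Cfsg.Prelude.Def_KGroupFacts
import Cfsg.Agent.Lib.Helper20.DihedralRot

set_option autoImplicit false

namespace Cfsg.Agent.Helper20

open DihedralGroup
open scoped commutatorElement

/-- the reduction map `ZMod (2 n) → ZMod n` -/
noncomputable def dcast (n : ℕ) : ZMod (2 * n) →+* ZMod n :=
  ZMod.castHom (dvd_mul_left n 2) (ZMod n)

/-- the natural surjection `D_{2n} → D_n` -/
noncomputable def dihedralCover (n : ℕ) : DihedralGroup (2 * n) →* DihedralGroup n where
  toFun x := match x with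
    | r i => r (dcast n i)
    | sr i => sr (dcast n i)
  map_one' := by
    rw [one_def]
    simp only [map_zero]
    rfl
  map_mul' := by
    intro x y
    cases x with
    | r i =>
      cases y with
      | r j => simp only [r_mul_r, map_add]
      | sr j => simp only [r_mul_sr, map_sub]
    | sr i =>
      cases y with
      | r j => simp only [sr_mul_r, map_add]
      | sr j => simp only [sr_mul_sr, map_sub]

@[simp] theorem dihedralCover_r (n : ℕ) (i : ZMod (2 * n)) :
    dihedralCover n (r i) = r (dcast n i) := rfl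

@[simp] theorem dihedralCover_sr (n : ℕ) (i : ZMod (2 * n)) :
    dihedralCover n (sr i) = sr (dcast n i) := rfl

theorem dcast_surjective (n : ℕ) : Function.Surjective (dcast n) :=
  ZMod.castHom_surjective _

theorem dihedralCover_surjective (n : ℕ) : Function.Surjective (dihedralCover n) := by
  intro x
  cases x with
  | r i =>
    obtain ⟨j, hj⟩ := dcast_surjective n i
    exact ⟨r j, by rw [dihedralCover_r, hj]⟩
  | sr i =>
    obtain ⟨j, hj⟩ := dcast_surjective n i
    exact ⟨sr j, by rw [dihedralCover_sr, hj]⟩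

theorem card_ker_dihedralCover (n : ℕ) [NeZero n] : Nat.card (dihedralCover n).ker = 2 := by
  have h1 := Subgroup.card_eq_card_quotient_mul_card_subgroup (dihedralCover n).ker
  have h2 : Nat.card (DihedralGroup (2 * n) ⧸ (dihedralCover n).ker) = Nat.card (DihedralGroup n) :=
    Nat.card_congr
      (QuotientGroup.quotientKerEquivOfSurjective _ (dihedralCover_surjective n)).toEquiv
  rw [h2, DihedralGroup.nat_card, DihedralGroup.nat_card] at h1
  have hn : 0 < n := Nat.pos_of_ne_zero (NeZero.ne n)
  have h3 : 2 * n * 2 = 2 * n * Nat.card (dihedralCover n).ker := by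
    rw [← h1]; ring
  exact (Nat.eq_of_mul_eq_mul_left (by omega) h3).symm

/-- elements of the kernel are rotations `r j` with `j` in the kernel of the reduction -/
theorem mem_ker_dihedralCover (n : ℕ) (x : DihedralGroup (2 * n)) (hx : x ∈ (dihedralCover n).ker) :
    ∃ j : ZMod (2 * n), x = r j ∧ dcast n j = 0 := by
  rw [MonoidHom.mem_ker] at hx
  cases x with
  | r j =>
    refine ⟨j, rfl, ?_⟩
    rw [dihedralCover_r, one_def] at hx
    injection hx
  | sr j =>
    rw [dihedralCover_sr, one_def] at hx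
    cases hx

/-- an element of the kernel of the reduction is a multiple of `n` -/
theorem exists_eq_of_dcast_eq_zero (n : ℕ) [NeZero n] (j : ZMod (2 * n)) (hj : dcast n j = 0) :
    ∃ c : ℕ, j = ((n * c : ℕ) : ZMod (2 * n)) := by
  have h1 : ((j.val : ℕ) : ZMod n) = 0 := by
    have : dcast n ((j.val : ℕ) : ZMod (2 * n)) = ((j.val : ℕ) : ZMod n) := map_natCast _ _
    rw [← this, ZMod.natCast_zmod_val, hj]
  rw [ZMod.natCast_eq_zero_iff] at h1
  obtain ⟨c, hc⟩ := h1
  refine ⟨c, ?_⟩
  rw [← hc, ZMod.natCast_zmod_val]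

theorem dihedralCover_isStem (n : ℕ) [NeZero n] (hn : Even n) :
    Cfsg.IsStemExtension (dihedralCover n) := by
  refine ⟨dihedralCover_surjective n, ?_, ?_⟩
  · intro x hx
    obtain ⟨j, rfl, hj⟩ := mem_ker_dihedralCover n x hx
    obtain ⟨c, rfl⟩ := exists_eq_of_dcast_eq_zero n j hj
    have h2 : (2 : ZMod (2 * n)) * ((n * c : ℕ) : ZMod (2 * n)) = 0 := by
      have : (2 : ZMod (2 * n)) * ((n * c : ℕ) : ZMod (2 * n)) = ((2 * n * c : ℕ) : ZMod (2 * n)) := by
        push_cast; ring
      rw [this, ZMod.natCast_eq_zero_iff]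
      exact ⟨c, rfl⟩
    have h3 : ((n * c : ℕ) : ZMod (2 * n)) = -((n * c : ℕ) : ZMod (2 * n)) := by
      rw [eq_neg_iff_add_eq_zero, ← two_mul, h2]
    rw [Subgroup.mem_center_iff]
    intro g
    cases g with
    | r i => rw [r_mul_r, r_mul_r, add_comm]
    | sr i => rw [sr_mul_r, r_mul_sr, sub_eq_add_neg, ← h3]
  · intro x hx
    obtain ⟨j, rfl, hj⟩ := mem_ker_dihedralCover n x hx
    obtain ⟨c, rfl⟩ := exists_eq_of_dcast_eq_zero n j hj
    obtain ⟨m, hm⟩ := hn
    have h1 : (r ((n * c : ℕ) : ZMod (2 * n)) : DihedralGroup (2 * n)) =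
        ⁅r ((m * c : ℕ) : ZMod (2 * n)), sr 0⁆ := by
      rw [commutatorElement_def, r_mul_sr, inv_r, sr_mul_r, inv_sr, sr_mul_sr]
      congr 1
      rw [hm]
      push_cast
      ring
    rw [h1, commutator_def]
    exact Subgroup.commutator_mem_commutator (Subgroup.mem_top _) (Subgroup.mem_top _)

end Cfsg.Agent.Helper20
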