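import Mathlib

set_option autoImplicit false

namespace Cfsg.Agent.Helper20

/-- For a central extension, the commutator `s a s⁻¹ a⁻¹` only depends on the image of `a`. -/
theorem comm_eq_of_map_eq {Γ G : Type*} [Group Γ] [Group G] (σ : Γ →* G)
    (hc : σ.ker ≤ Subgroup.center Γ) (s a b : Γ) (hab : σ a = σ b) :
    s * a * s⁻¹ * a⁻¹ = s * b * s⁻¹ * b⁻¹ := by
  have hz : a⁻¹ * b ∈ σ.ker := by
    rw [MonoidHom.mem_ker, map_mul, map_inv, hab, inv_mul_cancel]
  have hzc := hc hz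
  rw [Subgroup.mem_center_iff] at hzc
  have hb : b = a * (a⁻¹ * b) := by group
  have h1 := hzc s⁻¹
  -- s⁻¹ * z = z * s⁻¹
  calc s * a * s⁻¹ * a⁻¹ = s * a * (s⁻¹ * (a⁻¹ * b)) * (a⁻¹ * b)⁻¹ * a⁻¹ := by group
    _ = s * a * ((a⁻¹ * b) * s⁻¹) * (a⁻¹ * b)⁻¹ * a⁻¹ := by rw [h1]
    _ = s * b * s⁻¹ * b⁻¹ := by group

/-- For a central extension, the commutator `s a s⁻¹ a⁻¹` is trivial if `a` maps to `1`. -/
theorem comm_eq_one_of_map_eq_one {Γ G : Type*} [Group Γ] [Group G] (σ : Γ →* G)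
    (hc : σ.ker ≤ Subgroup.center Γ) (s a : Γ) (ha : σ a = 1) :
    s * a * s⁻¹ * a⁻¹ = 1 := by
  have h := comm_eq_of_map_eq σ hc s a 1 (by rw [ha, map_one])
  rw [h]
  group

/-- In `ZMod n`, there is at most one nonzero solution of `2 i = 0`. -/
theorem zmod_eq_of_two_mul_eq_zero (n : ℕ) [NeZero n] (i j : ZMod n) (hi : 2 * i = 0)
    (hj : 2 * j = 0) (hi0 : i ≠ 0) (hj0 : j ≠ 0) : i = j := by
  have key : ∀ x : ZMod n, 2 * x = 0 → x ≠ 0 → 2 * x.val = n := by
    intro x hx hx0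
    have h1 : ((2 * x.val : ℕ) : ZMod n) = 0 := by
      push_cast
      rw [ZMod.natCast_zmod_val, hx]
    rw [ZMod.natCast_eq_zero_iff] at h1
    obtain ⟨c, hc⟩ := h1
    have h2 : x.val < n := ZMod.val_lt x
    have h3 : x.val ≠ 0 := fun h => hx0 ((ZMod.val_eq_zero x).mp h)
    have hc1 : c = 1 := by
      have hlt : n * c < n * 2 := by omega
      have hc2 : c < 2 := lt_of_mul_lt_mul_left hlt (Nat.zero_le n)
      have hc0 : c ≠ 0 := by
        rintro rfl
        omega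
      omega
    rw [hc, hc1, mul_one]
  have h1 := key i hi hi0
  have h2 := key j hj hj0
  apply ZMod.val_injective n
  omega

end Cfsg.Agent.Helper20
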