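import Mathlib

set_option autoImplicit false

namespace Cfsg.Agent.Helper20

open scoped commutatorElement

variable {Γ : Type*} [Group Γ]

/-- the commutator map `r ↦ s r s⁻¹ r⁻¹` on an abelian normal subgroup, as a homomorphism -/
def commHom (R : Subgroup Γ) [hR : R.Normal] (hab : ∀ a ∈ R, ∀ b ∈ R, a * b = b * a) (s : Γ) :
    ↥R →* Γ where
  toFun r := s * r * s⁻¹ * (r : Γ)⁻¹
  map_one' := by simp
  map_mul' a b := by
    have ha : s * a * s⁻¹ ∈ R := hR.conj_mem a a.2 s
    have hb : s * b * s⁻¹ ∈ R := hR.conj_mem b b.2 s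
    have h1 : (a : Γ)⁻¹ * (s * b * s⁻¹ * (b : Γ)⁻¹) = (s * b * s⁻¹ * (b : Γ)⁻¹) * (a : Γ)⁻¹ :=
      hab _ (R.inv_mem a.2) _ (R.mul_mem hb (R.inv_mem b.2))
    calc s * ((a * b : ↥R) : Γ) * s⁻¹ * ((a * b : ↥R) : Γ)⁻¹
        = s * a * s⁻¹ * ((s * b * s⁻¹ * (b : Γ)⁻¹) * (a : Γ)⁻¹) := by
          simp only [Subgroup.coe_mul]; group
      _ = s * a * s⁻¹ * ((a : Γ)⁻¹ * (s * b * s⁻¹ * (b : Γ)⁻¹)) := by rw [h1]
      _ = s * a * s⁻¹ * (a : Γ)⁻¹ * (s * b * s⁻¹ * (b : Γ)⁻¹) := by group

theorem commHom_apply (R : Subgroup Γ) [R.Normal] (hab : ∀ a ∈ R, ∀ b ∈ R, a * b = b * a) (s : Γ)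
    (r : ↥R) : commHom R hab s r = s * r * s⁻¹ * (r : Γ)⁻¹ := rfl

/-- If `Γ = R⟨s⟩` with `R` abelian and normal, then every element of the commutator subgroup of `Γ`
is of the form `[s, r]` with `r ∈ R`. -/
theorem exists_eq_comm_of_mem_commutator (R : Subgroup Γ) [hR : R.Normal]
    (hab : ∀ a ∈ R, ∀ b ∈ R, a * b = b * a) (s : Γ)
    (hgen : Subgroup.closure (insert s (R : Set Γ)) = ⊤) :
    ∀ k ∈ commutator Γ, ∃ r ∈ R, k = s * r * s⁻¹ * r⁻¹ := by
  set T : Subgroup Γ := (commHom R hab s).range with hT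
  have hTR : T ≤ R := by
    rintro _ ⟨r, rfl⟩
    rw [commHom_apply]
    exact R.mul_mem (hR.conj_mem r r.2 s) (R.inv_mem r.2)
  -- T is normalized by R and s, hence normal
  have hTn : T.Normal := by
    have hnorm : Subgroup.normalizer (T : Set Γ) = ⊤ := by
      rw [eq_top_iff, ← hgen, Subgroup.closure_le]
      intro g hg
      rcases hg with rfl | hgR
      · -- conjugation by s
        have hsub : ∀ t ∈ T, g * t * g⁻¹ ∈ T := by
          rintro _ ⟨r, rfl⟩
          refine ⟨⟨g * r * g⁻¹, hR.conj_mem r r.2 g⟩, ?_⟩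
          rw [commHom_apply, commHom_apply]
          group
        have hsub' : ∀ t ∈ T, g⁻¹ * t * g ∈ T := by
          rintro _ ⟨r, rfl⟩
          refine ⟨⟨g⁻¹ * r * g, by simpa using hR.conj_mem r r.2 g⁻¹⟩, ?_⟩
          rw [commHom_apply, commHom_apply]
          group
        rw [SetLike.mem_coe, Subgroup.mem_set_normalizer_iff]
        intro t
        constructor
        · exact hsub t
        · intro ht
          have := hsub' _ ht
          have e : g⁻¹ * (g * t * g⁻¹) * g = t := by group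
          rwa [e] at this
      · -- conjugation by an element of R is trivial on T ≤ R
        rw [SetLike.mem_coe, Subgroup.mem_set_normalizer_iff]
        intro t
        have key : ∀ t ∈ T, g * t * g⁻¹ = t := by
          intro t ht
          have := hab g hgR t (hTR ht)
          rw [this, mul_assoc, mul_inv_cancel, mul_one]
        constructor
        · intro ht
          rw [SetLike.mem_coe, key t ht]; exact ht
        · intro ht
          have h1 : g * t * g⁻¹ ∈ R := hTR ht
          have h2 : t ∈ R := by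
            have : t = g⁻¹ * (g * t * g⁻¹) * g := by group
            rw [this]
            exact R.mul_mem (R.mul_mem (R.inv_mem hgR) h1) hgR
          have h3 := hab g hgR t h2
          have h4 : g * t * g⁻¹ = t := by rw [h3, mul_assoc, mul_inv_cancel, mul_one]
          rw [SetLike.mem_coe, h4] at ht
          exact ht
    exact Subgroup.normalizer_eq_top_iff.mp hnorm
  -- the quotient is commutative
  let φ := QuotientGroup.mk' T
  have hcomm : ∀ x ∈ φ '' (insert s (R : Set Γ)), ∀ y ∈ φ '' (insert s (R : Set Γ)),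
      x * y = y * x := by
    have hsr : ∀ r ∈ R, φ s * φ r = φ r * φ s := by
      intro r hr
      rw [← map_mul, ← map_mul]
      apply (QuotientGroup.eq).mpr
      have : (s * r)⁻¹ * (r * s) ∈ T := by
        refine ⟨⟨s⁻¹ * r⁻¹ * s, by simpa using hR.conj_mem r⁻¹ (R.inv_mem hr) s⁻¹⟩, ?_⟩
        rw [commHom_apply]
        simp only
        show s * (s⁻¹ * r⁻¹ * s) * s⁻¹ * (s⁻¹ * r⁻¹ * s)⁻¹ = (s * r)⁻¹ * (r * s)
        group
      exact this
    rintro _ ⟨x, hx, rfl⟩ _ ⟨y, hy, rfl⟩
    rcases hx with rfl | hxR <;> rcases hy with rfl | hyR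
    · rfl
    · exact hsr y hyR
    · exact (hsr x hxR).symm
    · rw [← map_mul, ← map_mul, hab x hxR y hyR]
  have hclos : Subgroup.closure (φ '' (insert s (R : Set Γ))) = ⊤ := by
    rw [← MonoidHom.map_closure, hgen, ← MonoidHom.range_eq_map]
    exact MonoidHom.range_eq_top.mpr (QuotientGroup.mk'_surjective T)
  have hQc := Subgroup.isMulCommutative_closure hcomm
  rw [hclos] at hQc
  have hQ : ∀ a b : Γ ⧸ T, a * b = b * a := by
    intro a b
    have := hQc.is_comm.comm (⟨a, Subgroup.mem_top a⟩ : (⊤ : Subgroup (Γ ⧸ T))) ⟨b, Subgroup.mem_top b⟩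
    exact congrArg Subtype.val this
  have hle : commutator Γ ≤ T := by
    rw [commutator_eq_closure, Subgroup.closure_le]
    rintro _ ⟨x, y, rfl⟩
    rw [SetLike.mem_coe, ← QuotientGroup.eq_one_iff, commutatorElement_def]
    simp only [QuotientGroup.mk_mul, QuotientGroup.mk_inv]
    rw [hQ (x : Γ ⧸ T) (y : Γ ⧸ T)]
    group
  intro k hk
  obtain ⟨r, hr⟩ := hle hk
  exact ⟨r, r.2, by rw [← hr, commHom_apply]⟩

end Cfsg.Agent.Helper20
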