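import Mathlib
import Cfsg.Prelude.Def_KGroupFacts
import Cfsg.Agent.Lib.Helper20.CyclicByAbelian

set_option autoImplicit false

namespace Cfsg.Agent.Helper20

variable {G Γ : Type*} [Group G] [Group Γ]

/-- In a stem extension `σ : Γ → G` of a group `G = C⟨t⟩` with `C` cyclic and normal, every element
of the kernel is a commutator `[s, r]` with `σ s = t` and `σ r ∈ C` commuting with `t`. -/
theorem stem_ker_eq_comm (σ : Γ →* G) (hσ : Cfsg.IsStemExtension σ) (C : Subgroup G) [hC : C.Normal]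
    [hcyc : IsCyclic C] (t : G) (hG : ∀ x : G, ∃ i : ℤ, t ^ i * x ∈ C) (s : Γ) (hs : σ s = t) :
    ∀ k ∈ σ.ker, ∃ r : Γ, σ r ∈ C ∧ k = s * r * s⁻¹ * r⁻¹ ∧ t * σ r = σ r * t := by
  obtain ⟨hsurj, hcent, hcomm⟩ := hσ
  set R : Subgroup Γ := C.comap σ with hR
  have hRn : R.Normal := hC.comap σ
  -- R is abelian
  have hab : ∀ a ∈ R, ∀ b ∈ R, a * b = b * a := by
    intro a ha b hb
    let f : ↥R →* ↥C := σ.subgroupComap C
    have hf : f.ker ≤ Subgroup.center ↥R := by
      intro x hx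
      rw [MonoidHom.mem_ker] at hx
      have hx' : σ (x : Γ) = 1 := congrArg Subtype.val hx
      have hxc : (x : Γ) ∈ Subgroup.center Γ := hcent (MonoidHom.mem_ker.mpr hx')
      rw [Subgroup.mem_center_iff] at hxc ⊢
      intro g
      exact Subtype.ext (hxc (g : Γ))
    have hc := MonoidHom.isMulCommutative_of_isCyclic_of_ker_le_center f hf
    have := hc.is_comm.comm (⟨a, ha⟩ : ↥R) ⟨b, hb⟩
    exact congrArg Subtype.val this
  -- Γ = R⟨s⟩
  have hgen : Subgroup.closure (insert s (R : Set Γ)) = ⊤ := by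
    rw [eq_top_iff]
    intro g _
    obtain ⟨i, hi⟩ := hG (σ g)
    have h1 : s ^ i * g ∈ R := by
      rw [hR, Subgroup.mem_comap, map_mul, map_zpow, hs]
      exact hi
    have h2 : g = (s ^ i)⁻¹ * (s ^ i * g) := by group
    rw [h2]
    apply Subgroup.mul_mem
    · apply Subgroup.inv_mem
      apply Subgroup.zpow_mem
      exact Subgroup.subset_closure (Set.mem_insert s _)
    · exact Subgroup.subset_closure (Set.mem_insert_of_mem s h1)
  intro k hk
  obtain ⟨r, hrR, hkr⟩ := exists_eq_comm_of_mem_commutator R hab s hgen k (hcomm hk)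
  refine ⟨r, hrR, hkr, ?_⟩
  have h1 : σ k = 1 := MonoidHom.mem_ker.mp hk
  rw [hkr] at h1
  simp only [map_mul, map_inv, hs] at h1
  calc t * σ r = (t * σ r * t⁻¹ * (σ r)⁻¹) * (σ r * t) := by group
    _ = σ r * t := by rw [h1, one_mul]

end Cfsg.Agent.Helper20
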