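import Mathlib
import Cfsg.Prelude.Def_LieExceptional
import Cfsg.Agent.Lib.Helper2.BNPair
import Cfsg.Agent.Lib.Helper12.PGroup

/-!
# S2548, piece SYLBN (helper20): in a finite group with a (B, N)-pair, a normal subgroup `U` of `B`
that no simple reflection conjugates into `B` has its normaliser inside `B`; if `U` is a `p`-group
of index prime to `p` in `B` it is a maximal `p`-subgroup.
-/

set_option autoImplicit false

namespace Cfsg.Agent.Helper13.SdP

open Cfsg

theorem normalizer_le_B {G : Type*} [Group G] [Finite G] (P : Cfsg.BNPair G) (U : Subgroup G)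
    (hU : U ≤ P.B) (hUn : ∀ b ∈ P.B, ∀ u ∈ U, b * u * b⁻¹ ∈ U)
    (hs : ∀ s ∈ P.S, ∃ u ∈ U, s * u * s⁻¹ ∉ P.B)
    (g : G) (hg : ∀ u ∈ U, g⁻¹ * u * g ∈ U) : g ∈ P.B := by
  set M : Subgroup G := Subgroup.normalizer (U : Set G) with hM
  have hBM : P.B ≤ M := by
    intro b hb
    rw [hM, Subgroup.mem_normalizer_iff]
    intro u
    constructor
    · intro hu
      exact hUn b hb u hu
    · intro hu
      have := hUn b⁻¹ (P.B.inv_mem hb) _ hu
      have e : b⁻¹ * (b * u * b⁻¹) * b⁻¹⁻¹ = u := by group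
      rwa [e] at this
  -- `g ∈ M`
  have hgM : g ∈ M := by
    -- conjugation by `g⁻¹` is an injective self-map of the finite set `U`, hence surjective
    let f : U → U := fun u => ⟨g⁻¹ * u * g, hg u u.2⟩
    have hfinj : Function.Injective f := by
      intro a b hab
      have h1 : g⁻¹ * (a : G) * g = g⁻¹ * (b : G) * g := congrArg Subtype.val hab
      apply Subtype.ext
      have h2 := congrArg (fun t => g * t * g⁻¹) h1
      simpa [mul_assoc] using h2
    have hfsurj : Function.Surjective f := Finite.injective_iff_surjective.mp hfinj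
    rw [hM, Subgroup.mem_normalizer_iff]
    intro u
    constructor
    · intro hu
      obtain ⟨v, hv⟩ := hfsurj ⟨u, hu⟩
      have h1 : g⁻¹ * (v : G) * g = u := congrArg Subtype.val hv
      have h2 : g * u * g⁻¹ = v := by
        rw [← h1]; group
      rw [h2]
      exact v.2
    · intro hu
      have := hg _ hu
      have e : g⁻¹ * (g * u * g⁻¹) * g = u := by group
      rwa [e] at this
  have hpar := Cfsg.Agent.Helper2.BN.eq_parabolic P M hBM
  have hJ : {s | s ∈ P.S ∧ s ∈ M} = (∅ : Set G) := by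
    ext s
    simp only [Set.mem_ofPred_eq, Set.mem_empty_iff_false, iff_false, not_and]
    intro hsS hsM
    obtain ⟨u, hu, hnot⟩ := hs s hsS
    apply hnot
    apply hU
    rw [hM, Subgroup.mem_normalizer_iff] at hsM
    exact (hsM u).mp hu
  rw [hJ] at hpar
  have hMB : M = P.B := by
    rw [hpar, Cfsg.BNPair.parabolic, Subgroup.closure_empty, sup_bot_eq]
  rw [← hMB]
  exact hgM

theorem isMax_of_bn {G : Type*} [Group G] [Finite G] (P : Cfsg.BNPair G) (p : ℕ) [Fact p.Prime]
    (U : Subgroup G) (hU : U ≤ P.B) (hUn : ∀ b ∈ P.B, ∀ u ∈ U, b * u * b⁻¹ ∈ U)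
    (hs : ∀ s ∈ P.S, ∃ u ∈ U, s * u * s⁻¹ ∉ P.B) (hUp : IsPGroup p U)
    (k : ℕ) (hcard : Nat.card P.B = k * Nat.card U) (hk : ¬ p ∣ k)
    {Q : Subgroup G} (hQ : IsPGroup p Q) (hle : U ≤ Q) : Q = U := by
  have hp : p.Prime := Fact.out
  by_contra hne
  have hlt : U < Q := lt_of_le_of_ne hle (Ne.symm hne)
  obtain ⟨g, hgQ, hgU, hgN⟩ := Cfsg.Agent.Helper12.exists_mem_normalizer_not_mem Q hQ U hlt
  have hgN' : g⁻¹ ∈ Subgroup.normalizer (U : Set G) := Subgroup.inv_mem _ hgN
  have hnorm : ∀ u ∈ U, g⁻¹ * u * g ∈ U := by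
    intro u hu
    have := (Subgroup.mem_normalizer_iff.mp hgN' u).mp hu
    rwa [inv_inv] at this
  have hgB : g ∈ P.B := normalizer_le_B P U hU hUn hs g hnorm
  -- `V = U ⊔ ⟨g⟩` is a `p`-subgroup of `B` containing `U`
  set V : Subgroup G := Subgroup.zpowers g ⊔ U with hV
  have hzp : IsPGroup p (Subgroup.zpowers g) := by
    apply hQ.to_le
    rw [Subgroup.zpowers_le]
    exact hgQ
  have hzN : Subgroup.zpowers g ≤ Subgroup.normalizer (U : Set G) := by
    rw [Subgroup.zpowers_le]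
    exact hgN
  have hVp : IsPGroup p V := hzp.to_sup_of_normal_right' hUp hzN
  have hUV : U ≤ V := le_sup_right
  have hVB : V ≤ P.B := sup_le (by rw [Subgroup.zpowers_le]; exact hgB) hU
  obtain ⟨a, ha⟩ := hVp.exists_card_eq
  obtain ⟨b, hb⟩ := hUp.exists_card_eq
  have h1 : p ^ b ∣ p ^ a := by
    rw [← ha, ← hb]
    exact Subgroup.card_dvd_of_le hUV
  have h2 : p ^ a ∣ k * p ^ b := by
    rw [← ha, ← hb, ← hcard]
    exact Subgroup.card_dvd_of_le hVB
  have hba : b ≤ a := (Nat.pow_dvd_pow_iff_le_right hp.one_lt).mp h1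
  have hab : a = b := by
    by_contra hab
    have hlt' : b < a := lt_of_le_of_ne hba (Ne.symm hab)
    have h3 : p ^ (b + 1) ∣ k * p ^ b := (pow_dvd_pow p hlt').trans h2
    rw [pow_succ, mul_comm k] at h3
    have h4 : p ∣ k := Nat.dvd_of_mul_dvd_mul_left (pow_pos hp.pos b) h3
    exact hk h4
  have hcardVU : Nat.card V ≤ Nat.card U := by rw [ha, hb, hab]
  have hVU : U = V := Subgroup.eq_of_le_of_card_ge hUV hcardVU
  apply hgU
  rw [hVU]
  exact le_sup_left (a := Subgroup.zpowers g) (Subgroup.mem_zpowers g)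

end Cfsg.Agent.Helper13.SdP
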