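import Mathlib
import Cfsg.Agent.Lib.Helper11.TGBase
import Cfsg.Agent.Lib.Lead.ChevDiagGroup
import Cfsg.Agent.Lib.Lead.ChevNConj

/-!
# S2406, piece STB (helper20): the abstract twisted Steinberg core
-/

set_option autoImplicit false

namespace Cfsg.Agent.Helper11.TG

open Cfsg Cfsg.Lie Cfsg.Agent.Lead.Chev Cfsg.Agent.Lead.Tw Cfsg.Agent.Helper11.CG
open scoped commutatorElement

/-- two elements of the diagonal subgroup commute -/
theorem stb_diag_commute {K : Type*} [Field K] {D : ChevalleyDatum} (hF : ChevFacts D K)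
    (a b : GL D.Idx K) (ha : a ∈ D.diagonalSubgroup K) (hb : b ∈ D.diagonalSubgroup K) :
    a * b = b * a := by
  obtain ⟨c, -, hc⟩ := exists_Tmat_of_mem D hF.hall a ha
  obtain ⟨c', -, hc'⟩ := exists_Tmat_of_mem D hF.hall b hb
  apply Units.ext
  rw [Units.val_mul, Units.val_mul, hc, hc', Tmat_mul, Tmat_mul]
  congr 1
  funext i
  exact mul_comm _ _

theorem tw_steinberg {K : Type*} [Field K] {D : ChevalleyDatum} (hF : ChevFacts D K)
    (T : Twist D K hF.xadd) (n : ℕ) (H : Subgroup (GL D.Idx K)) (w : List ℕ)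
    (hw : ∀ i ∈ w, i < D.rank)
    (hfixn : T.σ (nWordGL D hF.xadd w) = nWordGL D hF.xadd w)
    (h : GL D.Idx K) (hhd : h ∈ D.diagonalSubgroup K) (hhg : h ∈ D.group K) (hfixh : T.σ h = h)
    (r rp : ℕ) (hr : r < D.nroots) (hrp : rp < D.nroots) (hrp' : reflWord D w rp = r)
    (k μ : K) (hk0 : k ≠ 0) (hk1 : k ≠ 1) (hμ0 : μ ≠ 0) (hμ1 : μ ≠ 1)
    (hgen : ∀ v : K, v ≠ 0 → ∃ m : ℕ, v = k ^ m)
    (hact : ∀ t : K, h * xGL D hF.xadd r t * h⁻¹ = xGL D hF.xadd r (k * t))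
    (hact' : ∀ t : K, h * xGL D hF.xadd rp t * h⁻¹ = xGL D hF.xadd rp (μ * t))
    (hadd : ∀ t u : K, yC hF T n (xGL D hF.xadd r (t + u)) =
      yC hF T n (xGL D hF.xadd r t) * yC hF T n (xGL D hF.xadd r u))
    (hhH : h ∈ H) (hb : yC hF T n (xGL D hF.xadd r 1) * nWordGL D hF.xadd w ∈ H) :
    FullS hF T n H r ∧ nWordGL D hF.xadd w ∈ H := by
  -- abbreviations
  set N : GL D.Idx K := nWordGL D hF.xadd w with hN
  set Y : K → GL D.Idx K := fun t => yC hF T n (xGL D hF.xadd r t) with hY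
  have hNg : N ∈ D.group K := nWordGL_mem_group D hF.xadd w
  have hxg : ∀ (s : ℕ) (t : K), xGL D hF.xadd s t ∈ D.group K := fun s t =>
    xGL_mem_group D hF.xadd s t
  have hYadd : ∀ t u : K, Y (t + u) = Y t * Y u := hadd
  have hY0 : Y 0 = 1 := by
    have h1 := hYadd 0 0
    rw [add_zero] at h1
    exact (mul_eq_left (a := Y 0) (b := Y 0)).1 h1.symm
  have hYneg : ∀ t : K, Y (-t) = (Y t)⁻¹ := by
    intro t
    have h1 := hYadd (-t) t
    rw [neg_add_cancel, hY0] at h1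
    exact eq_inv_of_mul_eq_one_left h1.symm
  have hYsub : ∀ t u : K, Y (t - u) = Y t * (Y u)⁻¹ := by
    intro t u
    rw [sub_eq_add_neg, hYadd, hYneg]
  -- conjugation by `h`
  have hconjh : ∀ t : K, h * Y t * h⁻¹ = Y (k * t) := by
    intro t
    show h * yC hF T n (xGL D hF.xadd r t) * h⁻¹ = yC hF T n (xGL D hF.xadd r (k * t))
    rw [yC_conj hF T n h _ hhg (hxg r t) hfixh, hact]
  -- the element `h' = N h N⁻¹`
  set h' : GL D.Idx K := N * h * N⁻¹ with hh'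
  have hh'g : h' ∈ D.group K := mul_mem (mul_mem hNg hhg) (inv_mem hNg)
  have hh'd : h' ∈ D.diagonalSubgroup K :=
    nWordGL_conj_mem_diagonal D hF.xadd (etaOf D) hF.nsimple w hw h hhd
  have hh'fix : T.σ h' = h' := by
    rw [hh', map_conj hF T N h hNg hhg hfixn, hfixh]
  have hcomm : h * h' = h' * h := stb_diag_commute hF h h' hhd hh'd
  -- `h'` acts on `X_r` by `μ`
  have hact'' : ∀ t : K, h' * xGL D hF.xadd r t * h'⁻¹ = xGL D hF.xadd r (μ * t) := by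
    intro t
    have e1 : ∀ s : K, N * xGL D hF.xadd rp (((signWord D (etaOf D) w rp : ℤ) : K) * s) * N⁻¹ =
        xGL D hF.xadd r s := by
      intro s
      rw [hN, nWordGL_conj D hF.xadd (etaOf D) hF.nsimple w hw rp hrp, hrp',
        tg_sign_mul hF w hw]
    rw [← e1 t, hh']
    have e2 : N * h * N⁻¹ * (N * xGL D hF.xadd rp (((signWord D (etaOf D) w rp : ℤ) : K) * t) * N⁻¹) *
        (N * h * N⁻¹)⁻¹ =
        N * (h * xGL D hF.xadd rp (((signWord D (etaOf D) w rp : ℤ) : K) * t) * h⁻¹) * N⁻¹ := by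
      group
    rw [e2, hact', ← e1 (μ * t)]
    congr 3
    ring
  have hconjh' : ∀ t : K, h' * Y t * h'⁻¹ = Y (μ * t) := by
    intro t
    show h' * yC hF T n (xGL D hF.xadd r t) * h'⁻¹ = yC hF T n (xGL D hF.xadd r (μ * t))
    rw [yC_conj hF T n h' _ hh'g (hxg r t) hh'fix, hact'']
  have hconjh'inv : ∀ t : K, h'⁻¹ * Y t * h' = Y (μ⁻¹ * t) := by
    intro t
    have h1 := hconjh' (μ⁻¹ * t)
    rw [← mul_assoc, mul_inv_cancel₀ hμ0, one_mul] at h1
    rw [← h1]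
    group
  -- `b h b⁻¹ = h' * Y (μ⁻¹ - 1)`
  set b : GL D.Idx K := Y 1 * N with hbdef
  have hbH : b ∈ H := hb
  have hu : b * h * b⁻¹ = h' * Y (μ⁻¹ - 1) := by
    have e1 : b * h * b⁻¹ = h' * (h'⁻¹ * Y 1 * h') * (Y 1)⁻¹ := by
      rw [hbdef, hh']
      group
    rw [e1, hconjh'inv, mul_one, hYsub, mul_assoc]
  have huH : h' * Y (μ⁻¹ - 1) ∈ H := by
    rw [← hu]
    exact H.mul_mem (H.mul_mem hbH hhH) (H.inv_mem hbH)
  -- the commutator
  have hcommu : h * (h' * Y (μ⁻¹ - 1)) * h⁻¹ * (h' * Y (μ⁻¹ - 1))⁻¹ =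
      Y ((k - 1) * (1 - μ)) := by
    have e1 : h * (h' * Y (μ⁻¹ - 1)) * h⁻¹ * (h' * Y (μ⁻¹ - 1))⁻¹ =
        (h * h') * (Y (μ⁻¹ - 1) * h⁻¹ * (Y (μ⁻¹ - 1))⁻¹ * h'⁻¹) := by
      group
    have e2 : (h' * h) * (Y (μ⁻¹ - 1) * h⁻¹ * (Y (μ⁻¹ - 1))⁻¹ * h'⁻¹) =
        h' * ((h * Y (μ⁻¹ - 1) * h⁻¹) * (Y (μ⁻¹ - 1))⁻¹) * h'⁻¹ := by
      group
    rw [e1, hcomm, e2, hconjh, ← hYsub, hconjh']
    congr 1
    field_simp
  have heH : Y ((k - 1) * (1 - μ)) ∈ H := by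
    rw [← hcommu]
    exact H.mul_mem (H.mul_mem (H.mul_mem hhH huH) (H.inv_mem hhH)) (H.inv_mem huH)
  have he0 : (k - 1) * (1 - μ) ≠ 0 :=
    mul_ne_zero (sub_ne_zero.2 hk1) (sub_ne_zero.2 (Ne.symm hμ1))
  -- filling the class
  have hpow : ∀ (m : ℕ) (t : K), Y t ∈ H → Y (k ^ m * t) ∈ H := by
    intro m
    induction m with
    | zero => intro t ht; simpa using ht
    | succ m ih =>
      intro t ht
      have h1 := ih t ht
      have h2 := H.mul_mem (H.mul_mem hhH h1) (H.inv_mem hhH)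
      rw [hconjh] at h2
      have : k ^ (m + 1) * t = k * (k ^ m * t) := by ring
      rw [this]
      exact h2
  have hfull : FullS hF T n H r := by
    intro t
    show Y t ∈ H
    by_cases ht : t = 0
    · rw [ht, hY0]
      exact H.one_mem
    · have hne : t / ((k - 1) * (1 - μ)) ≠ 0 := div_ne_zero ht he0
      obtain ⟨m, hm⟩ := hgen _ hne
      have h1 := hpow m _ heH
      rw [← hm, div_mul_cancel₀ _ he0] at h1
      exact h1
  refine ⟨hfull, ?_⟩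
  have h1 : N = (Y 1)⁻¹ * b := by
    rw [hbdef]
    group
  rw [h1]
  exact H.mul_mem (H.inv_mem (hfull 1)) hbH

end Cfsg.Agent.Helper11.TG
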