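import Mathlib
import Cfsg.Agent.Lib.Helper16.Q8Aut

set_option autoImplicit false

namespace Cfsg.Agent.Helper20

/-- A finite group of exponent dividing `4` with a unique involution and more than `4` elements
is the quaternion group of order `8`. -/
theorem nonempty_mulEquiv_quaternion_of_unique_involution {T : Type*} [Group T] [Finite T]
    (z : T) (hz1 : z ≠ 1) (hz2 : z ^ 2 = 1)
    (hinv : ∀ x : T, x ^ 2 = 1 → x = 1 ∨ x = z) (h4 : ∀ x : T, x ^ 4 = 1)
    (hcard : 4 < Nat.card T) : Nonempty (T ≃* QuaternionGroup 2) := by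
  -- z is central
  have hzc : ∀ g : T, g * z = z * g := by
    intro g
    have h1 : (g * z * g⁻¹) ^ 2 = 1 := by rw [conj_pow, hz2]; group
    rcases hinv _ h1 with h | h
    · exfalso
      apply hz1
      have : z = g⁻¹ * (g * z * g⁻¹) * g := by group
      rw [this, h]; group
    · calc g * z = (g * z * g⁻¹) * g := by group
        _ = z * g := by rw [h]
  have hzinv : z⁻¹ = z := by
    rw [inv_eq_iff_mul_eq_one, ← pow_two, hz2]
  -- squares
  have hsq : ∀ x : T, x ≠ 1 → x ≠ z → x ^ 2 = z := by
    intro x hx1 hxz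
    have h1 : (x ^ 2) ^ 2 = 1 := by rw [← pow_mul]; exact h4 x
    rcases hinv _ h1 with h | h
    · rcases hinv x h with h' | h'
      · exact absurd h' hx1
      · exact absurd h' hxz
    · exact h
  -- inversion
  have hinvert : ∀ x y : T, x ≠ 1 → x ≠ z → y ≠ 1 → y ≠ z → x * y ≠ 1 → x * y ≠ z →
      x * y * x⁻¹ = y⁻¹ := by
    intro x y hx1 hxz hy1 hyz hxy1 hxyz
    have h1 := hsq x hx1 hxz
    have h2 := hsq y hy1 hyz
    have h3 := hsq (x * y) hxy1 hxyz
    have hxinv : x⁻¹ = x * z := by
      rw [inv_eq_iff_mul_eq_one, ← mul_assoc, ← pow_two, h1, ← pow_two, hz2]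
    have h4' : x * y * x = z * y⁻¹ := by
      have : x * y * x * y = z := by rw [← h3, pow_two]; group
      calc x * y * x = (x * y * x * y) * y⁻¹ := by group
        _ = z * y⁻¹ := by rw [this]
    calc x * y * x⁻¹ = x * y * x * z := by rw [hxinv]; group
      _ = z * y⁻¹ * z := by rw [h4']
      _ = y⁻¹ * (z * z) := by rw [← hzc y⁻¹]; group
      _ = y⁻¹ := by rw [← pow_two, hz2, mul_one]
  -- an element outside {1, z}
  obtain ⟨b, hb1, hbz⟩ : ∃ b : T, b ≠ 1 ∧ b ≠ z := by
    by_contra hcon
    push Not at hcon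
    have h1 : (Set.univ : Set T) ⊆ {1, z} := by
      intro x _
      by_cases hx : x = 1
      · left; exact hx
      · right; exact hcon x hx
    have h2 : Nat.card T ≤ 2 := by
      rw [← Set.ncard_univ]
      calc (Set.univ : Set T).ncard ≤ ({1, z} : Set T).ncard :=
            Set.ncard_le_ncard h1 (Set.toFinite _)
        _ ≤ 2 := Set.ncard_insert_le _ _ |>.trans (by simp)
    omega
  have hb2 : b ^ 2 = z := hsq b hb1 hbz
  have hbo : orderOf b = 4 := by
    have : orderOf b = 2 ^ (1 + 1) := by
      apply orderOf_eq_prime_pow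
      · rw [pow_one, hb2]; exact hz1
      · exact h4 b
    simpa using this
  have hbinv : b⁻¹ = b * z := by
    rw [inv_eq_iff_mul_eq_one, ← mul_assoc, ← pow_two, hb2, ← pow_two, hz2]
  set H := Subgroup.zpowers b with hH
  have hbH : b ∈ H := Subgroup.mem_zpowers b
  have hzH : z ∈ H := by rw [← hb2]; exact H.pow_mem hbH 2
  have hHcard : Nat.card H = 4 := by rw [Nat.card_zpowers, hbo]
  obtain ⟨y, hy⟩ : ∃ y : T, y ∉ H := by
    by_contra hcon
    push Not at hcon
    have : H = ⊤ := eq_top_iff.mpr fun x _ => hcon x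
    rw [this, Subgroup.card_top] at hHcard
    omega
  have hy1 : y ≠ 1 := fun h => hy (h ▸ H.one_mem)
  have hyz : y ≠ z := fun h => hy (h ▸ hzH)
  have hy2 : y ^ 2 = z := hsq y hy1 hyz
  have hyb1 : y * b ≠ 1 := by
    intro h
    apply hy
    have : y = b⁻¹ := eq_inv_of_mul_eq_one_left h
    rw [this]; exact H.inv_mem hbH
  have hybz : y * b ≠ z := by
    intro h
    apply hy
    have : y = z * b⁻¹ := by rw [← h]; group
    rw [this]; exact H.mul_mem hzH (H.inv_mem hbH)
  have hyb : y * b * y⁻¹ = b⁻¹ := hinvert y b hy1 hyz hb1 hbz hyb1 hybz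
  have hby1 : b * y ≠ 1 := by
    intro h
    apply hy
    have : y = b⁻¹ := eq_inv_of_mul_eq_one_right h
    rw [this]; exact H.inv_mem hbH
  have hbyz : b * y ≠ z := by
    intro h
    apply hy
    have : y = b⁻¹ * z := by rw [← h]; group
    rw [this]; exact H.mul_mem (H.inv_mem hbH) hzH
  -- index two
  have hidx : H.index = 2 := by
    rw [Subgroup.index_eq_two_iff]
    refine ⟨y⁻¹, fun w => ?_⟩
    by_cases hw : w ∈ H
    · right
      refine ⟨hw, fun h => hy ?_⟩
      have : y = (w * y⁻¹)⁻¹ * w := by group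
      rw [this]
      exact H.mul_mem (H.inv_mem h) hw
    · left
      refine ⟨?_, hw⟩
      by_contra hwy
      have hw1 : w ≠ 1 := fun h => hw (h ▸ H.one_mem)
      have hwz : w ≠ z := fun h => hw (h ▸ hzH)
      have hwb1 : w * b ≠ 1 := by
        intro h
        apply hw
        have : w = b⁻¹ := eq_inv_of_mul_eq_one_left h
        rw [this]; exact H.inv_mem hbH
      have hwbz : w * b ≠ z := by
        intro h
        apply hw
        have : w = z * b⁻¹ := by rw [← h]; group
        rw [this]; exact H.mul_mem hzH (H.inv_mem hbH)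
      have hwy1 : w * y ≠ 1 := by
        intro h
        apply hwy
        have : w * y⁻¹ = (y ^ 2)⁻¹ := by
          have : w = y⁻¹ := eq_inv_of_mul_eq_one_left h
          rw [this]; group
        rw [this, hy2]
        exact H.inv_mem hzH
      have hwyz : w * y ≠ z := by
        intro h
        apply hwy
        have : w * y⁻¹ = z * (y ^ 2)⁻¹ := by
          have : w = z * y⁻¹ := by rw [← h]; group
          rw [this]; group
        rw [this, hy2]
        exact H.mul_mem hzH (H.inv_mem hzH)
      have hyinvb : y⁻¹ * b⁻¹ * y⁻¹ = b * (y ^ 2)⁻¹ := by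
        have : b⁻¹ = y * b * y⁻¹ := hyb.symm
        calc y⁻¹ * b⁻¹ * y⁻¹ = y⁻¹ * (y * b * y⁻¹) * y⁻¹ := by rw [← this]
          _ = b * (y ^ 2)⁻¹ := by group
      have hwby1 : w * (b * y) ≠ 1 := by
        intro h
        apply hwy
        have h1 : w = y⁻¹ * b⁻¹ := by
          have := eq_inv_of_mul_eq_one_left h
          rw [this]; group
        have : w * y⁻¹ = b * (y ^ 2)⁻¹ := by rw [h1, hyinvb]
        rw [this, hy2]
        exact H.mul_mem hbH (H.inv_mem hzH)
      have hwbyz : w * (b * y) ≠ z := by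
        intro h
        apply hwy
        have h1 : w = z * (y⁻¹ * b⁻¹) := by rw [← h]; group
        have : w * y⁻¹ = z * (b * (y ^ 2)⁻¹) := by
          rw [h1, ← hyinvb]; group
        rw [this, hy2]
        exact H.mul_mem hzH (H.mul_mem hbH (H.inv_mem hzH))
      have e1 := hinvert w b hw1 hwz hb1 hbz hwb1 hwbz
      have e2 := hinvert w y hw1 hwz hy1 hyz hwy1 hwyz
      have e3 := hinvert w (b * y) hw1 hwz hby1 hbyz hwby1 hwbyz
      have e4 : w * (b * y) * w⁻¹ = b⁻¹ * y⁻¹ := by
        calc w * (b * y) * w⁻¹ = (w * b * w⁻¹) * (w * y * w⁻¹) := by group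
          _ = b⁻¹ * y⁻¹ := by rw [e1, e2]
      have e5 : b * y = y * b := by
        have : (b * y)⁻¹ = (y * b)⁻¹ := by
          rw [← e3, e4]; group
        exact inv_injective this
      have e6 : b⁻¹ = b := by
        rw [← hyb, ← e5]; group
      have : b ^ 2 = 1 := by
        rw [pow_two]
        calc b * b = b⁻¹ * b := by rw [e6]
          _ = 1 := inv_mul_cancel b
      rw [hb2] at this
      exact hz1 this
  have hT8 : Nat.card T = 8 := by
    have := Subgroup.card_mul_index H
    rw [hHcard, hidx] at this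
    omega
  exact Cfsg.Agent.Helper16.Q8.IsQ8.nonempty_mulEquiv
    ⟨hT8, hbo, by rw [hy2, hb2], hyb⟩

end Cfsg.Agent.Helper20
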