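import Mathlib
import Cfsg.Agent.S0106
import Cfsg.Agent.Lib.Helper16.OddUnique
import Cfsg.Agent.Lib.Helper16.UniqueInvolution
import Cfsg.Agent.Lib.Helper5.FCSylow

/-!
# PIECE START of S0690 (helper20, for helper4)

A nontrivial finite perfect group all of whose abelian subgroups are cyclic has two elements of
order `3` generating different subgroups.
-/

set_option autoImplicit false
set_option linter.style.haveILetI false

namespace Cfsg.Agent.Helper20.ZassStart

open Cfsg.Agent.Helper16

section

variable {H : Type*} [Group H] [Finite H]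

theorem comm_p (hcyc : ∀ A : Subgroup H, (∀ a ∈ A, ∀ b ∈ A, a * b = b * a) → IsCyclic A)
    {p : ℕ} (hp : 0 < p) {z w : H} (hz : orderOf z = p) (hw : orderOf w = p)
    (hzw : z * w = w * z) : w ∈ Subgroup.zpowers z := by
  set U : Subgroup H := Subgroup.closure {z, w} with hU
  have hzU : z ∈ U := Subgroup.subset_closure (by simp)
  have hwU : w ∈ U := Subgroup.subset_closure (by simp)
  have hUcomm : IsMulCommutative U := by
    apply Subgroup.isMulCommutative_closure
    intro x hx y hy
    rcases hx with rfl | hx <;> rcases hy with rfl | hy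
    · rfl
    · rw [Set.mem_singleton_iff] at hy; subst hy; exact hzw
    · rw [Set.mem_singleton_iff] at hx; subst hx; exact hzw.symm
    · rw [Set.mem_singleton_iff] at hx hy; subst hx; subst hy; rfl
  have hUc : ∀ a ∈ U, ∀ b ∈ U, a * b = b * a := by
    intro a ha b hb
    have := hUcomm.is_comm.comm (⟨a, ha⟩ : U) ⟨b, hb⟩
    exact congrArg Subtype.val this
  haveI := hcyc U hUc
  have h1 : orderOf (⟨z, hzU⟩ : U) = p := by rw [Subgroup.orderOf_mk]; exact hz
  have h2 : (⟨w, hwU⟩ : U) ^ p = 1 := by
    apply Subtype.ext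
    simp only [Subgroup.coe_pow, Subgroup.coe_one]
    rw [← hw]; exact pow_orderOf_eq_one w
  have h3 := Cfsg.Agent.Helper5.mem_zpowers_of_pow_eq_one_of_isCyclic hp h1 h2
  obtain ⟨k, hk⟩ := Subgroup.mem_zpowers_iff.mp h3
  refine Subgroup.mem_zpowers_iff.mpr ⟨k, ?_⟩
  have := congrArg Subtype.val hk
  simpa using this

theorem uniqueOrderP_of_comm {G : Type*} [Group G] [Finite G] {p : ℕ} [hp : Fact p.Prime]
    (hG : IsPGroup p G)
    (hc : ∀ z w : G, orderOf z = p → orderOf w = p → z * w = w * z → w ∈ Subgroup.zpowers z) :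
    UniqueOrderP p G := by
  intro a b ha hb
  haveI : Nontrivial G := by
    refine ⟨⟨a, 1, ?_⟩⟩
    intro h1
    rw [h1, orderOf_one] at ha
    exact hp.out.one_lt.ne ha
  haveI hcn : Nontrivial (Subgroup.center G) := hG.center_nontrivial
  have hdvd : p ∣ Nat.card (Subgroup.center G) := by
    obtain ⟨k, hk⟩ := (hG.to_subgroup (Subgroup.center G)).exists_card_eq
    rw [hk]
    have hk0 : k ≠ 0 := by
      rintro rfl
      rw [pow_zero] at hk
      have := Finite.one_lt_card_iff_nontrivial.mpr hcn
      omega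
    exact dvd_pow_self p hk0
  obtain ⟨z', hz'⟩ := exists_prime_orderOf_dvd_card' p hdvd
  have hzo : orderOf (z' : G) = p := by rw [Subgroup.orderOf_coe, hz']
  have hzc : ∀ x : G, (z' : G) * x = x * z' := fun x => (Subgroup.mem_center_iff.mp z'.2 x).symm
  have key : ∀ c : G, orderOf c = p → Subgroup.zpowers c = Subgroup.zpowers (z' : G) := by
    intro c hc'
    have h1 := hc (z' : G) c hzo hc' (hzc c)
    apply Subgroup.eq_of_le_of_card_ge (Subgroup.zpowers_le.mpr h1)
    rw [Nat.card_zpowers, Nat.card_zpowers, hc', hzo]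
  rw [key a ha, ← key b hb]
  exact Subgroup.mem_zpowers b

theorem uniqueOrderP_sylow
    (hcyc : ∀ A : Subgroup H, (∀ a ∈ A, ∀ b ∈ A, a * b = b * a) → IsCyclic A)
    (p : ℕ) [hp : Fact p.Prime] (P : Sylow p H) : UniqueOrderP p P := by
  apply uniqueOrderP_of_comm P.isPGroup'
  intro z w hz hw hzw
  have h1 : orderOf (z : H) = p := by rw [Subgroup.orderOf_coe]; exact hz
  have h2 : orderOf (w : H) = p := by rw [Subgroup.orderOf_coe]; exact hw
  have h3 : (z : H) * (w : H) = (w : H) * (z : H) := by
    have := congrArg Subtype.val hzw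
    simpa using this
  have h4 := comm_p hcyc hp.out.pos h1 h2 h3
  obtain ⟨k, hk⟩ := Subgroup.mem_zpowers_iff.mp h4
  refine Subgroup.mem_zpowers_iff.mpr ⟨k, ?_⟩
  apply Subtype.ext
  simpa using hk

/-- a perfect group has no nontrivial solvable quotient -/
theorem eq_top_of_solvable_quotient (hperf : commutator H = ⊤) (N : Subgroup H) [N.Normal]
    [Group.IsSolvable (H ⧸ N)] : N = ⊤ := by
  by_contra hN
  haveI : Nontrivial (H ⧸ N) := by
    rw [← not_subsingleton_iff_nontrivial]
    intro hs
    exact hN (QuotientGroup.subgroup_eq_top_of_subsingleton N hs)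
  have h1 : commutator (H ⧸ N) < ⊤ := Group.IsSolvable.commutator_lt_top_of_nontrivial (H ⧸ N)
  apply h1.ne
  rw [commutator_def] at hperf ⊢
  have h2 : (⊤ : Subgroup (H ⧸ N)) = (⊤ : Subgroup H).map (QuotientGroup.mk' N) :=
    (Subgroup.map_top_of_surjective _ (QuotientGroup.mk'_surjective N)).symm
  rw [h2, ← Subgroup.map_commutator, hperf]

/-- an element of order `3` of `SL(2,3)` -/
def u3 : Matrix.SpecialLinearGroup (Fin 2) (ZMod 3) := ⟨!![1, 1; 0, 1], by decide⟩

theorem three_dvd_card_sl23 : 3 ∣ Nat.card (Matrix.SpecialLinearGroup (Fin 2) (ZMod 3)) := by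
  have h1 : u3 ^ 3 = 1 := by decide
  have h2 : u3 ≠ 1 := by decide
  have h3 : orderOf u3 = 3 := orderOf_eq_prime h1 h2
  have h4 := orderOf_dvd_natCard u3
  rwa [h3] at h4

theorem three_dvd_card [Nontrivial H] (hperf : commutator H = ⊤)
    (hcyc : ∀ A : Subgroup H, (∀ a ∈ A, ∀ b ∈ A, a * b = b * a) → IsCyclic A) :
    3 ∣ Nat.card H := by
  haveI : Fact (Nat.Prime 2) := ⟨Nat.prime_two⟩
  by_cases hall : ∀ P : Sylow 2 H, IsCyclic P
  · exfalso
    haveI : IsZGroup H := by
      constructor
      intro p hp P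
      haveI : Fact p.Prime := ⟨hp⟩
      rcases hp.eq_two_or_odd' with h2 | hodd
      · subst h2
        exact hall P
      · exact isCyclic_of_uniqueOrderP_odd hodd P.isPGroup' (uniqueOrderP_sylow hcyc p P)
    have := IsZGroup.commutator_lt (G := H)
    rw [hperf] at this
    exact lt_irrefl _ this
  · push Not at hall
    obtain ⟨T, hT⟩ := hall
    rcases cyclic_or_quaternion_of_uniqueOrderP_two T.isPGroup' (uniqueOrderP_sylow hcyc 2 T)
      with hc | ⟨n, ⟨e⟩⟩
    · exact absurd hc hT
    · have hn : 1 ≤ n := by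
        rcases Nat.eq_zero_or_pos n with h0 | hpos
        · exfalso
          subst h0
          apply hT
          haveI := QuaternionGroup.quaternionGroup_one_isCyclic
          rw [pow_zero] at e
          exact isCyclic_of_surjective e.symm e.symm.surjective
        · exact hpos
      rcases Cfsg.Agent.S0106.result T n hn ⟨e⟩ with hnc | ⟨H', K, hK, ⟨e'⟩⟩
      · exfalso
        obtain ⟨P, N, hNn, hNP⟩ := hnc
        haveI := hNn
        have hidx : N.index = Nat.card P := hNP.symm.index_eq_card
        have hPG : IsPGroup 2 (H ⧸ N) := by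
          obtain ⟨k, hk⟩ := (IsPGroup.iff_card.mp P.isPGroup')
          apply IsPGroup.of_card (n := k)
          rw [← Subgroup.index_eq_card, hidx]
          exact hk
        haveI : Group.IsNilpotent (H ⧸ N) := hPG.isNilpotent
        have hNtop : N = ⊤ := eq_top_of_solvable_quotient hperf N
        have hP1 : Nat.card P = 1 := by
          rw [← hidx, hNtop, Subgroup.index_top]
        have hT1 : Nat.card T = 1 := by
          rw [Sylow.card_eq_multiplicity] at hP1 ⊢
          exact hP1
        apply hT
        haveI : Subsingleton T := (Nat.card_eq_one_iff_unique.mp hT1).1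
        exact isCyclic_of_subsingleton
      · haveI := hK
        have h1 : Nat.card (H' ⧸ K.subgroupOf H') =
            Nat.card (Matrix.SpecialLinearGroup (Fin 2) (ZMod 3)) := Nat.card_congr e'.toEquiv
        have h2 : 3 ∣ Nat.card (H' ⧸ K.subgroupOf H') := by
          rw [h1]; exact three_dvd_card_sl23
        rw [← Subgroup.index_eq_card] at h2
        exact dvd_trans h2 (dvd_trans (Subgroup.index_dvd_card _) (Subgroup.card_subgroup_dvd_card H'))

end

/-- PIECE START -/
theorem exists_order_three_pair {H : Type*} [Group H] [Finite H] [Nontrivial H]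
    (hperf : commutator H = ⊤)
    (hcyc : ∀ A : Subgroup H, (∀ a ∈ A, ∀ b ∈ A, a * b = b * a) → IsCyclic A) :
    ∃ x y : H, orderOf x = 3 ∧ orderOf y = 3 ∧ y ≠ x ∧ y ≠ x⁻¹ := by
  haveI : Fact (Nat.Prime 3) := ⟨Nat.prime_three⟩
  have h3 := three_dvd_card hperf hcyc
  obtain ⟨x, hx⟩ := exists_prime_orderOf_dvd_card' 3 h3
  by_contra hno
  have hall3 : ∀ y : H, orderOf y = 3 → y = x ∨ y = x⁻¹ := by
    intro y hy
    by_contra h
    push Not at h
    exact hno ⟨x, y, hx, hy, h.1, h.2⟩
  -- ⟨x⟩ is normal
  set Z3 : Subgroup H := Subgroup.zpowers x with hZ3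
  have hconj : ∀ g : H, g * x * g⁻¹ ∈ Z3 := by
    intro g
    have ho : orderOf (g * x * g⁻¹) = 3 := by
      have := (MulAut.conj g).orderOf_eq x
      rw [MulAut.conj_apply] at this
      rw [this, hx]
    rcases hall3 _ ho with h | h
    · rw [h]; exact Subgroup.mem_zpowers x
    · rw [h]; exact Subgroup.inv_mem _ (Subgroup.mem_zpowers x)
  haveI hZn : Z3.Normal := by
    constructor
    intro n hn g
    obtain ⟨k, rfl⟩ := Subgroup.mem_zpowers_iff.mp hn
    have : g * x ^ k * g⁻¹ = (g * x * g⁻¹) ^ k := by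
      have h1 := map_zpow (MulAut.conj g) x k
      simpa [MulAut.conj_apply] using h1
    rw [this]
    exact Subgroup.zpow_mem _ (hconj g) k
  -- x is central
  haveI : IsCyclic Z3 := by rw [hZ3]; infer_instance
  let f : H →* (ZMod (Nat.card Z3))ˣ :=
    (IsCyclic.mulAutMulEquiv Z3).toMonoidHom.comp (MulAut.conjNormal (H := Z3))
  have hker : ∀ g : H, f g = 1 := by
    intro g
    have h1 : commutator H ≤ f.ker := Abelianization.commutator_subset_ker f
    rw [hperf] at h1
    exact MonoidHom.mem_ker.mp (h1 (Subgroup.mem_top g))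
  have hxc : ∀ g : H, g * x * g⁻¹ = x := by
    intro g
    have h1 : MulAut.conjNormal (H := Z3) g = 1 := by
      have h2 := hker g
      simp only [f, MonoidHom.comp_apply, MulEquiv.coe_toMonoidHom] at h2
      exact (IsCyclic.mulAutMulEquiv Z3).injective (by rw [h2, map_one])
    have h3 : ((MulAut.conjNormal (H := Z3) g) ⟨x, Subgroup.mem_zpowers x⟩ : H) = g * x * g⁻¹ :=
      MulAut.conjNormal_apply g _
    rw [h1] at h3
    exact h3.symm
  have hxZ : x ∈ Subgroup.center H := by
    rw [Subgroup.mem_center_iff]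
    intro g
    have := hxc g
    calc g * x = (g * x * g⁻¹) * g := by group
      _ = x * g := by rw [this]
  -- transfer into the center
  have hpow : ∀ g : H, g ^ (Subgroup.center H).index = 1 := by
    intro g
    have h1 : commutator H ≤ (MonoidHom.transferCenterPow H).ker := by
      rw [commutator_eq_closure, Subgroup.closure_le]
      rintro _ ⟨a, b, rfl⟩
      rw [SetLike.mem_coe, MonoidHom.mem_ker, map_commutatorElement,
        commutatorElement_eq_one_iff_commute]
      apply Subtype.ext
      exact Subgroup.mem_center_iff.mp (MonoidHom.transferCenterPow H b).2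
        (MonoidHom.transferCenterPow H a : H)
    rw [hperf] at h1
    have h2 := MonoidHom.mem_ker.mp (h1 (Subgroup.mem_top g))
    have h3 := congrArg Subtype.val h2
    simpa using h3
  obtain P : Sylow 3 H := default
  haveI hPc : IsCyclic P :=
    isCyclic_of_uniqueOrderP_odd (by decide) P.isPGroup' (uniqueOrderP_sylow hcyc 3 P)
  obtain ⟨g₀, hg₀⟩ := hPc.exists_ofOrder_eq_natCard
  have hdvd : Nat.card P ∣ (Subgroup.center H).index := by
    rw [← hg₀, ← Subgroup.orderOf_coe]
    exact orderOf_dvd_of_pow_eq_one (hpow g₀)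
  have h3c : 3 ∣ Nat.card (Subgroup.center H) := by
    have : orderOf (⟨x, hxZ⟩ : Subgroup.center H) = 3 := by
      rw [Subgroup.orderOf_mk]; exact hx
    rw [← this]
    exact orderOf_dvd_natCard _
  have hmul : Nat.card (Subgroup.center H) * (Subgroup.center H).index = Nat.card H :=
    (Subgroup.center H).card_mul_index
  rw [Sylow.card_eq_multiplicity] at hdvd
  have hbad : 3 ^ ((Nat.card H).factorization 3 + 1) ∣ Nat.card H := by
    have h5 := Nat.mul_dvd_mul h3c hdvd
    rw [hmul] at h5
    rw [pow_succ, mul_comm]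
    exact h5
  exact Nat.pow_succ_factorization_not_dvd Nat.card_pos.ne' Nat.prime_three hbad

end Cfsg.Agent.Helper20.ZassStart
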