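import Mathlib

set_option autoImplicit false
set_option linter.unusedSectionVars false

/-!
Definitions for S3117 (the automorphism group of a finite 2-group with exactly three involutions
is solvable).  See `plans/S3117_proof.md`.
-/

namespace Cfsg.Agent.Helper20.A3

section Abs

variable {W U : Type*} [Group W] [Group U]

/-- The polar form of a map between groups of exponent `2` (written multiplicatively). -/
def bet (q : W → U) (x y : W) : U := q (x * y) * q x * q y

/-- `q` is a quadratic map: its polar form is multiplicative in the first variable. -/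
def IsQuadMap (q : W → U) : Prop := ∀ x y z : W, bet q (x * y) z = bet q x z * bet q y z

/-- The number of nontrivial singular vectors of `q`. -/
noncomputable def n0 (q : W → U) : ℕ := Nat.card {w : W // w ≠ 1 ∧ q w = 1}

/-- The automorphisms of `W` preserving `q` exactly. -/
def qStab (q : W → U) : Subgroup (MulAut W) where
  carrier := {g | ∀ w, q (g w) = q w}
  one_mem' := fun _ => rfl
  mul_mem' := fun {a b} ha hb w => by
    show q (a (b w)) = q w
    rw [ha, hb]
  inv_mem' := fun {a} ha w => by
    have h := ha (a⁻¹ w)
    have h2 : a (a⁻¹ w) = w := MulEquiv.apply_symm_apply a w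
    rw [h2] at h
    exact h.symm

theorem mem_qStab (q : W → U) (g : MulAut W) : g ∈ qStab q ↔ ∀ w, q (g w) = q w := Iff.rfl

/-- An `𝔽₂`-valued quadratic form on a group of exponent `2` (written multiplicatively). -/
def IsQuad (Q : W → ZMod 2) : Prop :=
  ∀ x y z : W, Q (x * y * z) + Q (x * y) + Q (x * z) + Q (y * z) + Q x + Q y + Q z = 0

/-- The zero set of `Q`. -/
def zer (Q : W → ZMod 2) : Set W := {w | Q w = 0}

theorem mem_zer (Q : W → ZMod 2) (w : W) : w ∈ zer Q ↔ Q w = 0 := Iff.rfl

end Abs

section Glue

variable (C : Type*) [Group C]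

/-- The subgroup generated by the squares of the elements of the Frattini subgroup. -/
def sqF : Subgroup C := Subgroup.closure {y | ∃ f ∈ frattini C, y = f ^ 2}

instance sqF_characteristic : (sqF C).Characteristic := by
  rw [Subgroup.characteristic_iff_map_le]
  intro φ
  unfold sqF
  rw [MonoidHom.map_closure]
  apply Subgroup.closure_mono
  rintro _ ⟨y, ⟨f, hf, rfl⟩, rfl⟩
  refine ⟨φ f, ?_, ?_⟩
  · have h := (frattini_characteristic (G := C)).fixed φ
    have h2 : φ f ∈ (frattini C).map φ.toMonoidHom := Subgroup.mem_map_of_mem _ hf
    have h3 : (frattini C).map φ.toMonoidHom = frattini C := by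
      have := Subgroup.characteristic_iff_map_eq.mp (frattini_characteristic (G := C)) φ
      exact this
    rw [h3] at h2
    exact h2
  · simp

/-- The squaring map `C/Φ(C) → C/Φ(C)²` (via representatives). -/
noncomputable def qq : C ⧸ frattini C → C ⧸ sqF C :=
  fun w => QuotientGroup.mk ((Quotient.out w) ^ 2)

/-- The subgroup of `C/Φ(C)²` generated by the squares. -/
noncomputable def UU : Subgroup (C ⧸ sqF C) := Subgroup.closure (Set.range (qq C))

/-- The squaring map with values in `UU C`. -/
noncomputable def qU : C ⧸ frattini C → ↥(UU C) :=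
  fun w => ⟨qq C w, Subgroup.subset_closure ⟨w, rfl⟩⟩

theorem qU_coe (w : C ⧸ frattini C) : ((qU C w : ↥(UU C)) : C ⧸ sqF C) = qq C w := rfl

end Glue

end Cfsg.Agent.Helper20.A3
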