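import Mathlib
import Cfsg.Prelude.Def_OddOrderLocal
import Cfsg.Agent.Lib.Helper20.BG12A
import Cfsg.Agent.Lib.Helper14.BGUniqO
import Cfsg.Agent.Lib.Helper23.BG10A
import Cfsg.Agent.Lib.Helper7.BG121a
import Cfsg.Agent.Lib.Helper15.SylowIn

set_option autoImplicit false

namespace Cfsg.Agent.Helper20.BG12

open Cfsg
open scoped commutatorElement

universe u

/-! ### the frozen statements used, as hypotheses (exact frozen types, for a fixed `G`) -/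

def H1350 (G : Type u) [Group G] : Prop :=
  ∀ (M : Subgroup G), IsCoatom M →
    Cfsg.IsPiHallOf (Cfsg.sigma M) (Cfsg.sigmaCore M) M ∧ Cfsg.IsPiHall (Cfsg.sigma M) (Cfsg.sigmaCore M) ∧
      ∀ N : Subgroup G, M ≤ Subgroup.normalizer (N : Set G) → Cfsg.IsPiHallOf (Cfsg.sigma M) N M →
        N = Cfsg.sigmaCore M

def H1404 (G : Type u) [Group G] : Prop :=
  ∀ (M : Subgroup G), IsCoatom M → ∀ (p : ℕ) [Fact p.Prime], p ∈ Cfsg.sigma M →
    ∀ (X : Subgroup G), IsPGroup p X → X ≠ ⊥ → X ≤ M →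
    (∀ g : G, X.map (MulAut.conj g).toMonoidHom ≤ M → ∃ m ∈ M, ∃ c ∈ Subgroup.centralizer (X : Set G), g = m * c) ∧
      Subgroup.normalizer (X : Set G) = (M ⊓ Subgroup.normalizer (X : Set G)) ⊔ Subgroup.centralizer (X : Set G)

def H1415 (G : Type u) [Group G] : Prop :=
  ∀ (M : Subgroup G), IsCoatom M → ∀ (E : Subgroup G), Cfsg.IsComplIn E (Cfsg.sigmaCore M) M →
    Group.IsNilpotent ↥⁅E, E⁆ ∧
      (∀ E₁ : Subgroup G, Cfsg.IsPiHallOf (Cfsg.tau1 M) E₁ E → IsCyclic E₁) ∧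
      ∀ E₃ : Subgroup G, Cfsg.IsPiHallOf (Cfsg.tau3 M) E₃ E → IsCyclic E₃ ∧ E₃ ≤ ⁅E, E⁆ ∧ E ≤ Subgroup.normalizer (E₃ : Set G)

def H1416 (G : Type u) [Group G] : Prop :=
  ∀ (M : Subgroup G), IsCoatom M → ∀ (p : ℕ) [Fact p.Prime] (A : Subgroup G),
    (A ≤ M ∧ Cfsg.IsElementaryAbelian p A ∧ Nat.card A = p ^ 2) →
    Subgroup.centralizer (A : Set G) ≤ M ∧
      ((∀ A₀ : Subgroup G, A₀ ≤ A → Nat.card A₀ = p →
          ¬ (Subgroup.normalizer (A₀ : Set G) ≤ M ∧ ∀ L : Subgroup G, IsCoatom L → Subgroup.normalizer (A₀ : Set G) ≤ L → L = M)) →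
        p ∈ Cfsg.sigma M ∧ Cfsg.alphaCore M = ⊥ ∧ Group.IsNilpotent (Cfsg.sigmaCore M))

def H1417 (G : Type u) [Group G] : Prop :=
  ∀ (M : Subgroup G), IsCoatom M → ∀ (p : ℕ) [Fact p.Prime], p ∈ Cfsg.tau2 M → ∀ (A : Subgroup G),
    (A ≤ M ∧ Cfsg.IsElementaryAbelian p A ∧ Nat.card A = p ^ 2) →
    Group.IsNilpotent (Cfsg.sigmaCore M) ∧
      (∀ P : Sylow p M, IsMulCommutative (P : Subgroup M) ∧
        (A ≤ (P : Subgroup M).map M.subtype →
          (∀ x ∈ (P : Subgroup M).map M.subtype, x ^ p = 1 ↔ x ∈ A) ∧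
          ¬ Subgroup.normalizer ((((P : Subgroup M).map M.subtype : Subgroup G)) : Set G) ≤ M)) ∧
      M ≤ Subgroup.normalizer ((Cfsg.sigmaCore M ⊔ A : Subgroup G) : Set G) ∧
      Cfsg.sigmaCore M ⊓ Subgroup.centralizer (A : Set G) = ⊥ ∧
      (∀ Mstar : Subgroup G, IsCoatom Mstar → Mstar ≠ M → A ≤ Mstar → Cfsg.sigmaCore M ⊓ Mstar = ⊥) ∧
      ∃ A₁ : Subgroup G, A₁ ≤ A ∧ Nat.card A₁ = p ∧ Cfsg.sigmaCore M ⊓ Subgroup.centralizer (A₁ : Set G) = ⊥

def H1418 (G : Type u) [Group G] : Prop :=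
  ∀ (M : Subgroup G), IsCoatom M → ∀ (E : Subgroup G), Cfsg.IsComplIn E (Cfsg.sigmaCore M) M →
    ∀ (p : ℕ) [Fact p.Prime], p ∈ Cfsg.tau2 M → ∀ (A : Subgroup G),
    (A ≤ E ∧ Cfsg.IsElementaryAbelian p A ∧ Nat.card A = p ^ 2) →
    (E ≤ Subgroup.normalizer (A : Set G) ∧ ∀ X : Subgroup G, X ≤ E → Nat.card X = p → X ≤ A) ∧
      (Subgroup.centralizer (A : Set G) ≤ M ⊓ Subgroup.normalizer (A : Set G) ∧ M ⊓ Subgroup.normalizer (A : Set G) = E ∧
        ¬ Subgroup.normalizer (A : Set G) ≤ M) ∧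
      ∀ X : Subgroup G, X ≤ A → Nat.card X = p → Cfsg.sigmaCore M ⊓ Subgroup.centralizer (X : Set G) ≠ ⊥ → (Subgroup.centralizer (X : Set G) ≤ M ∧ ∀ L : Subgroup G, IsCoatom L → Subgroup.centralizer (X : Set G) ≤ L → L = M)


section Basic

variable {G : Type u} [Group G] [Finite G]

omit [Finite G] in
theorem odd_of_dvd_card (hG : IsMinSimpleOddOrder G) {q : ℕ} (hq : q.Prime) {Q : Subgroup G}
    (h : q ∣ Nat.card Q) : Odd q := by
  have h1 : q ∣ Nat.card G := h.trans (Subgroup.card_subgroup_dvd_card Q)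
  exact hq.odd_of_ne_two (Cfsg.Agent.Helper14.BGTrans.prime_ne_two_of_dvd hG h1)

omit [Finite G] in
theorem isSolvable_coatom (hG : IsMinSimpleOddOrder G) {M : Subgroup G} (hM : IsCoatom M) :
    Group.IsSolvable ↥M := hG.2.2.2 M hM.1

/-- primes dividing `|E|` are not in `σ(M)` -/
theorem not_mem_sigma_of_dvd_card_compl {M E : Subgroup G}
    (hhall : IsPiHallOf (sigma M) (sigmaCore M) M) (hE : IsComplIn E (sigmaCore M) M)
    {q : ℕ} (hq : q.Prime) (h : q ∣ Nat.card E) : q ∉ sigma M := by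
  intro hqσ
  have := hhall.2.2 q hq hqσ
  rw [relIndex_eq_card_of_isComplIn hE] at this
  exact this h

theorem coprime_card_compl {M E : Subgroup G}
    (hhall : IsPiHallOf (sigma M) (sigmaCore M) M) (hE : IsComplIn E (sigmaCore M) M) :
    (Nat.card E).Coprime (Nat.card (sigmaCore M)) := by
  apply Nat.Coprime.symm
  apply Nat.coprime_of_dvd
  intro q hq h1 h2
  exact not_mem_sigma_of_dvd_card_compl hhall hE hq h2 (hhall.2.1 q hq h1)

/-- `q`-subgroups of `M` are abelian for `q ∉ σ(M)` -/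
theorem comm_of_pgroup_not_sigma (hG : IsMinSimpleOddOrder G) {M : Subgroup G} (hM : IsCoatom M)
    (hασ : alpha M ⊆ sigma M) (h1417 : H1417 G) {q : ℕ} [Fact q.Prime] (hq : q ∉ sigma M)
    {Q : Subgroup G} (hQ : IsPGroup q Q) (hQM : Q ≤ M) : ∀ a ∈ Q, ∀ b ∈ Q, a * b = b * a := by
  have hqp : q.Prime := Fact.out
  by_cases hQ1 : Q = ⊥
  · intro a ha b hb
    rw [hQ1, Subgroup.mem_bot] at ha hb
    rw [ha, hb]
  have hdvd : q ∣ Nat.card Q := by
    obtain ⟨k, hk⟩ := hQ.exists_card_eq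
    have hk0 : k ≠ 0 := by
      rintro rfl
      rw [pow_zero] at hk
      exact hQ1 (Subgroup.card_eq_one.mp hk)
    rw [hk]
    exact dvd_pow_self q hk0
  have hodd : Odd q := odd_of_dvd_card hG hqp hdvd
  have hr2 : PRankLE q 2 ↥M := by
    by_contra h
    exact hq (hασ ⟨hqp, h⟩)
  by_cases hr1 : PRankLE q 1 ↥M
  · have h1 : PRankLE q 1 ↥Q :=
      Cfsg.Agent.Helper7.BG12.pRankLE_of_injective (Subgroup.inclusion hQM)
        (Subgroup.inclusion_injective hQM) hr1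
    have hc : IsCyclic ↥Q := Cfsg.Agent.Helper7.BG12.isCyclic_of_pRankLE_one hodd hQ h1
    intro a ha b hb
    letI := @IsCyclic.commGroup ↥Q _ hc
    have h2 : (⟨a, ha⟩ : ↥Q) * ⟨b, hb⟩ = ⟨b, hb⟩ * ⟨a, ha⟩ := mul_comm _ _
    exact congrArg Subtype.val h2
  · have hτ : q ∈ tau2 M := ⟨hqp, hq, hr2, hr1⟩
    obtain ⟨A, hAM, hAe, hAc⟩ := Cfsg.Agent.Helper23.BG10.exists_elemAb_sq hr2 hr1
    have h2 := (h1417 M hM q hτ A ⟨hAM, hAe, hAc⟩).2.1
    obtain ⟨P, hP⟩ := (hQ.comap_subtype (K := M)).exists_le_sylow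
    intro a ha b hb
    have ha' : (⟨a, hQM ha⟩ : ↥M) ∈ (P : Subgroup ↥M) := hP (Subgroup.mem_subgroupOf.mpr ha)
    have hb' : (⟨b, hQM hb⟩ : ↥M) ∈ (P : Subgroup ↥M) := hP (Subgroup.mem_subgroupOf.mpr hb)
    have h3 := (isMulCommutative_iff.mp (h2 P).1) ⟨_, ha'⟩ ⟨_, hb'⟩
    have h4 := congrArg (fun z : ↥(P : Subgroup ↥M) => ((z : ↥M) : G)) h3
    exact h4

/-- part (a): nilpotent `σ(M)'`-subgroups of `M` are abelian -/
theorem partA (hG : IsMinSimpleOddOrder G) {M : Subgroup G} (hM : IsCoatom M)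
    (hασ : alpha M ⊆ sigma M) (h1417 : H1417 G) {N : Subgroup G} (hNM : N ≤ M)
    (hnil : Group.IsNilpotent ↥N)
    (hp : ∀ p : ℕ, p.Prime → p ∣ Nat.card N → p ∉ sigma M) : IsMulCommutative ↥N := by
  apply isMulCommutative_of_isNilpotent_of_sylow hnil
  intro q hqf S
  have hqp : q.Prime := Fact.out
  rw [isMulCommutative_iff]
  rintro ⟨a, ha⟩ ⟨b, hb⟩
  by_cases hS : (S : Subgroup ↥N) = ⊥
  · rw [hS, Subgroup.mem_bot] at ha hb
    subst ha; subst hb; rfl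
  have hdvd : q ∣ Nat.card ↥N := by
    have h1 : Nat.card (S : Subgroup ↥N) ∣ Nat.card ↥N := Subgroup.card_subgroup_dvd_card _
    refine Dvd.dvd.trans ?_ h1
    obtain ⟨k, hk⟩ := S.2.exists_card_eq
    have hk0 : k ≠ 0 := by
      rintro rfl
      rw [pow_zero] at hk
      exact hS (Subgroup.card_eq_one.mp hk)
    rw [hk]
    exact dvd_pow_self q hk0
  have hq : q ∉ sigma M := hp q hqp hdvd
  have hQ : IsPGroup q ↥((S : Subgroup ↥N).map N.subtype) := S.2.map N.subtype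
  have hQM : (S : Subgroup ↥N).map N.subtype ≤ M := (Subgroup.map_subtype_le _).trans hNM
  have h := comm_of_pgroup_not_sigma hG hM hασ h1417 hq hQ hQM (a : G) ⟨a, ha, rfl⟩ (b : G)
    ⟨b, hb, rfl⟩
  apply Subtype.ext
  apply Subtype.ext
  exact h

/-- part (b): `E'` is abelian -/
theorem partB (hG : IsMinSimpleOddOrder G) {M : Subgroup G} (hM : IsCoatom M)
    (hασ : alpha M ⊆ sigma M) (h1350 : H1350 G) (h1415 : H1415 G) (h1417 : H1417 G)
    {E : Subgroup G} (hE : IsComplIn E (sigmaCore M) M) : IsMulCommutative ↥⁅E, E⁆ := by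
  have hle : ⁅E, E⁆ ≤ E := by
    rw [Subgroup.commutator_le]
    intro a ha b hb
    exact E.mul_mem (E.mul_mem (E.mul_mem ha hb) (E.inv_mem ha)) (E.inv_mem hb)
  apply partA hG hM hασ h1417 (hle.trans hE.1) (h1415 M hM E hE).1
  intro q hq hdvd
  apply not_mem_sigma_of_dvd_card_compl (h1350 M hM).1 hE hq
  exact hdvd.trans (Subgroup.card_dvd_of_le hle)

/-- part (c): for `p ∈ σ(M)`, normalizers of noncyclic `p`-subgroups of `M` lie in `M` -/
theorem partC (hG : IsMinSimpleOddOrder G) {M : Subgroup G} (hM : IsCoatom M)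
    (h1404 : H1404 G) (h1416 : H1416 G) {p : ℕ} {P : Subgroup G} (hp : p ∈ sigma M)
    (hP : IsPGroup p ↥P) (hPM : P ≤ M) (hnc : ¬ IsCyclic ↥P) :
    Subgroup.normalizer (P : Set G) ≤ M := by
  haveI : Fact p.Prime := ⟨hp.1⟩
  have hp2 : p ≠ 2 := by
    have h1 : p ∣ Nat.card G := hp.2.1.trans (Subgroup.card_subgroup_dvd_card M)
    exact Cfsg.Agent.Helper14.BGTrans.prime_ne_two_of_dvd hG h1
  obtain ⟨A, hAP, -, hAe, hAc⟩ := Cfsg.Agent.Helper14.BGUniq.exists_normal_elemAb_sq hp2 hP hnc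
  have hCA : Subgroup.centralizer (A : Set G) ≤ M := (h1416 M hM p A ⟨hAP.trans hPM, hAe, hAc⟩).1
  have hCP : Subgroup.centralizer (P : Set G) ≤ M :=
    (Subgroup.centralizer_le hAP).trans hCA
  have hP1 : P ≠ ⊥ := by
    rintro rfl
    apply hnc
    infer_instance
  have h := (h1404 M hM p hp P hP hP1 hPM).2
  rw [h]
  exact sup_le inf_le_left hCP

end Basic

end Cfsg.Agent.Helper20.BG12
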