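import Mathlib
import Cfsg.Prelude.Def_OddOrderLocal
import Cfsg.Agent.Lib.Helper20.BG12B

set_option autoImplicit false

namespace Cfsg.Agent.Helper20.BG12

open Cfsg
open scoped commutatorElement

universe u

section PartD

variable {G : Type u} [Group G]

theorem mem_of_pow_mem_of_coprime {K : Subgroup G} {x : G} {m n : ℕ} (h : m.Coprime n)
    (hm : x ^ m ∈ K) (hn : x ^ n ∈ K) : x ∈ K := by
  obtain ⟨u, v, huv⟩ := Nat.isCoprime_iff_coprime.mpr h
  have h1 : x = (x ^ m) ^ u * (x ^ n) ^ v := by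
    rw [← zpow_natCast x m, ← zpow_natCast x n, ← zpow_mul, ← zpow_mul, ← zpow_add,
      mul_comm (m : ℤ) u, mul_comm (n : ℤ) v, huv, zpow_one]
  rw [h1]
  exact K.mul_mem (K.zpow_mem hm u) (K.zpow_mem hn v)

theorem isElementaryAbelian_map_conj {p : ℕ} {A : Subgroup G} (hA : IsElementaryAbelian p A)
    (g : G) : IsElementaryAbelian p (A.map (MulAut.conj g).toMonoidHom) := by
  refine ⟨?_, ?_⟩
  · haveI := hA.1
    exact Subgroup.map_isMulCommutative A _
  · rintro _ ⟨a, ha, rfl⟩
    rw [← map_pow, hA.2 a ha, map_one]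

variable [Finite G]

/-- an elementary abelian subgroup of order `p ^ 2` inside a given complement of `M_σ` -/
theorem exists_elemAb_sq_le_compl {M E : Subgroup G}
    (hhall : IsPiHallOf (sigma M) (sigmaCore M) M) (hE : IsComplIn E (sigmaCore M) M)
    {p : ℕ} [Fact p.Prime] (hp : p ∈ tau2 M) :
    ∃ A : Subgroup G, A ≤ E ∧ IsElementaryAbelian p A ∧ Nat.card A = p ^ 2 := by
  have hpp : p.Prime := Fact.out
  obtain ⟨A₀, hA₀M, hA₀e, hA₀c⟩ := Cfsg.Agent.Helper23.BG10.exists_elemAb_sq hp.2.2.1 hp.2.2.2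
  obtain ⟨T, hT⟩ := Cfsg.Agent.Helper15.exists_isSylowIn (p := p) E
  have hTM : Cfsg.Agent.Helper15.IsSylowIn p T M := by
    apply Cfsg.Agent.Helper15.isSylowIn_of_not_dvd_relIndex hT.isPGroup (hT.le.trans hE.1)
    rw [← Subgroup.relIndex_mul_relIndex T E M hT.le hE.1]
    intro hdvd
    rcases (Nat.Prime.dvd_mul hpp).mp hdvd with h | h
    · exact hT.not_dvd_relIndex h
    · have h1 := card_mul_of_isComplIn hE
      have h2 : E.relIndex M * Nat.card E = Nat.card M := by
        have := Subgroup.relIndex_mul_relIndex ⊥ E M bot_le hE.1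
        rw [Subgroup.relIndex_bot_left, Subgroup.relIndex_bot_left] at this
        rw [mul_comm]; exact this
      have h3 : E.relIndex M = Nat.card (sigmaCore M) := by
        have : E.relIndex M * Nat.card E = Nat.card (sigmaCore M) * Nat.card E := by
          rw [h2, ← h1, mul_comm]
        exact Nat.eq_of_mul_eq_mul_right Nat.card_pos this
      rw [h3] at h
      exact hp.2.1 (hhall.2.1 p hpp h)
  have hA₀p : IsPGroup p ↥A₀ := Cfsg.Agent.Helper14.BGUniq.isPGroup_of_isElementaryAbelian hA₀e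
  obtain ⟨T₀, hA₀T₀, hT₀⟩ := Cfsg.Agent.Helper15.exists_isSylowIn_ge hA₀p hA₀M
  obtain ⟨k, hk, hkT⟩ := hT₀.exists_conj hTM
  refine ⟨A₀.map (MulAut.conj k).toMonoidHom, ?_, isElementaryAbelian_map_conj hA₀e k, ?_⟩
  · refine le_trans ?_ hT.le
    rw [← hkT]
    exact Subgroup.map_mono hA₀T₀
  · rw [Cfsg.Agent.Helper15.card_map_conj]; exact hA₀c

/-- part (d): `τ₂`-elements of `M̂_σ` -/
theorem partD (hG : IsMinSimpleOddOrder G) {M : Subgroup G} (hM : IsCoatom M)
    (hασ : alpha M ⊆ sigma M) (h1350 : H1350 G) (h1417 : H1417 G) (h1418 : H1418 G)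
    {E : Subgroup G} (hE : IsComplIn E (sigmaCore M) M) {x : G} (hxM : x ∈ M) (hx1 : x ≠ 1)
    (hτ : ∀ p : ℕ, p.Prime → p ∣ orderOf x → p ∈ tau2 M) (hxσ : x ∈ sigmaHat M) :
    Subgroup.centralizer ({x} : Set G) ≤ M ∧
      ∀ L : Subgroup G, IsCoatom L → Subgroup.centralizer ({x} : Set G) ≤ L → L = M := by
  obtain ⟨-, y, hyσ, hy1, hxy⟩ := hxσ
  have hhall := (h1350 M hM).1
  have hsolv : Group.IsSolvable ↥M := isSolvable_coatom hG hM
  set n := orderOf x with hn
  have hn0 : n ≠ 0 := (orderOf_pos x).ne'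
  have hn1 : n ≠ 1 := by
    intro h
    exact hx1 (orderOf_eq_one_iff.mp h)
  set p := n.minFac with hp
  have hpp : p.Prime := Nat.minFac_prime hn1
  haveI : Fact p.Prime := ⟨hpp⟩
  have hpn : p ∣ n := Nat.minFac_dvd n
  have hpτ : p ∈ tau2 M := hτ p hpp hpn
  -- a complement containing `x`
  have hcopx : (Nat.card (Subgroup.zpowers x)).Coprime (Nat.card (sigmaCore M)) := by
    rw [Nat.card_zpowers]
    apply Nat.coprime_of_dvd
    intro q hq h1 h2
    exact (hτ q hq h1).2.1 (hhall.2.1 q hq h2)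
  obtain ⟨E', hE', hxE', -⟩ := exists_isComplIn_ge hsolv hE (coprime_card_compl hhall hE)
    (show Subgroup.zpowers x ≤ M by rw [Subgroup.zpowers_le]; exact hxM) hcopx
  have hxE : x ∈ E' := hxE' (Subgroup.mem_zpowers x)
  obtain ⟨A, hAE, hAe, hAc⟩ := exists_elemAb_sq_le_compl hhall hE' hpτ
  have hAM : A ≤ M := hAE.trans hE'.1
  obtain ⟨⟨hEN, hXA⟩, -, h18c⟩ := h1418 M hM E' hE' p hpτ A ⟨hAE, hAe, hAc⟩
  obtain ⟨-, -, -, -, h17e, -⟩ := h1417 M hM p hpτ A ⟨hAM, hAe, hAc⟩
  -- the subgroup of order `p` of `⟨x⟩`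
  set z := x ^ (n / p) with hz
  have hzo : orderOf z = p := orderOf_pow_orderOf_div hn0 hpn
  set X := Subgroup.zpowers z with hX
  have hXc : Nat.card X = p := by rw [Nat.card_zpowers, hzo]
  have hzE : z ∈ E' := E'.pow_mem hxE _
  have hXE : X ≤ E' := by rw [hX, Subgroup.zpowers_le]; exact hzE
  have hXA' : X ≤ A := hXA X hXE hXc
  have hcomm_x : ∀ w ∈ X, x * w = w * x := by
    intro w hw
    obtain ⟨j, rfl⟩ := Subgroup.mem_zpowers_iff.mp hw
    exact ((Commute.refl x).pow_right _).zpow_right j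
  have hcomm_y : ∀ w ∈ X, w * y = y * w := by
    intro w hw
    obtain ⟨j, rfl⟩ := Subgroup.mem_zpowers_iff.mp hw
    have : Commute x y := hxy
    exact (this.pow_left _).zpow_left j
  have hne : sigmaCore M ⊓ Subgroup.centralizer (X : Set G) ≠ ⊥ := by
    intro h
    have hy : y ∈ sigmaCore M ⊓ Subgroup.centralizer (X : Set G) :=
      ⟨hyσ, Subgroup.mem_centralizer_iff.mpr hcomm_y⟩
    rw [h, Subgroup.mem_bot] at hy
    exact hy1 hy
  obtain ⟨hCXM, -⟩ := h18c X hXA' hXc hne
  have hCle : Subgroup.centralizer ({x} : Set G) ≤ Subgroup.centralizer (X : Set G) := by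
    intro g hg
    rw [Subgroup.mem_centralizer_iff] at hg ⊢
    have hgx : x * g = g * x := hg x (Set.mem_singleton x)
    intro w hw
    obtain ⟨j, rfl⟩ := Subgroup.mem_zpowers_iff.mp hw
    have : Commute x g := hgx
    exact (this.pow_left _).zpow_left j
  refine ⟨hCle.trans hCXM, ?_⟩
  -- uniqueness: `x` centralizes `A`
  have hxCA : x ∈ Subgroup.centralizer (A : Set G) := by
    obtain ⟨k, n', hn'p, hnk⟩ := Nat.exists_eq_pow_mul_and_not_dvd hn0 p hpp.ne_one
    have hn'n : n' ∣ n := ⟨p ^ k, by rw [hnk, mul_comm]⟩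
    have hcop1 : n'.Coprime p := ((Nat.Prime.coprime_iff_not_dvd hpp).mpr hn'p).symm
    have hcop2 : n'.Coprime (p - 1) := by
      apply Nat.coprime_of_dvd
      intro q hq h1 h2
      have h3 : p ≤ q := Nat.minFac_le_of_dvd hq.two_le (h1.trans hn'n)
      have h4 : q ≤ p - 1 := Nat.le_of_dvd (Nat.sub_pos_of_lt hpp.one_lt) h2
      have := hpp.one_lt
      omega
    apply mem_of_pow_mem_of_coprime (m := n') (n := p ^ k) (Nat.Coprime.pow_right k hcop1)
    · -- the `p`-part
      set u := x ^ n' with hu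
      have huE : u ∈ E' := E'.pow_mem hxE _
      have hup : IsPGroup p ↥(Subgroup.zpowers u) := by
        apply IsPGroup.of_card (n := (orderOf u).factorization p)
        rw [Nat.card_zpowers]
        have h1 : u ^ (p ^ k) = 1 := by
          rw [hu, ← pow_mul, mul_comm, ← hnk, hn, pow_orderOf_eq_one]
        obtain ⟨j, -, hj⟩ := (Nat.dvd_prime_pow hpp).mp (orderOf_dvd_of_pow_eq_one h1)
        rw [hj, hpp.factorization_pow]
        simp
      have hAp : IsPGroup p ↥A := Cfsg.Agent.Helper14.BGUniq.isPGroup_of_isElementaryAbelian hAe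
      have hsup : IsPGroup p ↥(Subgroup.zpowers u ⊔ A) := by
        apply IsPGroup.to_sup_of_normal_right' hup hAp
        rw [Subgroup.zpowers_le]
        exact hEN huE
      have hsupM : Subgroup.zpowers u ⊔ A ≤ M := by
        apply sup_le _ hAM
        rw [Subgroup.zpowers_le]
        exact hE'.1 huE
      have hcomm := comm_of_pgroup_not_sigma hG hM hασ h1417 hpτ.2.1 hsup hsupM
      rw [Subgroup.mem_centralizer_iff]
      intro a ha
      exact hcomm a (le_sup_right (a := Subgroup.zpowers u) ha) u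
        (le_sup_left (b := A) (Subgroup.mem_zpowers u))
    · -- the `p'`-part
      set h := x ^ (p ^ k) with hh
      have hhE : h ∈ E' := E'.pow_mem hxE _
      have hho : orderOf h ∣ n' := by
        apply orderOf_dvd_of_pow_eq_one
        rw [hh, ← pow_mul, ← hnk, hn, pow_orderOf_eq_one]
      have hcX : ∀ w ∈ X, h * w = w * h := by
        intro w hw
        have : Commute x w := hcomm_x w hw
        exact this.pow_left _
      have := centralizes_of_coprime hAe hAc hXA' hXc (hEN hhE) hcX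
        (Nat.Coprime.coprime_dvd_left hho hcop1) (Nat.Coprime.coprime_dvd_left hho hcop2)
      rw [Subgroup.mem_centralizer_iff]
      intro a ha
      exact (this a ha).symm
  intro L hL hCL
  by_contra hLM
  have hAL : A ≤ L := by
    intro a ha
    apply hCL
    rw [Subgroup.mem_centralizer_iff]
    rintro _ rfl
    exact ((Subgroup.mem_centralizer_iff.mp hxCA) a ha).symm
  have hyL : y ∈ L := by
    apply hCL
    rw [Subgroup.mem_centralizer_iff]
    rintro _ rfl
    exact hxy
  have h := h17e L hL hLM hAL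
  have hy : y ∈ sigmaCore M ⊓ L := ⟨hyσ, hyL⟩
  rw [h, Subgroup.mem_bot] at hy
  exact hy1 hy

end PartD

end Cfsg.Agent.Helper20.BG12
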