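import Mathlib
import Cfsg.Agent.Lib.Helper12.LSLDefs

set_option autoImplicit false

/-!
# S2332 piece GEOM: the Levi type subgroup `Lp` and generation by row and column groups
-/

namespace Cfsg.Agent.Helper12.LSL

open Matrix Cfsg.Agent.Helper12

variable {F : Type*} [Field F] {ι : Type*} [Fintype ι] [DecidableEq ι]

/-- the formula for the `Lp`-part on all vectors -/
theorem geom_Lp_part_all (i₀ : ι) (g : Matrix.SpecialLinearGroup ι F)
    (hg : g • (Pi.single i₀ 1 : ι → F) = Pi.single i₀ 1) :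
    ∃ l : Lp F i₀, ∀ v : ι → F,
      l.1 • v = g • v + (v i₀ - (g • v) i₀) • (Pi.single i₀ 1 : ι → F) := by
  have hginv : g⁻¹ • (Pi.single i₀ 1 : ι → F) = Pi.single i₀ 1 := by
    rw [inv_smul_eq_iff, hg]
  have hmem : (fun j => (g⁻¹).1 i₀ j - (Pi.single i₀ 1 : ι → F) j) ∈ Phi F i₀ := by
    rw [mem_Phi_iff]
    have h1 := congrFun hginv i₀
    rw [Matrix.SpecialLinearGroup.smul_def, smul_eq_mulVec, mulVec_single_one] at h1
    simp only [Matrix.col_apply] at h1
    rw [h1]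
    simp
  have hdot : ∀ w : ι → F, (fun j => (g⁻¹).1 i₀ j - (Pi.single i₀ 1 : ι → F) j) ⬝ᵥ w
      = (g⁻¹ • w) i₀ - w i₀ := by
    intro w
    rw [Matrix.SpecialLinearGroup.smul_def, smul_eq_mulVec]
    have : (fun j => (g⁻¹).1 i₀ j - (Pi.single i₀ 1 : ι → F) j)
        = (fun j => (g⁻¹).1 i₀ j) - (Pi.single i₀ 1 : ι → F) := rfl
    rw [this, sub_dotProduct, single_dotProduct, one_mul]
    rfl
  have hlv : ∀ v : ι → F, (xPhi i₀ ⟨_, hmem⟩ * g) • v
      = g • v + (v i₀ - (g • v) i₀) • (Pi.single i₀ 1 : ι → F) := by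
    intro v
    rw [mul_smul, xPhi_smul, hdot, inv_smul_smul]
  refine ⟨⟨xPhi i₀ ⟨_, hmem⟩ * g, ?_, ?_⟩, hlv⟩
  · rw [hlv, hg]; simp
  · intro v
    rw [hlv]
    simp

/-- PIECE GEOM (1): the `Lp`-part of an element fixing `e_{i₀}`. -/
theorem exists_Lp_part (i₀ : ι) (g : Matrix.SpecialLinearGroup ι F)
    (hg : g • (Pi.single i₀ 1 : ι → F) = Pi.single i₀ 1) :
    ∃ l : Lp F i₀, ∀ b : Phi F i₀,
      (l • b).1 = g • b.1 - (g • b.1) i₀ • (Pi.single i₀ 1 : ι → F) := by
  obtain ⟨l, hl⟩ := geom_Lp_part_all i₀ g hg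
  refine ⟨l, fun b => ?_⟩
  rw [Lp_smul_val, hl, Phi_apply, zero_sub, neg_smul, sub_eq_add_neg]

omit [Fintype ι] [DecidableEq ι] in
theorem geom_li_pair (i₀ : ι) [DecidableEq ι] (b : NZ F i₀) :
    LinearIndependent F ![(Pi.single i₀ 1 : ι → F), b.1.1] := by
  rw [LinearIndependent.pair_iff]
  intro s t hst
  have h0 := congrFun hst i₀
  simp only [Pi.add_apply, Pi.smul_apply, Pi.single_eq_same, smul_eq_mul, mul_one, Pi.zero_apply,
    Phi_apply, mul_zero, add_zero] at h0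
  refine ⟨h0, ?_⟩
  rw [h0, zero_smul, zero_add] at hst
  rcases smul_eq_zero.mp hst with h | h
  · exact h
  · exact (b.2 (Subtype.ext h)).elim

/-- PIECE GEOM (2): `Lp` is transitive on the nonzero vectors of the hyperplane. -/
theorem Lp_transitive (hι : 3 ≤ Fintype.card ι) (i₀ : ι) (b b' : NZ F i₀) :
    ∃ l : Lp F i₀, l • b = b' := by
  obtain ⟨g, hg⟩ := exists_SL_smul_eq ![(Pi.single i₀ 1 : ι → F), b.1.1]
    ![(Pi.single i₀ 1 : ι → F), b'.1.1] (geom_li_pair i₀ b) (geom_li_pair i₀ b')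
    (by rw [Fintype.card_fin]; omega)
  have hg0 : g • (Pi.single i₀ 1 : ι → F) = Pi.single i₀ 1 := hg 0
  have hg1 : g • b.1.1 = b'.1.1 := hg 1
  obtain ⟨l, hl⟩ := exists_Lp_part i₀ g hg0
  refine ⟨l, ?_⟩
  apply Subtype.ext
  apply Subtype.ext
  rw [NZ_smul_val, hl, hg1, Phi_apply, zero_smul, sub_zero]

omit [Fintype ι] [DecidableEq ι] in
theorem geom_li_triple (i₀ : ι) [DecidableEq ι] (x y : NZ F i₀)
    (hy : ∀ c : F, y.1.1 ≠ c • x.1.1) :
    LinearIndependent F ![(Pi.single i₀ 1 : ι → F), x.1.1, y.1.1] := by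
  rw [Fintype.linearIndependent_iff]
  intro c hc
  rw [Fin.sum_univ_three] at hc
  simp only [Matrix.cons_val_zero, Matrix.cons_val_one, Matrix.cons_val_two, Matrix.head_cons,
    Matrix.tail_cons] at hc
  have h0 := congrFun hc i₀
  simp only [Pi.add_apply, Pi.smul_apply, Pi.single_eq_same, smul_eq_mul, mul_one, Pi.zero_apply,
    Phi_apply, mul_zero, add_zero] at h0
  rw [h0, zero_smul, zero_add] at hc
  have h2 : c 2 = 0 := by
    by_contra hne
    apply hy (-(c 2)⁻¹ * c 1)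
    have h3 : c 2 • y.1.1 = -(c 1 • x.1.1) := eq_neg_of_add_eq_zero_right hc
    have h4 : y.1.1 = (c 2)⁻¹ • (c 2 • y.1.1) := by
      rw [smul_smul, inv_mul_cancel₀ hne, one_smul]
    rw [h4, h3, smul_neg, smul_smul, neg_mul, neg_smul]
  rw [h2, zero_smul, add_zero] at hc
  have h1 : c 1 = 0 := by
    rcases smul_eq_zero.mp hc with h | h
    · exact h
    · exact (x.2 (Subtype.ext h)).elim
  intro i
  fin_cases i
  · exact h0
  · exact h1
  · exact h2

/-- PIECE GEOM (3): the stabiliser in `Lp` of a nonzero vector `x` of the hyperplane is transitive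
on the vectors of the hyperplane outside the line of `x`. -/
theorem Lp_two_point (hι : 4 ≤ Fintype.card ι) (i₀ : ι) (x y y' : NZ F i₀)
    (hy : ∀ c : F, y.1.1 ≠ c • x.1.1) (hy' : ∀ c : F, y'.1.1 ≠ c • x.1.1) :
    ∃ l : Lp F i₀, l • x = x ∧ l • y = y' := by
  obtain ⟨g, hg⟩ := exists_SL_smul_eq ![(Pi.single i₀ 1 : ι → F), x.1.1, y.1.1]
    ![(Pi.single i₀ 1 : ι → F), x.1.1, y'.1.1] (geom_li_triple i₀ x y hy)
    (geom_li_triple i₀ x y' hy') (by rw [Fintype.card_fin]; omega)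
  have hg0 : g • (Pi.single i₀ 1 : ι → F) = Pi.single i₀ 1 := hg 0
  have hg1 : g • x.1.1 = x.1.1 := hg 1
  have hg2 : g • y.1.1 = y'.1.1 := hg 2
  obtain ⟨l, hl⟩ := exists_Lp_part i₀ g hg0
  refine ⟨l, ?_, ?_⟩
  · apply Subtype.ext
    apply Subtype.ext
    rw [NZ_smul_val, hl, hg1, Phi_apply, zero_smul, sub_zero]
  · apply Subtype.ext
    apply Subtype.ext
    rw [NZ_smul_val, hl, hg2, Phi_apply, zero_smul, sub_zero]

/-- PIECE GEOM (4): the row group and the column group generate `SL ι F`. -/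
theorem eq_top_of_xPhi_yPhi (i₀ : ι) (H : Subgroup (Matrix.SpecialLinearGroup ι F))
    (hx : ∀ φ : Phi F i₀, xPhi i₀ φ ∈ H) (hy : ∀ b : Phi F i₀, yPhi i₀ b ∈ H) : H = ⊤ := by
  rcases subsingleton_or_nontrivial ι with hs | hn
  · rw [eq_top_iff]
    intro g _
    have : g = 1 := Subsingleton.elim _ _
    rw [this]; exact H.one_mem
  · have hrow : ∀ (j : ι) (h : i₀ ≠ j) (c : F),
        Matrix.SpecialLinearGroup.transvection h c ∈ H := by
      intro j h c
      obtain ⟨φ, hφ, _⟩ := transvection_eq_xPhi (F := F) h c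
      rw [hφ]; exact hx φ
    have hcol : ∀ (i : ι) (h : i ≠ i₀) (c : F),
        Matrix.SpecialLinearGroup.transvection h c ∈ H := by
      intro i h c
      obtain ⟨b, hb, _⟩ := transvection_eq_yPhi (F := F) h c
      rw [hb]; exact hy b
    apply eq_top_of_forall_transvection
    intro i j hij c
    by_cases hi : i = i₀
    · subst hi
      exact hrow j hij c
    by_cases hj : j = i₀
    · subst hj
      exact hcol i hij c
    have hj' : i₀ ≠ j := fun h => hj h.symm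
    have := tv_comm_rel (K := F) hi hj' hij c 1
    rw [mul_one] at this
    rw [← this]
    exact H.mul_mem (H.mul_mem (H.mul_mem (hcol i hi c) (hrow j hj' 1)) (hcol i hi (-c)))
      (hrow j hj' (-1))

end Cfsg.Agent.Helper12.LSL
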