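import Mathlib

set_option autoImplicit false

/-!
# S2332 piece PERM: `perm_submodule_bound`

An invariant subspace of a permutation module with a 2-transitive block structure is made of
constant functions or has dimension at least (number of blocks) - 1.
-/

namespace Cfsg.Agent.Helper12.LSL

open scoped Classical in
/-- orbit average: summing `φ (h⁻¹ • y)` over the stabiliser `H` of `x₀`, which is transitive on
the complement `C` of the block of `x₀`. -/
theorem perm_orbit_avg {Γ X P : Type*} [Group Γ] [Finite Γ] [Fintype X]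
    [MulAction Γ X] (π : X → P)
    (hπ2 : ∀ (γ : Γ) (x y : X), π x = π y → π (γ • x) = π (γ • y))
    (h2 : ∀ x y y' : X, π y ≠ π x → π y' ≠ π x → ∃ γ : Γ, γ • x = x ∧ γ • y = y')
    (x₀ y : X) (hy : π y ≠ π x₀) (φ : X → ℂ)
    [Fintype ↥(MulAction.stabilizer Γ x₀)] :
    ((Finset.univ.filter (fun c => π c ≠ π x₀)).card : ℂ) *
        ∑ h : ↥(MulAction.stabilizer Γ x₀), φ ((h : Γ)⁻¹ • y)
      = (Fintype.card ↥(MulAction.stabilizer Γ x₀) : ℂ) *
        ∑ c ∈ Finset.univ.filter (fun c => π c ≠ π x₀), φ c := by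
  have e1 : ∀ c ∈ Finset.univ.filter (fun c => π c ≠ π x₀),
      ∑ h : ↥(MulAction.stabilizer Γ x₀), φ ((h : Γ)⁻¹ • c)
        = ∑ h : ↥(MulAction.stabilizer Γ x₀), φ ((h : Γ)⁻¹ • y) := by
    intro c hc
    have hc' : π c ≠ π x₀ := (Finset.mem_filter.mp hc).2
    obtain ⟨γ, hγ0, hγy⟩ := h2 x₀ y c hy hc'
    let g : ↥(MulAction.stabilizer Γ x₀) := ⟨γ, MulAction.mem_stabilizer_iff.mpr hγ0⟩
    rw [← Equiv.sum_comp (Equiv.mulLeft g)]
    refine Finset.sum_congr rfl (fun h _ => ?_)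
    congr 1
    simp only [Equiv.coe_mulLeft, Subgroup.coe_mul, mul_inv_rev]
    rw [← hγy, mul_smul]
    congr 1
    exact inv_smul_smul γ y
  have e2 : ∀ h : ↥(MulAction.stabilizer Γ x₀),
      ∑ c ∈ Finset.univ.filter (fun c => π c ≠ π x₀), φ ((h : Γ)⁻¹ • c)
        = ∑ c ∈ Finset.univ.filter (fun c => π c ≠ π x₀), φ c := by
    intro h
    have hh : (h : Γ)⁻¹ • x₀ = x₀ := by
      rw [inv_smul_eq_iff]; exact (MulAction.mem_stabilizer_iff.mp h.2).symm
    refine Finset.sum_equiv (MulAction.toPerm ((h : Γ)⁻¹)) ?_ (fun _ _ => rfl)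
    intro c
    simp only [Finset.mem_filter, Finset.mem_univ, true_and, MulAction.toPerm_apply]
    constructor
    · intro hc hc2
      apply hc
      have := hπ2 (h : Γ) _ _ (hc2.trans (congrArg π hh.symm))
      rwa [smul_inv_smul, smul_inv_smul] at this
    · intro hc hc2
      apply hc
      have := hπ2 (h : Γ)⁻¹ _ _ hc2
      rwa [hh] at this
  calc ((Finset.univ.filter (fun c => π c ≠ π x₀)).card : ℂ) *
        ∑ h : ↥(MulAction.stabilizer Γ x₀), φ ((h : Γ)⁻¹ • y)
      = ∑ c ∈ Finset.univ.filter (fun c => π c ≠ π x₀),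
          ∑ h : ↥(MulAction.stabilizer Γ x₀), φ ((h : Γ)⁻¹ • c) := by
        rw [Finset.sum_congr rfl e1, Finset.sum_const, nsmul_eq_mul]
    _ = ∑ h : ↥(MulAction.stabilizer Γ x₀),
          ∑ c ∈ Finset.univ.filter (fun c => π c ≠ π x₀), φ ((h : Γ)⁻¹ • c) := Finset.sum_comm
    _ = (Fintype.card ↥(MulAction.stabilizer Γ x₀) : ℂ) *
        ∑ c ∈ Finset.univ.filter (fun c => π c ≠ π x₀), φ c := by
        rw [Finset.sum_congr rfl (fun h _ => e2 h), Finset.sum_const, Finset.card_univ,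
          nsmul_eq_mul]

open scoped Classical in
/-- a function equal at every point to its mean over the complement of the block is constant. -/
theorem perm_const_of_mean {X P : Type*} [Fintype X] (π : X → P) (f : X → ℂ)
    (hne : ∀ x₀ : X, (Finset.univ.filter (fun c => π c ≠ π x₀)).Nonempty)
    (hmean : ∀ x₀ : X, ((Finset.univ.filter (fun c => π c ≠ π x₀)).card : ℂ) * f x₀
      = ∑ c ∈ Finset.univ.filter (fun c => π c ≠ π x₀), f c) :
    ∀ x y : X, f x = f y := by
  have hblk : ∀ x₀ x₁ : X, π x₀ = π x₁ → f x₀ = f x₁ := by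
    intro x₀ x₁ h01
    have h1 := hmean x₀
    have h3 := hmean x₁
    have hC : Finset.univ.filter (fun c => π c ≠ π x₀) = Finset.univ.filter (fun c => π c ≠ π x₁) := by
      rw [h01]
    rw [hC] at h1
    have hcard : ((Finset.univ.filter (fun c => π c ≠ π x₁)).card : ℂ) ≠ 0 := by
      have := (hne x₁).card_pos
      exact_mod_cast this.ne'
    exact mul_left_cancel₀ hcard (h1.trans h3.symm)
  have hS : ∀ x₀ : X, (Fintype.card X : ℂ) * f x₀ = ∑ c, f c := by
    intro x₀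
    have h1 := hmean x₀
    have h3 : ∑ c ∈ Finset.univ.filter (fun c => π c = π x₀), f c
        = ((Finset.univ.filter (fun c => π c = π x₀)).card : ℂ) * f x₀ := by
      rw [Finset.sum_congr rfl (fun c hc => hblk c x₀ (Finset.mem_filter.mp hc).2),
        Finset.sum_const, nsmul_eq_mul]
    have h4 := Finset.sum_filter_add_sum_filter_not Finset.univ (fun c => π c = π x₀) f
    have h5 := Finset.card_filter_add_card_filter_not (s := (Finset.univ : Finset X))
      (fun c => π c = π x₀)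
    rw [Finset.card_univ] at h5
    rw [← h4, h3, ← h1, ← h5]
    push_cast
    ring
  intro x y
  have hX : (Fintype.card X : ℂ) ≠ 0 := by
    have : 0 < Fintype.card X := Fintype.card_pos_iff.mpr ⟨x⟩
    exact_mod_cast this.ne'
  exact mul_left_cancel₀ hX ((hS x).trans (hS y).symm)

/-- a function of the invariant subspace with a "peak" at `x₀` gives `|P| - 1` independent
elements. -/
theorem perm_dim_of_peak {Γ X P : Type*} [Group Γ] [Fintype X] [Finite P]
    [MulAction Γ X] (π : X → P) (hπ : Function.Surjective π)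
    (htrans : ∀ x y : X, ∃ γ : Γ, γ • x = y)
    (hπ2 : ∀ (γ : Γ) (x y : X), π x = π y → π (γ • x) = π (γ • y))
    (Y : Submodule ℂ (X → ℂ)) (hY : ∀ (γ : Γ), ∀ f ∈ Y, (fun x => f (γ⁻¹ • x)) ∈ Y)
    (g : X → ℂ) (hg : g ∈ Y) (x₀ : X) (b : ℂ) (hgb : ∀ x, π x ≠ π x₀ → g x = b)
    (hg0 : g x₀ ≠ b) :
    Nat.card P ≤ Module.finrank ℂ Y + 1 := by
  classical
  have hFP : Fintype P := Fintype.ofFinite P
  choose sec hsec using hπ
  choose γ hγ using fun p => htrans x₀ (sec p)
  obtain ⟨F, hFdef⟩ : ∃ F : P → (X → ℂ), ∀ p x, F p x = g ((γ p)⁻¹ • x) :=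
    ⟨fun p x => g ((γ p)⁻¹ • x), fun _ _ => rfl⟩
  have hF : ∀ p, F p ∈ Y := by
    intro p
    have : F p = fun x => g ((γ p)⁻¹ • x) := funext (hFdef p)
    rw [this]; exact hY (γ p) g hg
  have hFpp : ∀ p, F p (sec p) = g x₀ := by
    intro p
    rw [hFdef, ← hγ p, inv_smul_smul]
  have hFpq : ∀ p q, q ≠ p → F p (sec q) = b := by
    intro p q hqp
    rw [hFdef]
    apply hgb
    intro h
    apply hqp
    have := hπ2 (γ p) _ _ h
    rw [smul_inv_smul, hγ p, hsec, hsec] at this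
    exact this
  obtain ⟨p₁, hp₁⟩ : ∃ p₁ : P, p₁ = π x₀ := ⟨_, rfl⟩
  let v : {p : P // p ≠ p₁} → Y := fun p => ⟨F p.1 - F p₁, Y.sub_mem (hF _) (hF _)⟩
  have hli : LinearIndependent ℂ v := by
    rw [Fintype.linearIndependent_iff]
    intro c hc q
    have h1 := congrArg (fun w : Y => (w : X → ℂ) (sec q.1)) hc
    simp only [v, Submodule.coe_sum, Submodule.coe_smul, Finset.sum_apply, Pi.smul_apply,
      Pi.sub_apply, smul_eq_mul, ZeroMemClass.coe_zero, Pi.zero_apply] at h1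
    rw [Finset.sum_eq_single q] at h1
    · rw [hFpp, hFpq p₁ q.1 q.2] at h1
      rcases mul_eq_zero.mp h1 with h | h
      · exact h
      · exact (hg0 (sub_eq_zero.mp h)).elim
    · intro i _ hiq
      have hiq' : q.1 ≠ i.1 := fun h => hiq (Subtype.ext h.symm)
      rw [hFpq i.1 q.1 hiq', hFpq p₁ q.1 q.2, sub_self, mul_zero]
    · intro h; exact (h (Finset.mem_univ q)).elim
  have hcard := hli.fintype_card_le_finrank
  have hcard2 : Fintype.card {p : P // p ≠ p₁} = Fintype.card P - 1 := by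
    rw [Fintype.card_subtype_compl, Fintype.card_subtype_eq]
  rw [Nat.card_eq_fintype_card]
  omega

/-- PIECE PERM. -/
theorem perm_submodule_bound {Γ X P : Type*} [Group Γ] [Finite Γ] [Fintype X] [Finite P]
    [MulAction Γ X] (π : X → P) (hπ : Function.Surjective π)
    (htrans : ∀ x y : X, ∃ γ : Γ, γ • x = y)
    (hfix : ∀ (γ : Γ) (x y : X), π x = π y → γ • x = x → γ • y = y)
    (hπ2 : ∀ (γ : Γ) (x y : X), π x = π y → π (γ • x) = π (γ • y))
    (h2 : ∀ x y y' : X, π y ≠ π x → π y' ≠ π x → ∃ γ : Γ, γ • x = x ∧ γ • y = y')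
    (Y : Submodule ℂ (X → ℂ)) (hY : ∀ (γ : Γ), ∀ f ∈ Y, (fun x => f (γ⁻¹ • x)) ∈ Y) :
    (∀ f ∈ Y, ∀ x y : X, f x = f y) ∨ Nat.card P ≤ Module.finrank ℂ Y + 1 := by
  classical
  by_contra hcon
  rw [not_or] at hcon
  obtain ⟨hnc, hN⟩ := hcon
  push Not at hnc
  obtain ⟨f, hfY, x, y, hxy⟩ := hnc
  have hN2 : 2 ≤ Nat.card P := by omega
  have hne : ∀ x₀ : X, (Finset.univ.filter (fun c => π c ≠ π x₀)).Nonempty := by
    intro x₀
    have hex : ∃ p : P, p ≠ π x₀ := by
      by_contra hall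
      push Not at hall
      have hsub : Subsingleton P := ⟨fun a b => (hall a).trans (hall b).symm⟩
      have := Finite.card_le_one_iff_subsingleton.mpr hsub
      omega
    obtain ⟨p, hp⟩ := hex
    obtain ⟨c, hc⟩ := hπ p
    exact ⟨c, Finset.mem_filter.mpr ⟨Finset.mem_univ _, hc ▸ hp⟩⟩
  have hex : ∃ x₀ : X, ((Finset.univ.filter (fun c => π c ≠ π x₀)).card : ℂ) * f x₀
      ≠ ∑ c ∈ Finset.univ.filter (fun c => π c ≠ π x₀), f c := by
    by_contra hall
    push Not at hall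
    exact hxy (perm_const_of_mean π f hne hall x y)
  obtain ⟨x₀, hx₀⟩ := hex
  have hFH : Fintype ↥(MulAction.stabilizer Γ x₀) := Fintype.ofFinite _
  obtain ⟨g, hgdef⟩ : ∃ g : X → ℂ,
      g = ∑ h : ↥(MulAction.stabilizer Γ x₀), fun x => f ((h : Γ)⁻¹ • x) := ⟨_, rfl⟩
  have hgY : g ∈ Y := by
    rw [hgdef]; exact Y.sum_mem (fun h _ => hY (h : Γ) f hfY)
  have hgx : ∀ z, g z = ∑ h : ↥(MulAction.stabilizer Γ x₀), f ((h : Γ)⁻¹ • z) := by
    intro z
    rw [hgdef, Finset.sum_apply]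
  have hCne : ((Finset.univ.filter (fun c => π c ≠ π x₀)).card : ℂ) ≠ 0 := by
    have := (hne x₀).card_pos
    exact_mod_cast this.ne'
  have hHne : (Fintype.card ↥(MulAction.stabilizer Γ x₀) : ℂ) ≠ 0 := by
    have : 0 < Fintype.card ↥(MulAction.stabilizer Γ x₀) := Fintype.card_pos
    exact_mod_cast this.ne'
  obtain ⟨b, hb⟩ : ∃ b : ℂ, b = (Fintype.card ↥(MulAction.stabilizer Γ x₀) : ℂ) *
      (∑ c ∈ Finset.univ.filter (fun c => π c ≠ π x₀), f c) /
        ((Finset.univ.filter (fun c => π c ≠ π x₀)).card : ℂ) := ⟨_, rfl⟩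
  have hgb : ∀ z, π z ≠ π x₀ → g z = b := by
    intro z hz
    have h1 := perm_orbit_avg π hπ2 h2 x₀ z hz f
    rw [hgx, hb, eq_div_iff hCne, mul_comm]
    exact h1
  have hg0 : g x₀ ≠ b := by
    have h1 : ∑ h : ↥(MulAction.stabilizer Γ x₀), f ((h : Γ)⁻¹ • x₀)
        = (Fintype.card ↥(MulAction.stabilizer Γ x₀) : ℂ) * f x₀ := by
      rw [Finset.sum_congr rfl (fun h _ => by
        rw [inv_smul_eq_iff.mpr (MulAction.mem_stabilizer_iff.mp h.2).symm]),
        Finset.sum_const, Finset.card_univ, nsmul_eq_mul]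
    rw [hgx, h1, hb]
    intro heq
    apply hx₀
    rw [eq_div_iff hCne, mul_assoc] at heq
    have h3 := mul_left_cancel₀ hHne heq
    rw [mul_comm] at h3
    exact h3
  have := perm_dim_of_peak π hπ htrans hπ2 Y hY g hgY x₀ b hgb hg0
  omega

end Cfsg.Agent.Helper12.LSL
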