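import Mathlib

set_option autoImplicit false

namespace Cfsg.Agent.Helper20

open Finset

/-- In any finite group, the number of elements of order `d` is a multiple of `φ(d)`. -/
theorem totient_dvd_card_orderOf_eq {G : Type*} [Group G] [Fintype G] [DecidableEq G] (d : ℕ) :
    Nat.totient d ∣ (univ.filter (fun x : G => orderOf x = d)).card := by
  classical
  set X : Finset G := univ.filter (fun x : G => orderOf x = d) with hX
  rw [Finset.card_eq_sum_card_image (fun x : G => Subgroup.zpowers x) X]
  apply Finset.dvd_sum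
  intro C hC
  obtain ⟨x₀, hx₀, rfl⟩ := Finset.mem_image.mp hC
  have hox₀ : orderOf x₀ = d := (Finset.mem_filter.mp hx₀).2
  set C : Subgroup G := Subgroup.zpowers x₀ with hCdef
  have hcardC : Fintype.card C = d := by
    rw [← Nat.card_eq_fintype_card, Nat.card_zpowers, hox₀]
  have hcyc : IsCyclic C := by rw [hCdef]; infer_instance
  have h1 : (univ.filter (fun g : C => orderOf g = d)).card = d.totient :=
    IsCyclic.card_orderOf_eq_totient (by rw [hcardC])
  rw [← h1]
  apply dvd_of_eq
  apply Finset.card_bij (fun (g : C) _ => (g : G))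
  · intro g hg
    have hog : orderOf g = d := (Finset.mem_filter.mp hg).2
    have hog' : orderOf (g : G) = d := by rw [Subgroup.orderOf_coe]; exact hog
    rw [Finset.mem_filter, hX, Finset.mem_filter]
    refine ⟨⟨Finset.mem_univ _, hog'⟩, ?_⟩
    apply Subgroup.eq_of_le_of_card_ge
    · rw [Subgroup.zpowers_le]
      exact g.2
    · rw [Nat.card_zpowers, Nat.card_zpowers, hog', hox₀]
  · intro a _ b _ hab
    exact Subtype.ext hab
  · intro x hx
    rw [Finset.mem_filter, hX, Finset.mem_filter] at hx
    obtain ⟨⟨-, hox⟩, hzx⟩ := hx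
    have hxC : x ∈ C := by rw [← hzx]; exact Subgroup.mem_zpowers x
    refine ⟨⟨x, hxC⟩, ?_, rfl⟩
    rw [Finset.mem_filter]
    refine ⟨Finset.mem_univ _, ?_⟩
    rw [← Subgroup.orderOf_coe]
    exact hox

/-- If `p ^ (b + 1)` divides `d` then `p ^ b` divides `φ(d)`. -/
theorem pow_dvd_totient_of_pow_succ_dvd (p b d : ℕ) (hp : p.Prime) (h : p ^ (b + 1) ∣ d) :
    p ^ b ∣ Nat.totient d := by
  refine dvd_trans ?_ (Nat.totient_dvd_of_dvd h)
  rw [Nat.totient_prime_pow_succ hp]
  exact dvd_mul_right _ _

end Cfsg.Agent.Helper20
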