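import Mathlib
import Cfsg.Agent.Lib.Helper20.FrobTotient

set_option autoImplicit false

namespace Cfsg.Agent.Helper20

open Finset

/-- If `d ∣ p ^ (b + 1) * s` but `¬ d ∣ p ^ b * s` then `p ^ (b + 1) ∣ d`. -/
theorem pow_succ_dvd_of_dvd_of_not_dvd (p b s d : ℕ) (hp : p.Prime) (h1 : d ∣ p ^ (b + 1) * s)
    (h2 : ¬ d ∣ p ^ b * s) : p ^ (b + 1) ∣ d := by
  have hd0 : d ≠ 0 := by
    rintro rfl
    apply h2
    have h3 : p ^ (b + 1) * s = 0 := Nat.eq_zero_of_zero_dvd h1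
    rcases Nat.mul_eq_zero.mp h3 with h | h
    · exact absurd h (pow_pos hp.pos _).ne'
    · rw [h, mul_zero]
  set j := d.factorization p with hj
  set t := d / p ^ j with ht
  have hd : p ^ j * t = d := Nat.ordProj_mul_ordCompl_eq_self d p
  have hcop : Nat.Coprime p t := Nat.coprime_ordCompl hp hd0
  by_cases hjb : b + 1 ≤ j
  · exact dvd_trans (pow_dvd_pow p hjb) (Dvd.intro _ hd)
  · exfalso
    apply h2
    have hts : t ∣ s := by
      have h3 : t ∣ p ^ (b + 1) * s := dvd_trans (Dvd.intro_left _ hd) h1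
      exact (Nat.Coprime.pow_right (b + 1) hcop.symm).dvd_of_dvd_mul_left h3
    rw [← hd]
    exact Nat.mul_dvd_mul (pow_dvd_pow p (by omega)) hts

variable {G : Type*} [Group G] [Fintype G] [DecidableEq G]

/-- The number of `x` with `x ^ (p ^ (b + 1) * s) = 1` and `x ^ (p ^ b * s) ≠ 1` is a multiple of
`p ^ b`. -/
theorem pow_dvd_card_B (p b s : ℕ) (hp : p.Prime) :
    p ^ b ∣ (univ.filter (fun x : G => x ^ (p ^ (b + 1) * s) = 1 ∧ x ^ (p ^ b * s) ≠ 1)).card := by
  set B : Finset G := univ.filter (fun x : G => x ^ (p ^ (b + 1) * s) = 1 ∧ x ^ (p ^ b * s) ≠ 1)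
    with hB
  rw [Finset.card_eq_sum_card_image (fun x : G => orderOf x) B]
  apply Finset.dvd_sum
  intro d hd
  obtain ⟨x₀, hx₀, rfl⟩ := Finset.mem_image.mp hd
  rw [hB, Finset.mem_filter] at hx₀
  obtain ⟨-, hx1, hx2⟩ := hx₀
  have hd1 : orderOf x₀ ∣ p ^ (b + 1) * s := orderOf_dvd_of_pow_eq_one hx1
  have hd2 : ¬ orderOf x₀ ∣ p ^ b * s := fun h => hx2 (orderOf_dvd_iff_pow_eq_one.mp h)
  have hfilter : B.filter (fun x => orderOf x = orderOf x₀) =
      univ.filter (fun x : G => orderOf x = orderOf x₀) := by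
    ext x
    simp only [hB, Finset.mem_filter, Finset.mem_univ, true_and]
    constructor
    · rintro ⟨-, h⟩
      exact h
    · intro h
      refine ⟨⟨?_, ?_⟩, h⟩
      · rw [← orderOf_dvd_iff_pow_eq_one, h]
        exact hd1
      · rw [Ne, ← orderOf_dvd_iff_pow_eq_one, h]
        exact hd2
  rw [hfilter]
  exact dvd_trans (pow_dvd_totient_of_pow_succ_dvd p b _ hp
    (pow_succ_dvd_of_dvd_of_not_dvd p b s _ hp hd1 hd2)) (totient_dvd_card_orderOf_eq _)

end Cfsg.Agent.Helper20
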