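import Mathlib
import Cfsg.Agent.Lib.Helper20.Basic

set_option autoImplicit false

namespace Cfsg.Agent.Helper20

open Finset

/-- Divisibility of a sum of a class function over a normal subset, checked class by class. -/
theorem dvd_sum_of_conj_invariant {G : Type*} [Group G] [Fintype G] [DecidableEq G]
    (Y : Finset G) (F : G → ℕ) (s : ℕ)
    (hY : ∀ y ∈ Y, ∀ g : G, g * y * g⁻¹ ∈ Y) (hF : ∀ y g : G, F (g * y * g⁻¹) = F y)
    (hdvd : ∀ y ∈ Y, s ∣ (Subgroup.centralizer ({y} : Set G)).index * F y) :
    s ∣ ∑ y ∈ Y, F y := by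
  classical
  rw [Finset.sum_partition (IsConj.setoid G)]
  apply Finset.dvd_sum
  intro c hc
  obtain ⟨y₀, hy₀, rfl⟩ := Finset.mem_image.mp hc
  have hfilter : Y.filter (fun y => (Quotient.mk (IsConj.setoid G) y) =
      Quotient.mk (IsConj.setoid G) y₀) = univ.filter (fun y => IsConj y₀ y) := by
    ext y
    simp only [Finset.mem_filter, Finset.mem_univ, true_and]
    constructor
    · rintro ⟨-, h⟩
      have : IsConj y y₀ := Quotient.exact h
      exact this.symm
    · intro h
      obtain ⟨g, hg⟩ := isConj_iff.mp h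
      refine ⟨?_, Quotient.sound (show IsConj y y₀ from h.symm)⟩
      rw [← hg]
      exact hY y₀ hy₀ g
  rw [hfilter]
  have hconst : ∀ y ∈ univ.filter (fun y => IsConj y₀ y), F y = F y₀ := by
    intro y hy
    obtain ⟨g, hg⟩ := isConj_iff.mp (Finset.mem_filter.mp hy).2
    rw [← hg, hF]
  rw [Finset.sum_congr rfl hconst, Finset.sum_const, smul_eq_mul]
  have hcard : (univ.filter (fun y => IsConj y₀ y)).card =
      (Subgroup.centralizer ({y₀} : Set G)).index := by
    rw [← card_isConj_eq_index, Nat.card_eq_fintype_card, Fintype.card_subtype]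
  rw [hcard]
  exact hdvd y₀ hy₀

end Cfsg.Agent.Helper20
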