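import Mathlib

set_option autoImplicit false

namespace Cfsg.Agent.Helper20

open Finset

/-- CRT idempotents for coprime `P` and `s`. -/
theorem exists_crt_idempotents (P s : ℕ) (hcop : Nat.Coprime P s) :
    ∃ e f : ℕ, e ≡ 1 [MOD P] ∧ s ∣ e ∧ P ∣ f ∧ f ≡ 1 [MOD s] ∧ e + f ≡ 1 [MOD P * s] := by
  obtain ⟨e, he1, he0⟩ := Nat.chineseRemainder hcop 1 0
  obtain ⟨f, hf0, hf1⟩ := Nat.chineseRemainder hcop 0 1
  refine ⟨e, f, he1, (Nat.modEq_zero_iff_dvd).mp he0, (Nat.modEq_zero_iff_dvd).mp hf0, hf1, ?_⟩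
  rw [← Nat.modEq_and_modEq_iff_modEq_mul hcop]
  constructor
  · have := Nat.ModEq.add he1 hf0
    simpa using this
  · have := Nat.ModEq.add he0 hf1
    simpa using this

variable {G : Type*} [Group G] [Fintype G] [DecidableEq G]

/-- The fiber of `x ↦ x ^ e` over an element `y` of order `P` inside `{x | x ^ (P * s) = 1}` is in
bijection with the elements `z` of the centralizer of `y` with `z ^ s = 1`. -/
theorem card_fiber_eq (P s e f : ℕ) (he1 : e ≡ 1 [MOD P]) (he0 : s ∣ e) (hf0 : P ∣ f)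
    (hf1 : f ≡ 1 [MOD s]) (hef : e + f ≡ 1 [MOD P * s]) (y : G) (hy : orderOf y = P) :
    (univ.filter (fun x : G => x ^ (P * s) = 1 ∧ x ^ e = y)).card =
      (univ.filter (fun z : G => y * z = z * y ∧ z ^ s = 1)).card := by
  apply Finset.card_nbij' (fun x => x ^ f) (fun z => y * z)
  · intro x hx
    simp only [Finset.coe_filter, Finset.mem_univ, true_and, Set.mem_ofPred_eq] at hx ⊢
    obtain ⟨hx1, hx2⟩ := hx
    constructor
    · rw [← hx2, ← pow_add, ← pow_add, add_comm]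
    · obtain ⟨k, hk⟩ := hf0
      rw [← pow_mul, hk, mul_assoc, mul_comm k s, ← mul_assoc, pow_mul, hx1, one_pow]
  · intro z hz
    simp only [Finset.coe_filter, Finset.mem_univ, true_and, Set.mem_ofPred_eq] at hz ⊢
    obtain ⟨hz1, hz2⟩ := hz
    have hcomm : Commute y z := hz1
    have hyP : y ^ P = 1 := by rw [← hy]; exact pow_orderOf_eq_one y
    constructor
    · rw [hcomm.mul_pow, pow_mul, hyP, one_pow, one_mul, mul_comm P s, pow_mul, hz2, one_pow]
    · rw [hcomm.mul_pow]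
      have h1 : y ^ e = y := by
        have : y ^ e = y ^ 1 := by
          rw [pow_eq_pow_iff_modEq, hy]
          exact he1
        rw [this, pow_one]
      have h2 : z ^ e = 1 := by
        obtain ⟨k, hk⟩ := he0
        rw [hk, pow_mul, hz2, one_pow]
      rw [h1, h2, mul_one]
  · intro x hx
    simp only [Finset.coe_filter, Finset.mem_univ, true_and, Set.mem_ofPred_eq] at hx
    obtain ⟨hx1, hx2⟩ := hx
    change y * x ^ f = x
    rw [← hx2, ← pow_add]
    have : x ^ (e + f) = x ^ 1 := by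
      rw [pow_eq_pow_iff_modEq]
      exact hef.of_dvd (orderOf_dvd_of_pow_eq_one hx1)
    rw [this, pow_one]
  · intro z hz
    simp only [Finset.coe_filter, Finset.mem_univ, true_and, Set.mem_ofPred_eq] at hz
    obtain ⟨hz1, hz2⟩ := hz
    have hcomm : Commute y z := hz1
    change (y * z) ^ f = z
    rw [hcomm.mul_pow]
    have h1 : y ^ f = 1 := by
      obtain ⟨k, hk⟩ := hf0
      rw [hk, pow_mul, ← hy, pow_orderOf_eq_one, one_pow]
    have h2 : z ^ f = z := by
      have : z ^ f = z ^ 1 := by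
        rw [pow_eq_pow_iff_modEq]
        exact hf1.of_dvd (orderOf_dvd_of_pow_eq_one hz2)
      rw [this, pow_one]
    rw [h1, h2, one_mul]

omit [Fintype G] [DecidableEq G] in
/-- For `x` with `x ^ (p ^ (b + 1) * s) = 1` and `x ^ (p ^ b * s) ≠ 1`, the `p`-part `x ^ e` has
order exactly `p ^ (b + 1)`. -/
theorem orderOf_pow_idempotent (p b s e f : ℕ) [hp : Fact p.Prime] (he0 : s ∣ e)
    (hf0 : p ^ (b + 1) ∣ f) (hef : e + f ≡ 1 [MOD p ^ (b + 1) * s]) (x : G)
    (hx1 : x ^ (p ^ (b + 1) * s) = 1) (hx2 : x ^ (p ^ b * s) ≠ 1) :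
    orderOf (x ^ e) = p ^ (b + 1) := by
  apply orderOf_eq_prime_pow
  · intro h
    apply hx2
    have h1 : x ^ (e + f) = x ^ 1 := by
      rw [pow_eq_pow_iff_modEq]
      exact hef.of_dvd (orderOf_dvd_of_pow_eq_one hx1)
    rw [pow_one] at h1
    have h2 : (x ^ e) ^ (p ^ b * s) = 1 := by rw [pow_mul, h, one_pow]
    have h3 : (x ^ f) ^ (p ^ b * s) = 1 := by
      obtain ⟨k, hk⟩ := hf0
      rw [← pow_mul, hk]
      have : p ^ (b + 1) * k * (p ^ b * s) = (p ^ (b + 1) * s) * (k * p ^ b) := by ring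
      rw [this, pow_mul, hx1, one_pow]
    calc x ^ (p ^ b * s) = (x ^ (e + f)) ^ (p ^ b * s) := by rw [h1]
      _ = (x ^ e) ^ (p ^ b * s) * (x ^ f) ^ (p ^ b * s) := by
          rw [pow_add, (Commute.pow_pow (Commute.refl x) e f).mul_pow]
      _ = 1 := by rw [h2, h3, one_mul]
  · obtain ⟨k, hk⟩ := he0
    rw [← pow_mul, hk]
    have : s * k * p ^ (b + 1) = (p ^ (b + 1) * s) * k := by ring
    rw [this, pow_mul, hx1, one_pow]

end Cfsg.Agent.Helper20
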