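import Mathlib
import Cfsg.Agent.Lib.Helper20.FrobDecomp
import Cfsg.Agent.Lib.Helper20.ClassSum
import Cfsg.Agent.Lib.Helper20.SylowBasic

set_option autoImplicit false

namespace Cfsg.Agent.Helper20

open Finset

universe u

theorem dvd_mul_of_gcd_dvd (s c idx F : ℕ) (hs0 : 0 < s) (hs : s ∣ c * idx)
    (hF : Nat.gcd s c ∣ F) : s ∣ idx * F := by
  have hg : 0 < Nat.gcd s c := Nat.gcd_pos_of_pos_left c hs0
  obtain ⟨s', hs'⟩ := Nat.gcd_dvd_left s c
  obtain ⟨c', hc'⟩ := Nat.gcd_dvd_right s c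
  have hcop : Nat.Coprime s' c' := by
    have := Nat.coprime_div_gcd_div_gcd hg
    have e1 : s / Nat.gcd s c = s' := Nat.div_eq_of_eq_mul_right hg hs'
    have e2 : c / Nat.gcd s c = c' := Nat.div_eq_of_eq_mul_right hg hc'
    rwa [e1, e2] at this
  have h1 : s' ∣ c' * idx := by
    have h2 : Nat.gcd s c * s' ∣ Nat.gcd s c * (c' * idx) := by
      rw [← hs', ← mul_assoc, ← hc']
      exact hs
    exact Nat.dvd_of_mul_dvd_mul_left hg h2
  have h3 : s' ∣ idx := hcop.dvd_of_dvd_mul_left h1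
  obtain ⟨F', hF'⟩ := hF
  rw [hs', hF', mul_comm idx, mul_assoc]
  exact Nat.mul_dvd_mul_left _ (Dvd.dvd.mul_left h3 F')

/-- For a central element `y` of order `P` coprime to `s`, the elements `z` with `z ^ s = 1`
correspond bijectively to such elements of `G ⧸ ⟨y⟩`. -/
theorem card_pow_eq_one_quotient_central {G : Type u} [Group G] [Finite G] (P s : ℕ)
    (hcop : Nat.Coprime P s) (y : G) (hy : orderOf y = P) (hyc : y ∈ Subgroup.center G)
    [hn : (Subgroup.zpowers y).Normal] :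
    Nat.card {z : G // z ^ s = 1} = Nat.card {q : G ⧸ Subgroup.zpowers y // q ^ s = 1} := by
  obtain ⟨e, f, he1, he0, hf0, hf1, hef⟩ := exists_crt_idempotents P s hcop
  have hyP : y ^ P = 1 := by rw [← hy]; exact pow_orderOf_eq_one y
  apply Nat.card_congr
  refine Equiv.ofBijective (fun z => ⟨(z.1 : G ⧸ Subgroup.zpowers y), by
    rw [← QuotientGroup.mk_pow, z.2]; rfl⟩) ⟨?_, ?_⟩
  · rintro ⟨z, hz⟩ ⟨z', hz'⟩ h
    have h1 : (z : G ⧸ Subgroup.zpowers y) = (z' : G ⧸ Subgroup.zpowers y) :=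
      congrArg Subtype.val h
    rw [QuotientGroup.eq] at h1
    obtain ⟨i, hi⟩ := Subgroup.mem_zpowers_iff.mp h1
    -- z' = z * y^i
    have hz'eq : z' = z * y ^ i := by rw [hi]; group
    have hcomm : Commute z (y ^ i) :=
      (Subgroup.mem_center_iff.mp (Subgroup.zpow_mem _ hyc i) z)
    have h2 : (y ^ i) ^ s = 1 := by
      have := hz'
      rw [hz'eq, hcomm.mul_pow, hz, one_mul] at this
      exact this
    have h3 : (y ^ i) ^ P = 1 := by
      rw [← zpow_natCast, ← zpow_mul, mul_comm, zpow_mul, zpow_natCast, hyP, one_zpow]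
    have h4 : y ^ i = 1 := by
      have h5 : orderOf (y ^ i) ∣ Nat.gcd P s :=
        Nat.dvd_gcd (orderOf_dvd_of_pow_eq_one h3) (orderOf_dvd_of_pow_eq_one h2)
      rw [hcop.gcd_eq_one, Nat.dvd_one] at h5
      exact orderOf_eq_one_iff.mp h5
    apply Subtype.ext
    change z = z'
    rw [hz'eq, h4, mul_one]
  · rintro ⟨q, hq⟩
    obtain ⟨w, rfl⟩ := QuotientGroup.mk_surjective q
    have hws : w ^ s ∈ Subgroup.zpowers y := by
      rw [← QuotientGroup.eq_one_iff, QuotientGroup.mk_pow]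
      exact hq
    obtain ⟨j, hj⟩ := Subgroup.mem_zpowers_iff.mp hws
    have hwPs : w ^ (s * P) = 1 := by
      rw [pow_mul, ← hj, ← zpow_natCast, ← zpow_mul, mul_comm, zpow_mul, zpow_natCast, hyP,
        one_zpow]
    refine ⟨⟨w ^ f, ?_⟩, ?_⟩
    · obtain ⟨k, hk⟩ := hf0
      rw [← pow_mul, hk]
      have : P * k * s = (s * P) * k := by ring
      rw [this, pow_mul, hwPs, one_pow]
    · apply Subtype.ext
      change ((w ^ f : G) : G ⧸ Subgroup.zpowers y) = (w : G ⧸ Subgroup.zpowers y)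
      rw [QuotientGroup.mk_pow]
      have : (w : G ⧸ Subgroup.zpowers y) ^ f = (w : G ⧸ Subgroup.zpowers y) ^ 1 := by
        rw [pow_eq_pow_iff_modEq]
        exact hf1.of_dvd (orderOf_dvd_of_pow_eq_one hq)
      rw [this, pow_one]

end Cfsg.Agent.Helper20
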