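import Mathlib
import Cfsg.Agent.Lib.Helper20.FrobPart2

set_option autoImplicit false

namespace Cfsg.Agent.Helper20

open Finset

universe u

/-- the function counting solutions of `z ^ s = 1` in the centralizer of `y` -/
def centCount {G : Type u} [Group G] [Fintype G] [DecidableEq G] (s : ℕ) (y : G) : ℕ :=
  (univ.filter (fun z : G => y * z = z * y ∧ z ^ s = 1)).card

theorem centCount_conj {G : Type u} [Group G] [Fintype G] [DecidableEq G] (s : ℕ) (y g : G) :
    centCount s (g * y * g⁻¹) = centCount s y := by
  unfold centCount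
  apply Finset.card_nbij' (fun z => g⁻¹ * z * g) (fun z => g * z * g⁻¹)
  · intro z hz
    simp only [Finset.coe_filter, Finset.mem_univ, true_and, Set.mem_ofPred_eq] at hz ⊢
    obtain ⟨h1, h2⟩ := hz
    constructor
    · have : y * (g⁻¹ * z * g) = g⁻¹ * ((g * y * g⁻¹) * z) * g := by group
      rw [this, h1]
      group
    · have : (g⁻¹ * z * g) ^ s = g⁻¹ * z ^ s * g := by
        have := conj_pow (a := g⁻¹) (b := z) (i := s)
        simpa using this
      rw [this, h2]
      group
  · intro z hz
    simp only [Finset.coe_filter, Finset.mem_univ, true_and, Set.mem_ofPred_eq] at hz ⊢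
    obtain ⟨h1, h2⟩ := hz
    constructor
    · have : g * y * g⁻¹ * (g * z * g⁻¹) = g * (y * z) * g⁻¹ := by group
      rw [this, h1]
      group
    · rw [conj_pow, h2]
      group
  · intro z _
    change g * (g⁻¹ * z * g) * g⁻¹ = z
    group
  · intro z _
    change g⁻¹ * (g * z * g⁻¹) * g = z
    group

theorem centCount_eq_card {G : Type u} [Group G] [Fintype G] [DecidableEq G] (s : ℕ) (y : G) :
    centCount s y = Nat.card {z : Subgroup.centralizer ({y} : Set G) // z ^ s = 1} := by
  unfold centCount
  rw [← Fintype.card_subtype, ← Nat.card_eq_fintype_card]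
  apply Nat.card_congr
  refine
    { toFun := fun z => ⟨⟨z.1, ?_⟩, ?_⟩
      invFun := fun z => ⟨z.1.1, ?_, ?_⟩
      left_inv := fun z => rfl
      right_inv := fun z => rfl }
  · rw [Subgroup.mem_centralizer_iff]
    intro h hh
    rw [Set.mem_singleton_iff] at hh
    rw [hh]
    exact z.2.1
  · apply Subtype.ext
    rw [Subgroup.coe_pow]
    exact z.2.2
  · have := z.1.2
    rw [Subgroup.mem_centralizer_iff] at this
    exact this y rfl
  · have := congrArg Subtype.val z.2
    rw [Subgroup.coe_pow] at this
    exact this

end Cfsg.Agent.Helper20
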