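import Mathlib
import Cfsg.Agent.Lib.Helper20.FrobPart3

set_option autoImplicit false

namespace Cfsg.Agent.Helper20

open Finset

universe u

/-- `z ^ s = 1 ↔ z ^ gcd(s, |C|) = 1` in a finite group `C` -/
theorem card_pow_gcd_eq {C : Type u} [Group C] [Finite C] (s : ℕ) :
    Nat.card {z : C // z ^ (Nat.gcd s (Nat.card C)) = 1} = Nat.card {z : C // z ^ s = 1} := by
  apply Nat.card_congr
  apply Equiv.subtypeEquivRight
  intro z
  constructor
  · intro h
    obtain ⟨k, hk⟩ := Nat.gcd_dvd_left s (Nat.card C)
    rw [hk, pow_mul, h, one_pow]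
  · intro h
    exact pow_gcd_eq_one.mpr ⟨h, pow_card_eq_one'⟩

/-- Key divisibility: the `p'`-part. -/
theorem dvd_card_B_of_IH {G : Type u} [Group G] [Fintype G] [DecidableEq G] (p b s : ℕ)
    [hp : Fact p.Prime] (hps : ¬ p ∣ s) (hsG : s ∣ Nat.card G)
    (IH : ∀ (H : Type u) [Group H] [Finite H], Nat.card H < Nat.card G → ∀ n, n ∣ Nat.card H →
      n ∣ Nat.card {g : H // g ^ n = 1}) :
    s ∣ (univ.filter (fun x : G => x ^ (p ^ (b + 1) * s) = 1 ∧ x ^ (p ^ b * s) ≠ 1)).card := by
  set P := p ^ (b + 1) with hP
  have hPpos : 0 < P := pow_pos hp.out.pos _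
  have hP2 : 2 ≤ P := by
    calc 2 ≤ p := hp.out.two_le
      _ = p ^ 1 := (pow_one p).symm
      _ ≤ p ^ (b + 1) := Nat.pow_le_pow_right hp.out.pos (by omega)
  have hs0 : 0 < s := Nat.pos_of_dvd_of_pos hsG Nat.card_pos
  have hcop : Nat.Coprime P s :=
    Nat.Coprime.pow_left _ ((Nat.Prime.coprime_iff_not_dvd hp.out).mpr hps)
  obtain ⟨e, f, he1, he0, hf0, hf1, hef⟩ := exists_crt_idempotents P s hcop
  set B : Finset G := univ.filter (fun x : G => x ^ (P * s) = 1 ∧ x ^ (p ^ b * s) ≠ 1) with hB
  set Y : Finset G := univ.filter (fun y : G => orderOf y = P) with hY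
  have hmaps : Set.MapsTo (fun x : G => x ^ e) (B : Set G) (Y : Set G) := by
    intro x hx
    rw [Finset.mem_coe, hB, Finset.mem_filter] at hx
    rw [Finset.mem_coe, hY, Finset.mem_filter]
    exact ⟨Finset.mem_univ _, orderOf_pow_idempotent p b s e f he0 hf0 hef x hx.2.1 hx.2.2⟩
  rw [Finset.card_eq_sum_card_fiberwise hmaps]
  have hfib : ∀ y ∈ Y, (B.filter (fun x => x ^ e = y)).card = centCount s y := by
    intro y hy
    rw [hY, Finset.mem_filter] at hy
    have hoy : orderOf y = P := hy.2
    unfold centCount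
    rw [← card_fiber_eq P s e f he1 he0 hf0 hf1 hef y hoy]
    congr 1
    ext x
    simp only [hB, Finset.mem_filter, Finset.mem_univ, true_and]
    constructor
    · rintro ⟨⟨h1, -⟩, h3⟩
      exact ⟨h1, h3⟩
    · rintro ⟨h1, h3⟩
      refine ⟨⟨h1, ?_⟩, h3⟩
      intro h2
      have h4 : y ^ (p ^ b * s) = 1 := by
        rw [← h3, ← pow_mul, mul_comm, pow_mul, h2, one_pow]
      have h5 : P ∣ p ^ b * s := by
        rw [← hoy]
        exact orderOf_dvd_of_pow_eq_one h4
      rw [hP, pow_succ] at h5
      have h6 : p ∣ s := Nat.dvd_of_mul_dvd_mul_left (pow_pos hp.out.pos b) h5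
      exact hps h6
  rw [Finset.sum_congr rfl hfib]
  apply dvd_sum_of_conj_invariant Y (centCount s) s
  · intro y hy g
    rw [hY, Finset.mem_filter] at hy ⊢
    exact ⟨Finset.mem_univ _, by rw [orderOf_conj]; exact hy.2⟩
  · intro y g
    exact centCount_conj s y g
  · intro y hy
    rw [hY, Finset.mem_filter] at hy
    have hoy : orderOf y = P := hy.2
    set C : Subgroup G := Subgroup.centralizer ({y} : Set G) with hC
    rw [centCount_eq_card]
    by_cases hCtop : C = ⊤
    · -- central case
      have hyc : y ∈ Subgroup.center G := by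
        rw [Subgroup.mem_center_iff]
        intro g
        have : g ∈ C := hCtop ▸ Subgroup.mem_top g
        rw [hC, Subgroup.mem_centralizer_iff] at this
        exact (this y rfl).symm
      have hn : (Subgroup.zpowers y).Normal := by
        constructor
        intro n hn g
        obtain ⟨i, rfl⟩ := Subgroup.mem_zpowers_iff.mp hn
        have hcomm := Subgroup.mem_center_iff.mp (Subgroup.zpow_mem _ hyc i) g
        rw [hcomm, mul_assoc, mul_inv_cancel, mul_one]
        exact Subgroup.zpow_mem_zpowers y i
      have hcardQ := Subgroup.card_eq_card_quotient_mul_card_subgroup (Subgroup.zpowers y)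
      rw [Nat.card_zpowers, hoy] at hcardQ
      have hlt : Nat.card (G ⧸ Subgroup.zpowers y) < Nat.card G := by
        have hQpos : 0 < Nat.card (G ⧸ Subgroup.zpowers y) := Nat.card_pos
        rw [hcardQ]
        nlinarith
      have hsQ : s ∣ Nat.card (G ⧸ Subgroup.zpowers y) := by
        rw [hcardQ] at hsG
        exact hcop.symm.dvd_of_dvd_mul_right hsG
      have h1 := IH (G ⧸ Subgroup.zpowers y) hlt s hsQ
      rw [← card_pow_eq_one_quotient_central P s hcop y hoy hyc] at h1
      -- transport to the centralizer (which is everything)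
      have h2 : Nat.card {z : C // z ^ s = 1} = Nat.card {z : G // z ^ s = 1} := by
        apply Nat.card_congr
        refine
          { toFun := fun z => ⟨z.1.1, ?_⟩
            invFun := fun z => ⟨⟨z.1, hCtop ▸ Subgroup.mem_top _⟩, ?_⟩
            left_inv := fun z => rfl
            right_inv := fun z => rfl }
        · have := congrArg Subtype.val z.2
          rw [Subgroup.coe_pow] at this
          exact this
        · apply Subtype.ext
          rw [Subgroup.coe_pow]
          exact z.2
      rw [h2]
      exact Dvd.dvd.mul_left h1 _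
    · -- non-central case
      have hlt : Nat.card C < Nat.card G := by
        rcases lt_or_eq_of_le (Subgroup.card_le_card_group C) with h | h
        · exact h
        · exact absurd ((Subgroup.card_eq_iff_eq_top C).mp h) hCtop
      have h1 := IH C hlt (Nat.gcd s (Nat.card C)) (Nat.gcd_dvd_right _ _)
      rw [card_pow_gcd_eq] at h1
      apply dvd_mul_of_gcd_dvd s (Nat.card C) C.index _ hs0 _ h1
      rw [Subgroup.card_mul_index]
      exact hsG

end Cfsg.Agent.Helper20
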