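import Mathlib
import Cfsg.Agent.Lib.Helper20.FrobPart1
import Cfsg.Agent.Lib.Helper20.FrobPart4

set_option autoImplicit false

namespace Cfsg.Agent.Helper20

open Finset

universe u

/-- **Frobenius' theorem**: if `n` divides the order of the finite group `G`, then `n` divides the
number of solutions of `g ^ n = 1`. -/
theorem frobenius_main : ∀ N : ℕ, ∀ (G : Type u) [Group G] [Finite G], Nat.card G = N →
    ∀ n, n ∣ N → n ∣ Nat.card {g : G // g ^ n = 1} := by
  intro N
  induction N using Nat.strong_induction_on with
  | _ N ih =>
    intro G _ _ hN
    have IH : ∀ (H : Type u) [Group H] [Finite H], Nat.card H < Nat.card G → ∀ n,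
        n ∣ Nat.card H → n ∣ Nat.card {g : H // g ^ n = 1} :=
      fun H _ _ hlt n hn => ih (Nat.card H) (hN ▸ hlt) H rfl n hn
    have hNpos : 0 < N := hN ▸ Nat.card_pos
    -- inner induction on the cofactor
    suffices key : ∀ k : ℕ, ∀ n : ℕ, n * k = N → n ∣ Nat.card {g : G // g ^ n = 1} by
      intro n hn
      obtain ⟨k, hk⟩ := hn
      exact key k n hk.symm
    intro k
    induction k using Nat.strong_induction_on with
    | _ k ihk =>
      intro n hnk
      have hn0 : n ≠ 0 := by
        rintro rfl
        rw [zero_mul] at hnk
        omega
      have hk0 : k ≠ 0 := by
        rintro rfl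
        rw [mul_zero] at hnk
        omega
      by_cases hk1 : k = 1
      · -- n = N
        subst hk1
        rw [mul_one] at hnk
        subst hnk
        have : Nat.card {g : G // g ^ n = 1} = Nat.card G := by
          apply Nat.card_congr
          refine Equiv.subtypeUnivEquiv ?_
          intro g
          rw [← hN]
          exact pow_card_eq_one'
        rw [this, hN]
      · -- pick a prime divisor of k
        have hp : k.minFac.Prime := Nat.minFac_prime hk1
        set p := k.minFac with hpdef
        have : Fact p.Prime := ⟨hp⟩
        obtain ⟨k', hk'⟩ := Nat.minFac_dvd k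
        have hk'pos : 0 < k' := by
          rcases Nat.eq_zero_or_pos k' with h | h
          · rw [h, mul_zero] at hk'; omega
          · exact h
        have hk'lt : k' < k := by
          rw [hk']
          have := hp.two_le
          nlinarith
        have hnp : n * p * k' = N := by rw [mul_assoc, ← hk', hnk]
        have h1 : n * p ∣ Nat.card {g : G // g ^ (n * p) = 1} := ihk k' hk'lt (n * p) hnp
        -- decompose n
        set b := n.factorization p with hb
        set s := n / p ^ b with hs
        have hns : p ^ b * s = n := Nat.ordProj_mul_ordCompl_eq_self n p
        have hps : ¬ p ∣ s := Nat.not_dvd_ordCompl hp hn0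
        have hnp' : n * p = p ^ (b + 1) * s := by rw [← hns]; ring
        classical
        have : Fintype G := Fintype.ofFinite G
        have hA : ∀ m : ℕ, Nat.card {g : G // g ^ m = 1} =
            (univ.filter (fun g : G => g ^ m = 1)).card := by
          intro m
          rw [Nat.card_eq_fintype_card, Fintype.card_subtype]
        rw [hA] at h1 ⊢
        set B : Finset G :=
          univ.filter (fun x : G => x ^ (p ^ (b + 1) * s) = 1 ∧ x ^ (p ^ b * s) ≠ 1) with hB
        have hsplit : (univ.filter (fun g : G => g ^ (n * p) = 1)).card =
            (univ.filter (fun g : G => g ^ n = 1)).card + B.card := by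
          rw [← Finset.card_filter_add_card_filter_not (fun g : G => g ^ n = 1)]
          congr 1
          · congr 1
            ext g
            simp only [Finset.mem_filter, Finset.mem_univ, true_and]
            constructor
            · rintro ⟨-, h⟩
              exact h
            · intro h
              exact ⟨by rw [pow_mul, h, one_pow], h⟩
          · congr 1
            ext g
            simp only [hB, Finset.mem_filter, Finset.mem_univ, true_and, hnp', hns]
        have hBdvd : n ∣ B.card := by
          rw [← hns]
          apply Nat.Coprime.mul_dvd_of_dvd_of_dvd
          · exact Nat.Coprime.pow_left _ ((Nat.Prime.coprime_iff_not_dvd hp).mpr hps)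
          · exact pow_dvd_card_B p b s hp
          · apply dvd_card_B_of_IH p b s hps _ IH
            rw [hN, ← hnk, ← hns]
            exact Dvd.intro_left _ rfl |>.mul_right k
        rw [hsplit] at h1
        exact (Nat.dvd_add_left hBdvd).mp (dvd_trans (Dvd.intro _ rfl) h1)

end Cfsg.Agent.Helper20
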