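import Mathlib
import Cfsg.Agent.Lib.Helper20.Frobenius
import Cfsg.Agent.Lib.Helper20.FrobTotient

/-!
# Counting elements by their order (helper20)
-/

set_option autoImplicit false

namespace Cfsg.Agent.Helper20

open Finset

variable {G : Type*} [Group G]

/-- The number of elements of order `m`. -/
noncomputable def ordCnt (G : Type*) [Group G] (m : ℕ) : ℕ := Nat.card {g : G // orderOf g = m}

theorem ordCnt_def (m : ℕ) : ordCnt G m = Nat.card {g : G // orderOf g = m} := rfl

theorem ordCnt_eq_card_filter [Fintype G] [DecidableEq G] (m : ℕ) :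
    ordCnt G m = (univ.filter (fun x : G => orderOf x = m)).card := by
  rw [ordCnt_def, Nat.card_eq_fintype_card, Fintype.card_subtype]

theorem totient_dvd_ordCnt [Finite G] (m : ℕ) : Nat.totient m ∣ ordCnt G m := by
  classical
  haveI := Fintype.ofFinite G
  rw [ordCnt_eq_card_filter]
  exact totient_dvd_card_orderOf_eq m

theorem ordCnt_pos_iff [Finite G] (m : ℕ) : 0 < ordCnt G m ↔ ∃ g : G, orderOf g = m := by
  rw [ordCnt_def, Nat.card_pos_iff]
  constructor
  · rintro ⟨⟨g, hg⟩, _⟩; exact ⟨g, hg⟩
  · rintro ⟨g, hg⟩; exact ⟨⟨⟨g, hg⟩⟩, inferInstance⟩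

theorem ordCnt_eq_zero [Finite G] (m : ℕ) (h : ¬ ∃ g : G, orderOf g = m) : ordCnt G m = 0 := by
  by_contra h0
  exact h ((ordCnt_pos_iff m).1 (Nat.pos_of_ne_zero h0))

theorem ordCnt_one [Finite G] : ordCnt G 1 = 1 := by
  rw [ordCnt_def]
  have : Unique {g : G // orderOf g = 1} :=
    { default := ⟨1, orderOf_one⟩
      uniq := fun g => Subtype.ext (orderOf_eq_one_iff.1 g.2) }
  exact Nat.card_unique

/-- The number of solutions of `g ^ d = 1` is the sum over the divisors `e` of `d` of the number
of elements of order `e`. -/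
theorem natCard_pow_eq_one_eq_sum [Finite G] (d : ℕ) (hd : d ≠ 0) :
    Nat.card {g : G // g ^ d = 1} = ∑ e ∈ d.divisors, ordCnt G e := by
  classical
  haveI := Fintype.ofFinite G
  rw [Nat.card_eq_fintype_card, Fintype.card_subtype]
  rw [Finset.card_eq_sum_card_fiberwise (f := fun g : G => orderOf g) (t := d.divisors)]
  · apply Finset.sum_congr rfl
    intro e he
    rw [ordCnt_eq_card_filter, Finset.filter_filter]
    congr 1
    ext g
    simp only [Finset.mem_filter, Finset.mem_univ, true_and]
    constructor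
    · rintro ⟨_, h2⟩; exact h2
    · intro h2
      refine ⟨?_, h2⟩
      rw [← orderOf_dvd_iff_pow_eq_one, h2]
      exact Nat.dvd_of_mem_divisors he
  · intro g hg
    simp only [Finset.coe_filter, Finset.mem_univ, true_and, Set.mem_setOf_eq] at hg
    simp only [Finset.mem_coe, Nat.mem_divisors]
    exact ⟨orderOf_dvd_of_pow_eq_one hg, hd⟩

/-- If all element orders lie in `T`, the group order is the sum of the order counts over `T`. -/
theorem natCard_eq_sum_ordCnt [Finite G] (T : Finset ℕ) (hT : ∀ g : G, orderOf g ∈ T) :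
    Nat.card G = ∑ e ∈ T, ordCnt G e := by
  classical
  haveI := Fintype.ofFinite G
  rw [Nat.card_eq_fintype_card, ← Finset.card_univ]
  rw [Finset.card_eq_sum_card_fiberwise (f := fun g : G => orderOf g) (t := T)]
  · apply Finset.sum_congr rfl
    intro e _
    rw [ordCnt_eq_card_filter]
  · intro g _
    exact hT g

/-- Frobenius' theorem in terms of `Nat.card`. -/
theorem frobenius_dvd [Finite G] (d : ℕ) (hd : d ∣ Nat.card G) :
    d ∣ Nat.card {g : G // g ^ d = 1} :=
  frobenius_main (Nat.card G) G rfl d hd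

/-- Frobenius' theorem, as a divisibility of a sum of order counts. -/
theorem frobenius_dvd_sum [Finite G] (d : ℕ) (hd : d ∣ Nat.card G) :
    d ∣ ∑ e ∈ d.divisors, ordCnt G e := by
  have hd0 : d ≠ 0 := by
    rintro rfl
    rw [zero_dvd_iff] at hd
    exact Nat.card_pos.ne' hd
  rw [← natCard_pow_eq_one_eq_sum d hd0]
  exact frobenius_dvd d hd

end Cfsg.Agent.Helper20
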