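import Mathlib
import Cfsg.Agent.Lib.Helper14.StGLDefs

/-!
# S2425 piece TRANS (helper20): `GL_n(F)` is transitive on flags of a given type

`flag_trans`: for a finite chain `C` of subspaces of `F^n` there is `g ∈ GL_n(F)` mapping the standard subspace of
dimension `dim W` onto `W`, for every `W ∈ C`.  Proof: build step by step a linearly independent family `v_0, …, v_{n-1}`
with `v_i ∈ W` whenever `W ∈ C` and `i < dim W` (the new vector is taken in the smallest member of `C` of dimension
`> k`, outside the span of the previous ones); the matrix with columns `v_i` does the job.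
-/

set_option autoImplicit false

namespace Cfsg.Agent.Helper14.StGL

open Module Polynomial Cfsg.Agent.Helper13.SS

open scoped Classical MatrixGroups

section gl

variable {F : Type*} [Field F] {n : ℕ}

/-- an independent family of length `k` adapted to the chain -/
theorem stgltrans_family (C : Finset (Submodule F (Fin n → F)))
    (hC : IsChain (· ≤ ·) (C : Set (Submodule F (Fin n → F)))) (k : ℕ) (hk : k ≤ n) :
    ∃ v : Fin k → (Fin n → F), LinearIndependent F v ∧
      ∀ W ∈ C, ∀ i : Fin k, i.val < finrank F ↥W → v i ∈ W := by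
  induction k with
  | zero => exact ⟨Fin.elim0, linearIndependent_empty_type, fun W _ i => i.elim0⟩
  | succ k ih =>
    obtain ⟨v, hv, hvW⟩ := ih (Nat.le_of_succ_le hk)
    have hSr : finrank F ↥(Submodule.span F (Set.range v)) = k := by
      rw [finrank_span_eq_card hv, Fintype.card_fin]
    obtain ⟨Ws, hWs1, hWs2⟩ : ∃ Ws : Submodule F (Fin n → F), k < finrank F ↥Ws ∧
        ∀ W ∈ C, k < finrank F ↥W → Ws ≤ W := by
      by_cases hne : (C.filter (fun W : Submodule F (Fin n → F) => k < finrank F ↥W)).Nonempty
      · obtain ⟨Ws, hWsm, hmin⟩ := Finset.exists_min_image _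
          (fun W : Submodule F (Fin n → F) => finrank F ↥W) hne
        rw [Finset.mem_filter] at hWsm
        refine ⟨Ws, hWsm.2, fun W hW hkW => ?_⟩
        have hle := hmin W (Finset.mem_filter.mpr ⟨hW, hkW⟩)
        rcases hC.total (Finset.mem_coe.mpr hWsm.1) (Finset.mem_coe.mpr hW) with h | h
        · exact h
        · exact (Submodule.eq_of_le_of_finrank_le h hle).ge
      · refine ⟨⊤, ?_, fun W hW hkW => ?_⟩
        · rw [finrank_top, Module.finrank_fintype_fun_eq_card, Fintype.card_fin]
          exact hk
        · exact absurd ⟨W, Finset.mem_filter.mpr ⟨hW, hkW⟩⟩ hne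
    have hnle : ¬ Ws ≤ Submodule.span F (Set.range v) := fun h => by
      have := Submodule.finrank_mono h
      omega
    obtain ⟨x, hxW, hxS⟩ := SetLike.not_le_iff_exists.mp hnle
    refine ⟨(Fin.snoc v x : Fin (k + 1) → (Fin n → F)), hv.finSnoc hxS, fun W hW i hi => ?_⟩
    induction i using Fin.lastCases with
    | last =>
      rw [Fin.snoc_last]
      exact hWs2 W hW hi hxW
    | cast j =>
      rw [Fin.snoc_castSucc]
      exact hvW W hW j hi

theorem flag_trans (C : Finset (Submodule F (Fin n → F)))
    (hC : IsChain (· ≤ ·) (C : Set (Submodule F (Fin n → F)))) :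
    ∃ g : GL (Fin n) F, ∀ W ∈ C, (std F n (finrank F ↥W)).map (L g) = W := by
  obtain ⟨v, hv, hvW⟩ := stgltrans_family C hC n le_rfl
  have hcard : Fintype.card (Fin n) = finrank F (Fin n → F) := by
    rw [Module.finrank_fintype_fun_eq_card]
  let b : Basis (Fin n) F (Fin n → F) := basisOfLinearIndependentOfCardEqFinrank' v hv hcard
  have hb : ⇑b = v := coe_basisOfLinearIndependentOfCardEqFinrank' v hv hcard
  let e : (Fin n → F) ≃ₗ[F] (Fin n → F) := b.equivFun.symm
  have he : ∀ u, e u = ∑ i, u i • v i := fun u => by
    rw [← hb]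
    exact b.equivFun_symm_apply u
  have hAB : LinearMap.toMatrix' e.toLinearMap * LinearMap.toMatrix' e.symm.toLinearMap = 1 := by
    rw [← LinearMap.toMatrix'_comp, LinearEquiv.comp_symm, LinearMap.toMatrix'_id]
  have hBA : LinearMap.toMatrix' e.symm.toLinearMap * LinearMap.toMatrix' e.toLinearMap = 1 := by
    rw [← LinearMap.toMatrix'_comp, LinearEquiv.symm_comp, LinearMap.toMatrix'_id]
  refine ⟨⟨LinearMap.toMatrix' e.toLinearMap, LinearMap.toMatrix' e.symm.toLinearMap, hAB, hBA⟩,
    fun W hW => ?_⟩
  have hL : L (⟨LinearMap.toMatrix' e.toLinearMap, LinearMap.toMatrix' e.symm.toLinearMap, hAB, hBA⟩ :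
      GL (Fin n) F) = e.toLinearMap := Matrix.toLin'_toMatrix' _
  rw [hL]
  have hdn : finrank F ↥W ≤ n := by
    have := Submodule.finrank_le W
    rwa [Module.finrank_fintype_fun_eq_card, Fintype.card_fin] at this
  apply le_antisymm
  · rintro _ ⟨u, hu, rfl⟩
    change e u ∈ W
    rw [he]
    refine Submodule.sum_mem _ fun i _ => ?_
    by_cases hi : i.val < finrank F ↥W
    · exact Submodule.smul_mem _ _ (hvW W hW i hi)
    · rw [hu i (not_lt.mp hi), zero_smul]
      exact Submodule.zero_mem _
  · -- `W` is the span of the first `dim W` vectors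
    have hli : LinearIndependent F (fun i : {i : Fin n // (i : ℕ) < finrank F ↥W} => v i.1) :=
      hv.comp _ Subtype.val_injective
    have hsp : Submodule.span F (Set.range (fun i : {i : Fin n // (i : ℕ) < finrank F ↥W} => v i.1)) = W := by
      apply Submodule.eq_of_le_of_finrank_eq
      · rw [Submodule.span_le]
        rintro _ ⟨i, rfl⟩
        exact hvW W hW i.1 i.2
      · rw [finrank_span_eq_card hli, Fintype.card_fin_lt_of_le hdn]
    refine le_trans hsp.ge (Submodule.span_le.mpr ?_)
    rintro _ ⟨i, rfl⟩
    refine ⟨Pi.single i.1 1, ?_, ?_⟩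
    · intro j hj
      have hne : j ≠ i.1 := fun h => by
        rw [h] at hj
        exact absurd i.2 (not_lt.mpr hj)
      exact Pi.single_eq_of_ne hne 1
    · change e (Pi.single i.1 1) = v i.1
      rw [he, Finset.sum_eq_single i.1]
      · rw [Pi.single_eq_same, one_smul]
      · intro j _ hj
        rw [Pi.single_eq_of_ne hj, zero_smul]
      · intro h
        exact absurd (Finset.mem_univ _) h

end gl

end Cfsg.Agent.Helper14.StGL
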