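import Mathlib
import Cfsg.Prelude
import Cfsg.Agent.Lib.Helper13.SdBN1
import Cfsg.Agent.Lib.Helper13.SdAbs
import Cfsg.Agent.Lib.Helper23.SdNotMem
import Cfsg.Agent.Lib.Helper10.SoIndex
import Cfsg.Agent.Lib.Helper17.OmegaChar2
import Cfsg.Agent.Lib.Helper2.OrthOrders

/-!
# S2548, piece INDEXD (helper20): the index of `Ω` in `j(⟨B, N⟩)` is prime to `p`.
-/

set_option autoImplicit false
set_option linter.unusedSectionVars false
set_option linter.unusedVariables false

namespace Cfsg.Agent.Helper13.SdP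

open Matrix Cfsg.Agent.Helper13.SuBN Cfsg.Agent.Helper13.SdBN Cfsg.Agent.Helper13.BNAbs

section Refl

variable {n : ℕ} {F : Type*} [Field F]

/-- the index `m - 1` in the middle -/
def idxC (n : ℕ) (h2 : 2 ≤ n) : Fin n := ⟨n / 2 - 1, by omega⟩

theorem idxC_val (h2 : 2 ≤ n) : (idxC n h2).val = n / 2 - 1 := rfl

theorem rev_idxC_val (hn : n % 2 = 0) (h2 : 2 ≤ n) : (Fin.rev (idxC n h2)).val = n / 2 := by
  rw [Fin.val_rev, idxC_val]
  omega

/-- the transposition of the two middle indices -/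
def idxSwap (n : ℕ) (h2 : 2 ≤ n) : Equiv.Perm (Fin n) :=
  Equiv.swap (idxC n h2) (Fin.rev (idxC n h2))

theorem idxSwap_val (hn : n % 2 = 0) (h2 : 2 ≤ n) (a : Fin n) :
    (idxSwap n h2 a).val =
      if a.val = n / 2 - 1 then n / 2 else if a.val = n / 2 then n / 2 - 1 else a.val := by
  unfold idxSwap
  rw [Equiv.swap_apply_def]
  by_cases h1 : a = idxC n h2
  · rw [if_pos h1, rev_idxC_val hn h2, if_pos (by rw [h1, idxC_val])]
  · rw [if_neg h1]
    have h1' : a.val ≠ n / 2 - 1 := fun e => h1 (Fin.ext e)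
    rw [if_neg h1']
    by_cases h3 : a = Fin.rev (idxC n h2)
    · rw [if_pos h3, if_pos (by rw [h3, rev_idxC_val hn h2])]
      rfl
    · rw [if_neg h3]
      have h3' : a.val ≠ n / 2 := fun e => h3 (Fin.ext (by rw [e, rev_idxC_val hn h2]))
      rw [if_neg h3']

theorem idxSwap_idxSwap (h2 : 2 ≤ n) (a : Fin n) : idxSwap n h2 (idxSwap n h2 a) = a := by
  unfold idxSwap
  exact Equiv.swap_apply_self _ _ a

theorem idxSwap_inv (h2 : 2 ≤ n) : (idxSwap n h2)⁻¹ = idxSwap n h2 := by
  unfold idxSwap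
  exact Equiv.swap_inv _ _

theorem idxSwap_sign (hn : n % 2 = 0) (h2 : 2 ≤ n) : Equiv.Perm.sign (idxSwap n h2) = -1 := by
  unfold idxSwap
  apply Equiv.Perm.sign_swap
  intro e
  have := congrArg Fin.val e
  rw [rev_idxC_val hn h2, idxC_val] at this
  omega

/-- the permutation matrix of the middle transposition -/
def reflMat (n : ℕ) (F : Type*) [Field F] (h2 : 2 ≤ n) : Matrix (Fin n) (Fin n) F :=
  fun a b => if a = idxSwap n h2 b then 1 else 0

theorem reflMat_eq (h2 : 2 ≤ n) :
    reflMat n F h2 = (Equiv.Perm.permMatrix F (idxSwap n h2)) := by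
  ext a b
  rw [reflMat, Equiv.Perm.permMatrix, PEquiv.toMatrix_apply, Equiv.toPEquiv_apply]
  simp only [Option.mem_def, Option.some.injEq]
  by_cases h : a = idxSwap n h2 b
  · rw [if_pos h, if_pos]
    rw [h, idxSwap_idxSwap]
  · rw [if_neg h, if_neg]
    intro e
    apply h
    rw [← e, idxSwap_idxSwap]

theorem reflMat_det (hn : n % 2 = 0) (h2 : 2 ≤ n) [CharP F 2] : (reflMat n F h2).det = 1 := by
  rw [reflMat_eq, Matrix.det_permutation, idxSwap_sign hn h2]
  simp only [Units.val_neg, Units.val_one, Int.cast_neg, Int.cast_one]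
  exact CharTwo.neg_eq 1

theorem reflMat_mulVec (h2 : 2 ≤ n) (v : Fin n → F) (a : Fin n) :
    (reflMat n F h2 *ᵥ v) a = v (idxSwap n h2 a) := by
  rw [Matrix.mulVec, dotProduct]
  rw [Finset.sum_eq_single (idxSwap n h2 a)]
  · rw [reflMat, if_pos (idxSwap_idxSwap h2 a).symm, one_mul]
  · intro b _ hb
    rw [reflMat, if_neg, zero_mul]
    intro e
    apply hb
    rw [e, idxSwap_idxSwap]
  · intro h; exact absurd (Finset.mem_univ _) h

theorem reflMat_qf (hn : n % 2 = 0) (h2 : 2 ≤ n) (v : Fin n → F) :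
    qf (reflMat n F h2 *ᵥ v) = qf v := by
  unfold qf
  apply Finset.sum_congr rfl
  intro i _
  rw [reflMat_mulVec, reflMat_mulVec]
  have hi := i.2
  by_cases h1 : i.val = n / 2 - 1
  · -- the middle pair is swapped
    have e1 : idxSwap n h2 (ix n i) = Fin.rev (ix n i) := by
      apply Fin.ext
      rw [idxSwap_val hn h2, Fin.val_rev]
      show (if i.val = n / 2 - 1 then n / 2 else _) = n - (i.val + 1)
      rw [if_pos h1]
      omega
    have e2 : idxSwap n h2 (Fin.rev (ix n i)) = ix n i := by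
      rw [← e1, idxSwap_idxSwap]
    rw [e1, e2, mul_comm]
  · have e1 : idxSwap n h2 (ix n i) = ix n i := by
      apply Fin.ext
      rw [idxSwap_val hn h2]
      show (if i.val = n / 2 - 1 then n / 2 else if i.val = n / 2 then n / 2 - 1 else i.val) = i.val
      rw [if_neg h1, if_neg (by omega)]
    have e2 : idxSwap n h2 (Fin.rev (ix n i)) = Fin.rev (ix n i) := by
      apply Fin.ext
      rw [idxSwap_val hn h2, Fin.val_rev]
      show (if n - (i.val + 1) = n / 2 - 1 then n / 2 else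
        if n - (i.val + 1) = n / 2 then n / 2 - 1 else n - (i.val + 1)) = n - (i.val + 1)
      rw [if_neg (by omega), if_neg (by omega)]
    rw [e1, e2]

/-- the reflection interchanging `e_{m-1}` and `f_{m-1}`, an element of `soq` in characteristic two -/
noncomputable def reflQ (n : ℕ) (F : Type*) [Field F] [CharP F 2] (hn : n % 2 = 0) (h2 : 2 ≤ n) :
    WSU n (RingHom.id F) :=
  mkSoq hn (reflMat n F h2) (reflMat_det hn h2) (reflMat_qf hn h2)

theorem reflQ_mem [CharP F 2] (hn : n % 2 = 0) (h2 : 2 ≤ n) : reflQ n F hn h2 ∈ soq n F :=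
  mkSoq_mem hn _ _ _

theorem reflQ_isMon [CharP F 2] (hn : n % 2 = 0) (h2 : 2 ≤ n) :
    IsMon (mt (reflQ n F hn h2)) (idxSwap n h2) := by
  intro a b hab
  show reflMat n F h2 a b = 0
  rw [reflMat, if_neg hab]

/-- the reflection normalises `borQ` -/
theorem reflQ_conj_mem [CharP F 2] (hn : n % 2 = 0) (h2 : 2 ≤ n) (b : WSU n (RingHom.id F))
    (hb : b ∈ borQ n F) : reflQ n F hn h2 * b * (reflQ n F hn h2)⁻¹ ∈ borQ n F := by
  refine ⟨?_, (soq n F).mul_mem ((soq n F).mul_mem (reflQ_mem hn h2) hb.2)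
    ((soq n F).inv_mem (reflQ_mem hn h2))⟩
  intro x y hyx
  rw [conj_apply (reflQ_isMon hn h2) b x y, idxSwap_inv]
  have hmid : mt b (idxSwap n h2 x) (idxSwap n h2 y) = 0 := by
    by_cases hlt : idxSwap n h2 y < idxSwap n h2 x
    · exact hb.1 _ _ hlt
    · -- then `x = rev c`, `y = c`
      rw [Fin.lt_def, idxSwap_val hn h2, idxSwap_val hn h2] at hlt
      rw [Fin.lt_def] at hyx
      have hx := x.2
      have hy := y.2
      have hxv : x.val = n / 2 := by
        split_ifs at hlt <;> omega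
      have hyv : y.val = n / 2 - 1 := by
        split_ifs at hlt <;> omega
      have e1 : idxSwap n h2 x = idxC n h2 := by
        apply Fin.ext
        rw [idxSwap_val hn h2, idxC_val, hxv]
        rw [if_neg (by omega), if_pos rfl]
      have e2 : idxSwap n h2 y = Fin.rev (idxC n h2) := by
        apply Fin.ext
        rw [idxSwap_val hn h2, rev_idxC_val hn h2, hyv, if_pos rfl]
      rw [e1, e2]
      apply mid_zero hb
      rw [rev_idxC_val hn h2, idxC_val]
      omega
  rw [hmid, mul_zero, zero_mul]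

/-- no even monomial matrix is congruent to the reflection modulo `borQ` -/
theorem reflQ_not_mem [CharP F 2] (hn : n % 2 = 0) (h2 : 2 ≤ n) (N0 : WSU n (RingHom.id F))
    (hN0 : N0 ∈ monE n F) : N0 * (reflQ n F hn h2)⁻¹ ∉ borQ n F := by
  intro hmem
  obtain ⟨_, π, hπ, hsign⟩ := hN0
  have h1 : IsMon (mt (N0 * (reflQ n F hn h2)⁻¹)) (π * (idxSwap n h2)⁻¹) := by
    rw [mt_mul]
    exact hπ.mul (reflQ_isMon hn h2).inv'
  have h3 := perm_eq_one_of_mem_bor h1 hmem.1
  rw [idxSwap_inv] at h3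
  have h4 : π = idxSwap n h2 := by
    have := congrArg (fun t => t * idxSwap n h2) h3
    simp only [one_mul] at this
    rw [mul_assoc] at this
    have e : idxSwap n h2 * idxSwap n h2 = 1 := by
      ext a
      simp [idxSwap_idxSwap]
    rwa [e, mul_one] at this
  rw [h4, idxSwap_sign hn h2] at hsign
  exact absurd hsign (by decide)

end Refl

/-- an element of `soq` outside `⟨B, N⟩` gives an element outside the image -/
theorem map_ne_top_of_not_mem {n : ℕ} {F : Type*} [Field F] {O : Type*} [Group O]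
    (j : ↥(soq n F) →* O) (hinj : Function.Injective j) (r : WSU n (RingHom.id F))
    (hr : r ∈ soq n F) (hnot : r ∉ borQ n F ⊔ monE n F) :
    ((borQ n F ⊔ monE n F).subgroupOf (soq n F)).map j ≠ ⊤ := by
  intro htop
  have h1 : j ⟨r, hr⟩ ∈ ((borQ n F ⊔ monE n F).subgroupOf (soq n F)).map j := by
    rw [htop]; exact Subgroup.mem_top _
  rw [Subgroup.mem_map] at h1
  obtain ⟨x, hx, hjx⟩ := h1
  have h2 : x = ⟨r, hr⟩ := hinj hjx
  rw [h2, Subgroup.mem_subgroupOf] at hx
  exact hnot hx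

/-- in a group `O` with a subgroup `Ω ≤ H < O` of index two, `H = Ω` -/
theorem relIndex_eq_one_of_index_two {O : Type*} [Group O] (Ω H : Subgroup O) (hΩH : Ω ≤ H)
    (hidx : Ω.index = 2) (hH : H ≠ ⊤) : Ω.relIndex H = 1 := by
  have h1 := Subgroup.relIndex_mul_index hΩH
  rw [hidx] at h1
  have h2 : H.index ≠ 1 := fun e => hH (Subgroup.index_eq_one.mp e)
  have h3 : H.index ∣ 2 := Dvd.intro_left _ h1
  have h4 : H.index = 2 := by
    rcases (Nat.dvd_prime Nat.prime_two).mp h3 with h | h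
    · exact absurd h h2
    · exact h
  rw [h4] at h1
  omega

theorem not_dvd_index {F : Type*} [Field F] [Fintype F] (p : ℕ) [Fact p.Prime] [CharP F p] (m : ℕ)
    (hm : 2 ≤ m) (hex : Fintype.card F ≠ 2 ∨ m ≠ 2) {S : Set (WSU (2 * m) (RingHom.id F))}
    (hloc : BNLoc (borQ (2 * m) F) (monE (2 * m) F) S)
    (j : ↥(soq (2 * m) F) →* Cfsg.isometryGroup F (Cfsg.quadFormPlus m F))
    (hinj : Function.Injective j)
    (hj : ∀ (x : ↥(soq (2 * m) F)) (a b : Fin m ⊕ Fin m),
        (((j x : Cfsg.isometryGroup F (Cfsg.quadFormPlus m F)) : GL (Fin m ⊕ Fin m) F) :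
          Matrix (Fin m ⊕ Fin m) (Fin m ⊕ Fin m) F) a b = mt (x : WSU (2 * m) (RingHom.id F)) (eD m a) (eD m b))
    (hΩ : commutator (Cfsg.isometryGroup F (Cfsg.quadFormPlus m F)) ≤
      ((borQ (2 * m) F ⊔ monE (2 * m) F).subgroupOf (soq (2 * m) F)).map j) :
    ¬ p ∣ ((commutator (Cfsg.isometryGroup F (Cfsg.quadFormPlus m F))).relIndex
      (((borQ (2 * m) F ⊔ monE (2 * m) F).subgroupOf (soq (2 * m) F)).map j)) := by
  classical
  have hp : p.Prime := Fact.out
  have hex' : Fintype.card F ≠ 2 ∨ Fintype.card (Fin m ⊕ Fin m) ≠ 4 := by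
    rcases hex with h | h
    · exact Or.inl h
    · right
      simp only [Fintype.card_sum, Fintype.card_fin]
      omega
  by_cases h2 : p = 2
  · subst h2
    -- characteristic two
    have hidx : (commutator (Cfsg.isometryGroup F (Cfsg.quadFormPlus m F))).index = 2 := by
      rw [Cfsg.Agent.Helper2.Orth.quadFormPlus_eq]
      have i0 : Fin m := ⟨0, by omega⟩
      let u : Fin m ⊕ Fin m → F := fun x => Sum.elim (fun i => if i = (⟨0, by omega⟩ : Fin m) then (1 : F) else 0)
        (fun i => if i = (⟨0, by omega⟩ : Fin m) then (1 : F) else 0) x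
      have hu : (Cfsg.Agent.Helper13.matQ (Cfsg.Agent.Helper13.plusMat m F)) u ≠ 0 := by
        rw [← Cfsg.Agent.Helper2.Orth.quadFormPlus_eq]
        unfold Cfsg.quadFormPlus
        simp [u]
      exact Cfsg.Agent.Helper17.Spinor.index_Omega_char_two _
        (Cfsg.Agent.Helper2.Orth.nondeg_plus m) hex' hu
    have hn : (2 * m) % 2 = 0 := by omega
    have h2n : 2 ≤ 2 * m := by omega
    have hnot : reflQ (2 * m) F hn h2n ∉ borQ (2 * m) F ⊔ monE (2 * m) F :=
      not_mem_sup_of_normalizes hloc _ (fun b hb => reflQ_conj_mem hn h2n b hb)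
        (fun N0 hN0 => reflQ_not_mem hn h2n N0 hN0)
    have hne := map_ne_top_of_not_mem j hinj _ (reflQ_mem hn h2n) hnot
    rw [relIndex_eq_one_of_index_two _ _ hΩ hidx hne]
    norm_num
  · -- odd characteristic: the index of `Ω` is a power of two
    have hidx : ∃ k : ℕ, (commutator (Cfsg.isometryGroup F (Cfsg.quadFormPlus m F))).index = 2 ^ k := by
      rw [Cfsg.Agent.Helper2.Orth.quadFormPlus_eq]
      exact Cfsg.Agent.Helper10.SoIndex.index_commutator_isometry _
        (Cfsg.Agent.Helper2.Orth.nondeg_plus m) hex'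
    obtain ⟨k, hk⟩ := hidx
    intro hdvd
    have h1 := Subgroup.relIndex_mul_index hΩ
    rw [hk] at h1
    have h3 : p ∣ 2 ^ k := (hdvd.trans (Dvd.intro _ h1))
    have h4 : p ∣ 2 := hp.dvd_of_dvd_pow h3
    exact h2 ((Nat.prime_dvd_prime_iff_eq hp Nat.prime_two).mp h4)

end Cfsg.Agent.Helper13.SdP
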