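import Mathlib
import Cfsg.Agent.Lib.Helper4.BGSigI
import Cfsg.Agent.Lib.Helper4.BG144H
import Cfsg.Agent.Lib.Helper10.BG13S2
import Cfsg.Agent.Lib.Helper7.BG13A1
import Cfsg.Agent.Lib.Helper20.BG12B
import Cfsg.Agent.S0025
import Cfsg.Agent.S0026

/-!
# Bender–Glauberman 13.4 ("Theorem A"), part 1: the key lemma (helper20)

`key_lemma`: if `q ∉ β(M)` then the derived group of a complement `E` of `M_σ` centralises every
`q`-subgroup of `M` normalised by `E`.
-/

set_option autoImplicit false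
set_option linter.unusedVariables false
set_option linter.style.haveILetI false

namespace Cfsg.Agent.Helper20.BG14

open Cfsg Subgroup
open scoped commutatorElement
open Cfsg.Agent.Helper15 (IsSylowIn)

universe u

variable {G : Type u} [Group G] [Finite G]

omit [Finite G] in
/-- elements of a subgroup have order dividing its order -/
theorem orderOf_dvd_card_of_mem' {K : Subgroup G} {x : G} (hx : x ∈ K) :
    orderOf x ∣ Nat.card ↥K := by
  have := orderOf_dvd_natCard (⟨x, hx⟩ : ↥K)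
  rwa [Subgroup.orderOf_mk] at this

omit [Finite G] in
/-- two subgroups of coprime orders meet trivially -/
theorem inf_eq_bot_of_coprime' {A B : Subgroup G} (h : (Nat.card ↥A).Coprime (Nat.card ↥B)) :
    A ⊓ B = ⊥ := Subgroup.inf_eq_bot_of_coprime h

/-- KEY LEMMA: for `q ∉ β(M)` dividing `|M|` but not `|E|`, the derived group of `E` centralises
every `q`-subgroup `S` of `M` normalised by `E`. -/
theorem key_lemma (h1414 : Cfsg.Agent.Helper4.BGSig.H1414 G) {M E S : Subgroup G} {q : ℕ}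
    [Fact q.Prime] (hM : IsCoatom M) (hEM : E ≤ M) (hqM : q ∣ Nat.card ↥M) (hqβ : q ∉ beta M)
    (hqE : (Nat.card ↥E).Coprime q) (hS : IsPGroup q ↥S) (hSM : S ≤ M)
    (hES : E ≤ normalizer (S : Set G)) : ⁅E, E⁆ ≤ centralizer (S : Set G) := by
  have hq : q.Prime := Fact.out
  obtain ⟨hnpc, -, -⟩ := (h1414 M hM).2.2.2.2 q hq hqM hqβ
  have hMD : M ≤ normalizer ((⁅M, M⁆ : Subgroup G) : Set G) :=
    Cfsg.Agent.Helper18.BG13P.le_normalizer_commutator_of_le le_normalizer le_normalizer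
  obtain ⟨W, hWD, hMW, hWq, hWmem⟩ := Cfsg.Agent.Helper7.BG13A1.exists_pcompl hnpc hMD
  have hEEW : ⁅E, E⁆ ≤ W := by
    intro x hx
    have hxE : x ∈ E := Subgroup.commutator_le_self E hx
    apply hWmem x (Subgroup.commutator_mono hEM hEM hx)
    exact Nat.Coprime.coprime_dvd_left (orderOf_dvd_card_of_mem' hxE) hqE
  have hSW : S ⊓ W = ⊥ := by
    apply inf_eq_bot_of_coprime'
    obtain ⟨k, hk⟩ := hS.exists_card_eq
    rw [hk]
    exact (Nat.Coprime.pow_right k hWq).symm
  intro x hx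
  rw [Subgroup.mem_centralizer_iff]
  intro s hs
  have hxW : x ∈ W := hEEW hx
  have hxE : x ∈ E := Subgroup.commutator_le_self E hx
  have h1 : s * x * s⁻¹ * x⁻¹ ∈ S ⊓ W := by
    refine ⟨?_, ?_⟩
    · have : x * s⁻¹ * x⁻¹ ∈ S :=
        (Subgroup.mem_normalizer_iff.mp (hES hxE) s⁻¹).mp (S.inv_mem hs)
      have h2 := S.mul_mem hs this
      have h3 : s * x * s⁻¹ * x⁻¹ = s * (x * s⁻¹ * x⁻¹) := by group
      rw [h3]; exact h2
    · have : s * x * s⁻¹ ∈ W := (Subgroup.mem_normalizer_iff.mp (hMW (hSM hs)) x).mp hxW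
      exact W.mul_mem this (W.inv_mem hxW)
  rw [hSW, Subgroup.mem_bot] at h1
  have : s * x = x * s := by
    have h2 : s * x * s⁻¹ * x⁻¹ * (x * s) = 1 * (x * s) := by rw [h1]
    rw [one_mul] at h2
    rw [← h2]; group
  exact this

end Cfsg.Agent.Helper20.BG14
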