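import Mathlib
import Cfsg.Agent.Lib.Helper20.BG14A
import Cfsg.Agent.Lib.Helper20.BG12C
import Cfsg.Agent.Lib.Helper22.BG13A
import Cfsg.Agent.Lib.Helper23.BG10A

/-!
# Bender–Glauberman 13.4 ("Theorem A"), part 2 (helper20)

`theoremA`: for `X ≤ M` of order `p ∈ τ₁(M)` and `Y ≤ C_{M_σ}(X)` of prime order `q`, either
`q ∈ β(M)` or `Y ≤ M_σ'`.  `theoremA_unique`: hence (BG 12.14 = S1423) `M` is the unique maximal
subgroup over `C_G(Y)`.
-/

set_option autoImplicit false
set_option linter.unusedVariables false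
set_option linter.style.haveILetI false
set_option maxHeartbeats 1600000

namespace Cfsg.Agent.Helper20.BG14

open Cfsg Subgroup
open scoped commutatorElement
open Cfsg.Agent.Helper15 (IsSylowIn)

universe u

variable {G : Type u} [Group G] [Finite G]

omit [Finite G] in
/-- subgroups of cyclic subgroups are cyclic -/
theorem isCyclic_of_le_cyclic {P K : Subgroup G} (h : P ≤ K) (hK : IsCyclic ↥K) :
    IsCyclic ↥P := by
  haveI := hK
  have h1 : IsCyclic ↥(P.subgroupOf K) := inferInstance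
  exact isCyclic_of_surjective (Subgroup.subgroupOfEquivOfLe h).toMonoidHom
    (Subgroup.subgroupOfEquivOfLe h).surjective

omit [Finite G] in
/-- elements of a cyclic subgroup commute -/
theorem commute_of_mem_cyclic {K : Subgroup G} (hK : IsCyclic ↥K) {x y : G} (hx : x ∈ K)
    (hy : y ∈ K) : x * y = y * x := by
  haveI := hK
  have := (IsCyclic.isMulCommutative (α := ↥K)).is_comm.comm ⟨x, hx⟩ ⟨y, hy⟩
  exact congrArg Subtype.val this

omit [Finite G] in
/-- a subgroup of prime order is not trivial -/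
theorem ne_bot_of_card_prime {Y : Subgroup G} (h : (Nat.card ↥Y).Prime) : Y ≠ ⊥ := by
  intro hY
  rw [hY, Subgroup.card_bot] at h
  exact Nat.not_prime_one h

omit [Finite G] in
/-- primes dividing a prime are that prime -/
theorem eq_of_prime_dvd_prime_pow {s u k : ℕ} (hs : s.Prime) (hu : u.Prime) (h : s ∣ u ^ k) :
    s = u := (Nat.prime_dvd_prime_iff_eq hs hu).mp (hs.dvd_of_dvd_pow h)

/-- classification of the primes dividing the order of a complement `E` when `τ₂(M) = ∅` -/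
theorem mem_tau1_or_tau3_of_dvd_compl (hG : IsMinSimpleOddOrder G) {M E : Subgroup G}
    (hM : IsCoatom M) (hhall : IsPiHallOf (sigma M) (sigmaCore M) M)
    (hE : IsComplIn E (sigmaCore M) M) (hτ2 : ∀ ℓ, ℓ ∉ tau2 M) {r : ℕ} (hr : r.Prime)
    (hd : r ∣ Nat.card ↥E) : r ∈ tau1 M ∨ r ∈ tau3 M := by
  have hrσ : r ∉ sigma M := Cfsg.Agent.Helper20.BG12.not_mem_sigma_of_dvd_card_compl hhall hE hr hd
  have hrM : r ∣ Nat.card ↥M := hd.trans (Subgroup.card_dvd_of_le hE.1)
  have hr2 : PRankLE r 2 ↥M := by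
    by_contra h2
    exact hrσ (Cfsg.Agent.Helper23.BG10.alpha_subset_sigma hG
      (Cfsg.Agent.Helper4.BGSig.Ctx.uniq hG) hM ⟨hr, h2⟩)
  have hr1 : PRankLE r 1 ↥M := by
    by_contra h1
    exact hτ2 r ⟨hr, hrσ, hr2, h1⟩
  by_cases hc : r ∣ Nat.card ↥(⁅M, M⁆ : Subgroup G)
  · exact Or.inr ⟨hr, hrσ, hc, hr1⟩
  · exact Or.inl ⟨hr, hrσ, hrM, hc, hr1⟩

/-- THEOREM A (BG 13.4), first form -/
theorem theoremA (h : Cfsg.Agent.Helper4.BGSig.Hyps G) (h1415 : Cfsg.Agent.Helper20.BG12.H1415 G)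
    (h1418 : Cfsg.Agent.Helper4.BG144.H1418 G)
    {M X Y : Subgroup G} {p q : ℕ} [Fact q.Prime] (hM : IsCoatom M)
    (hp : p ∈ tau1 M) (hXM : X ≤ M) (hXc : Nat.card X = p)
    (hY : Y ≤ sigmaCore M ⊓ centralizer (X : Set G)) (hYc : Nat.card Y = q) :
    q ∈ beta M ∨ Y ≤ ⁅sigmaCore M, sigmaCore M⁆ := by
  by_contra hcon
  push Not at hcon
  obtain ⟨hqβ, hYD⟩ := hcon
  have hG := h.hG
  have hq : q.Prime := Fact.out
  have hpp : p.Prime := hp.1
  obtain ⟨hhall, -, -⟩ := h.h1350 M hM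
  have hYσ : Y ≤ sigmaCore M := hY.trans inf_le_left
  have hYX : Y ≤ centralizer (X : Set G) := hY.trans inf_le_right
  have hYne : Y ≠ ⊥ := ne_bot_of_card_prime (hYc ▸ hq)
  have hqdvd : q ∣ Nat.card ↥(sigmaCore M) := hYc ▸ Subgroup.card_dvd_of_le hYσ
  have hqσ : q ∈ sigma M := hhall.2.1 q hq hqdvd
  have hqM : q ∣ Nat.card ↥M := hqσ.2.1
  have hXcop : (Nat.card ↥X).Coprime (Nat.card ↥(sigmaCore M)) := by
    rw [hXc]
    exact (Nat.Prime.coprime_iff_not_dvd hpp).mpr
      (Cfsg.Agent.Helper18.BG13P.not_dvd_card_sigmaCore hpp hp.2.1)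
  have hXtop : X ≠ ⊤ := fun hh => hM.1 (top_le_iff.mp (hh ▸ hXM))
  have hsolvX : Group.IsSolvable ↥X := hG.2.2.2 X hXtop
  have hXN : X ≤ normalizer ((sigmaCore M : Subgroup G) : Set G) :=
    hXM.trans (Cfsg.Agent.Helper22.BG13.le_normalizer_sigmaCore M)
  have hXCY : X ≤ centralizer (Y : Set G) := Subgroup.le_centralizer_iff.mp hYX
  have hXY : X ≤ normalizer (Y : Set G) := hXCY.trans (Subgroup.centralizer_le_normalizer _)
  have hYq : IsPGroup q ↥Y := IsPGroup.of_card (n := 1) (by rw [hYc, pow_one])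
  obtain ⟨P, hYP, hXP⟩ := Cfsg.Agent.S0025.result X (sigmaCore M) hXN hXcop (Or.inl hsolvX) q Y
    hYσ hYq hXY
  have hS : IsSylowIn q ((P : Subgroup ↥(sigmaCore M)).map (sigmaCore M).subtype) (sigmaCore M) :=
    Cfsg.Agent.Helper15.isSylowIn_map_subtype P
  obtain ⟨E, hE, hES, hXE⟩ := Cfsg.Agent.Helper10.BG13S.exists_compl_normalizer_ge hG h.h1350 hM hS
    hXM hXP hXcop
  have hEcop := Cfsg.Agent.Helper20.BG12.coprime_card_compl hhall hE
  have hqE : (Nat.card ↥E).Coprime q := Nat.Coprime.coprime_dvd_right hqdvd hEcop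
  have hEES := key_lemma h.h1414 hM hE.1 hqM hqβ hqE hS.isPGroup
    (hS.le.trans (Cfsg.Agent.Helper22.BG13.sigmaCore_le M)) hES
  have hEEY : ⁅E, E⁆ ≤ centralizer (Y : Set G) :=
    hEES.trans (Subgroup.centralizer_le (by exact_mod_cast hYP))
  have hEtop : E ≠ ⊤ := fun hh => hM.1 (top_le_iff.mp (hh ▸ hE.1))
  have hsolvE : Group.IsSolvable ↥E := hG.2.2.2 E hEtop
  by_cases hτ2 : ∃ ℓ, ℓ ∈ tau2 M
  · -- a `τ₂`-prime exists
    obtain ⟨ℓ, hℓ⟩ := hτ2
    haveI : Fact ℓ.Prime := ⟨hℓ.1⟩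
    obtain ⟨B, hBE, hBe, hBc⟩ := Cfsg.Agent.Helper20.BG12.exists_elemAb_sq_le_compl hhall hE hℓ
    obtain ⟨⟨hEB, -⟩, -, -⟩ := h1418 M hM E hE ℓ hℓ B ⟨hBE, hBe, hBc⟩
    have hCB : sigmaCore M ⊓ centralizer (B : Set G) = ⊥ :=
      (h.h1417 M hM ℓ hℓ B ⟨hBE.trans hE.1, hBe, hBc⟩).2.2.2.1
    have hpℓ : p ≠ ℓ := by
      intro hh
      exact hℓ.2.2.2 (hh ▸ hp.2.2.2.2)
    have hXBcop : (Nat.card ↥X).Coprime (Nat.card ↥B) := by
      rw [hXc, hBc]
      exact Nat.Coprime.pow_right 2 ((Nat.coprime_primes hpp hℓ.1).mpr hpℓ)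
    have hdec := Cfsg.Agent.S0026.result X B (hXE.trans hEB) hXBcop (Or.inl hsolvX)
    have hBY : B ≤ centralizer (Y : Set G) := by
      rw [← hdec]
      refine sup_le ((Subgroup.commutator_mono hBE hXE).trans hEEY) ?_
      intro b hb
      by_cases hb1 : b = 1
      · rw [hb1]; exact Subgroup.one_mem _
      have hbB : b ∈ B := hb.1
      have hbX : b ∈ centralizer (X : Set G) := hb.2
      have hbo : orderOf b = ℓ := by
        have h1 : orderOf b ∣ ℓ := orderOf_dvd_of_pow_eq_one (hBe.2 b hbB)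
        rcases (Nat.dvd_prime hℓ.1).mp h1 with h2 | h2
        · exact absurd (orderOf_eq_one_iff.mp h2) hb1
        · exact h2
      have hRc : (Nat.card ↥(zpowers b)).Prime := by
        rw [Nat.card_zpowers, hbo]; exact hℓ.1
      have hRle : zpowers b ≤ E ⊓ centralizer (X : Set G) := by
        rw [zpowers_le]
        exact ⟨hBE hbB, hbX⟩
      have h28 := h.h1428 M hM E hE p hp X hXE hXc (zpowers b) hRle hRc
      have hYR : Y ≤ centralizer ((zpowers b : Subgroup G) : Set G) := (hY.trans h28).trans inf_le_right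
      have : zpowers b ≤ centralizer (Y : Set G) := Subgroup.le_centralizer_iff.mp hYR
      exact this (mem_zpowers b)
    have hYB : Y ≤ sigmaCore M ⊓ centralizer (B : Set G) :=
      le_inf hYσ (Subgroup.le_centralizer_iff.mp hBY)
    rw [hCB] at hYB
    exact hYne (le_bot_iff.mp hYB)
  · -- no `τ₂`-prime
    push Not at hτ2
    have hEq : E ⊓ centralizer (Y : Set G) = E := by
      apply Cfsg.Agent.Helper4.BGSig.eq_of_forall_sylow_le inf_le_left
      intro r hr hd
      haveI : Fact r.Prime := ⟨hr⟩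
      rcases mem_tau1_or_tau3_of_dvd_compl hG hM hhall hE hτ2 hr hd with hr1 | hr3
      · -- `r ∈ τ₁(M)`
        obtain ⟨E₁, hXE₁, hE₁⟩ := Cfsg.Agent.Helper4.BGSig.exists_isPiHallOf_ge hsolvE (tau1 M) hXE
          (fun s hs hsd => by
            rw [hXc] at hsd
            rw [(Nat.prime_dvd_prime_iff_eq hs hpp).mp hsd]; exact hp)
        have hE₁c : IsCyclic ↥E₁ := (h1415 M hM E hE).2.1 E₁ hE₁
        obtain ⟨U, hU⟩ := Cfsg.Agent.Helper15.exists_isSylowIn (p := r) E₁
        have hUE : IsSylowIn r U E := by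
          apply Cfsg.Agent.Helper15.isSylowIn_of_not_dvd_relIndex hU.isPGroup (hU.le.trans hE₁.1)
          rw [← Subgroup.relIndex_mul_relIndex U E₁ E hU.le hE₁.1]
          intro hdvd
          rcases (Nat.Prime.dvd_mul hr).mp hdvd with h' | h'
          · exact hU.not_dvd_relIndex h'
          · exact hE₁.2.2 r hr hr1 h'
        refine ⟨U, hUE, le_inf hUE.le ?_⟩
        -- an element of order `r` in `U`
        have hUcard := hUE.card_eq
        have hE0 : Nat.card ↥E ≠ 0 := Nat.card_pos.ne'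
        have hfpos : 0 < (Nat.card ↥E).factorization r := hr.factorization_pos_of_dvd hE0 hd
        have hrU : r ∣ Nat.card ↥U := by
          rw [hUcard]; exact dvd_pow_self r hfpos.ne'
        obtain ⟨x, hx⟩ := exists_prime_orderOf_dvd_card' (G := ↥U) r hrU
        have hxo : orderOf (x : G) = r := by rw [Subgroup.orderOf_coe]; exact hx
        have hxU : (x : G) ∈ U := x.2
        have hx1 : (x : G) ≠ 1 := by
          intro hh
          rw [hh, orderOf_one] at hxo
          exact hr.one_lt.ne hxo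
        have hRc : (Nat.card ↥(zpowers (x : G))).Prime := by
          rw [Nat.card_zpowers, hxo]; exact hr
        have hRle : zpowers (x : G) ≤ E ⊓ centralizer (X : Set G) := by
          rw [zpowers_le]
          refine ⟨hUE.le hxU, Subgroup.mem_centralizer_iff.mpr ?_⟩
          intro g hg
          exact commute_of_mem_cyclic hE₁c (hXE₁ hg) (hU.le hxU)
        have h28 := h.h1428 M hM E hE p hp X hXE hXc (zpowers (x : G)) hRle hRc
        have hYx : Y ≤ sigmaCore M ⊓ centralizer ({(x : G)} : Set G) := by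
          refine (hY.trans h28).trans (le_inf inf_le_left ?_)
          refine inf_le_right.trans (Subgroup.centralizer_le ?_)
          intro z hz
          rw [Set.mem_singleton_iff] at hz
          rw [hz]
          exact mem_zpowers (x : G)
        -- prime action on the cyclic Sylow `r`-subgroup
        have hUcyc : IsCyclic ↥U := isCyclic_of_le_cyclic hU.le hE₁c
        have hTcyc : IsCyclic ↥((hUE.toSylow : Sylow r ↥E) : Subgroup ↥E) := by
          rw [hUE.coe_toSylow]
          haveI := hUcyc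
          exact isCyclic_of_surjective (Subgroup.subgroupOfEquivOfLe hUE.le).symm.toMonoidHom
            (Subgroup.subgroupOfEquivOfLe hUE.le).symm.surjective
        have hTne : ((hUE.toSylow : Sylow r ↥E) : Subgroup ↥E) ≠ ⊥ := by
          intro hh
          have h1 := hUE.map_toSylow
          rw [hh, Subgroup.map_bot] at h1
          have hxb : (x : G) ∈ (⊥ : Subgroup G) := by rw [h1]; exact hxU
          exact hx1 (Subgroup.mem_bot.mp hxb)
        have h27 := h.h1427 M hM E hE r hUE.toSylow hTne hTcyc (x : G)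
          (by rw [hUE.map_toSylow]; exact hxU) hx1
        rw [hUE.map_toSylow] at h27
        rw [h27] at hYx
        exact Subgroup.le_centralizer_iff.mp (hYx.trans inf_le_right)
      · -- `r ∈ τ₃(M)`
        obtain ⟨U, hU⟩ := Cfsg.Agent.Helper15.exists_isSylowIn (p := r) E
        obtain ⟨E₃, hUE₃, hE₃⟩ := Cfsg.Agent.Helper4.BGSig.exists_isPiHallOf_ge hsolvE (tau3 M) hU.le
          (fun s hs hsd => by
            rw [hU.card_eq] at hsd
            rw [eq_of_prime_dvd_prime_pow hs hr hsd]; exact hr3)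
        have h3 := ((h1415 M hM E hE).2.2 E₃ hE₃).2.1
        exact ⟨U, hU, le_inf hU.le ((hUE₃.trans h3).trans hEEY)⟩
    have hEY : E ≤ centralizer (Y : Set G) := by
      rw [← hEq]; exact inf_le_right
    have hYE : Y ≤ sigmaCore M ⊓ centralizer (E : Set G) :=
      le_inf hYσ (Subgroup.le_centralizer_iff.mp hEY)
    exact hYD (hYE.trans (h.h1426 M hM E hE).1)

/-- THEOREM A, uniqueness form -/
theorem theoremA_unique (h : Cfsg.Agent.Helper4.BGSig.Hyps G)
    (h1415 : Cfsg.Agent.Helper20.BG12.H1415 G) (h1418 : Cfsg.Agent.Helper4.BG144.H1418 G)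
    {M X Y : Subgroup G} {p q : ℕ} [Fact q.Prime] (hM : IsCoatom M)
    (hp : p ∈ tau1 M) (hXM : X ≤ M) (hXc : Nat.card X = p)
    (hY : Y ≤ sigmaCore M ⊓ centralizer (X : Set G)) (hYc : Nat.card Y = q) :
    q ∈ sigma M ∧
    (centralizer (Y : Set G) ≤ M ∧
      ∀ L : Subgroup G, IsCoatom L → centralizer (Y : Set G) ≤ L → L = M) ∧
    ∀ P : Sylow q ↥(sigmaCore M),
      InUniqueMaximal ((P : Subgroup ↥(sigmaCore M)).map (sigmaCore M).subtype) ∧
      (P : Subgroup ↥(sigmaCore M)).map (sigmaCore M).subtype ≤ M := by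
  have hq : q.Prime := Fact.out
  obtain ⟨hhall, -, -⟩ := h.h1350 M hM
  have hYσ : Y ≤ sigmaCore M := hY.trans inf_le_left
  have hqdvd : q ∣ Nat.card ↥(sigmaCore M) := hYc ▸ Subgroup.card_dvd_of_le hYσ
  have hqσ : q ∈ sigma M := hhall.2.1 q hq hqdvd
  have hA := theoremA h h1415 h1418 hM hp hXM hXc hY hYc
  have hYM : Y ≤ M := hYσ.trans (Cfsg.Agent.Helper22.BG13.sigmaCore_le M)
  refine ⟨hqσ, ?_, ?_⟩
  · obtain ⟨P⟩ : Nonempty (Sylow q ↥(sigmaCore M)) := inferInstance
    exact (h.h1423 M hM q hqσ Y hYM hYc P hA).1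
  · intro P
    exact (h.h1423 M hM q hqσ Y hYM hYc P hA).2

end Cfsg.Agent.Helper20.BG14
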