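import Mathlib
import Cfsg.Prelude.Def_OddOrderLocal
import Cfsg.Agent.Lib.Helper20.BG12C
import Cfsg.Agent.Lib.Helper1.Coprime

/-!
# BG Theorem 12.6 (the statement of S1418) from S1350, S1416, S1417 (helper20)
-/

set_option autoImplicit false

namespace Cfsg.Agent.Helper20.BG12

open Cfsg
open scoped commutatorElement

universe u

variable {G : Type u} [Group G] [Finite G]

omit [Finite G] in
theorem le_normalizer_sigmaCore' (M : Subgroup G) :
    M ≤ Subgroup.normalizer (sigmaCore M : Set G) :=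
  Cfsg.Agent.Helper14.BGTrans.le_normalizer_piCoreOf (sigma M) M

omit [Finite G] in
/-- Dedekind: `(K ⊔ A) ⊓ E = A` when `A ≤ E`, `E ⊓ K = ⊥` and `A` normalises `K` -/
theorem sup_inf_eq_of_disjoint {K A E : Subgroup G} (hAE : A ≤ E) (hEK : E ⊓ K = ⊥)
    (hAK : A ≤ Subgroup.normalizer (K : Set G)) {x : G} (hx : x ∈ K ⊔ A) (hxE : x ∈ E) : x ∈ A := by
  obtain ⟨k, hk, a, ha, rfl⟩ := Cfsg.Agent.Helper1.exists_mul_of_mem_sup hAK hx
  have hkE : k ∈ E := by
    have := E.mul_mem hxE (E.inv_mem (hAE ha))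
    rwa [mul_inv_cancel_right] at this
  have hk1 : k ∈ E ⊓ K := ⟨hkE, hk⟩
  rw [hEK, Subgroup.mem_bot] at hk1
  rw [hk1, one_mul]
  exact ha

theorem h1418_of (hG : IsMinSimpleOddOrder G) (h1350 : H1350 G) (h1416 : H1416 G)
    (h1417 : H1417 G) : H1418 G := by
  intro M hM E hE p _ hp A hA
  obtain ⟨hAE, hAe, hAc⟩ := hA
  have hpp : p.Prime := Fact.out
  have hAM : A ≤ M := hAE.trans hE.1
  obtain ⟨-, hb, hc, hd, he, -⟩ := h1417 M hM p hp A ⟨hAM, hAe, hAc⟩
  have hCA : Subgroup.centralizer (A : Set G) ≤ M := (h1416 M hM p A ⟨hAM, hAe, hAc⟩).1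
  have hhall := (h1350 M hM).1
  set K := sigmaCore M with hK
  have hMK : M ≤ Subgroup.normalizer (K : Set G) := le_normalizer_sigmaCore' M
  have hAK : A ≤ Subgroup.normalizer (K : Set G) := hAM.trans hMK
  have hEK : E ⊓ K = ⊥ := hE.2.2.1
  have hAp : IsPGroup p ↥A := Cfsg.Agent.Helper14.BGUniq.isPGroup_of_isElementaryAbelian hAe
  -- (i) `A` is normal in `E`
  have hEN : E ≤ Subgroup.normalizer (A : Set G) := by
    intro e he'
    have heN := hc (hE.1 he')
    rw [Subgroup.mem_normalizer_iff'']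
    intro a
    constructor
    · intro ha
      have h1 : e⁻¹ * a * e ∈ K ⊔ A :=
        (Subgroup.mem_normalizer_iff''.mp heN a).mp (Subgroup.mem_sup_right ha)
      have h2 : e⁻¹ * a * e ∈ E := E.mul_mem (E.mul_mem (E.inv_mem he') (hAE ha)) he'
      exact sup_inf_eq_of_disjoint hAE hEK hAK h1 h2
    · intro ha
      have h0 : e * (e⁻¹ * a * e) * e⁻¹ = a := by group
      have heN' : e⁻¹ ∈ Subgroup.normalizer ((K ⊔ A : Subgroup G) : Set G) :=
        Subgroup.inv_mem _ heN
      have h1 : e⁻¹⁻¹ * (e⁻¹ * a * e) * e⁻¹ ∈ K ⊔ A :=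
        (Subgroup.mem_normalizer_iff''.mp heN' _).mp (Subgroup.mem_sup_right ha)
      rw [inv_inv, h0] at h1
      have h2 : a ∈ E := by
        have := E.mul_mem (E.mul_mem he' (hAE ha)) (E.inv_mem he')
        rwa [h0] at this
      exact sup_inf_eq_of_disjoint hAE hEK hAK h1 h2
  -- a Sylow `p`-subgroup of `E` over `A` is Sylow in `M`
  obtain ⟨T, hAT, hT⟩ := Cfsg.Agent.Helper15.exists_isSylowIn_ge hAp hAE
  have hTM : Cfsg.Agent.Helper15.IsSylowIn p T M := by
    apply Cfsg.Agent.Helper15.isSylowIn_of_not_dvd_relIndex hT.isPGroup (hT.le.trans hE.1)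
    rw [← Subgroup.relIndex_mul_relIndex T E M hT.le hE.1]
    intro hdvd
    rcases (Nat.Prime.dvd_mul hpp).mp hdvd with h | h
    · exact hT.not_dvd_relIndex h
    · have h1 := card_mul_of_isComplIn hE
      have h2 : E.relIndex M * Nat.card E = Nat.card M := by
        have := Subgroup.relIndex_mul_relIndex ⊥ E M bot_le hE.1
        rw [Subgroup.relIndex_bot_left, Subgroup.relIndex_bot_left] at this
        rw [mul_comm]; exact this
      have h3 : E.relIndex M = Nat.card K := by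
        have : E.relIndex M * Nat.card E = Nat.card K * Nat.card E := by
          rw [h2, ← h1, mul_comm]
        exact Nat.eq_of_mul_eq_mul_right Nat.card_pos this
      rw [h3] at h
      exact hp.2.1 (hhall.2.1 p hpp h)
  have hTb := hb hTM.toSylow
  rw [hTM.map_toSylow] at hTb
  obtain ⟨hTΩ, hTN⟩ := hTb.2 hAT
  refine ⟨⟨hEN, ?_⟩, ⟨?_, ?_, ?_⟩, ?_⟩
  · -- every subgroup of order `p` of `E` lies in `A`
    intro X hXE hXc
    have hXp : IsPGroup p ↥X := IsPGroup.of_card (n := 1) (by rw [hXc, pow_one])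
    obtain ⟨T', hXT', hT'⟩ := Cfsg.Agent.Helper15.exists_isSylowIn_ge hXp hXE
    obtain ⟨e, heE, heT⟩ := hT.exists_conj hT'
    intro x hx
    have hxT' : x ∈ T' := hXT' hx
    rw [← heT] at hxT'
    obtain ⟨t, ht, htx⟩ := hxT'
    have hxp0 : x ^ p = 1 := by
      have h1 : (⟨x, hx⟩ : ↥X) ^ Nat.card ↥X = 1 := pow_card_eq_one'
      rw [hXc] at h1
      exact congrArg Subtype.val h1
    have hxp : ((MulAut.conj e).toMonoidHom t) ^ p = 1 := by rw [htx]; exact hxp0
    rw [← map_pow] at hxp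
    have htp : t ^ p = 1 := by
      have := (MulAut.conj e).injective (hxp.trans (map_one _).symm)
      exact this
    have htA : t ∈ A := (hTΩ t ht).mp htp
    have := (Subgroup.mem_normalizer_iff.mp (hEN heE) t).mp htA
    rw [← htx]
    simpa using this
  · -- `C(A) ≤ N_M(A)`
    intro c hc'
    refine ⟨hCA hc', ?_⟩
    exact Subgroup.centralizer_le_normalizer _ hc'
  · -- `N_M(A) = E`
    apply le_antisymm
    · rintro m ⟨hmM, hmN⟩
      obtain ⟨e, heE, k, hkK, rfl⟩ := hE.2.2.2 m hmM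
      have hkN : k ∈ Subgroup.normalizer (A : Set G) := by
        have := Subgroup.mul_mem _ (Subgroup.inv_mem _ (hEN heE)) hmN
        rwa [inv_mul_cancel_left] at this
      have hkC : k ∈ Subgroup.centralizer (A : Set G) := by
        rw [Subgroup.mem_centralizer_iff]
        intro a ha
        -- `k a k⁻¹ a⁻¹ ∈ A ⊓ K = ⊥`
        have h1 : k * a * k⁻¹ ∈ A := (Subgroup.mem_normalizer_iff.mp hkN a).mp ha
        have h2 : k * a * k⁻¹ * a⁻¹ ∈ A := A.mul_mem h1 (A.inv_mem ha)
        have h3 : k * (a * k⁻¹ * a⁻¹) ∈ K := by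
          apply K.mul_mem hkK
          exact (Subgroup.mem_normalizer_iff.mp (hAK ha) k⁻¹).mp (K.inv_mem hkK)
        have h4 : k * a * k⁻¹ * a⁻¹ ∈ E ⊓ K := by
          refine ⟨hAE h2, ?_⟩
          have e1 : k * a * k⁻¹ * a⁻¹ = k * (a * k⁻¹ * a⁻¹) := by group
          rw [e1]; exact h3
        rw [hEK, Subgroup.mem_bot] at h4
        have e2 : k * a = (k * a * k⁻¹ * a⁻¹) * (a * k) := by group
        rw [e2, h4, one_mul]
      have hk1 : k ∈ K ⊓ Subgroup.centralizer (A : Set G) := ⟨hkK, hkC⟩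
      rw [hd, Subgroup.mem_bot] at hk1
      rw [hk1, mul_one]
      exact heE
    · intro e he'
      exact ⟨hE.1 he', hEN he'⟩
  · -- `N(A) ⊄ M`
    intro hNM
    apply hTN
    refine le_trans ?_ hNM
    intro g hg
    rw [Subgroup.mem_normalizer_iff]
    intro a
    have hg' := Subgroup.mem_normalizer_iff.mp hg
    constructor
    · intro ha
      have h1 : g * a * g⁻¹ ∈ T := (hg' a).mp (hAT ha)
      apply (hTΩ _ h1).mp
      rw [conj_pow, hAe.2 a ha, mul_one, mul_inv_cancel]
    · intro ha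
      have h1 : a ∈ T := (hg' a).mpr (hAT ha)
      apply (hTΩ _ h1).mp
      have h2 : (g * a * g⁻¹) ^ p = 1 := hAe.2 _ ha
      rw [conj_pow] at h2
      have h3 : a ^ p = g⁻¹ * (g * a ^ p * g⁻¹) * g := by group
      rw [h3, h2]; group
  · -- (iii)
    intro X hXA hXc hne
    have hX1 : X ≠ ⊥ := by
      rintro rfl
      rw [Subgroup.card_bot] at hXc
      exact hpp.one_lt.ne hXc
    have hCtop : Subgroup.centralizer (X : Set G) ≠ ⊤ :=
      Cfsg.Agent.Helper23.BG10.centralizer_ne_top' hG hX1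
    have huniq : ∀ L : Subgroup G, IsCoatom L → Subgroup.centralizer (X : Set G) ≤ L → L = M := by
      intro L hL hCL
      by_contra hLM
      have hAL : A ≤ L := by
        refine le_trans ?_ hCL
        intro a ha
        rw [Subgroup.mem_centralizer_iff]
        intro x hx
        have := hAe.1
        have h1 := (isMulCommutative_iff.mp hAe.1) ⟨x, hXA hx⟩ ⟨a, ha⟩
        exact congrArg Subtype.val h1
      have h1 := he L hL hLM hAL
      apply hne
      rw [eq_bot_iff, ← h1]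
      exact inf_le_inf_left _ hCL
    obtain ⟨L, hL, hCL⟩ := (eq_top_or_exists_le_coatom (Subgroup.centralizer (X : Set G))).resolve_left hCtop
    have hLM := huniq L hL hCL
    exact ⟨hLM ▸ hCL, huniq⟩

end Cfsg.Agent.Helper20.BG12
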