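import Mathlib
import Cfsg.Prelude.Def_Transfer
import Cfsg.Agent.Lib.Helper3.NilpotentCoprime

set_option autoImplicit false

namespace Cfsg.Agent.Helper20

section

variable {G : Type*} [Group G]

/-- conjugation by an element of the normalizer maps the subgroup onto itself -/
theorem map_conj_eq_of_mem_normalizer {H : Subgroup G} {g : G}
    (hg : g ∈ Subgroup.normalizer (H : Set G)) : H.map (MulAut.conj g).toMonoidHom = H := by
  ext x
  constructor
  · rintro ⟨y, hy, rfl⟩
    exact ((Subgroup.mem_normalizer_iff.mp hg) y).mp hy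
  · intro hx
    refine ⟨g⁻¹ * x * g, ?_, ?_⟩
    · change g⁻¹ * x * g ∈ H
      rw [Subgroup.mem_normalizer_iff.mp hg]
      have : g * (g⁻¹ * x * g) * g⁻¹ = x := by group
      rw [this]
      exact hx
    · change g * (g⁻¹ * x * g) * g⁻¹ = x
      group

theorem mem_normalizer_of_map_conj_eq {H : Subgroup G} {g : G}
    (h : H.map (MulAut.conj g).toMonoidHom = H) : g ∈ Subgroup.normalizer (H : Set G) := by
  rw [Subgroup.mem_normalizer_iff]
  intro x
  constructor
  · intro hx
    rw [← h]
    exact ⟨x, hx, rfl⟩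
  · intro hx
    rw [← h] at hx
    obtain ⟨y, hy, hyx⟩ := hx
    have : y = x := (MulAut.conj g).injective hyx
    rw [← this]
    exact hy

/-- a `p`-subgroup whose index in its normalizer is prime to `p` has index prime to `p` -/
theorem not_dvd_index_of_not_dvd_relIndex_normalizer [Finite G] {p : ℕ} [Fact p.Prime]
    {P : Subgroup G} (hP : IsPGroup p P)
    (h : ¬ p ∣ P.relIndex (Subgroup.normalizer (P : Set G))) : ¬ p ∣ P.index := by
  obtain ⟨n, hn⟩ := hP.exists_card_eq
  have h1 := Sylow.card_quotient_normalizer_modEq_card_quotient hn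
  rw [← Subgroup.index_eq_card, ← Subgroup.index_eq_card] at h1
  intro h2
  apply h
  have h3 : P.relIndex (Subgroup.normalizer (P : Set G)) ≡ 0 [MOD p] :=
    h1.trans ((Nat.modEq_zero_iff_dvd).mpr h2)
  exact (Nat.modEq_zero_iff_dvd).mp h3

/-- a nilpotent finite group has a normal `p`-complement -/
theorem hasNormalPComplement_of_isNilpotent [Finite G] (hG : Group.IsNilpotent G) (p : ℕ)
    [Fact p.Prime] : Cfsg.HasNormalPComplement p G := by
  let Q : Sylow p G := default
  have hQn : (Q : Subgroup G).Normal :=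
    ((Group.isNilpotent_of_finite_tfae (G := G)).out 0 3 rfl rfl).mp hG p inferInstance Q
  obtain ⟨L, hL⟩ := Subgroup.exists_right_complement'_of_coprime (Sylow.card_coprime_index Q)
  refine ⟨Q, L, ?_, hL.symm⟩
  have hLcop : (Nat.card L).Coprime p := by
    rw [← hL.symm.index_eq_card]
    exact ((Nat.Prime.coprime_iff_not_dvd Fact.out).mpr Q.not_dvd_index).symm
  have : Group.IsNilpotent G := hG
  -- elements of `Q` commute with elements of `L`
  have hcomm : ∀ a ∈ (Q : Subgroup G), ∀ l ∈ L, a * l = l * a := by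
    intro a ha l hl
    apply Cfsg.Agent.Helper3.mul_comm_of_coprime_of_isNilpotent G a l (isOfFinOrder_of_finite a)
      (isOfFinOrder_of_finite l)
    obtain ⟨k, hk⟩ := Q.2 ⟨a, ha⟩
    have hk' : a ^ p ^ k = 1 := congrArg Subtype.val hk
    have h1 : orderOf a ∣ p ^ k := orderOf_dvd_of_pow_eq_one hk'
    have h2 : orderOf l ∣ Nat.card L := by
      have := orderOf_dvd_natCard (⟨l, hl⟩ : L)
      rwa [Subgroup.orderOf_mk] at this
    exact Nat.Coprime.coprime_dvd_left h1
      (Nat.Coprime.coprime_dvd_right h2 (Nat.Coprime.pow_left k hLcop.symm))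
  constructor
  intro n hn g
  obtain ⟨⟨⟨a, ha⟩, ⟨l, hl⟩⟩, hal⟩ := hL.2 g
  have hal' : a * l = g := hal
  rw [← hal']
  have h1 : a * l * n * (a * l)⁻¹ = a * (l * n * l⁻¹) * a⁻¹ := by group
  rw [h1]
  have h2 : l * n * l⁻¹ ∈ L := L.mul_mem (L.mul_mem hl hn) (L.inv_mem hl)
  rw [hcomm a ha _ h2, mul_inv_cancel_right]
  exact h2

end

end Cfsg.Agent.Helper20
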