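import Mathlib
import Cfsg.Agent.Lib.Helper20.NilpotentMax
import Cfsg.Agent.Lib.Helper20.SylowBasic
import Cfsg.Agent.Lib.Helper20.SylowConj
import Cfsg.Agent.S0659
import Cfsg.Agent.S0078
import Cfsg.Agent.S0086
import Cfsg.Agent.Lib.Helper1.Tate
import Cfsg.Agent.Lib.Helper1.CoprimeSylow

set_option autoImplicit false

namespace Cfsg.Agent.Helper20

open Cfsg.Agent.Helper1
open scoped commutatorElement

section

variable {G : Type*} [Group G] [Finite G]

omit [Finite G] in
/-- a nontrivial subgroup of a core-free maximal subgroup `M` normalized by `M` has normalizer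
`M` -/
theorem normalizer_eq_of_coatom (M : Subgroup G) (hmax : IsCoatom M)
    (hcore : ∀ L : Subgroup G, L.Normal → L ≤ M → L = ⊥) (U : Subgroup G)
    (hMU : M ≤ Subgroup.normalizer (U : Set G)) (hUM : U ≤ M) (hU : U ≠ ⊥) :
    Subgroup.normalizer (U : Set G) = M := by
  rcases hmax.le_iff.mp hMU with h | h
  · exfalso
    have hn : U.Normal := Subgroup.normalizer_eq_top_iff.mp h
    exact hU (hcore U hn hUM)
  · exact h

omit [Finite G] in
theorem le_normalizer_of_forall_conj_mem (M U : Subgroup G)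
    (h : ∀ m ∈ M, ∀ x ∈ U, m * x * m⁻¹ ∈ U) : M ≤ Subgroup.normalizer (U : Set G) := by
  intro m hm
  rw [Subgroup.mem_normalizer_iff]
  intro x
  constructor
  · exact h m hm x
  · intro hx
    have := h m⁻¹ (M.inv_mem hm) _ hx
    have h2 : m⁻¹ * (m * x * m⁻¹) * m⁻¹⁻¹ = x := by group
    rwa [h2] at this

/-- the Sylow `p`-subgroup of a core-free nilpotent maximal subgroup -/
theorem sylow_of_coatom_nilpotent (M : Subgroup G) (hmax : IsCoatom M)
    (hnil : Group.IsNilpotent M)
    (hcore : ∀ L : Subgroup G, L.Normal → L ≤ M → L = ⊥) (p : ℕ) [Fact p.Prime]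
    (hp : p ∣ Nat.card M) :
    ∃ P : Subgroup G, P ≤ M ∧ IsPGroup p P ∧ P ≠ ⊥ ∧
      Nat.card P = p ^ (Nat.card M).factorization p ∧
      (∀ m ∈ M, ∀ x ∈ P, m * x * m⁻¹ ∈ P) ∧ Subgroup.normalizer (P : Set G) = M ∧
      ¬ p ∣ P.index ∧ (∀ x ∈ M, (∃ k : ℕ, orderOf x = p ^ k) → x ∈ P) := by
  have hpp : p.Prime := Fact.out
  let PM : Sylow p M := default
  set P : Subgroup G := (PM : Subgroup M).map M.subtype with hPdef
  have hPM : P ≤ M := Subgroup.map_subtype_le _
  have hPp : IsPGroup p P := PM.2.map M.subtype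
  have hPcard : Nat.card P = p ^ (Nat.card M).factorization p := by
    rw [hPdef, Subgroup.card_map_of_injective M.subtype_injective]
    exact PM.card_eq_multiplicity
  have hf1 : 1 ≤ (Nat.card M).factorization p :=
    (hpp.dvd_iff_one_le_factorization Nat.card_pos.ne').mp hp
  have hP1 : P ≠ ⊥ := by
    intro h
    rw [h, Subgroup.card_bot] at hPcard
    have : 1 < p ^ (Nat.card M).factorization p := Nat.one_lt_pow (by omega) hpp.one_lt
    omega
  have hPMn : (PM : Subgroup M).Normal :=
    ((Group.isNilpotent_of_finite_tfae (G := M)).out 0 3 rfl rfl).mp hnil p inferInstance PM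
  have hconj : ∀ m ∈ M, ∀ x ∈ P, m * x * m⁻¹ ∈ P := by
    rintro m hm _ ⟨y, hy, rfl⟩
    exact ⟨⟨m, hm⟩ * y * ⟨m, hm⟩⁻¹, hPMn.conj_mem y hy ⟨m, hm⟩, rfl⟩
  have hMN : M ≤ Subgroup.normalizer (P : Set G) := le_normalizer_of_forall_conj_mem M P hconj
  have hNP : Subgroup.normalizer (P : Set G) = M :=
    normalizer_eq_of_coatom M hmax hcore P hMN hPM hP1
  have hidx : ¬ p ∣ P.index := by
    apply not_dvd_index_of_not_dvd_relIndex_normalizer hPp
    have h1 : P.subgroupOf M = (PM : Subgroup M) :=
      Subgroup.comap_map_eq_self_of_injective M.subtype_injective _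
    rw [hNP, Subgroup.relIndex, h1]
    exact PM.not_dvd_index
  refine ⟨P, hPM, hPp, hP1, hPcard, hconj, hNP, hidx, ?_⟩
  rintro x hx ⟨k, hk⟩
  have h1 : orderOf (⟨x, hx⟩ : M) = p ^ k := by
    rw [← hk, Subgroup.orderOf_mk]
  have h2 := mem_sylow_of_normal_of_orderOf PM h1
  exact ⟨⟨x, hx⟩, h2, rfl⟩

/-- odd primes: Glauberman's `ZJ`-theorem -/
theorem hasNormalPComplement_of_odd_prime (M : Subgroup G) (hmax : IsCoatom M)
    (hnil : Group.IsNilpotent M)
    (hcore : ∀ L : Subgroup G, L.Normal → L ≤ M → L = ⊥) (p : ℕ) [Fact p.Prime]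
    (hp : p ∣ Nat.card M) (hp2 : p ≠ 2) : Cfsg.HasNormalPComplement p G := by
  obtain ⟨P, hPM, hPp, hP1, hPcard, hconj, hNP, hidx, -⟩ :=
    sylow_of_coatom_nilpotent M hmax hnil hcore p hp
  let PG : Sylow p G := hPp.toSylow hidx
  set ZJ : Subgroup G := Cfsg.centerThompsonAOf P with hZJ
  have hZJ1 : ZJ ≠ ⊥ := Cfsg.Agent.S0658.centerThompsonAOf_ne_bot P hPp hP1
  have hZJP : ZJ ≤ P :=
    (inf_le_left : Cfsg.centerThompsonAOf P ≤ Cfsg.thompsonSubgroupAOf P).trans
      (Subgroup.map_subtype_le _)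
  have hMN : M ≤ Subgroup.normalizer (P : Set G) := hNP.ge
  have hMZJ : M ≤ Subgroup.normalizer (ZJ : Set G) := by
    intro m hm
    apply mem_normalizer_of_map_conj_eq
    have h1 := map_conj_eq_of_mem_normalizer (hMN hm)
    have h2 := Cfsg.Agent.Helper4.ZJ.centerThompsonAOf_map_of_injOn (MulAut.conj m).toMonoidHom P
      ((MulAut.conj m).injective.injOn)
    rw [h1] at h2
    exact h2.symm
  have hNZJ : Subgroup.normalizer (ZJ : Set G) = M :=
    normalizer_eq_of_coatom M hmax hcore ZJ hMZJ (hZJP.trans hPM) hZJ1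
  have hN : Cfsg.HasNormalPComplement p ↥(Subgroup.normalizer (ZJ : Set G)) := by
    have key : ∀ U : Subgroup G, U = M → Cfsg.HasNormalPComplement p ↥U := by
      rintro U rfl
      exact hasNormalPComplement_of_isNilpotent hnil p
    exact key _ hNZJ
  exact Cfsg.Agent.S0659.result hp2 PG hN

/-- extracting the order and index of a normal `p`-complement -/
theorem index_of_hasNormalPComplement (M : Subgroup G) (hmax : IsCoatom M)
    (hnil : Group.IsNilpotent M)
    (hcore : ∀ L : Subgroup G, L.Normal → L ≤ M → L = ⊥) (p : ℕ) [Fact p.Prime]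
    (hp : p ∣ Nat.card M) (h : Cfsg.HasNormalPComplement p G) :
    ∃ K : Subgroup G, K.Normal ∧ ¬ p ∣ Nat.card K ∧
      K.index = p ^ (Nat.card M).factorization p := by
  have hpp : p.Prime := Fact.out
  obtain ⟨P, hPM, hPp, hP1, hPcard, hconj, hNP, hidx, -⟩ :=
    sylow_of_coatom_nilpotent M hmax hnil hcore p hp
  obtain ⟨P', K, hKn, hKc⟩ := h
  refine ⟨K, hKn, ?_, ?_⟩
  · rw [← hKc.index_eq_card]
    exact P'.not_dvd_index
  · rw [hKc.symm.index_eq_card, P'.card_eq_multiplicity]
    congr 1
    have h1 : Nat.card G = Nat.card P * P.index := (Subgroup.card_mul_index P).symm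
    rw [h1, hPcard, Nat.factorization_mul (pow_ne_zero _ hpp.ne_zero)
      (Subgroup.index_ne_zero_of_finite), Finsupp.add_apply, hpp.factorization_pow,
      Nat.factorization_eq_zero_of_not_dvd hidx]
    simp

/-- the prime `2`, when `M` has class at most two: `G` is `2`-normal and Grün's theorem applies -/
theorem hasNormalPComplement_two (M : Subgroup G) (hmax : IsCoatom M)
    (hnil : Group.IsNilpotent M) (hcl : Group.nilpotencyClass M ≤ 2)
    (hcore : ∀ L : Subgroup G, L.Normal → L ≤ M → L = ⊥)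
    (hp : 2 ∣ Nat.card M) : Cfsg.HasNormalPComplement 2 G := by
  have : Fact (Nat.Prime 2) := ⟨Nat.prime_two⟩
  obtain ⟨P, hPM, hPp, hP1, hPcard, hconj, hNP, hidx, hPall⟩ :=
    sylow_of_coatom_nilpotent M hmax hnil hcore 2 hp
  let PG : Sylow 2 G := hPp.toSylow hidx
  have hPG : (PG : Subgroup G) = P := rfl
  -- commutators of `M` are central in `M`
  have hcomm : ∀ a b : M, ⁅a, b⁆ ∈ Subgroup.center M := by
    intro a b
    have h1 : Subgroup.upperCentralSeries M 2 = ⊤ :=
      Subgroup.upperCentralSeries_eq_top_iff_nilpotencyClass_le.mpr hcl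
    have h2 : a ∈ Subgroup.upperCentralSeries M (1 + 1) := by
      rw [h1]
      exact Subgroup.mem_top a
    have h3 := Subgroup.mem_upperCentralSeries_succ_iff.mp h2 b
    rwa [Subgroup.upperCentralSeries_one] at h3
  set Z : Subgroup G := P ⊓ Subgroup.centralizer (P : Set G) with hZ
  have hZP : Z ≤ P := inf_le_left
  -- commutators land in `Z`
  have hkey : ∀ m ∈ M, ∀ d ∈ P, m * d * m⁻¹ * d⁻¹ ∈ Z := by
    intro m hm d hd
    refine Subgroup.mem_inf.mpr ⟨P.mul_mem (hconj m hm d hd) (P.inv_mem hd), ?_⟩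
    rw [Subgroup.mem_centralizer_iff]
    intro x hx
    have h1 := hcomm ⟨m, hm⟩ ⟨d, hPM hd⟩
    rw [Subgroup.mem_center_iff] at h1
    have h2 := h1 ⟨x, hPM hx⟩
    have h3 := congrArg Subtype.val h2
    exact h3
  have hZ1 : Z ≠ ⊥ := by
    have : Nontrivial P := (Subgroup.nontrivial_iff_ne_bot P).mpr hP1
    have hc := hPp.center_nontrivial
    obtain ⟨⟨z, hz⟩, hz1⟩ := exists_ne (1 : Subgroup.center P)
    intro h
    apply hz1
    apply Subtype.ext
    apply Subtype.ext
    have h1 : (z : G) ∈ Z := by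
      refine Subgroup.mem_inf.mpr ⟨z.2, ?_⟩
      rw [Subgroup.mem_centralizer_iff]
      intro x hx
      have := Subgroup.mem_center_iff.mp hz ⟨x, hx⟩
      exact congrArg Subtype.val this
    rw [h, Subgroup.mem_bot] at h1
    exact h1
  -- subgroups between `Z` and `P` have normalizer `M`
  have hbetween : ∀ D : Subgroup G, Z ≤ D → D ≤ P → Subgroup.normalizer (D : Set G) = M := by
    intro D hZD hDP
    apply normalizer_eq_of_coatom M hmax hcore D _ (hDP.trans hPM)
    · intro h
      apply hZ1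
      rw [eq_bot_iff, ← h]
      exact hZD
    · apply le_normalizer_of_forall_conj_mem
      intro m hm d hd
      have h1 := hZD (hkey m hm d (hDP hd))
      have h2 : m * d * m⁻¹ = (m * d * m⁻¹ * d⁻¹) * d := by group
      rw [h2]
      exact D.mul_mem h1 hd
  have hNZ : Subgroup.normalizer (Z : Set G) = M := hbetween Z le_rfl hZP
  -- `2`-normality
  have hn : ∀ Q : Sylow 2 G, (PG : Subgroup G) ⊓ Subgroup.centralizer (PG : Set G) ≤ (Q : Subgroup G) →
      (Q : Subgroup G) ⊓ Subgroup.centralizer (Q : Set G) =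
        (PG : Subgroup G) ⊓ Subgroup.centralizer (PG : Set G) := by
    intro Q hZQ
    change Z ≤ (Q : Subgroup G) at hZQ
    obtain ⟨g, hg⟩ := MulAction.exists_smul_eq G PG Q
    have hmem : ∀ w : G, w ∈ (Q : Subgroup G) ↔ g⁻¹ * w * g⁻¹⁻¹ ∈ P := by
      intro w
      rw [← hg, mem_sylow_smul_iff, inv_inv]
      rfl
    have hcenter := Cfsg.Agent.S0078.mem_center_conj_iff P (Q : Subgroup G) g⁻¹ hmem
    set ZQ : Subgroup G := (Q : Subgroup G) ⊓ Subgroup.centralizer (Q : Set G) with hZQdef
    have hQ2 : ∀ y ∈ (Q : Subgroup G), ∃ k : ℕ, orderOf y = 2 ^ k := by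
      intro y hy
      obtain ⟨k, hk⟩ := (IsPGroup.iff_orderOf.mp Q.2) ⟨y, hy⟩
      exact ⟨k, by rw [← hk, Subgroup.orderOf_mk]⟩
    -- `ZQ ≤ P`
    have hZQP : ZQ ≤ P := by
      intro z hz
      have hzM : z ∈ M := by
        rw [← hNZ]
        apply Subgroup.centralizer_le_normalizer
        rw [Subgroup.mem_centralizer_iff]
        intro x hx
        exact (Subgroup.mem_centralizer_iff.mp hz.2) x (hZQ hx)
      exact hPall z hzM (hQ2 z hz.1)
    set D : Subgroup G := P ⊓ (Q : Subgroup G) with hD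
    have hZD : Z ≤ D := le_inf hZP hZQ
    have hZQD : ZQ ≤ D := le_inf hZQP inf_le_left
    have hND : Subgroup.normalizer (D : Set G) = M := hbetween D hZD inf_le_left
    have hQM : (Q : Subgroup G) ≤ M := by
      rw [← hND]
      apply le_normalizer_of_forall_conj_mem
      intro y hy d hd
      have h1 : y * d * y⁻¹ * d⁻¹ ∈ ZQ := by
        apply (hcenter _).mpr
        have hy' : g⁻¹ * y * g⁻¹⁻¹ ∈ P := (hmem y).mp hy
        have hd' : g⁻¹ * d * g⁻¹⁻¹ ∈ P := (hmem d).mp hd.2
        have h2 := hkey _ (hPM hy') _ hd'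
        have h3 : g⁻¹ * (y * d * y⁻¹ * d⁻¹) * g⁻¹⁻¹ =
            (g⁻¹ * y * g⁻¹⁻¹) * (g⁻¹ * d * g⁻¹⁻¹) * (g⁻¹ * y * g⁻¹⁻¹)⁻¹ * (g⁻¹ * d * g⁻¹⁻¹)⁻¹ := by
          group
        rw [h3]
        exact h2
      have h2 : y * d * y⁻¹ = (y * d * y⁻¹ * d⁻¹) * d := by group
      rw [h2]
      exact D.mul_mem (hZQD h1) hd
    have hQP : (Q : Subgroup G) ≤ P := fun y hy => hPall y (hQM hy) (hQ2 y hy)
    have hQeq : P = (Q : Subgroup G) := Q.is_maximal' hPp hQP
    change (Q : Subgroup G) ⊓ Subgroup.centralizer ((Q : Subgroup G) : Set G) =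
      P ⊓ Subgroup.centralizer (P : Set G)
    rw [← hQeq]
  have hV : Subgroup.normalizer (((PG : Subgroup G) ⊓ Subgroup.centralizer (PG : Set G) :
      Subgroup G) : Set G) ≤ M := hNZ.le
  have hS := Cfsg.Agent.S0078.result PG hn M hV
  -- the right-hand side is trivial
  have hR : (PG : Subgroup G) ⊓ (Cfsg.pResidual 2 M).map M.subtype = ⊥ := by
    obtain ⟨P₂, L, hLn, hLc⟩ := hasNormalPComplement_of_isNilpotent hnil 2
    have hle : Cfsg.pResidual 2 M ≤ L := by
      unfold Cfsg.pResidual
      rw [Subgroup.closure_le]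
      intro y hy
      exact (Cfsg.Agent.S0086.result P₂ L hLc y).mpr hy
    rw [eq_bot_iff]
    rintro x ⟨hxP, ⟨y, hy, rfl⟩⟩
    have h1 := (Cfsg.Agent.S0086.result P₂ L hLc y).mp (hle hy)
    rw [← Subgroup.orderOf_coe] at h1
    have hxP' : (y : G) ∈ P := hxP
    obtain ⟨k, hk0⟩ := (IsPGroup.iff_orderOf.mp hPp) ⟨(y : G), hxP'⟩
    have hk : orderOf (y : G) = 2 ^ k := by rw [← hk0, Subgroup.orderOf_mk]
    rw [hk] at h1
    have h2 : k = 0 := by
      by_contra hk0
      have h3 : 2 ∣ Nat.gcd (2 ^ k) 2 := Nat.dvd_gcd (dvd_pow_self 2 hk0) dvd_rfl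
      rw [Nat.Coprime.gcd_eq_one h1] at h3
      omega
    rw [h2, pow_zero] at hk
    rw [Subgroup.mem_bot]
    exact orderOf_eq_one_iff.mp hk
  rw [hR] at hS
  -- hence `O^2(G)` has odd order
  apply hasNormalPComplement_of_not_dvd_card_pResidual
  intro h2
  have hLn : (Cfsg.pResidual 2 G).Normal := Cfsg.Agent.Helper22.pResidual_normal
  obtain ⟨t, ht⟩ := exists_prime_orderOf_dvd_card' (G := Cfsg.pResidual 2 G) 2 h2
  have ht' : orderOf (t : G) = 2 := by rw [Subgroup.orderOf_coe, ht]
  have hzp : IsPGroup 2 (Subgroup.zpowers (t : G)) :=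
    isPGroup_zpowers_of_orderOf (k := 1) (by rw [ht', pow_one])
  obtain ⟨Q, hQ⟩ := hzp.exists_le_sylow
  obtain ⟨g, hg⟩ := MulAction.exists_smul_eq G PG Q
  have h3 : (t : G) ∈ ((g • PG : Sylow 2 G) : Subgroup G) := by
    rw [hg]
    exact hQ (Subgroup.mem_zpowers _)
  rw [mem_sylow_smul_iff] at h3
  have h4 : g⁻¹ * (t : G) * g ∈ Cfsg.pResidual 2 G := by
    have := hLn.conj_mem (t : G) t.2 g⁻¹
    rwa [inv_inv] at this
  have h5 : g⁻¹ * (t : G) * g ∈ (PG : Subgroup G) ⊓ Cfsg.pResidual 2 G := ⟨h3, h4⟩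
  rw [hS, Subgroup.mem_bot] at h5
  have h6 : (t : G) = 1 := by
    calc (t : G) = g * (g⁻¹ * (t : G) * g) * g⁻¹ := by group
      _ = 1 := by rw [h5]; group
  rw [h6, orderOf_one] at ht'
  omega

/-- a normal complement to `M` -/
theorem exists_normal_complement_of_forall (M : Subgroup G)
    (hH : ∀ (p : ℕ) [Fact p.Prime], p ∣ Nat.card M → ∃ K : Subgroup G, K.Normal ∧
      ¬ p ∣ Nat.card K ∧ K.index = p ^ (Nat.card M).factorization p) :
    ∃ K : Subgroup G, K.Normal ∧ (Nat.card M).Coprime (Nat.card K) ∧ K.IsComplement' M := by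
  classical
  have hex : ∀ p : {p // p ∈ (Nat.card M).primeFactors}, ∃ K : Subgroup G, K.Normal ∧
      ¬ (p : ℕ) ∣ Nat.card K ∧ K.index = (p : ℕ) ^ (Nat.card M).factorization p := by
    intro p
    have hp := Nat.mem_primeFactors.mp p.2
    have : Fact (p : ℕ).Prime := ⟨hp.1⟩
    exact hH p hp.2.1
  choose Kf hKn hKp hKi using hex
  set K : Subgroup G := ⨅ p, Kf p with hK
  have hKnorm : K.Normal := Subgroup.normal_iInf_normal hKn
  have hidx : K.index ≤ Nat.card M := by
    calc K.index ≤ ∏ p, (Kf p).index := Subgroup.index_iInf_le Kf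
      _ = ∏ p : {p // p ∈ (Nat.card M).primeFactors}, (p : ℕ) ^ (Nat.card M).factorization p :=
          Finset.prod_congr rfl (fun p _ => hKi p)
      _ = ∏ p ∈ (Nat.card M).primeFactors, p ^ (Nat.card M).factorization p :=
          Finset.prod_coe_sort (Nat.card M).primeFactors
            (fun p => p ^ (Nat.card M).factorization p)
      _ = Nat.card M := by
          have := Nat.prod_factorization_pow_eq_self (Nat.card_pos (α := M)).ne'
          rw [Finsupp.prod, Nat.support_factorization] at this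
          exact this
  have hcop : (Nat.card M).Coprime (Nat.card K) := by
    by_contra hc
    obtain ⟨p, hp, h1, h2⟩ := Nat.Prime.not_coprime_iff_dvd.mp hc
    have hpm : p ∈ (Nat.card M).primeFactors :=
      Nat.mem_primeFactors.mpr ⟨hp, h1, Nat.card_pos.ne'⟩
    have hle : K ≤ Kf ⟨p, hpm⟩ := iInf_le _ _
    exact hKp ⟨p, hpm⟩ (h2.trans (Subgroup.card_dvd_of_le hle))
  have hdisj : Disjoint K M := Subgroup.disjoint_of_coprime_natCard hcop.symm
  refine ⟨K, hKnorm, hcop, ?_⟩
  apply Subgroup.isComplement'_of_card_mul_and_disjoint _ hdisj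
  apply le_antisymm
  · have h1 := Nat.card_le_card_of_injective _ (Subgroup.mul_injective_of_disjoint hdisj)
    rwa [Nat.card_prod] at h1
  · rw [← Subgroup.card_mul_index K]
    exact Nat.mul_le_mul_left _ hidx

/-- a group with a nilpotent maximal subgroup having a normal complement of coprime order is
solvable -/
theorem isSolvable_of_normal_complement (M : Subgroup G) (hmax : IsCoatom M)
    (hnil : Group.IsNilpotent M) (K : Subgroup G) (hKn : K.Normal)
    (hcop : (Nat.card M).Coprime (Nat.card K)) (hc : K.IsComplement' M) :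
    Group.IsSolvable G := by
  have hKM : K ⊓ M = ⊥ := hc.disjoint.eq_bot
  have hMsolv : Group.IsSolvable M := by
    have := hnil
    infer_instance
  -- `K` is solvable
  have hKsolv : Group.IsSolvable K := by
    by_cases hK1 : K = ⊥
    · have : Subsingleton K := by
        rw [hK1]
        infer_instance
      infer_instance
    have hcard : Nat.card K ≠ 1 := fun h => hK1 (Subgroup.card_eq_one.mp h)
    obtain ⟨q, hq, hqK⟩ := Nat.exists_prime_and_dvd hcard
    have : Fact q.Prime := ⟨hq⟩
    have hMK : M ≤ Subgroup.normalizer (K : Set G) := by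
      rw [Subgroup.normalizer_eq_top_iff.mpr hKn]
      exact le_top
    obtain ⟨Q, hQ⟩ := exists_invariant_sylow (p := q) M hMK hcop (Or.inl hMsolv)
    set Q' : Subgroup G := (Q : Subgroup K).map K.subtype with hQ'
    have hQ'K : Q' ≤ K := Subgroup.map_subtype_le _
    have hQ'1 : Q' ≠ ⊥ := by
      intro h
      have h1 : Nat.card Q' = q ^ (Nat.card K).factorization q := by
        rw [hQ', Subgroup.card_map_of_injective K.subtype_injective]
        exact Q.card_eq_multiplicity
      rw [h, Subgroup.card_bot] at h1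
      have hf1 : 1 ≤ (Nat.card K).factorization q :=
        (hq.dvd_iff_one_le_factorization Nat.card_pos.ne').mp hqK
      have : 1 < q ^ (Nat.card K).factorization q := Nat.one_lt_pow (by omega) hq.one_lt
      omega
    have hQ'M : ¬ Q' ≤ M := by
      intro h
      apply hQ'1
      rw [eq_bot_iff, ← hKM]
      exact le_inf hQ'K h
    -- `Q'` is normal in `G`
    have hQ'n : Q'.Normal := by
      rw [← Subgroup.normalizer_eq_top_iff]
      rcases hmax.le_iff.mp hQ with h | h
      · exact h
      · exfalso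
        apply hQ'M
        rw [← h]
        exact Subgroup.le_normalizer
    have htop : M ⊔ Q' = ⊤ := by
      rcases hmax.le_iff.mp (le_sup_left : M ≤ M ⊔ Q') with h | h
      · exact h
      · exfalso
        apply hQ'M
        rw [← h]
        exact le_sup_right
    have hKQ : K ≤ Q' := by
      intro k hk
      have h1 : k ∈ M ⊔ Q' := by
        rw [htop]
        exact Subgroup.mem_top k
      rw [Subgroup.mem_sup_of_normal_right] at h1
      obtain ⟨m, hm, u, hu, rfl⟩ := h1
      have h2 : m ∈ K ⊓ M := by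
        refine ⟨?_, hm⟩
        have : m = m * u * u⁻¹ := by group
        rw [this]
        exact K.mul_mem hk (K.inv_mem (hQ'K hu))
      rw [hKM, Subgroup.mem_bot] at h2
      rw [h2, one_mul]
      exact hu
    have hKq : IsPGroup q K := by
      have h1 : IsPGroup q Q' := Q.2.map K.subtype
      exact h1.to_le hKQ
    have := hKq.isNilpotent
    infer_instance
  -- `G ⧸ K` is solvable
  have hGK : Group.IsSolvable (G ⧸ K) :=
    Group.isSolvable_of_isSolvable_injective (f := hc.symm.QuotientMulEquiv.toMonoidHom)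
      hc.symm.QuotientMulEquiv.injective
  exact Group.isSolvable_of_ker_le_range K.subtype (QuotientGroup.mk' K)
    (by rw [QuotientGroup.ker_mk', Subgroup.range_subtype])

/-- the core-free case -/
theorem isSolvable_corefree_class_two (M : Subgroup G) (hmax : IsCoatom M)
    (hnil : Group.IsNilpotent M) (hcl : Group.nilpotencyClass M ≤ 2)
    (hcore : ∀ L : Subgroup G, L.Normal → L ≤ M → L = ⊥) : Group.IsSolvable G := by
  have hH : ∀ (p : ℕ) [Fact p.Prime], p ∣ Nat.card M → ∃ K : Subgroup G, K.Normal ∧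
      ¬ p ∣ Nat.card K ∧ K.index = p ^ (Nat.card M).factorization p := by
    intro p _ hp
    apply index_of_hasNormalPComplement M hmax hnil hcore p hp
    by_cases hp2 : p = 2
    · subst hp2
      exact hasNormalPComplement_two M hmax hnil hcl hcore hp
    · exact hasNormalPComplement_of_odd_prime M hmax hnil hcore p hp hp2
  obtain ⟨K, hKn, hcop, hc⟩ := exists_normal_complement_of_forall M hH
  exact isSolvable_of_normal_complement M hmax hnil K hKn hcop hc

/-- **Deskins, Janko, Thompson**: a finite group with a maximal subgroup that is nilpotent of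
class at most two is solvable -/
theorem isSolvable_of_coatom_nilpotent_class_two (M : Subgroup G) (hmax : IsCoatom M)
    (hnil : Group.IsNilpotent M) (hcl : Group.nilpotencyClass M ≤ 2) : Group.IsSolvable G := by
  set N : Subgroup G := M.normalCore with hN
  have hNM : N ≤ M := Subgroup.normalCore_le M
  set f := QuotientGroup.mk' N with hf
  have hfs : Function.Surjective f := QuotientGroup.mk'_surjective N
  set Mb : Subgroup (G ⧸ N) := M.map f with hMb
  have hcomap : Mb.comap f = M := by
    rw [hMb, Subgroup.comap_map_eq_self]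
    rw [hf, QuotientGroup.ker_mk']
    exact hNM
  have hcoatom : IsCoatom Mb := by
    constructor
    · intro h
      apply hmax.1
      rw [← hcomap, h, Subgroup.comap_top]
    · intro L hL
      have h1 : Mb.comap f < L.comap f := by
        refine lt_of_le_of_ne (Subgroup.comap_mono hL.le) ?_
        intro h
        have h2 := congrArg (Subgroup.map f) h
        rw [Subgroup.map_comap_eq_self_of_surjective hfs,
          Subgroup.map_comap_eq_self_of_surjective hfs] at h2
        exact hL.ne h2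
      rw [hcomap] at h1
      have h2 := hmax.2 _ h1
      have h3 := congrArg (Subgroup.map f) h2
      rw [Subgroup.map_comap_eq_self_of_surjective hfs, Subgroup.map_top_of_surjective f hfs] at h3
      exact h3
  have hnilb : Group.IsNilpotent Mb := by
    have := hnil
    exact Group.nilpotent_of_surjective (f.subgroupMap M) (f.subgroupMap_surjective M)
  have hclb : Group.nilpotencyClass Mb ≤ 2 := by
    have := hnil
    exact (Group.nilpotencyClass_le_of_surjective (f.subgroupMap M)
      (f.subgroupMap_surjective M)).trans hcl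
  have hcore : ∀ L : Subgroup (G ⧸ N), L.Normal → L ≤ Mb → L = ⊥ := by
    intro L hLn hLM
    have h1 : (L.comap f).Normal := hLn.comap f
    have h2 : L.comap f ≤ M := by
      have h4 : L.comap f ≤ Mb.comap f := Subgroup.comap_mono hLM
      rwa [hcomap] at h4
    have h3 : L.comap f ≤ N := (Subgroup.normal_le_normalCore).mpr h2
    rw [eq_bot_iff]
    intro x hx
    obtain ⟨g, rfl⟩ := hfs x
    have : g ∈ N := h3 hx
    rw [Subgroup.mem_bot, hf, QuotientGroup.mk'_apply]
    exact (QuotientGroup.eq_one_iff g).mpr this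
  have hQ : Group.IsSolvable (G ⧸ N) :=
    isSolvable_corefree_class_two Mb hcoatom hnilb hclb hcore
  have hNs : Group.IsSolvable N := by
    have : Group.IsSolvable M := by
      have := hnil
      infer_instance
    exact Group.isSolvable_of_isSolvable_injective (f := Subgroup.inclusion hNM)
      (Subgroup.inclusion_injective hNM)
  exact Group.isSolvable_of_ker_le_range N.subtype f
    (by rw [hf, QuotientGroup.ker_mk', Subgroup.range_subtype])

end

end Cfsg.Agent.Helper20
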