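import Mathlib

set_option autoImplicit false

namespace Cfsg.Agent.Helper20

/-- the condition "no prime divisor equals 2" means odd -/
theorem odd_iff_forall_prime_ne_two (n : ℕ) :
    (∀ r : ℕ, r.Prime → r ∣ n → r ≠ 2) ↔ Odd n := by
  constructor
  · intro h
    rw [← Nat.not_even_iff_odd, even_iff_two_dvd]
    intro h2
    exact h 2 Nat.prime_two h2 rfl
  · rintro h r _ hrn rfl
    rw [← Nat.not_even_iff_odd, even_iff_two_dvd] at h
    exact h hrn

/-- An element of odd order of a quotient of a finite group lifts to an element of odd order. -/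
theorem exists_odd_lift {G Q : Type*} [Group G] [Finite G] [Group Q] (f : G →* Q)
    (hf : Function.Surjective f) (q : Q) (hq : Odd (orderOf q)) :
    ∃ x : G, f x = q ∧ Odd (orderOf x) := by
  obtain ⟨y, rfl⟩ := hf q
  obtain ⟨a, m, hm, hy⟩ := Nat.exists_eq_two_pow_mul_odd (orderOf_pos y).ne'
  set k := orderOf (f y) with hk
  by_cases hk1 : k = 1
  · refine ⟨1, ?_, by simp⟩
    rw [map_one]
    exact (orderOf_eq_one_iff.mp hk1).symm
  · have hkpos : 0 < k := hq.pos
    have hk2 : 1 < k := by omega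
    have hcop : Nat.Coprime (2 ^ a) k := by
      apply Nat.Coprime.pow_left
      rw [Nat.coprime_two_left]
      exact hq
    obtain ⟨b, -, hb⟩ := Nat.exists_mul_mod_eq_one_of_coprime hcop hk2
    refine ⟨y ^ (2 ^ a * b), ?_, ?_⟩
    · rw [map_pow, ← pow_mod_orderOf, ← hk, hb, pow_one]
    · rw [pow_mul]
      apply Odd.of_dvd_nat _ (orderOf_pow_dvd b)
      rw [orderOf_pow' y (pow_ne_zero a two_ne_zero), hy]
      have : (2 ^ a * m).gcd (2 ^ a) = 2 ^ a := Nat.gcd_eq_right (dvd_mul_right _ _)
      rw [this, Nat.mul_div_cancel_left m (pow_pos two_pos a)]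
      exact hm

end Cfsg.Agent.Helper20
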