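import Mathlib
import Cfsg.Agent.Lib.Helper7.HupDefs

/-!
# S3360 piece IND (helper20): `|B : A| ≤ m ^ 2`

The endomorphisms of distinct cosets of `A` in `B` are linearly independent over the field `KA A`
(a Dedekind-style argument: they are simultaneous eigenvectors, for pairwise distinct characters,
of the conjugations by the elements of `B`).
-/

set_option autoImplicit false

namespace Cfsg.Agent.Helper7.Hup

open Cfsg.Agent.Helper4.Zas

/-- Dedekind-style independence: a family of nonzero elements of a `K`-algebra that are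
simultaneous eigenvectors of "conjugations" `r ↦ Y * r * Y'`, any two of them separated by the
eigenvalues of one such conjugation, is linearly independent. -/
theorem ind_linearIndependent_of_conj {K R ι : Type*} [Field K] [Ring R] [Algebra K R]
    (β : ι → R) (hβ : ∀ i, β i ≠ 0)
    (h : ∀ i j, i ≠ j → ∃ (Y Y' : R) (κ : ι → K),
      (∀ l, Y * β l * Y' = κ l • β l) ∧ κ i ≠ κ j) :
    LinearIndependent K β := by
  classical
  rw [linearIndependent_iff']
  intro s
  induction s using Finset.induction_on with
  | empty =>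
    intro g _ i hi
    simp at hi
  | insert j s hjs ih =>
    intro g hg i hi
    have hs : ∀ l ∈ s, g l = 0 := by
      intro l hl
      have hlj : l ≠ j := fun h => hjs (h ▸ hl)
      obtain ⟨Y, Y', κ, hY, hκ⟩ := h l j hlj
      have h1 : ∑ i ∈ insert j s, (g i * κ i) • β i = 0 := by
        have := congrArg (fun r => Y * r * Y') hg
        simp only [Finset.mul_sum, Finset.sum_mul, mul_zero, zero_mul] at this
        rw [← this]
        apply Finset.sum_congr rfl
        intro i _
        rw [mul_smul_comm, smul_mul_assoc, hY, smul_smul]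
      have h2 : ∑ i ∈ insert j s, (g i * κ j) • β i = 0 := by
        have := congrArg (fun r => κ j • r) hg
        simp only [Finset.smul_sum, smul_zero, smul_smul] at this
        rw [← this]
        apply Finset.sum_congr rfl
        intro i _
        rw [mul_comm]
      have h3 : ∑ i ∈ s, (g i * (κ i - κ j)) • β i = 0 := by
        have : ∑ i ∈ insert j s, (g i * (κ i - κ j)) • β i = 0 := by
          simp only [mul_sub, sub_smul, Finset.sum_sub_distrib, h1, h2, sub_zero]
        rw [Finset.sum_insert hjs] at this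
        simpa using this
      have h4 := ih (fun i => g i * (κ i - κ j)) h3 l hl
      rcases mul_eq_zero.1 h4 with h5 | h5
      · exact h5
      · exact absurd (sub_eq_zero.1 h5) hκ
    have hj : g j = 0 := by
      rw [Finset.sum_insert hjs, Finset.sum_eq_zero (fun l hl => by rw [hs l hl, zero_smul]),
        add_zero] at hg
      exact (smul_eq_zero.1 hg).resolve_right (hβ j)
    rcases Finset.mem_insert.1 hi with rfl | hi
    · exact hj
    · exact hs i hi

/-- The abstract count: a group `B` acting `K`-linearly on a finite-dimensional space, with a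
subgroup `A'` such that two elements in distinct cosets are separated by a character. -/
theorem ind_index_le_sq {K : Type*} [Field K] {V : Type*} [AddCommGroup V] [Module K V]
    [Module.Finite K V] [Nontrivial V] {B : Type*} [Group B] [Finite B]
    (lin : B →* Module.End K V) (A' : Subgroup B) (κ : B → B → K)
    (hκ : ∀ y b, lin y * lin b * lin y⁻¹ = κ y b • lin b)
    (hne : ∀ b b' : B, b'⁻¹ * b ∉ A' → ∃ y, κ y b ≠ κ y b') :
    A'.index ≤ Module.finrank K V ^ 2 := by
  classical
  let _ : Fintype (B ⧸ A') := Fintype.ofFinite _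
  have hlin0 : ∀ b, lin b ≠ 0 := by
    intro b hb
    obtain ⟨v, hv⟩ := exists_ne (0 : V)
    have h1 : lin b * lin b⁻¹ = 1 := by rw [← map_mul, mul_inv_cancel, map_one]
    rw [hb, zero_mul] at h1
    have h2 := congrArg (fun f : Module.End K V => f v) h1
    simp only [LinearMap.zero_apply, Module.End.one_apply] at h2
    exact hv h2.symm
  have hli : LinearIndependent K (fun q : B ⧸ A' => lin q.out) := by
    apply ind_linearIndependent_of_conj _ (fun q => hlin0 _)
    intro q q' hqq'
    have hnot : (q'.out)⁻¹ * q.out ∉ A' := by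
      intro hmem
      apply hqq'
      have := (QuotientGroup.eq (s := A') (a := q'.out) (b := q.out)).2 hmem
      rw [QuotientGroup.out_eq', QuotientGroup.out_eq'] at this
      exact this.symm
    obtain ⟨y, hy⟩ := hne _ _ hnot
    exact ⟨lin y, lin y⁻¹, fun l => κ y l.out, fun l => hκ y _, hy⟩
  have h1 := hli.fintype_card_le_finrank
  rw [Module.finrank_linearMap] at h1
  rw [Subgroup.index, Nat.card_eq_fintype_card, sq]
  exact h1

section linear

variable {p : ℕ} [Fact p.Prime] {V : Type*} [AddCommGroup V] [Module (ZMod p) V]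
variable {H : Subgroup (V ≃ₗ[ZMod p] V)}

/-- The glue, for an abstract field `K` acting on `V` through `KA A`. -/
theorem ind_glue {K : Type*} [instK : Field K] [instM : Module K V] [Finite V] [Nontrivial V]
    (A B : Subgroup H) (hcfg : Cfg A B)
    (j : KA A → K) (hj : ∀ (x : KA A) (v : V), j x • v = (x : Module.End (ZMod p) V) v)
    (hBK : ∀ (b : B) (k : K) (v : V), toEnd H (b : H) (k • v) = k • toEnd H (b : H) v)
    (m : ℕ) (hm : Nat.card V = Nat.card K ^ m) :
    A.relIndex B ≤ m ^ 2 := by
  classical
  have : Module.Finite K V := Module.Finite.of_finite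
  have : Finite (V ≃ₗ[ZMod p] V) := finite_GL
  have : Finite H := inferInstance
  have : Finite B := inferInstance
  -- `m` is the dimension
  have hfr : Module.finrank K V = m := by
    have h1 := Module.natCard_eq_pow_finrank (K := K) (V := V)
    rw [hm] at h1
    have hKfin : Finite K := by
      by_contra hinf
      rw [not_finite_iff_infinite] at hinf
      have h0 : Nat.card K = 0 := Nat.card_eq_zero_of_infinite
      have hVpos : 0 < Nat.card V := Nat.card_pos
      have hmpos : m ≠ 0 := by
        intro hm0
        rw [hm0, pow_zero] at hm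
        have : 1 < Nat.card V := Finite.one_lt_card
        omega
      rw [hm, h0, zero_pow hmpos] at hVpos
      exact lt_irrefl _ hVpos
    have h2 : 2 ≤ Nat.card K := Finite.one_lt_card
    exact (Nat.pow_right_injective h2 h1).symm
  -- the linear action of `B`
  let lin : B →* Module.End K V :=
    { toFun := fun b =>
        { toFun := fun v => toEnd H (b : H) v
          map_add' := fun v w => map_add _ v w
          map_smul' := fun k v => hBK b k v }
      map_one' := by
        ext v
        rfl
      map_mul' := fun b c => by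
        ext v
        rfl }
  have hlin : ∀ (b : B) (v : V), lin b v = ((b : H) : V ≃ₗ[ZMod p] V) v := fun _ _ => rfl
  let κ : B → B → K := fun y b =>
    j ⟨toEnd H ((y : H) * (b : H) * (y : H)⁻¹ * (b : H)⁻¹), toEnd_mem_KA (hcfg.comm y y.2 b b.2)⟩
  have hκ : ∀ y b, lin y * lin b * lin y⁻¹ = κ y b • lin b := by
    intro y b
    ext v
    rw [LinearMap.smul_apply]
    simp only [κ, hj]
    have e1 : ((y : H) * (b : H) * (y : H)⁻¹ * (b : H)⁻¹) * (b : H) =
        (y : H) * (b : H) * ((y⁻¹ : B) : H) := by
      rw [inv_mul_cancel_right]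
      rfl
    show toEnd H (y : H) (toEnd H (b : H) (toEnd H ((y⁻¹ : B) : H) v)) =
      toEnd H ((y : H) * (b : H) * (y : H)⁻¹ * (b : H)⁻¹) (toEnd H (b : H) v)
    rw [← Module.End.mul_apply (toEnd H ((y : H) * (b : H) * (y : H)⁻¹ * (b : H)⁻¹)), ← map_mul, e1,
      map_mul, map_mul]
    rfl
  have hne : ∀ b b' : B, b'⁻¹ * b ∉ A.subgroupOf B → ∃ y, κ y b ≠ κ y b' := by
    intro b b' hbb'
    have hc : ((b'⁻¹ * b : B) : H) ∉ A := fun h => hbb' (Subgroup.mem_subgroupOf.2 h)
    have hcen : ¬ ∀ c ∈ B, ((b'⁻¹ * b : B) : H) * c = c * ((b'⁻¹ * b : B) : H) :=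
      fun h => hc (hcfg.center _ (b'⁻¹ * b : B).2 h)
    push Not at hcen
    obtain ⟨y, hyB, hy⟩ := hcen
    refine ⟨⟨y, hyB⟩, ?_⟩
    intro heq
    apply hy
    have h1 : toEnd H (y * (b : H) * y⁻¹ * (b : H)⁻¹) = toEnd H (y * (b' : H) * y⁻¹ * (b' : H)⁻¹) := by
      ext v
      have := congrArg (fun k : K => k • v) heq
      simp only [κ, hj] at this
      exact this
    have h2 : y * (b : H) * y⁻¹ * (b : H)⁻¹ = y * (b' : H) * y⁻¹ * (b' : H)⁻¹ :=
      toEnd_injective h1
    have h3 : (b : H) * y⁻¹ * (b : H)⁻¹ = (b' : H) * y⁻¹ * (b' : H)⁻¹ := by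
      have := congrArg (fun t => y⁻¹ * t) h2
      simpa [mul_assoc] using this
    -- `(b'⁻¹ b) y⁻¹ = y⁻¹ (b'⁻¹ b)`
    have h4 : (b' : H)⁻¹ * (b : H) * y⁻¹ = y⁻¹ * ((b' : H)⁻¹ * (b : H)) := by
      have := congrArg (fun t => (b' : H)⁻¹ * t * (b : H)) h3
      simpa [mul_assoc] using this
    have h5 : ((b'⁻¹ * b : B) : H) = (b' : H)⁻¹ * (b : H) := rfl
    rw [h5]
    have := congrArg (fun t => y * t * y) h4
    simp only [mul_assoc, inv_mul_cancel, mul_one, mul_inv_cancel_left] at this
    exact this.symm
  have key := ind_index_le_sq lin (A.subgroupOf B) κ hκ hne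
  rw [hfr] at key
  exact key

/-- PIECE IND -/
theorem relIndex_le_sq [Finite V] [Nontrivial V] (A B : Subgroup H) [A.Normal]
    (hAc : ∀ a ∈ A, ∀ b ∈ A, a * b = b * a)
    (hinj : ∀ x ∈ KA A, x ≠ 0 → ∀ v : V, x v = 0 → v = 0)
    (hcfg : Cfg A B) (m : ℕ) (hm : Nat.card V = Nat.card (KA A) ^ m) :
    A.relIndex B ≤ m ^ 2 := by
  classical
  have hcomm := KA_comm hAc
  let F : Field (KA A) := fieldOfInj (KA A) hcomm hinj
  let M : @Module (KA A) V F.toSemiring _ := Subalgebra.moduleLeft (KA A)
  refine ind_glue (K := KA A) (instK := F) (instM := M) A B hcfg id (fun _ _ => rfl) ?_ m hm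
  intro b k v
  have h1 := (mem_centralizer_iff_KA ((b : B) : H)).1 (hcfg.cent b.2) k k.2
  have h2 := congrArg (fun f : Module.End (ZMod p) V => f v) h1
  exact h2

end linear

end Cfsg.Agent.Helper7.Hup
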