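import Mathlib

set_option autoImplicit false

/-!
# Values of cyclotomic polynomials at natural numbers (helper20)

`phiN q n` is the natural number `Φ_n(q)`.  Basic divisibility facts, the bounds from Mathlib,
and the `expand` identities.
-/

namespace Cfsg.Agent.Helper20.Zsig

open Polynomial

/-- The value `Φ_n(q)` as an integer. -/
noncomputable def phiZ (q n : ℕ) : ℤ := (cyclotomic n ℤ).eval (q : ℤ)

/-- The value `Φ_n(q)` as a natural number. -/
noncomputable def phiN (q n : ℕ) : ℕ := (phiZ q n).natAbs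

theorem phiZ_nonneg {q : ℕ} (hq : 1 ≤ q) (n : ℕ) : 0 ≤ phiZ q n := by
  unfold phiZ
  exact cyclotomic_nonneg n (by exact_mod_cast hq)

theorem phiZ_eq {q : ℕ} (hq : 1 ≤ q) (n : ℕ) : phiZ q n = (phiN q n : ℤ) := by
  unfold phiN
  rw [Int.natAbs_of_nonneg (phiZ_nonneg hq n)]

theorem phiN_real {q : ℕ} (hq : 1 ≤ q) (n : ℕ) :
    ((phiN q n : ℕ) : ℝ) = (cyclotomic n ℝ).eval (q : ℝ) := by
  have h1 : ((phiN q n : ℕ) : ℝ) = ((phiZ q n : ℤ) : ℝ) := by
    rw [phiZ_eq hq n]; simp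
  rw [h1]
  unfold phiZ
  have := cyclotomic.eval_apply (q : ℤ) n (Int.castRingHom ℝ)
  simpa using this.symm

theorem phiN_lower {q n : ℕ} (hq : 2 ≤ q) (hn : 2 ≤ n) :
    (q - 1) ^ Nat.totient n < phiN q n := by
  unfold phiN phiZ
  exact sub_one_pow_totient_lt_natAbs_cyclotomic_eval (by omega) (by omega)

theorem phiN_lower_le {q : ℕ} (hq : 2 ≤ q) (n : ℕ) :
    (q - 1) ^ Nat.totient n ≤ phiN q n := by
  have h := sub_one_pow_totient_le_cyclotomic_eval (q := (q : ℝ)) (by exact_mod_cast hq) n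
  rw [← phiN_real (by omega) n] at h
  have h2 : (((q - 1 : ℕ) : ℝ)) = (q : ℝ) - 1 := by
    rw [Nat.cast_sub (by omega)]; simp
  rw [← h2] at h
  exact_mod_cast h

theorem phiN_upper {q : ℕ} (hq : 2 ≤ q) (n : ℕ) :
    phiN q n ≤ (q + 1) ^ Nat.totient n := by
  have h := cyclotomic_eval_le_add_one_pow_totient (q := (q : ℝ)) (by exact_mod_cast hq) n
  rw [← phiN_real (by omega) n] at h
  exact_mod_cast h

theorem phiN_pos {q n : ℕ} (hq : 2 ≤ q) : 0 < phiN q n := by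
  have h := phiN_lower_le hq n
  have : 0 < (q - 1) ^ Nat.totient n := Nat.pow_pos (by omega)
  omega

private theorem eval_aux (q k : ℕ) : ((X : ℤ[X]) ^ k - 1).eval (q : ℤ) = (q : ℤ) ^ k - 1 := by
  simp only [eval_X, eval_one, eval_pow, eval_sub]

private theorem natAbs_aux {q : ℕ} (hq : 1 ≤ q) (k : ℕ) : ((q : ℤ) ^ k - 1).natAbs = q ^ k - 1 := by
  have h1 : 1 ≤ q ^ k := Nat.one_le_pow _ _ hq
  have : ((q : ℤ) ^ k - 1) = ((q ^ k - 1 : ℕ) : ℤ) := by
    push_cast [h1]; ring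
  rw [this, Int.natAbs_natCast]

theorem phiN_mul_dvd {q n d : ℕ} (hq : 1 ≤ q) (hd : d ∈ n.properDivisors) :
    (q ^ d - 1) * phiN q n ∣ q ^ n - 1 := by
  have h := map_dvd (evalRingHom (q : ℤ))
    (X_pow_sub_one_mul_cyclotomic_dvd_X_pow_sub_one_of_dvd ℤ hd)
  simp only [coe_evalRingHom, eval_mul, eval_aux] at h
  have h2 := Int.natAbs_dvd_natAbs.mpr h
  rw [Int.natAbs_mul, natAbs_aux hq, natAbs_aux hq] at h2
  exact h2

theorem phiN_dvd {q : ℕ} (hq : 1 ≤ q) (n : ℕ) : phiN q n ∣ q ^ n - 1 := by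
  have h := map_dvd (evalRingHom (q : ℤ)) (cyclotomic.dvd_X_pow_sub_one n ℤ)
  simp only [coe_evalRingHom, eval_aux] at h
  have h2 := Int.natAbs_dvd_natAbs.mpr h
  rw [natAbs_aux hq] at h2
  exact h2

theorem phiN_expand_of_dvd {p m : ℕ} (q : ℕ) (hp : p.Prime) (h : p ∣ m) :
    phiN q (m * p) = phiN (q ^ p) m := by
  unfold phiN phiZ
  rw [← cyclotomic_expand_eq_cyclotomic hp h ℤ, expand_eval]
  push_cast
  rfl

theorem phiN_expand_of_not_dvd {p m : ℕ} (q : ℕ) (hp : p.Prime) (h : ¬ p ∣ m) :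
    phiN q (m * p) * phiN q m = phiN (q ^ p) m := by
  unfold phiN phiZ
  rw [← Int.natAbs_mul, ← eval_mul, ← cyclotomic_expand_eq_cyclotomic_mul hp h ℤ, expand_eval]
  push_cast
  rfl

end Cfsg.Agent.Helper20.Zsig
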