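import Mathlib
import Cfsg.Agent.Lib.Helper20.ZsigA

set_option autoImplicit false

/-!
# Prime divisors of `Φ_n(q)` (helper20)

A prime `p ∣ Φ_n(q)` is either primitive for `q^n - 1` (and then `p ≡ 1 mod n`), or it divides
`n`, is the largest prime divisor of `n`, and `p^2 ∤ Φ_n(q)` (for `n ≥ 3`).
-/

namespace Cfsg.Agent.Helper20.Zsig

open Finset

/-- `p` is primitive for `q^n - 1`: it divides no `q^i - 1` with `1 ≤ i < n`. -/
def IsPrim (p q n : ℕ) : Prop := ∀ i : ℕ, 1 ≤ i → i < n → ¬ p ∣ q ^ i - 1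

theorem dvd_pow_sub_one_iff {p q : ℕ} (hq : 1 ≤ q) (k : ℕ) :
    p ∣ q ^ k - 1 ↔ ((q : ZMod p)) ^ k = 1 := by
  rw [← ZMod.natCast_eq_zero_iff]
  have h1 : 1 ≤ q ^ k := Nat.one_le_pow _ _ hq
  push_cast [h1]
  rw [sub_eq_zero]

theorem ord_facts {p q n : ℕ} (hp : p.Prime) (hq : 1 ≤ q) (hn : 0 < n) (hpn : p ∣ q ^ n - 1) :
    orderOf (q : ZMod p) ∣ n ∧ 0 < orderOf (q : ZMod p) ∧ p ∣ q ^ (orderOf (q : ZMod p)) - 1 ∧
      orderOf (q : ZMod p) ∣ p - 1 := by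
  haveI : Fact p.Prime := ⟨hp⟩
  have h1 : ((q : ZMod p)) ^ n = 1 := (dvd_pow_sub_one_iff hq n).mp hpn
  have hne : (q : ZMod p) ≠ 0 := by
    intro h0
    rw [h0, zero_pow hn.ne'] at h1
    exact zero_ne_one h1
  refine ⟨orderOf_dvd_of_pow_eq_one h1, ?_, ?_, ?_⟩
  · exact orderOf_pos_iff.mpr (isOfFinOrder_iff_pow_eq_one.mpr ⟨n, hn, h1⟩)
  · exact (dvd_pow_sub_one_iff hq _).mpr (pow_orderOf_eq_one _)
  · exact orderOf_dvd_of_pow_eq_one (ZMod.pow_card_sub_one_eq_one hne)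

theorem dvd_iff_ord_dvd {p q : ℕ} (hq : 1 ≤ q) (k : ℕ) :
    p ∣ q ^ k - 1 ↔ orderOf (q : ZMod p) ∣ k := by
  rw [dvd_pow_sub_one_iff hq, orderOf_dvd_iff_pow_eq_one]

/-- a primitive prime divisor of `q^n - 1` is `≡ 1 mod n` -/
theorem IsPrim.dvd_sub_one {p q n : ℕ} (h : IsPrim p q n) (hp : p.Prime) (hq : 1 ≤ q)
    (hn : 0 < n) (hpn : p ∣ q ^ n - 1) : n ∣ p - 1 := by
  obtain ⟨h1, h2, h3, h4⟩ := ord_facts hp hq hn hpn
  have hle : orderOf (q : ZMod p) ≤ n := Nat.le_of_dvd hn h1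
  rcases hle.lt_or_eq with hlt | heq
  · exact absurd h3 (h _ h2 hlt)
  · rwa [heq] at h4

theorem IsPrim.modEq_one {p q n : ℕ} (h : IsPrim p q n) (hp : p.Prime) (hq : 1 ≤ q)
    (hn : 0 < n) (hpn : p ∣ q ^ n - 1) : p ≡ 1 [MOD n] := by
  have h1 := h.dvd_sub_one hp hq hn hpn
  exact ((Nat.modEq_iff_dvd' hp.one_lt.le).mpr h1).symm

/-- geometric sum identity in `ℕ` -/
theorem geom_nat (x r : ℕ) (hx : 1 ≤ x) :
    (x - 1) * (∑ i ∈ range r, x ^ i) = x ^ r - 1 := by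
  obtain ⟨y, rfl⟩ : ∃ y, x = y + 1 := ⟨x - 1, by omega⟩
  have := geom_sum_mul_add y r
  simp only [Nat.add_sub_cancel]
  rw [mul_comm]
  omega

/-- If `e * r = n`, `e < n` then `Φ_n(q)` divides `∑_{i<r} (q^e)^i`. -/
theorem phiN_dvd_geom {q n e r : ℕ} (hq : 2 ≤ q) (her : e * r = n) (he : 0 < e) (hr : 2 ≤ r) :
    phiN q n ∣ ∑ i ∈ range r, (q ^ e) ^ i := by
  have hn : 0 < n := by rw [← her]; positivity
  have hmem : e ∈ n.properDivisors := by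
    rw [Nat.mem_properDivisors]
    refine ⟨⟨r, her.symm⟩, ?_⟩
    rw [← her]
    nlinarith
  have h1 := phiN_mul_dvd (q := q) (by omega) hmem
  have h2 : q ^ n - 1 = (q ^ e - 1) * ∑ i ∈ range r, (q ^ e) ^ i := by
    rw [geom_nat _ _ (Nat.one_le_pow _ _ (by omega)), ← pow_mul, her]
  rw [h2] at h1
  have h3 : 0 < q ^ e - 1 := by
    have : 2 ^ e ≤ q ^ e := Nat.pow_le_pow_left hq e
    have : 2 ≤ 2 ^ e := by
      calc 2 = 2 ^ 1 := by norm_num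
        _ ≤ 2 ^ e := Nat.pow_le_pow_right (by norm_num) he
    omega
  exact Nat.dvd_of_mul_dvd_mul_left h3 h1

/-- If `p ∣ x - 1` then `p ∣ ∑_{i<r} x^i ↔ p ∣ r`. -/
theorem dvd_geom_iff {p x r : ℕ} (hx : 1 ≤ x) (hpx : p ∣ x - 1) :
    p ∣ ∑ i ∈ range r, x ^ i ↔ p ∣ r := by
  have h1 : ((x : ZMod p)) = 1 := by
    have := (dvd_pow_sub_one_iff (p := p) hx 1).mp (by simpa using hpx)
    simpa using this
  rw [← ZMod.natCast_eq_zero_iff, ← ZMod.natCast_eq_zero_iff]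
  push_cast
  rw [h1]
  simp

/-- If `p` is an odd prime with `p ∣ x - 1` then `p^2 ∤ ∑_{i<p} x^i`. -/
theorem not_sq_dvd_geom {p x : ℕ} (hp : p.Prime) (hodd : Odd p) (hx : 1 ≤ x) (hpx : p ∣ x - 1) :
    ¬ p ^ 2 ∣ ∑ i ∈ range p, x ^ i := by
  intro hdvd
  have hpZ : Prime (p : ℤ) := Nat.prime_iff_prime_int.mp hp
  have hxy : (p : ℤ) ∣ (x : ℤ) - 1 := by
    have : ((x - 1 : ℕ) : ℤ) = (x : ℤ) - 1 := by push_cast [hx]; ring
    rw [← this]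
    exact_mod_cast hpx
  have hxn : ¬ (p : ℤ) ∣ (x : ℤ) := by
    intro h
    have h2 : (p : ℤ) ∣ 1 := by
      have := dvd_sub h hxy
      simpa using this
    have := Int.isUnit_iff.mp (isUnit_of_dvd_one h2)
    have hp2 := hp.two_le
    omega
  have hm := emultiplicity_geom_sum₂_eq_one hpZ hodd hxy hxn
  simp only [one_pow, mul_one] at hm
  have hlt : emultiplicity (p : ℤ) (∑ i ∈ range p, (x : ℤ) ^ i) < (2 : ℕ) := by
    rw [hm]; norm_num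
  rw [emultiplicity_lt_iff_not_dvd] at hlt
  apply hlt
  have : ((∑ i ∈ range p, x ^ i : ℕ) : ℤ) = ∑ i ∈ range p, (x : ℤ) ^ i := by push_cast; rfl
  rw [← this]
  exact_mod_cast hdvd

end Cfsg.Agent.Helper20.Zsig
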