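import Mathlib
import Cfsg.Agent.Lib.Helper20.A3Defs
import Cfsg.Agent.S0012

set_option autoImplicit false
set_option linter.unusedSectionVars false
set_option linter.unusedVariables false

/-!
S3117 pieces LAM2, N0ONE, W2.
-/

namespace Cfsg.Agent.Helper20.A3

section Abs

variable {W U : Type*} [Group W] [Group U] [Finite W] [Finite U]

/-- **A3-LAM2.** A group of order `2` has a faithful character to `𝔽₂`. -/
theorem exists_char_two (hU2 : Nat.card U = 2) :
    ∃ l : U →* Multiplicative (ZMod 2), ∀ v : U, l v = 1 ↔ v = 1 := by
  classical
  -- elements of U are 1 or the nonidentity element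
  have hone : ∀ a b : U, a ≠ 1 → b ≠ 1 → a = b := by
    intro a b ha hb
    by_contra hab
    have : 3 ≤ Nat.card U := by
      have hinj : Function.Injective (fun i : Fin 3 => if i = 0 then (1 : U) else if i = 1 then a else b) := by
        intro i j hij
        fin_cases i <;> fin_cases j <;> simp_all
      have := Nat.card_le_card_of_injective _ hinj
      simpa using this
    omega
  have hsq : ∀ a : U, a * a = 1 := by
    intro a
    have h := orderOf_dvd_natCard a
    rw [hU2] at h
    have : a ^ 2 = 1 := orderOf_dvd_iff_pow_eq_one.mp h
    rw [← pow_two]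
    exact this
  refine ⟨{ toFun := fun v => if v = 1 then 1 else Multiplicative.ofAdd (1 : ZMod 2)
            map_one' := by simp
            map_mul' := ?_ }, ?_⟩
  · intro a b
    by_cases ha : a = 1
    · subst ha
      simp
    · by_cases hb : b = 1
      · subst hb
        simp
      · have hab : a = b := hone a b ha hb
        subst hab
        rw [hsq a]
        simp only [ha, if_true, if_false]
        rw [← ofAdd_add]
        have : (1 : ZMod 2) + 1 = 0 := by decide
        rw [this]
        rfl
  · intro v
    show (if v = 1 then (1 : Multiplicative (ZMod 2)) else Multiplicative.ofAdd (1 : ZMod 2)) = 1 ↔ v = 1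
    by_cases hv : v = 1
    · simp [hv]
    · simp only [hv, if_false, iff_false]
      intro h
      have : (1 : ZMod 2) = 0 := Multiplicative.ofAdd.injective h
      exact absurd this (by decide)

/-- **A3-N0ONE.** If `U` is trivial every nontrivial vector is singular. -/
theorem n0_of_card_one (q : W → U) (hU1 : Nat.card U = 1) : n0 q + 1 = Nat.card W := by
  classical
  haveI : Subsingleton U := (Nat.card_eq_one_iff_unique.mp hU1).1
  unfold n0
  have h1 : Nat.card {w : W // w ≠ 1 ∧ q w = 1} = Nat.card {w : W // w ≠ 1} := by
    apply Nat.card_congr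
    exact Equiv.subtypeEquivRight (fun w => ⟨fun h => h.1, fun h => ⟨h, Subsingleton.elim _ _⟩⟩)
  rw [h1]
  haveI := Fintype.ofFinite W
  rw [Nat.card_eq_fintype_card, Nat.card_eq_fintype_card, Fintype.card_subtype_compl,
    Fintype.card_subtype_eq]
  have : 0 < Fintype.card W := Fintype.card_pos
  omega

end Abs

section Glue

variable {C : Type*} [Group C] [Finite C]

/-- **A3-W2.** The Frattini quotient of a `2`-group has exponent `2`. -/
theorem frattini_quot_exp_two (hC : IsPGroup 2 C) : ∀ w : C ⧸ frattini C, w * w = 1 := by
  haveI : Fact (Nat.Prime 2) := ⟨Nat.prime_two⟩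
  intro w
  induction w using QuotientGroup.induction_on with
  | H x =>
    have h := (Cfsg.Agent.S0012.result (G := C) 2 hC).2 x
    rw [← QuotientGroup.mk_mul, ← pow_two]
    exact (QuotientGroup.eq_one_iff _).mpr h

end Glue

end Cfsg.Agent.Helper20.A3
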