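import Mathlib
import Cfsg.Prelude.Def_Solvable
import Cfsg.Prelude.Def_Local
import Cfsg.Prelude.Def_CaseTheorems
import Cfsg.Agent.Lib.Helper22.SecRank

set_option autoImplicit false

/-!
Definitions for S3106 (a 2-constrained group of sectional 2-rank at most 4 whose quotient by
`O_2` contains an alternating group of degree 5).  See `plans/S3106_proof.md`.
-/

namespace Cfsg.Agent.Helper20.A5Q

open Cfsg.Agent.Helper22.SecRank

/-- The rank condition in its portable form: an exponent-two section has order at most `16`. -/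
def RankSq (Y : Type*) [Group Y] : Prop :=
  ∀ K M : Subgroup Y, M ≤ K → K ≤ Subgroup.normalizer (M : Set Y) → (∀ k ∈ K, k ^ 2 ∈ M) →
    Nat.card K ≤ 16 * Nat.card M

/-- The setting: `P` a normal `2`-subgroup of `Y`, `Y/P` behaves like the alternating group of
degree `5` (an element `f` of order `5` inverted modulo `P` by a `2`-element `t`, simplicity of
`Y/P`, nonsolvability), `Y` acts faithfully on `P/Φ(P)`, and the rank condition holds.
`Sq P` (helper22's `SecRank.Sq`) is the subgroup generated by the squares of `P`; for a `2`-group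
it is the Frattini subgroup. -/
structure A5S (Y : Type*) [Group Y] (P : Subgroup Y) : Prop where
  normal : P.Normal
  pgroup : IsPGroup 2 P
  rank : RankSq Y
  faith : ∀ y : Y, (∀ x ∈ P, y * x * y⁻¹ * x⁻¹ ∈ Sq P) → y ∈ P
  elems : ∃ f t : Y, orderOf f = 5 ∧ t ∉ P ∧ t ^ 2 ∈ P ∧ t * f * t⁻¹ * f ∈ P
  simple : ∀ K : Subgroup Y, K.Normal → P ≤ K → K = P ∨ K = ⊤
  ns : ¬ Group.IsSolvable Y

/-- A central product of a quaternion group and a dihedral group of order `8`. -/
def IsQ8D8 (G : Type*) [Group G] : Prop :=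
  Nat.card G = 32 ∧ ∃ A B : Subgroup G, Nonempty (↥A ≃* QuaternionGroup 2) ∧
    Nonempty (↥B ≃* DihedralGroup 4) ∧ (∀ a ∈ A, ∀ b ∈ B, a * b = b * a) ∧
      A ⊔ B = ⊤ ∧ A ⊓ B = Subgroup.center G

end Cfsg.Agent.Helper20.A5Q
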