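import Mathlib
import Cfsg.Agent.Lib.Helper20.A5QDefs
import Cfsg.Agent.Lib.Helper20.A3Defs
import Cfsg.Agent.Lib.Helper22.A3F1

set_option autoImplicit false
set_option linter.unusedSectionVars false
set_option linter.unusedVariables false

/-!
S3106 piece ORB5.
-/

namespace Cfsg.Agent.Helper20.A5Q

open Cfsg.Agent.Helper22.SecRank
open Cfsg.Agent.Helper20.A3

section Abstract

variable {W : Type*} [Group W] [Finite W]

/-- **A5Q-ORB5.** A nonzero quadratic form on `2^4` invariant under a fixed-point-free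
automorphism of order `5` has exactly `6` zeros. -/
theorem zer_card_six (hW : ∀ w : W, w * w = 1) (hcard : Nat.card W = 16) (Q : W → ZMod 2)
    (hQ : IsQuad Q) (φ : MulAut W) (hφ5 : φ ^ 5 = 1) (hfree : ∀ w : W, φ w = w → w = 1)
    (hinv : ∀ w, Q (φ w) = Q w) (hne : ∃ w, Q w ≠ 0) : Nat.card (zer Q) = 6 := by
  classical
  haveI : Fintype W := Fintype.ofFinite W
  haveI : Fact (Nat.Prime 5) := ⟨by norm_num⟩
  -- `Q 1 = 0`
  have hQ1 : Q 1 = 0 := by
    have h := hQ 1 1 1
    simp only [mul_one] at h
    have h7 : ∀ a : ZMod 2, a + a + a + a + a + a + a = 0 → a = 0 := by decide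
    exact h7 _ h
  -- the induced map on the zero set
  let f : Function.End {w : W // Q w = 0} := fun x => ⟨φ x.1, by rw [hinv]; exact x.2⟩
  have hpow : ∀ (n : ℕ) (x : {w : W // Q w = 0}), ((f ^ n) x).1 = (φ ^ n) x.1 := by
    intro n
    induction n with
    | zero => intro x; rfl
    | succ n ih =>
      intro x
      rw [pow_succ, pow_succ]
      show ((f ^ n) (f x)).1 = (φ ^ n) (φ x.1)
      rw [ih (f x)]
  have hf5 : f ^ 5 ^ 1 = 1 := by
    rw [pow_one]
    funext x
    apply Subtype.ext
    rw [hpow 5 x, hφ5]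
    rfl
  have hmod := Equiv.Perm.card_fixedPoints_modEq (p := 5) (n := 1) hf5
  -- the only fixed point is `1`
  have hfix : Fintype.card (Function.fixedPoints f) = 1 := by
    rw [Fintype.card_eq_one_iff]
    refine ⟨⟨⟨1, hQ1⟩, ?_⟩, ?_⟩
    · show f ⟨1, hQ1⟩ = ⟨1, hQ1⟩
      apply Subtype.ext
      exact map_one φ
    · rintro ⟨⟨w, hw⟩, hx⟩
      apply Subtype.ext
      apply Subtype.ext
      have : f ⟨w, hw⟩ = ⟨w, hw⟩ := hx
      have h2 : φ w = w := congrArg Subtype.val this
      exact hfree w h2
  rw [hfix] at hmod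
  have hzer : Nat.card (zer Q) = Fintype.card {w : W // Q w = 0} := by
    rw [← Nat.card_eq_fintype_card]
    rfl
  rw [← hzer] at hmod
  have hF1 := zer_card_sixteen hW Q hQ hcard
  have hm : Nat.card (zer Q) % 5 = 1 % 5 := hmod
  rcases hF1 with h | h | h | h | h | h
  · rw [h] at hm; norm_num at hm
  · exact h
  · rw [h] at hm; norm_num at hm
  · rw [h] at hm; norm_num at hm
  · rw [h] at hm; norm_num at hm
  · exfalso
    obtain ⟨w, hw⟩ := hne
    apply hw
    -- the zero set is everything
    have hall : (zer Q) = Set.univ := by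
      apply Set.eq_univ_of_forall
      by_contra hcon
      push Not at hcon
      obtain ⟨x, hx⟩ := hcon
      have hlt : Nat.card (zer Q) < Nat.card W := by
        rw [Nat.card_eq_fintype_card, Nat.card_eq_fintype_card]
        apply Fintype.card_subtype_lt (x := x)
        exact hx
      omega
    have : w ∈ zer Q := by rw [hall]; exact Set.mem_univ w
    exact this

end Abstract

end Cfsg.Agent.Helper20.A5Q
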