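import Mathlib
import Cfsg.Agent.Lib.Helper20.A5QDefs
import Cfsg.Agent.Lib.Helper20.A3Defs

set_option autoImplicit false
set_option linter.unusedSectionVars false
set_option linter.unusedVariables false

/-!
S3106 pieces RANK, FIX5.
-/

namespace Cfsg.Agent.Helper20.A5Q

open Cfsg.Agent.Helper22.SecRank
open Cfsg.Agent.Helper20.A3

section Generic

variable {Y : Type*} [Group Y] [Finite Y]

/-- **A5Q-RANK.** -/
theorem rankSq_of_sectional (h : Cfsg.SectionalPRankLE 2 4 Y) : RankSq Y := by
  intro K M hMK hnorm hsq
  have := card_le_of_sq h K M hMK hnorm hsq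
  norm_num at this
  exact this

end Generic

section Abstract

variable {W : Type*} [Group W] [Finite W]

/-- the fixed points of an automorphism -/
def fix5_fixSub (φ : MulAut W) : Subgroup W where
  carrier := {w | φ w = w}
  one_mem' := map_one φ
  mul_mem' := fun {a b} ha hb => by
    show φ (a * b) = a * b
    rw [map_mul, ha, hb]
  inv_mem' := fun {a} ha => by
    show φ a⁻¹ = a⁻¹
    rw [map_inv, ha]

/-- **A5Q-FIX5.** An automorphism of order `5` of a group of exponent `2` and order `16` has no
nontrivial fixed point. -/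
theorem free_of_order_five (hW : ∀ w : W, w * w = 1) (hcard : Nat.card W = 16) (φ : MulAut W)
    (hφ5 : φ ^ 5 = 1) (hφ : φ ≠ 1) : ∀ w : W, φ w = w → w = 1 := by
  classical
  haveI : Fintype W := Fintype.ofFinite W
  -- the cyclic group generated by `φ` acts on `W`
  have hord : orderOf φ = 5 := by
    have hdvd : orderOf φ ∣ 5 := orderOf_dvd_of_pow_eq_one hφ5
    rcases (Nat.dvd_prime (by norm_num : Nat.Prime 5)).mp hdvd with h1 | h5
    · exact absurd (orderOf_eq_one_iff.mp h1) hφ
    · exact h5
  haveI : Fact (Nat.Prime 5) := ⟨by norm_num⟩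
  have hp : IsPGroup 5 ↥(Subgroup.zpowers φ) := by
    apply IsPGroup.of_card (n := 1)
    rw [Nat.card_zpowers, hord, pow_one]
  -- fixed points of the action
  have hmod := hp.card_modEq_card_fixedPoints W
  -- the fixed points are the fixed subgroup
  have hfix : Nat.card (MulAction.fixedPoints ↥(Subgroup.zpowers φ) W) =
      Nat.card (fix5_fixSub φ) := by
    apply Nat.card_congr
    refine Equiv.subtypeEquivRight ?_
    intro w
    constructor
    · intro hw
      exact hw ⟨φ, Subgroup.mem_zpowers φ⟩
    · intro hw g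
      obtain ⟨g, hg⟩ := g
      obtain ⟨k, rfl⟩ := Subgroup.mem_zpowers_iff.mp hg
      show (φ ^ k) w = w
      have hfix : ∀ n : ℕ, (φ ^ n) w = w := by
        intro n
        induction n with
        | zero => rfl
        | succ n ih =>
          rw [pow_succ]
          show (φ ^ n) (φ w) = w
          rw [show φ w = w from hw, ih]
      have hinv : ∀ n : ℕ, ((φ ^ n)⁻¹) w = w := by
        intro n
        have := hfix n
        calc ((φ ^ n)⁻¹) w = ((φ ^ n)⁻¹) ((φ ^ n) w) := by rw [this]
          _ = w := by
            show ((φ ^ n)⁻¹ * (φ ^ n)) w = w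
            rw [inv_mul_cancel]; rfl
      rcases Int.eq_nat_or_neg k with ⟨n, rfl | rfl⟩
      · rw [zpow_natCast]; exact hfix n
      · rw [zpow_neg, zpow_natCast]; exact hinv n
  rw [hfix, hcard] at hmod
  -- the order of the fixed subgroup divides 16
  have hdvd : Nat.card (fix5_fixSub φ) ∣ 16 := by
    rw [← hcard]
    exact Subgroup.card_subgroup_dvd_card _
  have hle : Nat.card (fix5_fixSub φ) ≤ 16 := Nat.le_of_dvd (by norm_num) hdvd
  have hcases : Nat.card (fix5_fixSub φ) = 1 ∨ Nat.card (fix5_fixSub φ) = 16 := by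
    have hm : 16 % 5 = Nat.card (fix5_fixSub φ) % 5 := hmod
    interval_cases h : Nat.card (fix5_fixSub φ) <;> simp_all <;> omega
  rcases hcases with h1 | h16
  · intro w hw
    have hb : fix5_fixSub φ = ⊥ := Subgroup.card_eq_one.mp h1
    have : w ∈ fix5_fixSub φ := hw
    rw [hb, Subgroup.mem_bot] at this
    exact this
  · exfalso
    apply hφ
    have htop : fix5_fixSub φ = ⊤ := Subgroup.eq_top_of_card_eq _ (by rw [h16, hcard])
    apply MulEquiv.ext
    intro w
    have : w ∈ fix5_fixSub φ := by rw [htop]; exact Subgroup.mem_top w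
    exact this

end Abstract

end Cfsg.Agent.Helper20.A5Q
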