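import Mathlib

set_option autoImplicit false

namespace Cfsg.Agent.Helper20.PowSubOne

open Finset

theorem geom_sum_odd (q n : ℕ) (hq : Odd q) (hn : Odd n) : Odd (∑ i ∈ range n, q ^ i) := by
  rw [Finset.odd_sum_iff_odd_card_odd]
  have : (Finset.filter (fun x => Odd (q ^ x)) (range n)) = range n := by
    apply Finset.filter_true_of_mem
    intro x _
    exact hq.pow
  rw [this, Finset.card_range]
  exact hn

/-- `2 ^ n - 1 = p ^ j` with `n ≥ 2` forces `j = 1`. -/
theorem mersenne_pow (p n j : ℕ) (hp : p.Prime) (hn : 2 ≤ n) (h : 2 ^ n = p ^ j + 1) : j = 1 := by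
  have h4 : 4 ∣ 2 ^ n := by
    obtain ⟨k, rfl⟩ := Nat.exists_eq_add_of_le hn
    rw [pow_add]; exact Dvd.intro _ rfl
  have hj0 : j ≠ 0 := by
    rintro rfl
    rw [pow_zero] at h
    rw [h] at h4
    omega
  have hp2 : p ≠ 2 := by
    rintro rfl
    have h2 : 2 ∣ 2 ^ j := dvd_pow_self 2 hj0
    have h2' : 2 ∣ 2 ^ n := dvd_trans (by norm_num) h4
    rw [h] at h2'
    omega
  have hpodd : Odd p := hp.odd_of_ne_two hp2
  rcases Nat.even_or_odd j with hj | hj
  · exfalso
    obtain ⟨i, rfl⟩ := hj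
    have hc : ((2 ^ n : ℕ) : ZMod 4) = 0 := by
      rw [ZMod.natCast_eq_zero_iff]; exact h4
    rw [h] at hc
    have hodd : Odd (p ^ i) := hpodd.pow
    have key : ∀ x : ZMod 4, x * x + 1 = 0 → False := by decide
    apply key ((p ^ i : ℕ) : ZMod 4)
    have : p ^ (i + i) + 1 = p ^ i * p ^ i + 1 := by rw [pow_add]
    rw [this] at hc
    push_cast at hc ⊢
    exact hc
  · -- j odd
    have hdvd : p + 1 ∣ p ^ j + 1 ^ j := hj.nat_add_dvd_pow_add_pow p 1
    rw [one_pow, ← h] at hdvd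
    obtain ⟨a, ha, hpa⟩ := (Nat.dvd_prime_pow Nat.prime_two).1 hdvd
    -- geometric sum: work with integers
    by_contra hj1
    have hj3 : 3 ≤ j := by
      obtain ⟨k, rfl⟩ := hj
      omega
    -- p^2 ≡ 1 mod 2^(a+1)
    have hp1 : 2 ∣ p - 1 := by
      obtain ⟨k, rfl⟩ := hpodd
      omega
    have hsq : 2 ^ (a + 1) ∣ p ^ 2 - 1 := by
      have : p ^ 2 - 1 = (p + 1) * (p - 1) := by
        have hp1' : 1 ≤ p := hp.one_lt.le
        zify [hp1', Nat.one_le_pow 2 p hp.pos]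
        ring
      rw [this, hpa, pow_succ]
      exact Nat.mul_dvd_mul (dvd_refl _) hp1
    obtain ⟨i, rfl⟩ := hj
    have hsq' : 2 ^ (a + 1) ∣ (p ^ 2) ^ i - 1 := by
      have := Nat.sub_one_dvd_pow_sub_one (p ^ 2) i
      exact dvd_trans hsq this
    have hlt : p + 1 < p ^ (2 * i + 1) + 1 := by
      have : p ^ 1 < p ^ (2 * i + 1) := Nat.pow_lt_pow_right hp.one_lt (by omega)
      rw [pow_one] at this
      omega
    have hna : a < n := by
      rw [← h, hpa] at hlt
      exact (Nat.pow_lt_pow_iff_right (by norm_num)).1 hlt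
    have hdn : 2 ^ (a + 1) ∣ 2 ^ n := Nat.pow_dvd_pow 2 hna
    rw [h] at hdn
    have hdm : 2 ^ (a + 1) ∣ p * ((p ^ 2) ^ i - 1) := Dvd.dvd.mul_left hsq' p
    have hge : 1 ≤ (p ^ 2) ^ i := Nat.one_le_pow _ _ (Nat.pow_pos hp.pos)
    have heq : p ^ (2 * i + 1) + 1 = p * ((p ^ 2) ^ i - 1) + (p + 1) := by
      zify [hge]
      ring
    rw [heq] at hdn
    have hfin : 2 ^ (a + 1) ∣ p + 1 := (Nat.dvd_add_right hdm).1 hdn
    rw [hpa] at hfin
    have := Nat.le_of_dvd (by positivity) hfin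
    have : 2 ^ a < 2 ^ (a + 1) := Nat.pow_lt_pow_right (by norm_num) (by omega)
    omega

/-- For an odd prime `q`, `q ^ n - 1 = 2 ^ j` forces `n = 1` or `q = 3, n = 2`. -/
theorem fermat_pow (q n j : ℕ) (hq : q.Prime) (hq2 : q ≠ 2) (hn : 1 ≤ n) (h : q ^ n = 2 ^ j + 1) :
    n = 1 ∨ (q = 3 ∧ n = 2) := by
  have hqodd : Odd q := hq.odd_of_ne_two hq2
  rcases Nat.even_or_odd n with hne | hno
  · right
    obtain ⟨m, rfl⟩ := hne
    have hm : 1 ≤ m := by omega
    have hge : 1 ≤ q ^ m := Nat.one_le_pow _ _ hq.pos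
    have hfac : (q ^ m - 1) * (q ^ m + 1) = 2 ^ j := by
      have : q ^ (m + m) = q ^ m * q ^ m := pow_add q m m
      zify [hge]
      have h' : ((q : ℤ) ^ m) * (q : ℤ) ^ m = 2 ^ j + 1 := by
        have h0 : ((q ^ (m + m) : ℕ) : ℤ) = ((2 ^ j + 1 : ℕ) : ℤ) := by rw [h]
        push_cast at h0
        rw [← h0, pow_add]
      linear_combination h'
    have h1 : q ^ m - 1 ∣ 2 ^ j := Dvd.intro _ hfac
    have h2 : q ^ m + 1 ∣ 2 ^ j := Dvd.intro_left _ hfac
    obtain ⟨a, _, ha⟩ := (Nat.dvd_prime_pow Nat.prime_two).1 h1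
    obtain ⟨b, _, hb⟩ := (Nat.dvd_prime_pow Nat.prime_two).1 h2
    have hab : 2 ^ b = 2 ^ a + 2 := by omega
    have ha0 : a ≠ 0 := by
      rintro rfl
      have : q ^ m = 2 := by rw [pow_zero] at ha; omega
      have hq2' : q ∣ 2 := by
        rw [← this]; exact dvd_pow_self q (by omega)
      exact hq2 ((Nat.prime_dvd_prime_iff_eq hq Nat.prime_two).1 hq2')
    have ha1 : a = 1 := by
      by_contra hne
      have ha2 : 2 ≤ a := by omega
      have hlt : 2 ^ a < 2 ^ b := by omega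
      have hab' : a < b := (Nat.pow_lt_pow_iff_right (by norm_num)).1 hlt
      have h4a : 4 ∣ 2 ^ a := by
        obtain ⟨k, rfl⟩ := Nat.exists_eq_add_of_le ha2
        rw [pow_add]; exact Dvd.intro _ rfl
      have h4b : 4 ∣ 2 ^ b := by
        obtain ⟨k, rfl⟩ := Nat.exists_eq_add_of_le (show 2 ≤ b by omega)
        rw [pow_add]; exact Dvd.intro _ rfl
      rw [hab] at h4b
      have : 4 ∣ 2 := (Nat.dvd_add_right h4a).1 h4b
      omega
    subst ha1
    have hq3 : q ^ m = 3 := by omega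
    have hqd : q ∣ 3 := by rw [← hq3]; exact dvd_pow_self q (by omega)
    have hq3' : q = 3 := (Nat.prime_dvd_prime_iff_eq hq Nat.prime_three).1 hqd
    subst hq3'
    refine ⟨rfl, ?_⟩
    have : m = 1 := by
      have h3 : (3 : ℕ) ^ m = 3 ^ 1 := by rw [hq3, pow_one]
      exact Nat.pow_right_injective (show 2 ≤ 3 by norm_num) h3
    omega
  · left
    by_contra hn1
    have hS := geom_sum_mul_add (q - 1) n
    have hq1 : q - 1 + 1 = q := Nat.sub_add_cancel hq.one_lt.le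
    rw [hq1] at hS
    have hSodd := geom_sum_odd q n hqodd hno
    set S := ∑ i ∈ range n, q ^ i with hSdef
    have hSdvd : S ∣ 2 ^ j := by
      have : S * (q - 1) = 2 ^ j := by omega
      exact Dvd.intro _ this
    obtain ⟨b, _, hb⟩ := (Nat.dvd_prime_pow Nat.prime_two).1 hSdvd
    have hb0 : b = 0 := by
      by_contra hb0
      rw [hb] at hSodd
      have : Even (2 ^ b) := (Nat.even_pow.2 ⟨even_two, hb0⟩)
      exact (Nat.not_odd_iff_even.2 this) hSodd
    rw [hb0, pow_zero] at hb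
    have hn2 : 2 ≤ n := by omega
    have hlt : 1 < S := by
      rw [hSdef]
      obtain ⟨k, rfl⟩ := Nat.exists_eq_add_of_le hn2
      rw [show 2 + k = k + 1 + 1 by ring, Finset.sum_range_succ, Finset.sum_range_succ]
      have : 1 ≤ q ^ (k + 1) := Nat.one_le_pow _ _ hq.pos
      have : 1 ≤ q ^ k := Nat.one_le_pow _ _ hq.pos
      omega
    omega

end Cfsg.Agent.Helper20.PowSubOne
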