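import Mathlib
import Cfsg.Agent.Lib.Helper5.FCBasic
import Cfsg.Agent.Lib.Helper5.FCSylow

/-!
# Nonsolvable Frobenius complements: the centralizer of a normal `SL(2,5)` (helper20)

Abstract part: `G` a finite group with helper5's `FCFacts`, `S` a subgroup with the few
properties of `SL(2,5)` collected in `SLFacts`.  Then `C_G(S) = Z(S) × M` with `M` of order
prime to `30` and with cyclic Sylow subgroups, `S ⊓ M = ⊥`, `S ⊔ M = S ⊔ C_G(S)`.
-/

set_option autoImplicit false

namespace Cfsg.Agent.Helper20.NFC

open Cfsg.Agent.Helper5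

/-- the few facts about `SL(2,5)` that the structure argument uses -/
structure SLFacts {G : Type*} [Group G] (S : Subgroup G) : Prop where
  card : Nat.card S = 120
  center_sq : ∀ x ∈ S, (∀ y ∈ S, x * y = y * x) → x * x = 1
  exists_i : ∃ i ∈ S, i ^ 4 = 1 ∧ i ^ 2 ≠ 1 ∧ ∀ y ∈ S, i ^ 2 * y = y * i ^ 2

theorem eq_one_or_eq_of_mem_zpowers_two {G : Type*} [Group G] {z g : G} (hz : orderOf z = 2)
    (hg : g ∈ Subgroup.zpowers z) : g = 1 ∨ g = z := by
  obtain ⟨k, rfl⟩ := Subgroup.mem_zpowers_iff.mp hg
  have h1 : z ^ (k % (orderOf z : ℤ)) = z ^ k := zpow_mod_orderOf z k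
  rw [hz] at h1
  rcases Int.emod_two_eq_zero_or_one k with h | h
  · left
    rw [← h1]
    have : k % ((2 : ℕ) : ℤ) = 0 := by exact_mod_cast h
    rw [this, zpow_zero]
  · right
    rw [← h1]
    have : k % ((2 : ℕ) : ℤ) = 1 := by exact_mod_cast h
    rw [this, zpow_one]

theorem structure_thm {G : Type*} [Group G] [Finite G] (hF : FCFacts G) (S : Subgroup G)
    (hS : SLFacts S) :
    ∃ M : Subgroup G, M ≤ Subgroup.centralizer (S : Set G) ∧
      S ⊔ M = S ⊔ Subgroup.centralizer (S : Set G) ∧ S ⊓ M = ⊥ ∧
      (∀ (p : ℕ) [Fact p.Prime] (P : Sylow p M), IsCyclic P) ∧ (Nat.card M).Coprime 30 := by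
  classical
  obtain ⟨i, hiS, hi4, hi2, hic⟩ := hS.exists_i
  set z : G := i ^ 2 with hzdef
  set C : Subgroup G := Subgroup.centralizer (S : Set G) with hCdef
  have hmemC : ∀ c : G, c ∈ C ↔ ∀ y ∈ S, y * c = c * y := fun c => Subgroup.mem_centralizer_iff
  have hz2 : z * z = 1 := by
    rw [hzdef, ← pow_add]; exact hi4
  have hz1 : z ≠ 1 := hi2
  have hzord : orderOf z = 2 := by
    apply orderOf_eq_prime
    · rw [pow_two]; exact hz2
    · exact hz1
  have hzS : z ∈ S := S.pow_mem hiS 2
  have hzC : z ∈ C := (hmemC z).mpr (fun y hy => (hic y hy).symm)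
  have hzi : z * i = i * z := by
    rw [hzdef, ← pow_succ, ← pow_succ']
  -- (1) involutions commuting with z
  have inv2 : ∀ g : G, g * g = 1 → g * z = z * g → g = 1 ∨ g = z := by
    intro g hg hgz
    by_cases hg1 : g = 1
    · exact Or.inl hg1
    · have hgo : orderOf g = 2 := by
        apply orderOf_eq_prime
        · rw [pow_two]; exact hg
        · exact hg1
      have := hF.comm_p 2 Nat.prime_two z g hzord hgo hgz.symm
      exact eq_one_or_eq_of_mem_zpowers_two hzord this
  -- (2) S ∩ C
  have SC : ∀ x ∈ S, x ∈ C → x = 1 ∨ x = z := by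
    intro x hxS hxC
    have h1 : x * x = 1 := hS.center_sq x hxS (fun y hy => (((hmemC x).mp hxC) y hy).symm)
    have h2 : x * z = z * x := (((hmemC x).mp hxC) z hzS).symm
    exact inv2 x h1 h2
  -- (3) elements of C of order dividing 4
  have C4 : ∀ c ∈ C, c ^ 4 = 1 → c = 1 ∨ c = z := by
    intro c hcC hc4
    have hcz : c * z = z * c := (((hmemC c).mp hcC) z hzS).symm
    have hci : i * c = c * i := ((hmemC c).mp hcC) i hiS
    have hcc : (c * c) * (c * c) = 1 := by
      rw [← pow_two, ← pow_two, ← pow_mul]; exact hc4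
    have hccz : (c * c) * z = z * (c * c) := by
      rw [mul_assoc, hcz, ← mul_assoc, hcz, mul_assoc]
    rcases inv2 (c * c) hcc hccz with h | h
    · exact inv2 c h hcz
    · exfalso
      have h1 : (i * c) * (i * c) = 1 := by
        calc (i * c) * (i * c) = i * (c * i) * c := by group
          _ = i * (i * c) * c := by rw [hci]
          _ = (i * i) * (c * c) := by group
          _ = z * z := by rw [h, hzdef, pow_two]
          _ = 1 := hz2
      have h2 : (i * c) * z = z * (i * c) := by
        rw [mul_assoc, hcz, ← mul_assoc, ← hzi, mul_assoc]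
      have hcS : c ∈ S := by
        rcases inv2 (i * c) h1 h2 with h3 | h3
        · have : c = i⁻¹ := by
            rw [eq_inv_iff_mul_eq_one, ← hci]; exact h3
          rw [this]; exact S.inv_mem hiS
        · have : c = i := by
            have h4 : i * c = i * i := by rw [h3, hzdef, pow_two]
            exact mul_left_cancel h4
          rw [this]; exact hiS
      rcases SC c hcS hcC with h5 | h5
      · rw [h5, mul_one] at h; exact hz1 h.symm
      · rw [h5, hz2] at h; exact hz1 h.symm
  -- (4) 4 does not divide |C|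
  have h4 : ¬ 4 ∣ Nat.card C := by
    intro hdvd
    haveI : Fact (Nat.Prime 2) := ⟨Nat.prime_two⟩
    obtain ⟨K, hK⟩ := Sylow.exists_subgroup_card_pow_prime (G := C) 2 (n := 2)
      (by norm_num; exact hdvd)
    have hKmem : ∀ k : K, ((k : C) : G) = 1 ∨ ((k : C) : G) = z := by
      intro k
      apply C4 _ (k : C).2
      have : k ^ Nat.card K = 1 := pow_card_eq_one'
      rw [hK] at this
      have h := congrArg (fun x : K => ((x : C) : G)) this
      simpa using h
    let f : K → Bool := fun k => decide (((k : C) : G) = 1)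
    have hf : Function.Injective f := by
      intro a b hab
      apply Subtype.ext; apply Subtype.ext
      simp only [f, decide_eq_decide] at hab
      rcases hKmem a with ha | ha <;> rcases hKmem b with hb | hb
      · rw [ha, hb]
      · exfalso; rw [hb] at hab; exact hz1 (hab.mp ha)
      · exfalso; rw [ha] at hab; exact hz1 (hab.mpr hb)
      · rw [ha, hb]
    have := Nat.card_le_card_of_injective f hf
    rw [hK] at this
    simp at this
  -- (5) the complement
  let zc : C := ⟨z, hzC⟩
  have hzcord : orderOf zc = 2 := by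
    rw [← hzord]; exact (Subgroup.orderOf_mk z hzC)
  set Zc : Subgroup C := Subgroup.zpowers zc with hZc
  have hzccomm : ∀ g : C, g * zc = zc * g := by
    intro g
    apply Subtype.ext
    have : (g : G) ∈ C := g.2
    have hgz := ((hmemC (g : G)).mp this) z hzS
    simp only [Subgroup.coe_mul, zc]
    exact hgz.symm
  haveI hZn : Zc.Normal := by
    constructor
    intro n hn g
    have : g * n * g⁻¹ = n := by
      obtain ⟨k, rfl⟩ := Subgroup.mem_zpowers_iff.mp hn
      have hcomm : Commute g zc := hzccomm g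
      have := (hcomm.zpow_right k).eq
      rw [this, mul_inv_cancel_right]
    rw [this]; exact hn
  have hZcard : Nat.card Zc = 2 := by
    rw [hZc, Nat.card_zpowers, hzcord]
  have hCcard : Nat.card Zc * Zc.index = Nat.card C := Zc.card_mul_index
  have hidx_odd : ¬ 2 ∣ Zc.index := by
    intro h2
    apply h4
    rw [← hCcard, hZcard]
    obtain ⟨m, hm⟩ := h2
    exact ⟨m, by rw [hm]; ring⟩
  have hcop : Nat.Coprime (Nat.card Zc) Zc.index := by
    rw [hZcard]
    exact (Nat.Prime.coprime_iff_not_dvd Nat.prime_two).mpr hidx_odd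
  obtain ⟨M₀, hM₀⟩ := Subgroup.exists_right_complement'_of_coprime hcop
  have hM₀card : Nat.card M₀ = Zc.index := by
    have h1 := hM₀.card_mul_card
    rw [← hCcard] at h1
    have : 0 < Nat.card Zc := Nat.card_pos
    exact Nat.eq_of_mul_eq_mul_left this h1
  set M : Subgroup G := M₀.map C.subtype with hMdef
  have hMcard : Nat.card M = Zc.index := by
    rw [hMdef, Subgroup.card_map_of_injective C.subtype_injective, hM₀card]
  have hMC : M ≤ C := by
    rw [hMdef]; exact Subgroup.map_subtype_le M₀
  have hModd : ¬ 2 ∣ Nat.card M := by rw [hMcard]; exact hidx_odd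
  -- no elements of order 3 or 5
  have hnop : ∀ p : ℕ, p.Prime → p ∣ 120 → p ≠ 2 → ¬ p ∣ Nat.card M := by
    intro p hp hp120 hp2 hpM
    haveI : Fact p.Prime := ⟨hp⟩
    obtain ⟨x, hx⟩ := exists_prime_orderOf_dvd_card' (G := M) p hpM
    obtain ⟨y, hy⟩ := exists_prime_orderOf_dvd_card' (G := S) p (by rw [hS.card]; exact hp120)
    have hxo : orderOf (x : G) = p := by rw [Subgroup.orderOf_coe]; exact hx
    have hyo : orderOf (y : G) = p := by rw [Subgroup.orderOf_coe]; exact hy
    have hxC : (x : G) ∈ C := hMC x.2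
    have hxy : (x : G) * (y : G) = (y : G) * (x : G) := (((hmemC _).mp hxC) y y.2).symm
    have hmem := hF.comm_p p hp (x : G) (y : G) hxo hyo hxy
    have hyM : (y : G) ∈ M := by
      have : Subgroup.zpowers (x : G) ≤ M := (Subgroup.zpowers_le).mpr x.2
      exact this hmem
    rcases SC (y : G) y.2 (hMC hyM) with h | h
    · rw [h, orderOf_one] at hyo; exact hp.one_lt.ne hyo
    · rw [h, hzord] at hyo; exact hp2 hyo.symm
  refine ⟨M, hMC, ?_, ?_, ?_, ?_⟩
  · -- S ⊔ M = S ⊔ C
    apply le_antisymm (sup_le_sup_left hMC S)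
    apply sup_le le_sup_left
    have h1 : (⊤ : Subgroup C).map C.subtype = C := by
      rw [← MonoidHom.range_eq_map, Subgroup.range_subtype]
    rw [← h1, ← hM₀.sup_eq_top, Subgroup.map_sup]
    apply sup_le
    · rw [hZc, MonoidHom.map_zpowers]
      apply le_trans _ (le_sup_left : S ≤ S ⊔ M)
      rw [Subgroup.zpowers_le]
      exact hzS
    · exact le_sup_right
  · -- S ⊓ M = ⊥
    rw [eq_bot_iff]
    intro x hx
    rw [Subgroup.mem_bot]
    obtain ⟨hxS, hxM⟩ := Subgroup.mem_inf.mp hx
    rcases SC x hxS (hMC hxM) with h | h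
    · exact h
    · exfalso
      apply hModd
      have : orderOf (⟨x, hxM⟩ : M) = 2 := by
        rw [Subgroup.orderOf_mk, h]; exact hzord
      rw [← this]
      exact orderOf_dvd_natCard _
  · -- Sylow subgroups cyclic
    intro p hp P
    rcases hp.out.eq_two_or_odd' with h2 | hodd
    · subst h2
      have hPcard : Nat.card P = 1 := by
        obtain ⟨n, hn⟩ := (IsPGroup.iff_card.mp P.isPGroup')
        have hdvd : Nat.card P ∣ Nat.card M := Subgroup.card_subgroup_dvd_card _
        rcases Nat.eq_zero_or_pos n with h0 | hpos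
        · rw [hn, h0, pow_zero]
        · exfalso
          apply hModd
          apply dvd_trans _ hdvd
          change 2 ∣ Nat.card (P : Subgroup M)
          rw [hn]
          exact dvd_pow_self 2 hpos.ne'
      haveI : Subsingleton P := (Nat.card_eq_one_iff_unique.mp hPcard).1
      exact isCyclic_of_subsingleton
    · have hFP : FCFacts (P : Subgroup M) :=
        hF.of_injective (M.subtype.comp (P : Subgroup M).subtype)
          (M.subtype_injective.comp (P : Subgroup M).subtype_injective)
      exact hFP.isCyclic_of_isPGroup_odd hodd P.isPGroup'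
  · -- coprime to 30
    have h2 : Nat.Coprime (Nat.card M) 2 :=
      ((Nat.Prime.coprime_iff_not_dvd Nat.prime_two).mpr hModd).symm
    have h3 : Nat.Coprime (Nat.card M) 3 :=
      ((Nat.Prime.coprime_iff_not_dvd Nat.prime_three).mpr
        (hnop 3 Nat.prime_three (by norm_num) (by norm_num))).symm
    have h5 : Nat.Coprime (Nat.card M) 5 :=
      ((Nat.Prime.coprime_iff_not_dvd Nat.prime_five).mpr
        (hnop 5 Nat.prime_five (by norm_num) (by norm_num))).symm
    have : (30 : ℕ) = 2 * 3 * 5 := by norm_num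
    rw [this]
    exact (h2.mul_right h3).mul_right h5

end Cfsg.Agent.Helper20.NFC
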