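import Mathlib
import Cfsg.Prelude.Def_Solvable
import Cfsg.Agent.S0035
import Cfsg.Agent.S0039
import Cfsg.Agent.Lib.Helper12.BinIco3
import Cfsg.Agent.Lib.Helper20.NFCStruct

/-!
# Nonsolvable Frobenius complements: perfect core and reduction to Zassenhaus (helper20)
-/

set_option autoImplicit false

namespace Cfsg.Agent.Helper20.NFC

open Cfsg.Agent.Helper5 Cfsg.Agent.Helper12.BinIco

/-- The statement of Zassenhaus' theorem (row S0690) for kernels in `Type`. -/
def ZassHyp : Prop :=
  ∀ (K : Type) [Group K] [Finite K] (G : Subgroup (MulAut K)),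
    (∀ φ ∈ G, φ ≠ 1 → ∀ k : K, φ k = k → k = 1) → commutator G = ⊤ → G ≠ ⊥ →
    Nonempty (G ≃* Matrix.SpecialLinearGroup (Fin 2) (ZMod 5))

/-- an element of order `4` of `SL(2,5)` -/
def mi : S25 := ⟨!![0, -1; 1, 0], by decide⟩

theorem mi_pow : mi ^ 4 = 1 := by decide
theorem mi_sq : mi ^ 2 = mz := by decide

theorem s25_center_sq (x : S25) (hx : ∀ y : S25, x * y = y * x) : x * x = 1 := by
  have hc : x ∈ Subgroup.center S25 := Subgroup.mem_center_iff.mpr (fun g => (hx g).symm)
  obtain ⟨r, hr, hrx⟩ := Matrix.SpecialLinearGroup.mem_center_iff.mp hc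
  rw [Fintype.card_fin] at hr
  apply Subtype.ext
  rw [Matrix.SpecialLinearGroup.coe_mul, ← hrx, ← map_mul, ← pow_two, hr, map_one]
  rfl

theorem slFacts_of_equiv {G : Type*} [Group G] (S : Subgroup G) (e : S ≃* S25) : SLFacts S := by
  refine ⟨?_, ?_, ?_⟩
  · rw [Nat.card_congr e.toEquiv, card_S25]
  · intro x hxS hx
    have h1 : ∀ y : S25, e ⟨x, hxS⟩ * y = y * e ⟨x, hxS⟩ := by
      intro y
      obtain ⟨s, rfl⟩ := e.surjective y
      rw [← map_mul, ← map_mul]
      congr 1
      apply Subtype.ext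
      exact hx s s.2
    have h2 := s25_center_sq _ h1
    rw [← map_mul] at h2
    have h3 : (⟨x, hxS⟩ : S) * ⟨x, hxS⟩ = 1 := e.injective (by rw [h2, map_one])
    exact congrArg Subtype.val h3
  · refine ⟨(e.symm mi : G), (e.symm mi).2, ?_, ?_, ?_⟩
    · have : (e.symm mi) ^ 4 = 1 := by rw [← map_pow, mi_pow, map_one]
      exact_mod_cast congrArg Subtype.val this
    · intro h
      have h1 : (e.symm mi) ^ 2 = 1 := by
        apply Subtype.ext
        exact_mod_cast h
      rw [← map_pow, mi_sq] at h1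
      have h2 : mz = 1 := by
        have := congrArg e h1
        simpa using this
      exact mz_ne h2
    · intro y hy
      have h1 : (e.symm mi) ^ 2 * ⟨y, hy⟩ = ⟨y, hy⟩ * (e.symm mi) ^ 2 := by
        apply e.injective
        rw [map_mul, map_mul, map_pow, MulEquiv.apply_symm_apply, mi_sq]
        exact mz_comm _
      have h2 := congrArg Subtype.val h1
      simpa using h2

theorem commutator_eq_top_of_equiv {A B : Type*} [Group A] [Group B] (e : A ≃* B)
    (h : commutator A = ⊤) : commutator B = ⊤ := by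
  rw [commutator_def] at h ⊢
  have h1 : (⊤ : Subgroup B) = (⊤ : Subgroup A).map e.toMonoidHom :=
    (Subgroup.map_top_of_surjective e.toMonoidHom e.surjective).symm
  rw [h1, ← Subgroup.map_commutator, h]

/-- A nontrivial perfect group embedded in a Frobenius complement is `SL(2,5)`, given
Zassenhaus' theorem. -/
theorem perfect_iso (hZ : ZassHyp) {P : Type*} [Group P] {L : Type} [Group L] [Finite L]
    (H : Subgroup L) (hH : Cfsg.IsFrobeniusComplement H) (ι : P →* L)
    (hι : Function.Injective ι) (hιH : ∀ g : P, ι g ∈ H) (hperf : commutator P = ⊤)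
    [hne : Nontrivial P] : Nonempty (P ≃* S25) := by
  obtain ⟨N, hNk, hNn, hc⟩ := Cfsg.Agent.S0035.result H hH
  haveI := hNn
  have hH1 : H ≠ ⊥ := hH.1
  have hN1 : N ≠ ⊥ := by
    intro h
    rw [h, Subgroup.isComplement'_bot_left] at hc
    exact hH.2.1 hc
  have hfix := (Cfsg.Agent.S0039.result N H hc hN1 hH1).mp hH
  let ψ : P →* MulAut N := (MulAut.conjNormal (H := N)).comp ι
  have hfpf : ∀ g : P, g ≠ 1 → ∀ n : N, ψ g n = n → n = 1 := by
    intro g hg n hn
    have hg1 : ι g ≠ 1 := fun h => hg (hι (by rw [h, map_one]))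
    have h1 := hfix (ι g) (hιH g) hg1
    have h2 : (n : L) ∈ N ⊓ Subgroup.centralizer {ι g} := by
      refine Subgroup.mem_inf.mpr ⟨n.2, ?_⟩
      rw [Subgroup.mem_centralizer_iff]
      intro h hh
      rw [Set.mem_singleton_iff] at hh
      subst hh
      have h3 : ((ψ g n : N) : L) = ι g * n * (ι g)⁻¹ := MulAut.conjNormal_apply (ι g) n
      rw [hn] at h3
      calc ι g * (n : L) = (ι g * n * (ι g)⁻¹) * ι g := by group
        _ = n * ι g := by rw [← h3]
    rw [h1, Subgroup.mem_bot] at h2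
    exact Subtype.ext h2
  have hψ : Function.Injective ψ := by
    rw [injective_iff_map_eq_one]
    intro g hg
    by_contra hg1
    apply hN1
    rw [eq_bot_iff]
    intro n hn
    rw [Subgroup.mem_bot]
    have := hfpf g hg1 ⟨n, hn⟩ (by rw [hg]; rfl)
    exact congrArg Subtype.val this
  let e₁ : P ≃* ψ.range := MonoidHom.ofInjective hψ
  have hR1 : ∀ φ ∈ ψ.range, φ ≠ 1 → ∀ k : N, φ k = k → k = 1 := by
    rintro φ ⟨g, rfl⟩ hφ k hk
    apply hfpf g _ k hk
    rintro rfl
    exact hφ (map_one ψ)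
  have hR2 : commutator ψ.range = ⊤ := commutator_eq_top_of_equiv e₁ hperf
  have hR3 : ψ.range ≠ ⊥ := by
    intro h
    obtain ⟨a, ha⟩ := exists_ne (1 : P)
    apply ha
    apply hψ
    have h5 : ψ a ∈ ψ.range := ⟨a, rfl⟩
    rw [h, Subgroup.mem_bot] at h5
    rw [h5, map_one]
  obtain ⟨e₂⟩ := hZ N ψ.range hR1 hR2 hR3
  exact ⟨e₁.trans e₂⟩

/-- the perfect core of a nonsolvable finite group -/
theorem exists_perfect_core {G : Type*} [Group G] [Finite G] (hns : ¬ IsSolvable G) :
    ∃ D : Subgroup G, D.Normal ∧ D ≠ ⊥ ∧ ⁅D, D⁆ = D := by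
  let f : ℕ → ℕ := fun n => Nat.card (derivedSeries G n)
  have hmem : sInf (Set.range f) ∈ Set.range f := Nat.sInf_mem (Set.range_nonempty f)
  obtain ⟨n, hn⟩ := hmem
  refine ⟨derivedSeries G n, derivedSeries_normal G n, ?_, ?_⟩
  · intro h
    exact hns ((isSolvable_def G).mpr ⟨n, h⟩)
  · have h1 : derivedSeries G (n + 1) = ⁅derivedSeries G n, derivedSeries G n⁆ :=
      derivedSeries_succ G n
    rw [← h1]
    apply Subgroup.eq_of_le_of_card_ge (derivedSeries_antitone G (Nat.le_succ n))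
    have h2 : sInf (Set.range f) ≤ f (n + 1) := Nat.sInf_le ⟨n + 1, rfl⟩
    rw [← hn] at h2
    exact h2

theorem commutator_subtype_eq_top {G : Type*} [Group G] (D : Subgroup G) (hD : ⁅D, D⁆ = D) :
    commutator D = ⊤ := by
  apply Subgroup.map_injective D.subtype_injective
  rw [commutator_def, Subgroup.map_commutator, ← MonoidHom.range_eq_map, Subgroup.range_subtype, hD]

end Cfsg.Agent.Helper20.NFC
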