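import Mathlib
import Cfsg.Agent.Lib.Helper20.NFCCore
import Cfsg.Agent.Lib.Helper25.ZassOut

/-!
# Nonsolvable Frobenius complements (row S3359) modulo Zassenhaus' theorem (helper20)
-/

set_option autoImplicit false

namespace Cfsg.Agent.Helper20.NFC

open Cfsg.Agent.Helper5 Cfsg.Agent.Helper12.BinIco

theorem main (hZ : ZassHyp) {G : Type*} [Group G] [Finite G] (hns : ¬ IsSolvable G)
    (hFC : ∃ (L : Type) (_ : Group L) (_ : Finite L) (H : Subgroup L),
      Cfsg.IsFrobeniusComplement H ∧ Nonempty (G ≃* H)) :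
    ∃ G₀ : Subgroup G, G₀.Normal ∧ (G₀.index = 1 ∨ G₀.index = 2) ∧
      ∃ S M : Subgroup G, S ⊔ M = G₀ ∧ S ⊓ M = ⊥ ∧ (∀ s ∈ S, ∀ x ∈ M, s * x = x * s) ∧
        Nonempty (S ≃* Matrix.SpecialLinearGroup (Fin 2) (ZMod 5)) ∧
        (∀ (p : ℕ) [Fact p.Prime] (P : Sylow p M), IsCyclic P) ∧ (Nat.card M).Coprime 30 := by
  obtain ⟨L, hLg, hLf, H, hH, ⟨e⟩⟩ := hFC
  let ι : G →* L := H.subtype.comp e.toMonoidHom
  have hι : Function.Injective ι := H.subtype_injective.comp e.injective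
  have hιH : ∀ g : G, ι g ∈ H := fun g => (e g).2
  have hF : FCFacts G := fcFacts_of_embedding H hH ι hι hιH
  obtain ⟨D, hDn, hD1, hDD⟩ := exists_perfect_core hns
  haveI := hDn
  haveI : Nontrivial D := (Subgroup.nontrivial_iff_ne_bot D).mpr hD1
  obtain ⟨eD⟩ := perfect_iso hZ H hH (ι.comp D.subtype) (hι.comp D.subtype_injective)
    (fun g => hιH _) (commutator_subtype_eq_top D hDD)
  have hSL : SLFacts D := slFacts_of_equiv D eD
  have hidx := Cfsg.Agent.Helper25.ZassOut.index_sup_centralizer_le_two D ⟨eD⟩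
  obtain ⟨M, hMC, hsup, hinf, hcyc, hcop⟩ := structure_thm hF D hSL
  refine ⟨D ⊔ Subgroup.centralizer (D : Set G), inferInstance, hidx, D, M, hsup, hinf, ?_, ⟨eD⟩,
    hcyc, hcop⟩
  intro s hs x hx
  exact (Subgroup.mem_centralizer_iff.mp (hMC hx)) s hs

end Cfsg.Agent.Helper20.NFC
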