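import Mathlib
import Cfsg.Agent.Lib.Helper22.W2PDefs
import Cfsg.Agent.Lib.Helper24.CharOrtho

/-!
# S0720, PIECE KER: the kernel calculus of the isotypic projections of the permutation module
-/

set_option autoImplicit false
set_option linter.unusedSectionVars false

namespace Cfsg.Agent.Helper22.W2P

open Cfsg Cfsg.Agent.Helper22.PermCent Cfsg.Agent.Helper24

open scoped ComplexConjugate

universe u v

variable {G : Type u} [Group G] [Fintype G] {Ω : Type v} [Fintype Ω] [DecidableEq Ω]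
  [MulAction G Ω]

/-- PIECE KER (1). -/
theorem K_smul {χ : G → ℂ} (hχ : IsClassFunction G χ) (g : G) (x y : Ω) :
    K χ (g • x) (g • y) = K χ x y :=
  (mem_centralizer_iff (G := G) (idem χ (Cfsg.permRep ℂ G Ω))).1
    (idem_mem_invariants hχ (Cfsg.permRep ℂ G Ω)) g x y

/-- PIECE KER (2). -/
theorem K_mul {χ ψ : G → ℂ} (hχ : IsIrrCharacter G χ) (hψ : IsIrrCharacter G ψ) (x y : Ω) :
    ∑ z, K χ x z * K ψ z y = if χ = ψ then K χ x y else 0 := by
  unfold K
  rw [← ent_mul, idem_mul_idem hχ hψ]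
  split_ifs
  · rfl
  · exact ent_zero x y

/-- PIECE KER (3). -/
theorem K_conj {χ : G → ℂ} (hχ : IsIrrCharacter G χ) (x y : Ω) :
    K χ y x = conj (K χ x y) := by
  have h1 : K χ y x = ent (idem (fun g => conj (χ g)) (Cfsg.permRep ℂ G Ω)) x y :=
    ent_idem_transpose hχ x y
  rw [h1, ent_idem, K_eq, map_mul, map_div₀, map_natCast, map_sum]
  congr 1
  refine Finset.sum_congr rfl fun g _ => ?_
  split_ifs
  · rfl
  · rw [map_zero]

namespace KER

theorem character_eq : (Cfsg.permRep ℂ G Ω).character = theta G Ω :=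
  funext fun g => permRep_character g

/-- number of group elements carrying `x` to `y` -/
noncomputable def cnt (x y : Ω) : ℂ := ∑ g : G, if g • x = y then (1 : ℂ) else 0

theorem cnt_smul (h : G) (x y : Ω) : cnt (G := G) x (h • y) = cnt (G := G) x y := by
  unfold cnt
  rw [← Equiv.sum_comp (Equiv.mulLeft h)]
  refine Finset.sum_congr rfl fun g _ => ?_
  rw [Equiv.coe_mulLeft, mul_smul]
  by_cases e : g • x = y
  · rw [if_pos e, if_pos (by rw [e])]
  · rw [if_neg e, if_neg (fun e' => e (smul_left_cancel h e'))]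

theorem sum_cnt (x : Ω) : ∑ y, cnt (G := G) x y = (Nat.card G : ℂ) := by
  unfold cnt
  rw [Finset.sum_comm]
  have : ∀ g ∈ (Finset.univ : Finset G), ∑ y : Ω, (if g • x = y then (1 : ℂ) else 0) = 1 := by
    intro g _
    rw [Finset.sum_ite_eq Finset.univ (g • x)]
    rw [if_pos (Finset.mem_univ _)]
  rw [Finset.sum_congr rfl this, Finset.sum_const, Finset.card_univ, Nat.card_eq_fintype_card]
  simp

theorem cnt_eq [MulAction.IsPretransitive G Ω] (x y : Ω) :
    (Fintype.card Ω : ℂ) * cnt (G := G) x y = (Nat.card G : ℂ) := by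
  have h1 : ∀ z : Ω, cnt (G := G) x z = cnt (G := G) x y := by
    intro z
    obtain ⟨h, rfl⟩ := MulAction.exists_smul_eq G y z
    exact cnt_smul h x y
  rw [← sum_cnt (G := G) x, Finset.sum_congr rfl (fun z _ => h1 z), Finset.sum_const,
    Finset.card_univ, nsmul_eq_mul]

end KER

/-- PIECE KER (4). -/
theorem K_diag [MulAction.IsPretransitive G Ω] {χ : G → ℂ} (hχ : IsIrrCharacter G χ)
    (h1 : classInner (theta G Ω) χ = 1) (x : Ω) : K χ x x = χ 1 / (Fintype.card Ω : ℂ) := by
  have hc := isClassFunction_of_isIrrCharacter hχ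
  have hΩ : (Fintype.card Ω : ℂ) ≠ 0 := by
    have : 0 < Fintype.card Ω := Fintype.card_pos_iff.2 ⟨x⟩
    exact_mod_cast this.ne'
  have h2 : classInner χ (theta G Ω) = 1 := by
    rw [← classInner_conj_symm, h1, map_one]
  have h3 := trace_idem χ (Cfsg.permRep ℂ G Ω)
  rw [KER.character_eq, h2, mul_one, trace_eq_sum_ent] at h3
  have h4 : ∀ z : Ω, ent (idem χ (Cfsg.permRep ℂ G Ω)) z z = K χ x x := by
    intro z
    obtain ⟨g, rfl⟩ := MulAction.exists_smul_eq G x z
    exact K_smul hc g x x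
  rw [Finset.sum_congr rfl (fun z _ => h4 z), Finset.sum_const, Finset.card_univ, nsmul_eq_mul] at h3
  rw [eq_div_iff hΩ, mul_comm]
  exact h3

/-- PIECE KER (5). -/
theorem K_one [MulAction.IsPretransitive G Ω] (x y : Ω) :
    K (fun _ : G => (1 : ℂ)) x y = 1 / (Fintype.card Ω : ℂ) := by
  have hΩ : (Fintype.card Ω : ℂ) ≠ 0 := by
    have : 0 < Fintype.card Ω := Fintype.card_pos_iff.2 ⟨x⟩
    exact_mod_cast this.ne'
  have hG : (Nat.card G : ℂ) ≠ 0 := card_ne_zero
  have h := KER.cnt_eq (G := G) x y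
  rw [K_eq]
  show (1 : ℂ) / (Nat.card G : ℂ) * KER.cnt (G := G) x y = 1 / (Fintype.card Ω : ℂ)
  have hc : KER.cnt (G := G) x y ≠ 0 := by
    intro h0
    rw [h0, mul_zero] at h
    exact hG h.symm
  rw [← h]
  field_simp

end Cfsg.Agent.Helper22.W2P
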