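import Mathlib
import Cfsg.Agent.Lib.Helper22.W2PDefs

/-!
# S0720, PIECE SPLIT: a sum over `Ω` of a function constant on the suborbits
-/

set_option autoImplicit false

namespace Cfsg.Agent.Helper22.W2P

open Cfsg

universe u v

variable {G : Type u} [Group G] [Fintype G] {Ω : Type v} [Fintype Ω] [DecidableEq Ω]
  [MulAction G Ω]

namespace SPLIT

omit [Fintype G] [Fintype Ω] [DecidableEq Ω] in
/-- the base point lies in no suborbit of another point -/
theorem base_notMem (a₀ b : Ω) (hb : b ≠ a₀) : a₀ ∉ sub G a₀ b := by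
  intro h
  obtain ⟨g, hg⟩ := h
  apply hb
  have h1 : (g : G) • b = a₀ := hg
  have h2 : (g : G) • a₀ = a₀ := g.2
  have : (g : G) • b = (g : G) • a₀ := by rw [h1, h2]
  exact smul_left_cancel _ this

omit [Fintype G] [Fintype Ω] [DecidableEq Ω] in
/-- suborbits that meet are equal -/
theorem mem_of_mem_mem (a₀ b c z : Ω) (hb : z ∈ sub G a₀ b) (hc : z ∈ sub G a₀ c) :
    b ∈ sub G a₀ c := by
  have h1 : MulAction.orbit (MulAction.stabilizer G a₀) z = MulAction.orbit (MulAction.stabilizer G a₀) b :=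
    MulAction.orbit_eq_iff.2 hb
  have h2 : MulAction.orbit (MulAction.stabilizer G a₀) z = MulAction.orbit (MulAction.stabilizer G a₀) c :=
    MulAction.orbit_eq_iff.2 hc
  have h3 : MulAction.orbit (MulAction.stabilizer G a₀) b = MulAction.orbit (MulAction.stabilizer G a₀) c := by
    rw [← h1, h2]
  exact MulAction.orbit_eq_iff.1 h3

omit [Fintype G] [DecidableEq Ω] in
open scoped Classical in
theorem sum_indicator (S : Set Ω) (c : ℂ) :
    ∑ z : Ω, (if z ∈ S then c else 0) = (Nat.card S : ℂ) * c := by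
  rw [← Finset.sum_filter, Finset.sum_const, nsmul_eq_mul]
  congr 2
  rw [Nat.card_eq_fintype_card, Fintype.card_subtype]

end SPLIT

open scoped Classical in
/-- PIECE SPLIT: a sum over `Ω` of a function constant on the suborbits. -/
theorem split_sum (a₀ : Ω) (b : Fin 3 → Ω)
    (hb0 : ∀ i, b i ≠ a₀) (hbne : ∀ i j, i ≠ j → b i ∉ sub G a₀ (b j))
    (hball : ∀ y : Ω, y = a₀ ∨ ∃ i, y ∈ sub G a₀ (b i)) (f : Ω → ℂ)
    (hf : ∀ g : G, g • a₀ = a₀ → ∀ y : Ω, f (g • y) = f y) :
    ∑ z, f z = f a₀ + ∑ i, (Nat.card (sub G a₀ (b i)) : ℂ) * f (b i) := by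
  have key : ∀ z : Ω, f z = (if z = a₀ then f a₀ else 0) +
      ∑ i, if z ∈ sub G a₀ (b i) then f (b i) else 0 := by
    intro z
    by_cases hz : z = a₀
    · subst hz
      rw [if_pos rfl]
      have : ∀ i ∈ Finset.univ, (if z ∈ sub G z (b i) then f (b i) else 0) = 0 := by
        intro i _
        rw [if_neg (SPLIT.base_notMem z (b i) (hb0 i))]
      rw [Finset.sum_eq_zero this, add_zero]
    · rw [if_neg hz, zero_add]
      rcases hball z with h | ⟨i, hi⟩
      · exact absurd h hz
      · rw [Finset.sum_eq_single i]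
        · rw [if_pos hi]
          obtain ⟨g, hg⟩ := hi
          have hg' : (g : G) • b i = z := hg
          rw [← hg']
          exact hf g g.2 (b i)
        · intro j _ hji
          rw [if_neg]
          intro hj
          exact hbne i j (Ne.symm hji) (SPLIT.mem_of_mem_mem a₀ (b i) (b j) z hi hj)
        · intro h
          exact absurd (Finset.mem_univ i) h
  rw [Finset.sum_congr rfl (fun z _ => key z), Finset.sum_add_distrib, Finset.sum_ite_eq' Finset.univ a₀,
    if_pos (Finset.mem_univ a₀), Finset.sum_comm]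
  congr 1
  refine Finset.sum_congr rfl fun i _ => ?_
  exact SPLIT.sum_indicator (sub G a₀ (b i)) (f (b i))

end Cfsg.Agent.Helper22.W2P
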