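import Mathlib

/-!
# S0720, PIECE INVF: Fourier inversion on `ℤ / n`
-/

set_option autoImplicit false

namespace Cfsg.Agent.Helper22.W2P

namespace INVF

/-- a non-trivial `n`-th root of unity has vanishing geometric sum -/
theorem geom_zero (n : ℕ) (ζ : ℂ) (h1 : ζ ^ n = 1) (hne : ζ ≠ 1) :
    ∑ k ∈ Finset.range n, ζ ^ k = 0 := by
  have h := geom_sum_mul ζ n
  rw [h1, sub_self] at h
  rcases mul_eq_zero.1 h with h | h
  · exact h
  · exact absurd (sub_eq_zero.1 h) hne

end INVF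

/-- PIECE INVF: Fourier inversion on `ℤ / n`. -/
theorem fourier_inv (n : ℕ) (hn : 0 < n) (ω : ℂ) (hω : IsPrimitiveRoot ω n) (c f : ℕ → ℂ)
    (hf : ∀ k : ℕ, f k = ∑ j ∈ Finset.range n, c j * ω ^ (j * k)) (j : ℕ) (hj : j < n) :
    (n : ℂ) * c j = ∑ k ∈ Finset.range n, f k * (ω⁻¹) ^ (j * k) := by
  have hω0 : ω ≠ 0 := hω.ne_zero hn.ne'
  have step : ∀ k ∈ Finset.range n, f k * (ω⁻¹) ^ (j * k) =
      ∑ j' ∈ Finset.range n, c j' * (ω ^ j' * (ω⁻¹) ^ j) ^ k := by
    intro k _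
    rw [hf k, Finset.sum_mul]
    refine Finset.sum_congr rfl fun j' _ => ?_
    rw [mul_pow, ← pow_mul, ← pow_mul, mul_assoc]
  rw [Finset.sum_congr rfl step, Finset.sum_comm]
  have inner : ∀ j' ∈ Finset.range n, ∑ k ∈ Finset.range n, c j' * (ω ^ j' * (ω⁻¹) ^ j) ^ k =
      if j' = j then (n : ℂ) * c j else 0 := by
    intro j' hj'
    rw [← Finset.mul_sum]
    by_cases h : j' = j
    · subst h
      rw [if_pos rfl]
      have : ω ^ j' * (ω⁻¹) ^ j' = 1 := by
        rw [← mul_pow, mul_inv_cancel₀ hω0, one_pow]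
      rw [this]
      simp [mul_comm]
    · rw [if_neg h]
      have h1 : (ω ^ j' * (ω⁻¹) ^ j) ^ n = 1 := by
        rw [mul_pow, ← pow_mul, ← pow_mul, mul_comm j' n, mul_comm j n, pow_mul, pow_mul, inv_pow,
          hω.pow_eq_one, inv_one, one_pow, one_pow, one_mul]
      have hne : ω ^ j' * (ω⁻¹) ^ j ≠ 1 := by
        intro he
        apply h
        have : ω ^ j' = ω ^ j := by
          rw [inv_pow] at he
          field_simp at he
          exact he
        exact hω.pow_inj (Finset.mem_range.1 hj') hj this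
      rw [INVF.geom_zero n _ h1 hne, mul_zero]
  rw [Finset.sum_congr rfl inner, Finset.sum_ite_eq' (Finset.range n) j]
  rw [if_pos (Finset.mem_range.2 hj)]

end Cfsg.Agent.Helper22.W2P
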