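import Mathlib
import Cfsg.Agent.S0143
import Cfsg.Agent.Lib.Helper20.Basic
import Cfsg.Agent.Lib.Helper20.PrimaryParts
import Cfsg.Agent.Lib.Helper21.FittingSubgroup

set_option autoImplicit false

namespace Cfsg.Agent.Helper20

universe u

/-- Every `p`-regular element has a centralizer of `p`-power index. -/
def PRegPow (p : ℕ) (G : Type*) [Group G] : Prop :=
  ∀ x : G, (orderOf x).Coprime p → ∃ k : ℕ, (Subgroup.centralizer ({x} : Set G)).index = p ^ k

theorem PRegPow.quotient {G : Type*} [Group G] [Finite G] {p : ℕ} [Fact p.Prime]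
    (h : PRegPow p G) (N : Subgroup G) [N.Normal] : PRegPow p (G ⧸ N) := by
  intro xbar hx
  obtain ⟨x, rfl⟩ := QuotientGroup.mk_surjective xbar
  have hp := (Fact.out : p.Prime)
  obtain ⟨u, v, hxuv, _, ⟨k, hu⟩, hv, hux, _⟩ := exists_pPart_decomp p x (orderOf_pos x)
  have hπs : Function.Surjective (QuotientGroup.mk' N) := QuotientGroup.mk'_surjective N
  have hπu : (QuotientGroup.mk' N) u = 1 := by
    have h1 : orderOf ((QuotientGroup.mk' N) u) ∣ p ^ k := hu ▸ orderOf_map_dvd _ u
    have h2 : (QuotientGroup.mk' N) u ∈ Subgroup.zpowers ((QuotientGroup.mk' N) x) := by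
      obtain ⟨i, hi⟩ := hux
      have hi' : x ^ i = u := hi
      refine ⟨i, ?_⟩
      show (QuotientGroup.mk' N) x ^ i = (QuotientGroup.mk' N) u
      rw [← map_zpow, hi']
    have h3 : orderOf ((QuotientGroup.mk' N) u) ∣ orderOf ((QuotientGroup.mk' N) x) :=
      orderOf_dvd_of_mem_zpowers h2
    have h4 : orderOf ((QuotientGroup.mk' N) u) = 1 :=
      Nat.eq_one_of_dvd_coprimes (Nat.Coprime.pow_right k hx) h3 h1
    exact orderOf_eq_one_iff.mp h4
  have hxv : ((x : G) : G ⧸ N) = (QuotientGroup.mk' N) v := by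
    show (QuotientGroup.mk' N) x = _
    rw [hxuv, map_mul, hπu, one_mul]
  rw [hxv]
  obtain ⟨j, hj⟩ := h v hv
  have hle : (Subgroup.centralizer ({v} : Set G)).map (QuotientGroup.mk' N) ≤
      Subgroup.centralizer ({(QuotientGroup.mk' N) v} : Set (G ⧸ N)) := by
    rintro _ ⟨c, hc, rfl⟩
    rw [Subgroup.mem_centralizer_iff]
    intro y hy
    rw [Set.mem_singleton_iff] at hy
    rw [hy, ← map_mul, ← map_mul]
    congr 1
    exact (Subgroup.mem_centralizer_iff.mp hc) v rfl
  have hdvd : (Subgroup.centralizer ({(QuotientGroup.mk' N) v} : Set (G ⧸ N))).index ∣ p ^ j := by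
    rw [← hj]
    exact (Subgroup.index_dvd_of_le hle).trans (Subgroup.index_map_dvd _ hπs)
  obtain ⟨i, _, hi⟩ := (Nat.dvd_prime_pow hp).mp hdvd
  exact ⟨i, hi⟩

theorem centralizer_singleton_subtype {G : Type*} [Group G] (N : Subgroup G) (x : N) :
    Subgroup.centralizer ({x} : Set N) =
      (Subgroup.centralizer ({(x : G)} : Set G)).subgroupOf N := by
  ext y
  simp only [Subgroup.mem_centralizer_iff, Set.mem_singleton_iff, forall_eq,
    Subgroup.mem_subgroupOf]
  constructor
  · intro hy; exact congrArg Subtype.val hy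
  · intro hy; exact Subtype.ext hy

theorem PRegPow.subgroup_normal {G : Type*} [Group G] [Finite G] {p : ℕ} [Fact p.Prime]
    (h : PRegPow p G) (N : Subgroup G) [N.Normal] : PRegPow p N := by
  intro x hx
  have hp := (Fact.out : p.Prime)
  have hx' : (orderOf (x : G)).Coprime p := by rwa [Subgroup.orderOf_coe]
  obtain ⟨k, hk⟩ := h x hx'
  rw [centralizer_singleton_subtype]
  have hdvd : (Subgroup.centralizer ({(x : G)} : Set G)).relIndex N ∣ p ^ k :=
    hk ▸ Cfsg.Agent.Helper21.relIndex_dvd_index_of_normal_right _ N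
  obtain ⟨j, _, hj⟩ := (Nat.dvd_prime_pow hp).mp hdvd
  exact ⟨j, hj⟩

theorem exists_normal_of_not_simple {G : Type*} [Group G] [Nontrivial G]
    (h : ¬ IsSimpleGroup G) : ∃ N : Subgroup G, N.Normal ∧ N ≠ ⊥ ∧ N ≠ ⊤ := by
  by_contra hcon
  push Not at hcon
  apply h
  exact ⟨fun N hN => by
    by_contra hh
    push Not at hh
    exact hh.2 (hcon N hN hh.1)⟩

theorem card_lt_of_ne_top {G : Type*} [Group G] [Finite G] {N : Subgroup G} (h : N ≠ ⊤) :
    Nat.card N < Nat.card G := by
  have h1 : N.index ≠ 1 := fun h1 => h (Subgroup.index_eq_one.mp h1)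
  have h2 := N.card_mul_index
  have h3 : 0 < N.index := Nat.pos_of_ne_zero Subgroup.index_ne_zero_of_finite
  have h4 : 0 < Nat.card N := Nat.card_pos
  have h5 : 2 ≤ N.index := by omega
  calc Nat.card N < Nat.card N * 2 := by omega
    _ ≤ Nat.card N * N.index := Nat.mul_le_mul_left _ h5
    _ = Nat.card G := h2

theorem card_quotient_lt_of_ne_bot {G : Type*} [Group G] [Finite G] {N : Subgroup G}
    (h : N ≠ ⊥) : Nat.card (G ⧸ N) < Nat.card G := by
  have h1 : Nat.card N ≠ 1 := fun h1 => h (Subgroup.eq_bot_of_card_eq _ h1)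
  have h2 := N.card_mul_index
  rw [Subgroup.index_eq_card] at h2
  have h3 : 0 < Nat.card (G ⧸ N) := Nat.card_pos
  have h4 : 0 < Nat.card N := Nat.card_pos
  have h5 : 2 ≤ Nat.card N := by omega
  calc Nat.card (G ⧸ N) < 2 * Nat.card (G ⧸ N) := by omega
    _ ≤ Nat.card N * Nat.card (G ⧸ N) := Nat.mul_le_mul_right _ h5
    _ = Nat.card G := h2

theorem isSolvable_of_normal_of_quotient {G : Type*} [Group G] (N : Subgroup G) [N.Normal]
    (h1 : Group.IsSolvable N) (h2 : Group.IsSolvable (G ⧸ N)) : Group.IsSolvable G :=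
  Group.isSolvable_of_ker_le_range N.subtype (QuotientGroup.mk' N)
    (by rw [QuotientGroup.ker_mk', Subgroup.range_subtype])

theorem isSolvable_of_card_prime {G : Type*} [Group G] (h : (Nat.card G).Prime) :
    Group.IsSolvable G := by
  haveI : Fact (Nat.card G).Prime := ⟨h⟩
  haveI : IsCyclic G := isCyclic_of_prime_card rfl
  exact Group.isSolvable_of_comm (fun x y => (IsCyclic.commGroup (α := G)).mul_comm x y)

theorem PRegPow.isSolvable_aux (p : ℕ) [Fact p.Prime] :
    ∀ (n : ℕ) (G : Type u) [Group G] [Finite G], Nat.card G = n → PRegPow p G →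
      Group.IsSolvable G := by
  intro n
  induction n using Nat.strong_induction_on with
  | _ n ih =>
    intro G _ _ hn h
    have hp := (Fact.out : p.Prime)
    by_cases hsimple : IsSimpleGroup G
    · by_cases hpg : IsPGroup p G
      · haveI := hpg.isNilpotent
        infer_instance
      · have hex : ∃ q : ℕ, q.Prime ∧ q ∣ Nat.card G ∧ q ≠ p := by
          by_contra hcon
          push Not at hcon
          apply hpg
          have := Nat.eq_prime_pow_of_unique_prime_dvd (n := Nat.card G) (p := p)
            Nat.card_pos.ne' (fun {d} hd hdvd => hcon d hd hdvd)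
          exact IsPGroup.of_card this
        obtain ⟨q, hq, hqd, hqp⟩ := hex
        haveI : Fact q.Prime := ⟨hq⟩
        obtain ⟨x, hx⟩ := exists_prime_orderOf_dvd_card' q hqd
        have hx1 : x ≠ 1 := by
          intro h1; rw [h1, orderOf_one] at hx; exact hq.one_lt.ne hx
        have hcop : (orderOf x).Coprime p := by
          rw [hx]; exact (Nat.coprime_primes hq hp).mpr hqp
        obtain ⟨k, hk⟩ := h x hcop
        exact isSolvable_of_card_prime (Cfsg.Agent.S0143.result p k hp x hx1 hk)
    · by_cases hsub : Subsingleton G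
      · infer_instance
      · haveI : Nontrivial G := not_subsingleton_iff_nontrivial.mp hsub
        obtain ⟨N, hNn, hNb, hNt⟩ := exists_normal_of_not_simple hsimple
        haveI := hNn
        have h1 : Group.IsSolvable N :=
          ih _ (hn ▸ card_lt_of_ne_top hNt) N rfl (h.subgroup_normal N)
        have h2 : Group.IsSolvable (G ⧸ N) :=
          ih _ (hn ▸ card_quotient_lt_of_ne_bot hNb) (G ⧸ N) rfl (h.quotient N)
        exact isSolvable_of_normal_of_quotient N h1 h2

theorem PRegPow.isSolvable {G : Type u} [Group G] [Finite G] {p : ℕ} [Fact p.Prime]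
    (h : PRegPow p G) : Group.IsSolvable G :=
  PRegPow.isSolvable_aux p _ G rfl h

/-- A finite group with an abelian subgroup of prime-power index is solvable. -/
theorem isSolvable_of_comm_index_pow_aux (p : ℕ) [Fact p.Prime] :
    ∀ (n : ℕ) (G : Type u) [Group G] [Finite G], Nat.card G = n →
      ∀ A : Subgroup G, IsMulCommutative A → (∃ k : ℕ, A.index = p ^ k) →
      Group.IsSolvable G := by
  intro n
  induction n using Nat.strong_induction_on with
  | _ n ih =>
    intro G _ _ hn A hA ⟨k, hk⟩
    have hp := (Fact.out : p.Prime)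
    by_cases hsimple : IsSimpleGroup G
    · by_cases hAbot : A = ⊥
      · rw [hAbot, Subgroup.index_bot] at hk
        haveI := (IsPGroup.of_card hk).isNilpotent
        infer_instance
      · obtain ⟨a, haA, ha1⟩ := (Subgroup.ne_bot_iff_exists_ne_one).mp hAbot |>.elim
          (fun a ha => (⟨(a : G), a.2, fun h => ha (Subtype.ext h)⟩ : ∃ a : G, a ∈ A ∧ a ≠ 1))
        have hle : A ≤ Subgroup.centralizer ({a} : Set G) := by
          intro b hb
          rw [Subgroup.mem_centralizer_iff]
          intro d hd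
          rw [Set.mem_singleton_iff] at hd
          rw [hd]
          exact congrArg Subtype.val (hA.is_comm.comm ⟨a, haA⟩ ⟨b, hb⟩)
        have hdvd : (Subgroup.centralizer ({a} : Set G)).index ∣ p ^ k := by
          rw [← hk]
          exact Subgroup.index_dvd_of_le hle
        obtain ⟨j, _, hj⟩ := (Nat.dvd_prime_pow hp).mp hdvd
        exact isSolvable_of_card_prime (Cfsg.Agent.S0143.result p j hp a ha1 hj)
    · by_cases hsub : Subsingleton G
      · infer_instance
      · haveI : Nontrivial G := not_subsingleton_iff_nontrivial.mp hsub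
        obtain ⟨N, hNn, hNb, hNt⟩ := exists_normal_of_not_simple hsimple
        haveI := hNn
        have h1 : Group.IsSolvable N := by
          refine ih _ (hn ▸ card_lt_of_ne_top hNt) N rfl (A.subgroupOf N) ?_ ?_
          · exact ⟨⟨fun x y => Subtype.ext (Subtype.ext (by
              have := congrArg Subtype.val (hA.is_comm.comm ⟨(x : G), x.2⟩ ⟨(y : G), y.2⟩)
              exact this))⟩⟩
          · have hdvd : A.relIndex N ∣ p ^ k :=
              hk ▸ Cfsg.Agent.Helper21.relIndex_dvd_index_of_normal_right A N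
            obtain ⟨j, _, hj⟩ := (Nat.dvd_prime_pow hp).mp hdvd
            exact ⟨j, hj⟩
        have h2 : Group.IsSolvable (G ⧸ N) := by
          refine ih _ (hn ▸ card_quotient_lt_of_ne_bot hNb) (G ⧸ N) rfl
            (A.map (QuotientGroup.mk' N)) ?_ ?_
          · refine ⟨⟨fun x y => Subtype.ext ?_⟩⟩
            obtain ⟨a, ha, hax⟩ := x.2
            obtain ⟨b, hb, hby⟩ := y.2
            show (x : G ⧸ N) * (y : G ⧸ N) = (y : G ⧸ N) * (x : G ⧸ N)
            rw [← hax, ← hby, ← map_mul, ← map_mul]
            congr 1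
            exact congrArg Subtype.val (hA.is_comm.comm ⟨a, ha⟩ ⟨b, hb⟩)
          · have hdvd : (A.map (QuotientGroup.mk' N)).index ∣ p ^ k :=
              hk ▸ Subgroup.index_map_dvd A (QuotientGroup.mk'_surjective N)
            obtain ⟨j, _, hj⟩ := (Nat.dvd_prime_pow hp).mp hdvd
            exact ⟨j, hj⟩
        exact isSolvable_of_normal_of_quotient N h1 h2

theorem isSolvable_of_comm_index_pow {G : Type u} [Group G] [Finite G] {p : ℕ} [Fact p.Prime]
    (A : Subgroup G) (hA : IsMulCommutative A) (hk : ∃ k : ℕ, A.index = p ^ k) :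
    Group.IsSolvable G :=
  isSolvable_of_comm_index_pow_aux p _ G rfl A hA hk

end Cfsg.Agent.Helper20
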