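import Mathlib

/-!
# General lemmas used for "no group has exactly 15 Sylow 7-subgroups" (helper20)
-/

set_option autoImplicit false

namespace Cfsg.Agent.Helper20.SylFifteen

open Subgroup MulAction

universe u

variable {G : Type u} [Group G]

/-- a `p`-group acting on a finite set, with an invariant subset `S`: the size of `S` is congruent
to the number of fixed points lying in `S` -/
theorem ncard_invariant_modEq {p : ℕ} [Fact p.Prime] {H : Type*} [Group H] (hH : IsPGroup p H)
    {X : Type*} [MulAction H X] [Finite X] (S : Set X) (hS : ∀ y : H, ∀ a ∈ S, y • a ∈ S) :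
    S.ncard ≡ (S ∩ fixedPoints H X).ncard [MOD p] := by
  classical
  let T : SubMulAction H X := ⟨S, fun y a ha => hS y a ha⟩
  have h1 := hH.card_modEq_card_fixedPoints (α := T)
  have h2 : Nat.card T = S.ncard := by
    rw [← Nat.card_coe_set_eq]; rfl
  have h3 : Nat.card (fixedPoints H T) = (S ∩ fixedPoints H X).ncard := by
    rw [← Nat.card_coe_set_eq]
    refine Nat.card_congr ⟨fun a => ⟨a.1.1, a.1.2, ?_⟩, fun a => ⟨⟨a.1, a.2.1⟩, ?_⟩, ?_, ?_⟩
    · intro y
      have := a.2 y
      exact congrArg Subtype.val this
    · intro y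
      apply Subtype.ext
      exact a.2.2 y
    · intro a; rfl
    · intro a; rfl
  rw [h2, h3] at h1
  exact h1

/-- a finite group acting freely on an invariant subset `S`: the order divides the size of `S` -/
theorem card_dvd_ncard_of_free {H : Type*} [Group H] [Finite H]
    {X : Type*} [MulAction H X] [Finite X] (S : Set X) (hS : ∀ y : H, ∀ a ∈ S, y • a ∈ S)
    (hfree : ∀ y : H, ∀ a ∈ S, y • a = a → y = 1) : Nat.card H ∣ S.ncard := by
  classical
  let T : SubMulAction H X := ⟨S, fun y a ha => hS y a ha⟩
  have h2 : Nat.card T = S.ncard := by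
    rw [← Nat.card_coe_set_eq]; rfl
  rw [← h2]
  letI : Fintype H := Fintype.ofFinite H
  letI : Fintype T := Fintype.ofFinite T
  letI : Fintype (Quotient (orbitRel H T)) := Fintype.ofFinite _
  have hstab : ∀ a : T, stabilizer H a = ⊥ := by
    intro a
    rw [eq_bot_iff]
    intro y hy
    rw [mem_stabilizer_iff] at hy
    have : y • (a : X) = a := congrArg Subtype.val hy
    exact Subgroup.mem_bot.2 (hfree y a a.2 this)
  have key := MulAction.card_eq_sum_card_group_div_card_stabilizer H T
  rw [Nat.card_eq_fintype_card, Nat.card_eq_fintype_card, key]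
  apply Finset.dvd_sum
  intro ω _
  have h1 : Fintype.card ↥(stabilizer H ω.out) = 1 := by
    rw [← Nat.card_eq_fintype_card, hstab]
    exact Subgroup.card_bot
  rw [h1, Nat.div_one]
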