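import Mathlib
import Cfsg.Agent.Lib.Helper20.SylFifteen1

/-!
# More general lemmas on Sylow numbers (helper20)
-/

set_option autoImplicit false

namespace Cfsg.Agent.Helper20.SylFifteen

open Subgroup MulAction

universe u

variable {G : Type u} [Group G] [Finite G]

omit [Finite G] in
theorem card_inf_mul_relIndex (H K : Subgroup G) :
    Nat.card ↥(H ⊓ K) * H.relIndex K = Nat.card K := by
  rw [← Subgroup.inf_relIndex_right, Subgroup.relIndex,
    ← Nat.card_congr (Subgroup.subgroupOfEquivOfLe (inf_le_right : H ⊓ K ≤ K)).toEquiv]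
  exact Subgroup.card_mul_index _

/-- a normal subgroup normalizing all Sylow `p`-subgroups can be factored out without changing
the number of Sylow `p`-subgroups -/
theorem card_sylow_quotient {p : ℕ} [Fact p.Prime] (K : Subgroup G) [K.Normal]
    (hK : ∀ P : Sylow p G, K ≤ normalizer (P : Set G)) :
    Nat.card (Sylow p (G ⧸ K)) = Nat.card (Sylow p G) := by
  have hf : Function.Surjective (QuotientGroup.mk' K) := QuotientGroup.mk'_surjective K
  symm
  apply Nat.card_eq_of_bijective (Sylow.mapSurjective hf)
  refine ⟨?_, Sylow.mapSurjective_surjective hf p⟩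
  intro P Q hPQ
  have h1 : (P : Subgroup G).map (QuotientGroup.mk' K) = (Q : Subgroup G).map (QuotientGroup.mk' K) := by
    have := congrArg (fun R : Sylow p (G ⧸ K) => (R : Subgroup (G ⧸ K))) hPQ
    simpa using this
  have h2 : (Q : Subgroup G) ≤ (P : Subgroup G) ⊔ K := by
    have h3 : (Q : Subgroup G) ≤ ((Q : Subgroup G).map (QuotientGroup.mk' K)).comap (QuotientGroup.mk' K) :=
      Subgroup.le_comap_map _ _
    rw [← h1, Subgroup.comap_map_eq, QuotientGroup.ker_mk'] at h3
    exact h3
  have h4 : (P : Subgroup G) ⊔ K ≤ normalizer (P : Set G) := sup_le le_normalizer (hK P)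
  have h5 : (Q : Subgroup G) ⊓ normalizer (P : Set G) = (Q : Subgroup G) ⊓ P :=
    Q.isPGroup'.inf_normalizer_sylow P
  have h6 : (Q : Subgroup G) ≤ P := by
    have : (Q : Subgroup G) ≤ (Q : Subgroup G) ⊓ normalizer (P : Set G) := le_inf le_rfl (h2.trans h4)
    rw [h5] at this
    exact this.trans inf_le_right
  exact Sylow.ext (Q.3 P.2 h6)

/-- a normal subgroup containing a Sylow `p`-subgroup has the same number of Sylow
`p`-subgroups -/
theorem card_sylow_of_normal {p : ℕ} [Fact p.Prime] (M : Subgroup G) [M.Normal]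
    (P : Sylow p G) (hPM : (P : Subgroup G) ≤ M) :
    Nat.card (Sylow p M) = Nat.card (Sylow p G) := by
  rw [Sylow.card_eq_index_normalizer P, Sylow.card_eq_index_normalizer (P.subtype hPM)]
  have e : ((P.subtype hPM : Sylow p M) : Set M) = ((P : Subgroup G).subgroupOf M : Set M) := rfl
  rw [e]
  have h1 : normalizer (((P : Subgroup G).subgroupOf M : Subgroup M) : Set M)
      = (normalizer (P : Set G)).subgroupOf M := (Subgroup.subgroupOf_normalizer_eq hPM).symm
  rw [h1]
  set N := normalizer (P : Set G) with hN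
  have h2 : N ⊔ M = ⊤ := Sylow.normalizer_sup_eq_top' P hPM
  show N.relIndex M = _
  have h3 : M.relIndex N = M.index := by
    rw [← Subgroup.relIndex_sup_right N M, h2, Subgroup.relIndex_top_right]
  have h4 := card_inf_mul_relIndex N M
  have h5 := card_inf_mul_relIndex M N
  have h6 := Subgroup.card_mul_index M
  have h7 := Subgroup.card_mul_index N
  rw [h3] at h5
  rw [inf_comm] at h5
  have hpos : 0 < Nat.card ↥(N ⊓ M) := Nat.card_pos
  have hpos2 : 0 < M.index := Nat.pos_of_ne_zero Subgroup.index_ne_zero_of_finite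
  -- |M| * M.index = |N| * N.index
  have h8 : Nat.card ↥(N ⊓ M) * N.relIndex M * M.index
      = Nat.card ↥(N ⊓ M) * M.index * N.index := by
    rw [h4, h5, h6, h7]
  have h9 : Nat.card ↥(N ⊓ M) * M.index * N.relIndex M
      = Nat.card ↥(N ⊓ M) * M.index * N.index := by
    rw [← h8]; ring
  exact Nat.eq_of_mul_eq_mul_left (Nat.mul_pos hpos hpos2) h9

/-- `|N(H) : C(H)|` divides `φ(|H|)` for a cyclic subgroup `H` -/
theorem relIndex_centralizer_dvd_totient (H : Subgroup G) (hH : IsCyclic H) :
    (centralizer (H : Set G)).relIndex (normalizer (H : Set G)) ∣ Nat.totient (Nat.card H) := by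
  have key := Subgroup.card_dvd_of_injective _ (QuotientGroup.kerLift_injective H.normalizerMonoidHom)
  rw [Subgroup.normalizerMonoidHom_ker, ← Subgroup.index, ← Subgroup.relIndex] at key
  rw [← hH.card_mulAut]
  exact key

/-- Burnside's normal `p`-complement theorem, in terms of orders -/
theorem exists_normal_complement {p : ℕ} [Fact p.Prime] (P : Sylow p G)
    (h : normalizer (P : Set G) ≤ centralizer (P : Set G)) :
    ∃ K : Subgroup G, K.Normal ∧ Nat.card K * Nat.card P = Nat.card G := by
  refine ⟨(MonoidHom.transferSylow P h).ker, inferInstance, ?_⟩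
  exact (MonoidHom.ker_transferSylow_isComplement' P h).card_mul_card
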