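import Mathlib

set_option autoImplicit false

namespace Cfsg.Agent.Helper20

variable {G : Type*} [Group G]

/-- If `a * b = b * a * z` with `z` central then `a ^ n * b = b * a ^ n * z ^ n`. -/
theorem pow_mul_comm_central (a b z : G) (hz : z ∈ Subgroup.center G) (h : a * b = b * a * z)
    (n : ℕ) : a ^ n * b = b * a ^ n * z ^ n := by
  have hzc : ∀ g : G, g * z = z * g := Subgroup.mem_center_iff.mp hz
  induction n with
  | zero => simp
  | succ n ih =>
    calc a ^ (n + 1) * b = a * (a ^ n * b) := by rw [pow_succ', mul_assoc]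
      _ = a * (b * a ^ n * z ^ n) := by rw [ih]
      _ = (a * b) * a ^ n * z ^ n := by group
      _ = (b * a * z) * a ^ n * z ^ n := by rw [h]
      _ = b * a * (z * a ^ n) * z ^ n := by group
      _ = b * a * (a ^ n * z) * z ^ n := by rw [hzc (a ^ n)]
      _ = b * (a * a ^ n) * (z * z ^ n) := by group
      _ = b * a ^ (n + 1) * z ^ (n + 1) := by rw [← pow_succ', ← pow_succ']

/-- If `a * b = b * a * z` with `z` and `a ^ n` central then `z ^ n = 1`. -/
theorem pow_eq_one_of_central (a b z : G) (hz : z ∈ Subgroup.center G) (h : a * b = b * a * z)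
    (n : ℕ) (ha : a ^ n ∈ Subgroup.center G) : z ^ n = 1 := by
  have h1 := pow_mul_comm_central a b z hz h n
  have h2 : b * a ^ n = a ^ n * b := Subgroup.mem_center_iff.mp ha b
  rw [← h2] at h1
  exact (mul_eq_left.mp h1.symm)

/-- Power formula in class two: if `g * h = h * g * z` with `z` central then
`(h * g) ^ n = h ^ n * g ^ n * z ^ (n.choose 2)`. -/
theorem mul_pow_central (h g z : G) (hz : z ∈ Subgroup.center G) (hc : g * h = h * g * z)
    (n : ℕ) : (h * g) ^ n = h ^ n * g ^ n * z ^ (n.choose 2) := by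
  have hzc : ∀ x : G, x * z = z * x := Subgroup.mem_center_iff.mp hz
  have hzc' : ∀ (x : G) (k : ℕ), x * z ^ k = z ^ k * x := by
    intro x k
    exact Subgroup.mem_center_iff.mp (Subgroup.pow_mem _ hz k) x
  induction n with
  | zero => simp
  | succ n ih =>
    have hch : (n + 1).choose 2 = n + n.choose 2 := by
      rw [Nat.choose_succ_succ, Nat.choose_one_right]
    calc (h * g) ^ (n + 1) = (h * g) ^ n * (h * g) := pow_succ _ _
      _ = h ^ n * g ^ n * z ^ (n.choose 2) * (h * g) := by rw [ih]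
      _ = h ^ n * g ^ n * (z ^ (n.choose 2) * (h * g)) := by group
      _ = h ^ n * g ^ n * ((h * g) * z ^ (n.choose 2)) := by rw [hzc' (h * g)]
      _ = h ^ n * (g ^ n * h) * g * z ^ (n.choose 2) := by group
      _ = h ^ n * (h * g ^ n * z ^ n) * g * z ^ (n.choose 2) := by
          rw [pow_mul_comm_central g h z hz hc n]
      _ = h ^ n * h * g ^ n * (z ^ n * g) * z ^ (n.choose 2) := by group
      _ = h ^ n * h * g ^ n * (g * z ^ n) * z ^ (n.choose 2) := by rw [hzc' g n]
      _ = (h ^ n * h) * (g ^ n * g) * (z ^ n * z ^ (n.choose 2)) := by group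
      _ = h ^ (n + 1) * g ^ (n + 1) * z ^ ((n + 1).choose 2) := by
          rw [← pow_succ, ← pow_succ, ← pow_add, hch]

/-- For an odd prime `p` and `z ^ p = 1`: `(h * g) ^ p = h ^ p * g ^ p`. -/
theorem mul_pow_prime_central (h g z : G) (hz : z ∈ Subgroup.center G) (hc : g * h = h * g * z)
    (p : ℕ) (hp : p.Prime) (hp2 : p ≠ 2) (hzp : z ^ p = 1) : (h * g) ^ p = h ^ p * g ^ p := by
  rw [mul_pow_central h g z hz hc p]
  have hdvd : p ∣ p.choose 2 := by
    apply hp.dvd_choose_self (by norm_num)
    have := hp.two_le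
    omega
  obtain ⟨k, hk⟩ := hdvd
  rw [hk, pow_mul, hzp, one_pow, mul_one]

end Cfsg.Agent.Helper20
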