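import Mathlib

set_option autoImplicit false

namespace Cfsg.Agent.Helper20

/-- In a finite cyclic group, an element whose order divides the order of `y` is a power of `y`. -/
theorem mem_zpowers_of_orderOf_dvd {C : Type*} [Group C] [Finite C] [IsCyclic C] (x y : C)
    (h : orderOf x ∣ orderOf y) : x ∈ Subgroup.zpowers y := by
  classical
  have := Fintype.ofFinite C
  have hd : 0 < orderOf y := orderOf_pos y
  have h1 : (Finset.univ.filter (fun c : C => c ^ orderOf y = 1)).card ≤ orderOf y :=
    IsCyclic.card_pow_eq_one_le hd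
  have h2 : ((Subgroup.zpowers y : Set C).toFinset).card = orderOf y := by
    rw [Set.toFinset_card]
    exact Fintype.card_zpowers
  have h3 : (Subgroup.zpowers y : Set C).toFinset ⊆
      Finset.univ.filter (fun c : C => c ^ orderOf y = 1) := by
    intro c hc
    rw [Set.mem_toFinset] at hc
    rw [Finset.mem_filter]
    refine ⟨Finset.mem_univ _, ?_⟩
    obtain ⟨k, rfl⟩ := Subgroup.mem_zpowers_iff.mp hc
    rw [← zpow_natCast, ← zpow_mul, mul_comm, zpow_mul, zpow_natCast, pow_orderOf_eq_one, one_zpow]
  have h4 := Finset.eq_of_subset_of_card_le h3 (by rw [h2]; exact h1)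
  have h5 : x ∈ Finset.univ.filter (fun c : C => c ^ orderOf y = 1) := by
    rw [Finset.mem_filter]
    exact ⟨Finset.mem_univ _, orderOf_dvd_iff_pow_eq_one.mp h⟩
  rw [← h4, Set.mem_toFinset] at h5
  exact h5

end Cfsg.Agent.Helper20
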