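import Mathlib
import Cfsg.Agent.Lib.Helper20.ClassTwoPow
import Cfsg.Agent.Lib.Helper20.CyclicBasic

set_option autoImplicit false

namespace Cfsg.Agent.Helper20

/-- A group of order `p ^ (k + 1)` with a unique subgroup of order `p ^ k` is cyclic. -/
theorem isCyclic_of_unique_maximal {G : Type*} [Group G] [Finite G] (p k : ℕ) [hp : Fact p.Prime]
    (hG : Nat.card G = p ^ (k + 1))
    (huniq : ∀ M₁ M₂ : Subgroup G, Nat.card M₁ = p ^ k → Nat.card M₂ = p ^ k → M₁ = M₂) :
    IsCyclic G := by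
  have hdvd : p ^ k ∣ Nat.card G := by rw [hG]; exact pow_dvd_pow p (Nat.le_succ k)
  obtain ⟨H, hH⟩ := Sylow.exists_subgroup_card_pow_prime p hdvd
  have hHtop : H ≠ ⊤ := by
    intro h
    rw [h, Subgroup.card_top, hG] at hH
    have := Nat.pow_right_injective hp.out.two_le hH
    omega
  obtain ⟨x, hx⟩ : ∃ x : G, x ∉ H := by
    by_contra hcon
    push Not at hcon
    exact hHtop (eq_top_iff.mpr fun x _ => hcon x)
  have hox : orderOf x ∣ p ^ (k + 1) := by rw [← hG]; exact orderOf_dvd_natCard x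
  obtain ⟨j, hj, hoj⟩ := (Nat.dvd_prime_pow hp.out).mp hox
  by_cases hjk : j ≤ k
  · exfalso
    have hcz : Nat.card (Subgroup.zpowers x) = p ^ j := by rw [Nat.card_zpowers, hoj]
    obtain ⟨K, hK, hxK⟩ := Sylow.exists_subgroup_card_pow_prime_le p hdvd (Subgroup.zpowers x) hcz hjk
    have : K = H := huniq K H hK hH
    exact hx (this ▸ hxK (Subgroup.mem_zpowers x))
  · have hj' : j = k + 1 := by omega
    apply isCyclic_of_orderOf_eq_card x
    rw [hoj, hj', hG]

/-- A `p`-group of order at least `p ^ 3` (at least `16` if `p = 2`) all of whose proper subgroups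
are cyclic is cyclic. -/
theorem isCyclic_of_forall_proper_isCyclic {G : Type*} [Group G] [Finite G] (p m : ℕ)
    [hp : Fact p.Prime] (hG : Nat.card G = p ^ m) (hm : 3 ≤ m) (hm2 : p = 2 → 4 ≤ m)
    (hall : ∀ L : Subgroup G, L ≠ ⊤ → IsCyclic L) : IsCyclic G := by
  by_contra hnc
  have hppos : 0 < p := hp.out.pos
  have hm1 : m = (m - 1) + 1 := by omega
  have hGne : ∀ L : Subgroup G, Nat.card L = p ^ (m - 1) → L ≠ ⊤ := by
    intro L hL h
    rw [h, Subgroup.card_top, hG] at hL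
    have := Nat.pow_right_injective hp.out.two_le hL
    omega
  -- two distinct maximal subgroups
  obtain ⟨M₁, M₂, hM₁, hM₂, hne⟩ : ∃ M₁ M₂ : Subgroup G, Nat.card M₁ = p ^ (m - 1) ∧
      Nat.card M₂ = p ^ (m - 1) ∧ M₁ ≠ M₂ := by
    by_contra hcon
    push Not at hcon
    apply hnc
    apply isCyclic_of_unique_maximal p (m - 1) (by rw [hG, ← hm1])
    intro A B hA hB
    exact hcon A B hA hB
  have hidx : ∀ L : Subgroup G, Nat.card L = p ^ (m - 1) → L.index = p := by
    intro L hL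
    have h1 := L.card_mul_index
    rw [hL, hG] at h1
    have h2 : p ^ (m - 1) * L.index = p ^ (m - 1) * p := by
      rw [h1, ← pow_succ, ← hm1]
    exact Nat.eq_of_mul_eq_mul_left (pow_pos hppos _) h2
  have hnormal : ∀ L : Subgroup G, Nat.card L = p ^ (m - 1) → L.Normal := by
    intro L hL
    apply Subgroup.normal_of_index_eq_minFac_card
    rw [hidx L hL, hG, hp.out.pow_minFac (by omega)]
  have hN₁ : M₁.Normal := hnormal M₁ hM₁
  have hN₂ : M₂.Normal := hnormal M₂ hM₂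
  have hpow : ∀ (L : Subgroup G), Nat.card L = p ^ (m - 1) → ∀ g : G, g ^ p ∈ L := by
    intro L hL g
    have := hnormal L hL
    have h := L.pow_index_mem g
    rw [hidx L hL] at h
    exact h
  have hC₁ : IsCyclic M₁ := hall M₁ (hGne M₁ hM₁)
  have hC₂ : IsCyclic M₂ := hall M₂ (hGne M₂ hM₂)
  obtain ⟨gx, hgx⟩ := hC₁.exists_generator
  obtain ⟨gy, hgy⟩ := hC₂.exists_generator
  set x : G := (gx : G) with hx
  set y : G := (gy : G) with hy
  have hxM : x ∈ M₁ := gx.2
  have hyM : y ∈ M₂ := gy.2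
  have hgen₁ : ∀ a ∈ M₁, a ∈ Subgroup.zpowers x := by
    intro a ha
    obtain ⟨i, hi⟩ := Subgroup.mem_zpowers_iff.mp (hgx ⟨a, ha⟩)
    rw [Subgroup.mem_zpowers_iff]
    refine ⟨i, ?_⟩
    have := congrArg Subtype.val hi
    simpa using this
  have hgen₂ : ∀ a ∈ M₂, a ∈ Subgroup.zpowers y := by
    intro a ha
    obtain ⟨i, hi⟩ := Subgroup.mem_zpowers_iff.mp (hgy ⟨a, ha⟩)
    rw [Subgroup.mem_zpowers_iff]
    refine ⟨i, ?_⟩
    have := congrArg Subtype.val hi
    simpa using this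
  have hox : orderOf x = p ^ (m - 1) := by
    rw [hx, Subgroup.orderOf_coe, orderOf_eq_card_of_forall_mem_zpowers hgx, hM₁]
  have hoy : orderOf y = p ^ (m - 1) := by
    rw [hy, Subgroup.orderOf_coe, orderOf_eq_card_of_forall_mem_zpowers hgy, hM₂]
  -- M₁ ⊔ M₂ = ⊤
  have hsup : M₁ ⊔ M₂ = ⊤ := by
    rw [← Subgroup.index_eq_one]
    have h1 : (M₁ ⊔ M₂).index ∣ p := by
      rw [← hidx M₁ hM₁]
      exact Subgroup.index_dvd_of_le le_sup_left
    rcases (Nat.dvd_prime hp.out).mp h1 with h | h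
    · exact h
    · exfalso
      have h2 := (M₁ ⊔ M₂).card_mul_index
      rw [h, hG] at h2
      have h3 : Nat.card ↥(M₁ ⊔ M₂) = p ^ (m - 1) := by
        have h4 : Nat.card ↥(M₁ ⊔ M₂) * p = p ^ (m - 1) * p := by
          rw [h2, ← pow_succ, ← hm1]
        exact Nat.eq_of_mul_eq_mul_right hppos h4
      have e1 : M₁ = M₁ ⊔ M₂ :=
        Subgroup.eq_of_le_of_card_ge le_sup_left (by rw [h3, hM₁])
      have e2 : M₂ = M₁ ⊔ M₂ :=
        Subgroup.eq_of_le_of_card_ge le_sup_right (by rw [h3, hM₂])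
      exact hne (e1.trans e2.symm)
  -- elements of M₁ ⊓ M₂ are central
  have hcentral : ∀ d : G, d ∈ M₁ → d ∈ M₂ → d ∈ Subgroup.center G := by
    intro d hd₁ hd₂
    have h1 : M₁ ≤ Subgroup.centralizer {d} := by
      intro a ha
      rw [Subgroup.mem_centralizer_iff]
      intro h hh
      rw [Set.mem_singleton_iff] at hh
      subst hh
      obtain ⟨i, rfl⟩ := Subgroup.mem_zpowers_iff.mp (hgen₁ a ha)
      obtain ⟨j, rfl⟩ := Subgroup.mem_zpowers_iff.mp (hgen₁ h hd₁)
      exact zpow_mul_comm x j i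
    have h2 : M₂ ≤ Subgroup.centralizer {d} := by
      intro a ha
      rw [Subgroup.mem_centralizer_iff]
      intro h hh
      rw [Set.mem_singleton_iff] at hh
      subst hh
      obtain ⟨i, rfl⟩ := Subgroup.mem_zpowers_iff.mp (hgen₂ a ha)
      obtain ⟨j, rfl⟩ := Subgroup.mem_zpowers_iff.mp (hgen₂ h hd₂)
      exact zpow_mul_comm y j i
    have h3 : (⊤ : Subgroup G) ≤ Subgroup.centralizer {d} := hsup ▸ sup_le h1 h2
    rw [Subgroup.mem_center_iff]
    intro g
    have := Subgroup.mem_centralizer_iff.mp (h3 (Subgroup.mem_top g)) d rfl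
    exact this.symm
  -- commutators of elements of M₁ with elements of M₂
  have hz : ∀ a ∈ M₁, ∀ b ∈ M₂, a⁻¹ * b⁻¹ * a * b ∈ M₁ ∧ a⁻¹ * b⁻¹ * a * b ∈ Subgroup.center G ∧
      (a⁻¹ * b⁻¹ * a * b) ^ p = 1 := by
    intro a ha b hb
    have h1 : a⁻¹ * b⁻¹ * a * b ∈ M₁ := by
      have : b⁻¹ * a * b⁻¹⁻¹ ∈ M₁ := hN₁.conj_mem a ha b⁻¹
      have e : a⁻¹ * b⁻¹ * a * b = a⁻¹ * (b⁻¹ * a * b⁻¹⁻¹) := by group
      rw [e]
      exact M₁.mul_mem (M₁.inv_mem ha) this
    have h2 : a⁻¹ * b⁻¹ * a * b ∈ M₂ := by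
      have : a⁻¹ * b⁻¹ * a⁻¹⁻¹ ∈ M₂ := hN₂.conj_mem b⁻¹ (M₂.inv_mem hb) a⁻¹
      have e : a⁻¹ * b⁻¹ * a * b = (a⁻¹ * b⁻¹ * a⁻¹⁻¹) * b := by group
      rw [e]
      exact M₂.mul_mem this hb
    have h3 := hcentral _ h1 h2
    refine ⟨h1, h3, ?_⟩
    apply pow_eq_one_of_central a b _ h3 (by group) p
    exact hcentral _ (M₁.pow_mem ha p) (hpow M₂ hM₂ a)
  -- y ^ p is a p-th power of an element of M₁
  have hyp : y ^ p ∈ Subgroup.zpowers x := hgen₁ _ (hpow M₁ hM₁ y)
  rw [← mem_powers_iff_mem_zpowers, Submonoid.mem_powers_iff] at hyp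
  obtain ⟨k, hk⟩ := hyp
  have hpk : p ∣ k := by
    have h1 : (x ^ k) ^ (p ^ (m - 2)) = 1 := by
      rw [hk, ← pow_mul, ← pow_succ', show m - 2 + 1 = m - 1 by omega, ← hoy]
      exact pow_orderOf_eq_one y
    rw [← pow_mul] at h1
    have h2 := orderOf_dvd_of_pow_eq_one h1
    rw [hox, show m - 1 = (m - 2) + 1 by omega, pow_succ, mul_comm k] at h2
    exact Nat.dvd_of_mul_dvd_mul_left (pow_pos hppos _) h2
  obtain ⟨a', rfl⟩ := hpk
  set w : G := (x ^ a')⁻¹ with hw
  have hwM : w ∈ M₁ := M₁.inv_mem (M₁.pow_mem hxM a')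
  have hwp : w ^ p = (y ^ p)⁻¹ := by
    rw [hw, inv_pow, ← pow_mul, mul_comm a' p, hk]
  set z : G := w⁻¹ * y⁻¹ * w * y with hzdef
  obtain ⟨hzM, hzc, hzp⟩ := hz w hwM y hyM
  have hwy : w * y = y * w * z := by rw [hzdef]; group
  set v : G := y * w with hv
  -- elements outside M₁
  have hnotM : ∀ u : G, u * w⁻¹ = y → u ∉ M₁ := by
    intro u hu huM
    have hy₁ : y ∈ M₁ := by
      rw [← hu]
      exact M₁.mul_mem huM (M₁.inv_mem hwM)
    have hle : M₂ ≤ M₁ := by
      intro b hb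
      obtain ⟨i, rfl⟩ := Subgroup.mem_zpowers_iff.mp (hgen₂ b hb)
      exact M₁.zpow_mem hy₁ i
    exact hne (Subgroup.eq_of_le_of_card_ge hle (by rw [hM₁, hM₂])).symm
  have hvM : v ∉ M₁ := hnotM v (by rw [hv]; group)
  -- the element of order p in M₁
  set z₀ : G := x ^ (p ^ (m - 2)) with hz₀
  have hz₀M : z₀ ∈ M₁ := M₁.pow_mem hxM _
  have hoz₀ : orderOf z₀ = p := by
    rw [hz₀, orderOf_pow_of_dvd (pow_pos hppos _).ne', hox]
    · rw [show m - 1 = (m - 2) + 1 by omega, pow_succ, Nat.mul_div_cancel_left _ (pow_pos hppos _)]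
    · rw [hox]
      exact pow_dvd_pow p (by omega)
  -- final contradiction from an element of order p outside M₁
  have hfinal : ∀ u : G, u ∉ M₁ → orderOf u = p → False := by
    intro u huM hou
    have hcz : Nat.card (Subgroup.zpowers u) = p ^ 1 := by rw [Nat.card_zpowers, hou, pow_one]
    have hdvd : p ^ (m - 1) ∣ Nat.card G := by rw [hG]; exact pow_dvd_pow p (by omega)
    obtain ⟨L, hL, huL⟩ := Sylow.exists_subgroup_card_pow_prime_le p hdvd (Subgroup.zpowers u) hcz
      (by omega)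
    have hLC : IsCyclic L := hall L (hGne L hL)
    have hz₀L : z₀ ∈ L := by
      have h1 : x ^ p ∈ L := hpow L hL x
      have h2 : z₀ = (x ^ p) ^ (p ^ (m - 3)) := by
        rw [hz₀, ← pow_mul, ← pow_succ', show m - 3 + 1 = m - 2 by omega]
      rw [h2]
      exact L.pow_mem h1 _
    have huL' : u ∈ L := huL (Subgroup.mem_zpowers u)
    have h3 : (⟨u, huL'⟩ : L) ∈ Subgroup.zpowers (⟨z₀, hz₀L⟩ : L) := by
      apply mem_zpowers_of_orderOf_dvd
      rw [← Subgroup.orderOf_coe, ← Subgroup.orderOf_coe]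
      change orderOf u ∣ orderOf z₀
      rw [hou, hoz₀]
    obtain ⟨i, hi⟩ := Subgroup.mem_zpowers_iff.mp h3
    have hi' : z₀ ^ i = u := by
      have := congrArg Subtype.val hi
      simpa using this
    exact huM (hi' ▸ M₁.zpow_mem hz₀M i)
  by_cases hp2 : p = 2
  · -- p = 2
    have hm4 := hm2 hp2
    have hv2 : v ^ 2 = z := by
      have h1 := mul_pow_central y w z hzc hwy 2
      rw [Nat.choose_self, pow_one] at h1
      have h2 : w ^ 2 = (y ^ 2)⁻¹ := by rw [← hp2]; exact hwp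
      rw [h1, h2, mul_inv_cancel, one_mul]
    by_cases hz1 : z = 1
    · apply hfinal v hvM
      rw [hp2]
      have : Fact (Nat.Prime 2) := ⟨Nat.prime_two⟩
      apply orderOf_eq_prime
      · rw [hv2, hz1]
      · intro h1
        exact hvM (h1 ▸ M₁.one_mem)
    · -- z is the involution z₀ of M₁
      have hoz : orderOf z = 2 := by
        have : Fact (Nat.Prime 2) := ⟨Nat.prime_two⟩
        apply orderOf_eq_prime _ hz1
        rw [← hp2]; exact hzp
      have hzz₀ : z = z₀ := by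
        have h3 : (⟨z, hzM⟩ : M₁) ∈ Subgroup.zpowers (⟨z₀, hz₀M⟩ : M₁) := by
          apply mem_zpowers_of_orderOf_dvd
          rw [← Subgroup.orderOf_coe, ← Subgroup.orderOf_coe]
          change orderOf z ∣ orderOf z₀
          rw [hoz, hoz₀, hp2]
        rw [← mem_powers_iff_mem_zpowers, Submonoid.mem_powers_iff] at h3
        obtain ⟨i, hi⟩ := h3
        have hi' : z₀ ^ i = z := by
          have := congrArg Subtype.val hi
          simpa using this
        have hz₀2 : z₀ ^ 2 = 1 := by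
          rw [← hp2, ← hoz₀]; exact pow_orderOf_eq_one z₀
        rcases Nat.even_or_odd' i with ⟨j, hj | hj⟩
        · exfalso
          rw [hj, pow_mul, hz₀2, one_pow] at hi'
          exact hz1 hi'.symm
        · rw [hj, pow_succ, pow_mul, hz₀2, one_pow, one_mul] at hi'
          exact hi'.symm
      set d : G := x ^ (2 ^ (m - 3)) with hd
      have hdM : d ∈ M₁ := M₁.pow_mem hxM _
      have hdc : d ∈ Subgroup.center G := by
        have h1 : x ^ p ∈ Subgroup.center G := hcentral _ (M₁.pow_mem hxM p) (hpow M₂ hM₂ x)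
        have h2 : d = (x ^ p) ^ (2 ^ (m - 4)) := by
          rw [hd, hp2, ← pow_mul, ← pow_succ', show m - 4 + 1 = m - 3 by omega]
        rw [h2]
        exact Subgroup.pow_mem _ h1 _
      have hd2 : d ^ 2 = z := by
        rw [hzz₀, hz₀, hd, ← pow_mul, ← pow_succ, hp2, show m - 3 + 1 = m - 2 by omega]
      set u : G := v * d⁻¹ with hu
      have huM : u ∉ M₁ := by
        intro h
        apply hvM
        have : v = u * d := by rw [hu]; group
        rw [this]
        exact M₁.mul_mem h hdM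
      apply hfinal u huM
      rw [hp2]
      have : Fact (Nat.Prime 2) := ⟨Nat.prime_two⟩
      apply orderOf_eq_prime
      · have hdcomm : Commute v d⁻¹ :=
          (Subgroup.mem_center_iff.mp (Subgroup.inv_mem _ hdc) v)
        rw [hu, hdcomm.mul_pow, hv2, inv_pow, hd2, mul_inv_cancel]
      · intro h1
        exact huM (h1 ▸ M₁.one_mem)
  · -- p odd
    apply hfinal v hvM
    apply orderOf_eq_prime
    · rw [hv, mul_pow_prime_central y w z hzc hwy p hp.out hp2 hzp, hwp, mul_inv_cancel]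
    · intro h1
      exact hvM (h1 ▸ M₁.one_mem)

end Cfsg.Agent.Helper20
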