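import Mathlib
import Cfsg.Agent.Lib.Helper20.A5QDefs
import Cfsg.Agent.Lib.Helper20.A3Defs
import Cfsg.Agent.Lib.Helper20.A5QRANK
import Cfsg.Agent.Lib.Helper20.A5QORB5
import Cfsg.Agent.Lib.Helper9.A3LAM
import Cfsg.Agent.Lib.Helper14.A3QL
import Cfsg.Agent.Lib.Helper14.A3Q1

set_option autoImplicit false
set_option linter.unusedSectionVars false
set_option linter.unusedVariables false

/-!
S3106 piece N0.
-/

namespace Cfsg.Agent.Helper20.A5Q

open Cfsg.Agent.Helper22.SecRank
open Cfsg.Agent.Helper20.A3

section Abstract

variable {W : Type*} [Group W] [Finite W]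

/-- an automorphism of a group of order `4` whose fifth power is trivial is trivial -/
theorem n0_aut_four {U : Type*} [Group U] [Finite U] (hU4 : Nat.card U = 4) (h : MulAut U)
    (h5 : h ^ 5 = 1) : h = 1 := by
  classical
  haveI : Fintype U := Fintype.ofFinite U
  haveI : Fact (Nat.Prime 5) := ⟨by norm_num⟩
  let f : Function.End U := fun u => h u
  have hpow : ∀ (n : ℕ) (u : U), (f ^ n) u = (h ^ n) u := by
    intro n
    induction n with
    | zero => intro u; rfl
    | succ n ih =>
      intro u
      rw [pow_succ, pow_succ]
      show (f ^ n) (f u) = (h ^ n) (h u)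
      rw [ih (f u)]
  have hf5 : f ^ 5 ^ 1 = 1 := by
    rw [pow_one]
    funext u
    rw [hpow 5 u, h5]
    rfl
  have hmod := Equiv.Perm.card_fixedPoints_modEq (p := 5) (n := 1) hf5
  have hc : Fintype.card U = 4 := by rw [← Nat.card_eq_fintype_card]; exact hU4
  rw [hc] at hmod
  have hle : Fintype.card (Function.fixedPoints f) ≤ 4 := by
    rw [← hc]
    exact Fintype.card_subtype_le _
  have hm : 4 % 5 = Fintype.card (Function.fixedPoints f) % 5 := hmod
  have h4 : Fintype.card (Function.fixedPoints f) = 4 := by omega
  apply MulEquiv.ext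
  intro u
  by_contra hne
  have hlt : Fintype.card (Function.fixedPoints f) < Fintype.card U := by
    apply Fintype.card_subtype_lt (x := u)
    exact hne
  omega

/-- **A5Q-N0.** A quadratic map from `2^4` onto a generating subset of `2^2`, equivariant for an
automorphism of order `5`, has no nontrivial singular vector. -/
theorem n0_eq_zero {U : Type*} [Group U] [Finite U] (hW : ∀ w : W, w * w = 1)
    (hU : ∀ u : U, u * u = 1) (hcard : Nat.card W = 16) (hU4 : Nat.card U = 4) (q : W → U)
    (hq : IsQuadMap q) (hgen : Subgroup.closure (Set.range q) = ⊤) (φ : MulAut W)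
    (hφ5 : φ ^ 5 = 1) (hφ : φ ≠ 1) (hφq : ∃ h : MulAut U, ∀ w, q (φ w) = h (q w)) :
    n0 q = 0 := by
  classical
  haveI : Fintype W := Fintype.ofFinite W
  haveI : Fintype U := Fintype.ofFinite U
  obtain ⟨h, hh⟩ := hφq
  -- `h = 1`
  have hpow : ∀ (n : ℕ) (w : W), q ((φ ^ n) w) = (h ^ n) (q w) := by
    intro n
    induction n with
    | zero => intro w; rfl
    | succ n ih =>
      intro w
      rw [pow_succ, pow_succ]
      show q ((φ ^ n) (φ w)) = (h ^ n) (h (q w))
      rw [ih (φ w), hh w]
  have hh5 : h ^ 5 = 1 := by
    apply MulEquiv.ext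
    intro u
    have hu : u ∈ Subgroup.closure (Set.range q) := by rw [hgen]; exact Subgroup.mem_top u
    induction hu using Subgroup.closure_induction with
    | mem x hx =>
      obtain ⟨w, rfl⟩ := hx
      have := hpow 5 w
      rw [hφ5] at this
      exact this.symm
    | one => exact map_one _
    | mul x y _ _ ihx ihy => rw [map_mul, ihx, ihy]; rfl
    | inv x _ ihx => rw [map_inv, ihx]; rfl
  have hh1 : h = 1 := n0_aut_four hU4 h hh5
  have hinvq : ∀ w, q (φ w) = q w := by
    intro w
    rw [hh w, hh1]
    rfl
  have hfree := free_of_order_five hW hcard φ hφ5 hφ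
  have hq1 : q 1 = 1 := q_one hU q hq
  -- the fibre sizes
  let a : U → ℕ := fun v => (Finset.univ.filter (fun w : W => q w = v)).card
  have hsum : ∑ v : U, a v = 16 := by
    have := Finset.card_eq_sum_card_fiberwise (s := (Finset.univ : Finset W))
      (t := (Finset.univ : Finset U)) (f := q) (fun x _ => Finset.mem_univ _)
    rw [Finset.card_univ, ← Nat.card_eq_fintype_card, hcard] at this
    exact this.symm
  have hall : ∀ u : U, u ≠ 1 → a 1 + a u = 6 := by
    intro u hu
    obtain ⟨l, hl⟩ := exists_char hU hU4 u hu
    have hQ := isQuad_comp hU q hq l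
    have hQinv : ∀ w, (fun w => Multiplicative.toAdd (l (q w))) (φ w) =
        (fun w => Multiplicative.toAdd (l (q w))) w := by
      intro w
      show Multiplicative.toAdd (l (q (φ w))) = Multiplicative.toAdd (l (q w))
      rw [hinvq w]
    have hne : ∃ w, (fun w => Multiplicative.toAdd (l (q w))) w ≠ 0 := by
      by_contra hcon
      push Not at hcon
      -- then the range of `q` lies in `{1, u}`
      have hker : Subgroup.closure (Set.range q) ≤ l.ker := by
        rw [Subgroup.closure_le]
        rintro _ ⟨w, rfl⟩
        show l (q w) = 1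
        have := hcon w
        exact this
      rw [hgen] at hker
      -- so `l` is trivial, but `l v = 1 ↔ v = 1 ∨ v = u`
      have hall' : ∀ v : U, v = 1 ∨ v = u := by
        intro v
        exact (hl v).mp (hker (Subgroup.mem_top v))
      have hle : Fintype.card U ≤ 2 := by
        have : (Finset.univ : Finset U) ⊆ {1, u} := by
          intro v _
          rcases hall' v with rfl | rfl <;> simp
        calc Fintype.card U = (Finset.univ : Finset U).card := rfl
          _ ≤ ({1, u} : Finset U).card := Finset.card_le_card this
          _ ≤ 2 := Finset.card_le_two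
      rw [← Nat.card_eq_fintype_card, hU4] at hle
      omega
    have h6 := zer_card_six hW hcard _ hQ φ hφ5 hfree hQinv hne
    -- the zero set is the union of two fibres
    have hz : Nat.card (zer (fun w => Multiplicative.toAdd (l (q w)))) =
        (Finset.univ.filter (fun w : W => q w = 1 ∨ q w = u)).card := by
      rw [Nat.card_eq_fintype_card, ← Fintype.card_subtype]
      apply Fintype.card_congr
      refine Equiv.subtypeEquivRight ?_
      intro w
      rw [mem_zer]
      constructor
      · intro hw
        exact (hl (q w)).mp hw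
      · intro hw
        exact (hl (q w)).mpr hw
    rw [hz, Finset.filter_or, Finset.card_union_of_disjoint] at h6
    · exact h6
    · rw [Finset.disjoint_filter]
      intro w _ h1 h2
      exact hu (h2.symm.trans h1)
  -- summing
  have h18 : ∑ u ∈ (Finset.univ : Finset U).erase 1, (a 1 + a u) = 18 := by
    rw [Finset.sum_congr rfl (fun u hu => hall u (Finset.ne_of_mem_erase hu))]
    rw [Finset.sum_const, Finset.card_erase_of_mem (Finset.mem_univ _), Finset.card_univ,
      ← Nat.card_eq_fintype_card, hU4]
    rfl
  rw [Finset.sum_add_distrib, Finset.sum_const, Finset.card_erase_of_mem (Finset.mem_univ _),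
    Finset.card_univ, ← Nat.card_eq_fintype_card, hU4] at h18
  have hsplit := Finset.add_sum_erase (Finset.univ : Finset U) a (Finset.mem_univ (1 : U))
  rw [hsum] at hsplit
  have ha1 : a 1 = 1 := by
    simp only [smul_eq_mul] at h18
    omega
  -- conclusion
  unfold n0
  rw [Nat.card_eq_zero]
  left
  constructor
  rintro ⟨w, hw1, hwq⟩
  apply hw1
  have hsub : ({w, 1} : Finset W) ⊆ Finset.univ.filter (fun w : W => q w = 1) := by
    intro x hx
    rw [Finset.mem_insert, Finset.mem_singleton] at hx
    rw [Finset.mem_filter]
    rcases hx with rfl | rfl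
    · exact ⟨Finset.mem_univ _, hwq⟩
    · exact ⟨Finset.mem_univ _, hq1⟩
  have hcle := Finset.card_le_card hsub
  have : (Finset.univ.filter (fun w : W => q w = 1)).card = 1 := ha1
  rw [this] at hcle
  by_contra hne
  rw [Finset.card_pair hne] at hcle
  omega

end Abstract

end Cfsg.Agent.Helper20.A5Q
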