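import Mathlib
import Cfsg.Agent.Lib.Helper20.CSDefs

set_option autoImplicit false

/-!
# S4016, piece B0: a proper subgroup containing `N_G(P)` equals `N_G(P)`
-/

universe u

namespace Cfsg.Agent.Helper20.CS

open Subgroup
open scoped Pointwise

variable {p : ℕ} [Fact p.Prime] {G : Type u} [Group G] [Finite G]

/-- PIECE B0. -/
theorem eq_normalizer_of_ge (h : Hyp p G) (hsub : ∀ H : Subgroup G, H ≠ ⊤ → Concl p ↥H)
    (P : Sylow p G)
    (hact : ¬ normalizer ((P : Subgroup G) : Set G) ≤ centralizer ((P : Subgroup G) : Set G))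
    (H : Subgroup G) (hMH : normalizer ((P : Subgroup G) : Set G) ≤ H) (hH : H ≠ ⊤) :
    H = normalizer ((P : Subgroup G) : Set G) := by
  have hPH : (P : Subgroup G) ≤ H := le_trans le_normalizer hMH
  have hPc : ∀ u ∈ (P : Subgroup G), ∀ v ∈ (P : Subgroup G), u * v = v * u := by
    intro u hu v hv
    have h0 := (h.1 P).isMulCommutative
    have h1 := h0.is_comm.comm (⟨u, hu⟩ : (P : Subgroup G)) ⟨v, hv⟩
    exact congrArg Subtype.val h1
  refine le_antisymm ?_ hMH
  rcases hsub H hH with ⟨Q, K, hKn, hKQ⟩ | hall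
  · exfalso
    apply hact
    set P' : Sylow p ↥H := P.subtype hPH with hP'
    have hP'mem : ∀ x : ↥H, x ∈ (P' : Subgroup ↥H) ↔ (x : G) ∈ (P : Subgroup G) := by
      intro x
      rw [hP', Sylow.coe_subtype, Subgroup.mem_subgroupOf]
    have hcard : Nat.card ↥K * Nat.card ↥(Q : Subgroup ↥H) = Nat.card ↥H := hKQ.card_mul_card
    have hQP : Nat.card ↥(Q : Subgroup ↥H) = Nat.card ↥(P' : Subgroup ↥H) := by
      rw [Sylow.card_eq_multiplicity, Sylow.card_eq_multiplicity]
    have hcop : (Nat.card ↥K).Coprime (Nat.card ↥(P' : Subgroup ↥H)) := by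
      have h1 : Nat.card ↥K = (Q : Subgroup ↥H).index := by
        have := Subgroup.card_mul_index (Q : Subgroup ↥H)
        have hpos : 0 < Nat.card ↥(Q : Subgroup ↥H) := Nat.card_pos
        nlinarith [hcard, this]
      rw [h1, ← hQP]
      exact (Sylow.card_coprime_index Q).symm
    have hsup : K ⊔ (P' : Subgroup ↥H) = ⊤ := by
      rw [← Subgroup.card_eq_iff_eq_top]
      apply Nat.dvd_antisymm (Subgroup.card_subgroup_dvd_card _)
      rw [← hcard, hQP]
      exact hcop.mul_dvd_of_dvd_of_dvd (Subgroup.card_dvd_of_le le_sup_left)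
        (Subgroup.card_dvd_of_le le_sup_right)
    have hinf : K ⊓ (P' : Subgroup ↥H) = ⊥ := Subgroup.inf_eq_bot_of_coprime hcop
    intro g hg
    rw [mem_centralizer_iff]
    intro u hu
    have hgH : g ∈ H := hMH hg
    have hmem : (⟨g, hgH⟩ : ↥H) ∈ ((K ⊔ (P' : Subgroup ↥H) : Subgroup ↥H) : Set ↥H) := by
      rw [hsup]
      exact Subgroup.mem_top _
    rw [Subgroup.normal_mul, Set.mem_mul] at hmem
    obtain ⟨k, hk, v, hv, hkv⟩ := hmem
    have hvP : (v : G) ∈ (P : Subgroup G) := (hP'mem v).mp hv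
    have hg_eq : g = (k : G) * (v : G) := by
      have := congrArg Subtype.val hkv
      simpa using this.symm
    -- g u g⁻¹ ∈ P
    have hw : g * u * g⁻¹ ∈ (P : Subgroup G) := (mem_normalizer_iff.mp hg u).mp hu
    have hw2 : g * u * g⁻¹ = (k : G) * u * (k : G)⁻¹ := by
      have h1 : (v : G) * u * (v : G)⁻¹ = u := by
        rw [hPc _ hvP u hu, mul_assoc, mul_inv_cancel, mul_one]
      rw [hg_eq]
      calc (k : G) * (v : G) * u * ((k : G) * (v : G))⁻¹
          = (k : G) * ((v : G) * u * (v : G)⁻¹) * (k : G)⁻¹ := by group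
        _ = (k : G) * u * (k : G)⁻¹ := by rw [h1]
    set u' : ↥H := ⟨u, hPH hu⟩ with hu'
    have hc1 : k * u' * k⁻¹ * u'⁻¹ ∈ K := by
      have h1 : u' * k⁻¹ * u'⁻¹ ∈ K := hKn.conj_mem _ (inv_mem hk) u'
      have h2 : k * (u' * k⁻¹ * u'⁻¹) ∈ K := mul_mem hk h1
      have h3 : k * u' * k⁻¹ * u'⁻¹ = k * (u' * k⁻¹ * u'⁻¹) := by group
      rw [h3]
      exact h2
    have hc2 : k * u' * k⁻¹ * u'⁻¹ ∈ (P' : Subgroup ↥H) := by
      rw [hP'mem]
      have h1 : ((k * u' * k⁻¹ * u'⁻¹ : ↥H) : G) = (k : G) * u * (k : G)⁻¹ * u⁻¹ := by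
        simp [hu']
      rw [h1, ← hw2]
      exact mul_mem hw (inv_mem hu)
    have hc3 : k * u' * k⁻¹ * u'⁻¹ ∈ K ⊓ (P' : Subgroup ↥H) := Subgroup.mem_inf.mpr ⟨hc1, hc2⟩
    rw [hinf, Subgroup.mem_bot] at hc3
    have hc4 : (k : G) * u * (k : G)⁻¹ * u⁻¹ = 1 := by
      have := congrArg Subtype.val hc3
      simpa [hu'] using this
    have hc5 : g * u * g⁻¹ = u := by
      rw [hw2]
      have : (k : G) * u * (k : G)⁻¹ * u⁻¹ * u = 1 * u := by rw [hc4]
      simpa using this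
    have : g * u * g⁻¹ * g = u * g := by rw [hc5]
    simpa using this.symm
  · have hn : ((P.subtype hPH : Sylow p ↥H) : Subgroup ↥H).Normal := hall _
    rw [Sylow.coe_subtype] at hn
    exact (Subgroup.normal_subgroupOf_iff_le_normalizer hPH).mp hn

end Cfsg.Agent.Helper20.CS
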