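import Mathlib

set_option autoImplicit false

namespace Cfsg.Agent.Helper20

variable {G : Type*} [Group G]

/-- conjugate of a power -/
theorem conj_zpow (n x : G) (i : ℤ) : n * x ^ i * n⁻¹ = (n * x * n⁻¹) ^ i := by
  have := map_zpow (MulAut.conj n) x i
  simp only [MulAut.conj_apply] at this
  exact this

/-- For an element `x` of finite order, `n` normalizes `⟨x⟩` iff `n x n⁻¹ ∈ ⟨x⟩`. -/
theorem mem_normalizer_zpowers_iff {x : G} (hx : 0 < orderOf x) (n : G) :
    n ∈ Subgroup.normalizer ((Subgroup.zpowers x : Subgroup G) : Set G) ↔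
      n * x * n⁻¹ ∈ Subgroup.zpowers x := by
  constructor
  · intro h
    exact (Subgroup.mem_set_normalizer_iff.mp h x).mp (Subgroup.mem_zpowers x)
  · intro h
    have hfin : Finite (Subgroup.zpowers x) :=
      Nat.finite_of_card_ne_zero (by rw [Nat.card_zpowers]; exact hx.ne')
    -- zpowers (n x n⁻¹) = zpowers x
    have heq : Subgroup.zpowers (n * x * n⁻¹) = Subgroup.zpowers x := by
      apply Subgroup.eq_of_le_of_card_ge (Subgroup.zpowers_le.mpr h)
      rw [Nat.card_zpowers, Nat.card_zpowers]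
      have := MulEquiv.orderOf_eq (MulAut.conj n) x
      rw [MulAut.conj_apply] at this
      rw [this]
    rw [Subgroup.mem_set_normalizer_iff]
    intro t
    rw [SetLike.mem_coe, SetLike.mem_coe]
    constructor
    · intro ht
      obtain ⟨i, rfl⟩ := Subgroup.mem_zpowers_iff.mp ht
      rw [conj_zpow]
      exact Subgroup.zpow_mem _ h i
    · intro ht
      rw [← heq] at ht
      obtain ⟨i, hi⟩ := Subgroup.mem_zpowers_iff.mp ht
      rw [← conj_zpow] at hi
      have : x ^ i = t := by
        have h2 : n⁻¹ * (n * x ^ i * n⁻¹) * n = n⁻¹ * (n * t * n⁻¹) * n := by rw [hi]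
        calc x ^ i = n⁻¹ * (n * x ^ i * n⁻¹) * n := by group
          _ = n⁻¹ * (n * t * n⁻¹) * n := h2
          _ = t := by group
      rw [← this]
      exact Subgroup.zpow_mem_zpowers x i

/-- If `n` normalizes the finite cyclic group `⟨x⟩`, then `n ^ φ(|x|)` centralizes `x`. -/
theorem pow_totient_commute_of_mem_normalizer {x : G} (hx : 0 < orderOf x) {n : G}
    (hn : n ∈ Subgroup.normalizer ((Subgroup.zpowers x : Subgroup G) : Set G)) :
    n ^ (Nat.totient (orderOf x)) * x = x * n ^ (Nat.totient (orderOf x)) := by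
  set H := Subgroup.zpowers x with hH
  have hfin : Finite H := Nat.finite_of_card_ne_zero (by rw [Nat.card_zpowers]; exact hx.ne')
  have hcard : Nat.card (MulAut H) = Nat.totient (orderOf x) := by
    rw [IsCyclic.card_mulAut, Nat.card_zpowers]
  set φ := H.normalizerMonoidHom with hφ
  have h1 : (φ ⟨n, hn⟩) ^ (Nat.totient (orderOf x)) = 1 := by
    rw [← hcard]; exact pow_card_eq_one'
  rw [← map_pow] at h1
  have h2 : (⟨n, hn⟩ : Subgroup.normalizer ((H : Subgroup G) : Set G)) ^ (Nat.totient (orderOf x))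
      ∈ φ.ker := MonoidHom.mem_ker.mpr h1
  rw [hφ, Subgroup.normalizerMonoidHom_ker, Subgroup.mem_subgroupOf] at h2
  rw [Subgroup.mem_centralizer_iff] at h2
  have h3 := h2 x (Subgroup.mem_zpowers x)
  simpa using h3.symm

end Cfsg.Agent.Helper20
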