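import Mathlib
import Cfsg.Agent.Lib.Helper20.SylowBasic
import Cfsg.Agent.Lib.Helper20.ZpowersNormalizer

set_option autoImplicit false

namespace Cfsg.Agent.Helper20

variable {G : Type*} [Group G]

/-- A `p`-element normalizing a Sylow `p`-subgroup lies in it. -/
theorem mem_sylow_of_mem_normalizer_of_orderOf_csa {p : ℕ} [Fact p.Prime] (P : Sylow p G) {c : G}
    (hc : c ∈ Subgroup.normalizer ((P : Subgroup G) : Set G)) (ho : ∃ k : ℕ, orderOf c = p ^ k) :
    c ∈ (P : Subgroup G) := by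
  obtain ⟨k, hk⟩ := ho
  have hH : IsPGroup p (Subgroup.zpowers c) := isPGroup_zpowers_of_orderOf hk
  have hle : Subgroup.zpowers c ≤ Subgroup.normalizer ((P : Subgroup G) : Set G) :=
    Subgroup.zpowers_le.mpr hc
  have hsup : IsPGroup p (Subgroup.zpowers c ⊔ (P : Subgroup G) : Subgroup G) :=
    IsPGroup.to_sup_of_normal_right' hH P.isPGroup' hle
  have heq := P.is_maximal' hsup le_sup_right
  have : c ∈ Subgroup.zpowers c ⊔ (P : Subgroup G) :=
    Subgroup.mem_sup_left (Subgroup.mem_zpowers c)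
  rw [heq] at this
  exact this

/-- iterated conjugation of a generator -/
theorem conj_pow_of_conj_eq_zpow {c y : G} {a : ℤ} (h : c * y * c⁻¹ = y ^ a) (n : ℕ) :
    c ^ n * y * (c ^ n)⁻¹ = y ^ (a ^ n) := by
  induction n with
  | zero => simp
  | succ n ih =>
    have e : c ^ (n + 1) * y * (c ^ (n + 1))⁻¹ = c * (c ^ n * y * (c ^ n)⁻¹) * c⁻¹ := by
      rw [pow_succ']; group
    rw [e, ih, conj_zpow, h, ← zpow_mul, pow_succ, mul_comm]

/-- If `c` normalizes the cyclic Sylow `p`-subgroup `P` and centralizes some nonidentity element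
of it, then `c` centralizes `P`. -/
theorem commute_of_normalizes_cyclic_sylow [Finite G] {p : ℕ} [Fact p.Prime] (P : Sylow p G)
    (hcyc : IsCyclic ↥(P : Subgroup G)) {c x : G}
    (hcN : c ∈ Subgroup.normalizer ((P : Subgroup G) : Set G)) (hx : x ∈ (P : Subgroup G))
    (hx1 : x ≠ 1) (hcx : c * x = x * c) : ∀ z ∈ (P : Subgroup G), c * z = z * c := by
  have hp : p.Prime := Fact.out
  obtain ⟨g₀, hg₀⟩ := hcyc.exists_generator
  set y : G := (g₀ : G) with hy
  have hyP : y ∈ (P : Subgroup G) := g₀.2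
  have hgen : ∀ z ∈ (P : Subgroup G), ∃ i : ℤ, y ^ i = z := by
    intro z hz
    obtain ⟨i, hi⟩ := Subgroup.mem_zpowers_iff.mp (hg₀ ⟨z, hz⟩)
    refine ⟨i, ?_⟩
    have := congrArg Subtype.val hi
    simpa using this
  -- it suffices to commute with y
  suffices hcy : c * y = y * c by
    intro z hz
    obtain ⟨i, rfl⟩ := hgen z hz
    have : Commute c y := hcy
    exact (this.zpow_right i)
  obtain ⟨k, hk⟩ := exists_orderOf_eq_of_mem_isPGroup P.isPGroup' hyP
  -- c y c⁻¹ = y ^ a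
  have hcyP : c * y * c⁻¹ ∈ (P : Subgroup G) :=
    (Subgroup.mem_set_normalizer_iff.mp hcN y).mp hyP
  obtain ⟨a, ha⟩ := hgen _ hcyP
  have ha' : c * y * c⁻¹ = y ^ a := ha.symm
  obtain ⟨i, hi⟩ := hgen x hx
  -- p ∣ a - 1
  have h1 : ((p : ℤ) ^ k) ∣ (a - 1) * i := by
    have h2 : y ^ ((a - 1) * i) = 1 := by
      have h3 : c * x * c⁻¹ = x := by rw [hcx]; group
      rw [← hi, conj_zpow, ha', ← zpow_mul] at h3
      rw [sub_mul, one_mul, zpow_sub, h3, mul_inv_cancel]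
    have := (orderOf_dvd_iff_zpow_eq_one).mpr h2
    rw [hk] at this
    exact_mod_cast this
  have hpa : (p : ℤ) ∣ a - 1 := by
    by_contra hnd
    have hprime : Prime (p : ℤ) := Nat.prime_iff_prime_int.mp hp
    have hcop : IsCoprime ((p : ℤ) ^ k) (a - 1) :=
      IsCoprime.pow_left ((Prime.coprime_iff_not_dvd hprime).mpr hnd)
    have h4 : ((p : ℤ) ^ k) ∣ i := hcop.dvd_of_dvd_mul_left h1
    apply hx1
    rw [← hi]
    have : ((orderOf y : ℕ) : ℤ) ∣ i := by rw [hk]; exact_mod_cast h4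
    exact (orderOf_dvd_iff_zpow_eq_one).mp this
  -- c ^ (p ^ k) centralizes y
  have h5 : c ^ (p ^ k) * y * (c ^ (p ^ k))⁻¹ = y := by
    rw [conj_pow_of_conj_eq_zpow ha']
    have h6 : ((p : ℤ) ^ (k + 1)) ∣ a ^ p ^ k - 1 ^ p ^ k := by
      have := dvd_sub_pow_of_dvd_sub (R := ℤ) (p := p) (a := a) (b := 1) hpa k
      exact_mod_cast this
    rw [one_pow] at h6
    have h7 : ((orderOf y : ℕ) : ℤ) ∣ a ^ p ^ k - 1 := by
      rw [hk]
      push_cast
      exact (pow_dvd_pow (p : ℤ) (Nat.le_succ k)).trans h6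
    have h8 : y ^ (a ^ p ^ k - 1) = 1 := (orderOf_dvd_iff_zpow_eq_one).mp h7
    calc y ^ (a ^ p ^ k) = y ^ (a ^ p ^ k - 1) * y := by
          rw [← zpow_add_one]; congr 1; ring
      _ = y := by rw [h8, one_mul]
  have hc1 : Commute (c ^ (p ^ k)) y := by
    change c ^ (p ^ k) * y = y * c ^ (p ^ k)
    calc c ^ (p ^ k) * y = c ^ (p ^ k) * y * (c ^ (p ^ k))⁻¹ * c ^ (p ^ k) := by group
      _ = y * c ^ (p ^ k) := by rw [h5]
  -- the p-part of c lies in P
  set o := orderOf c with ho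
  have ho0 : o ≠ 0 := (orderOf_pos c).ne'
  set j := o.factorization p
  set m := ordCompl[p] o
  have hjm : p ^ j * m = o := Nat.ordProj_mul_ordCompl_eq_self o p
  have hcm : ∃ l : ℕ, orderOf (c ^ m) = p ^ l := by
    have h9 : (c ^ m) ^ (p ^ j) = 1 := by
      rw [← pow_mul, mul_comm, hjm, ho, pow_orderOf_eq_one]
    obtain ⟨l, -, hl⟩ := (Nat.dvd_prime_pow hp).mp (orderOf_dvd_of_pow_eq_one h9)
    exact ⟨l, hl⟩
  have hcmN : c ^ m ∈ Subgroup.normalizer ((P : Subgroup G) : Set G) := Subgroup.pow_mem _ hcN m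
  have hcmP : c ^ m ∈ (P : Subgroup G) := mem_sylow_of_mem_normalizer_of_orderOf_csa P hcmN hcm
  have hc2 : Commute (c ^ m) y := by
    obtain ⟨i', hi'⟩ := hgen _ hcmP
    rw [← hi']
    exact (Commute.refl y).zpow_left i'
  -- Bezout
  have hcop : Nat.Coprime (p ^ k) m := Nat.Coprime.pow_left k (Nat.coprime_ordCompl hp ho0)
  obtain ⟨u, v, huv⟩ : IsCoprime ((p ^ k : ℕ) : ℤ) (m : ℤ) := Nat.isCoprime_iff_coprime.mpr hcop
  have hc3 : Commute c y := by
    have e : c = (c ^ (p ^ k)) ^ u * (c ^ m) ^ v := by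
      rw [← zpow_natCast c (p ^ k), ← zpow_natCast c m, ← zpow_mul, ← zpow_mul, ← zpow_add]
      have : ((p ^ k : ℕ) : ℤ) * u + (m : ℤ) * v = 1 := by rw [← huv]; ring
      rw [this, zpow_one]
    rw [e]
    exact (hc1.zpow_left u).mul_left (hc2.zpow_left v)
  exact hc3

end Cfsg.Agent.Helper20
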