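import Mathlib
import Cfsg.Agent.Lib.Helper20.CSDefs
import Cfsg.Agent.Lib.Helper20.CyclicSylowAut

set_option autoImplicit false

/-!
# S4016, piece FACTS1: first facts about a configuration `Cfg p G`
-/

universe u

namespace Cfsg.Agent.Helper20.CS

open Subgroup
open scoped Pointwise

variable {p : ℕ} [Fact p.Prime] {G : Type u} [Group G] [Finite G]

namespace Cfg

variable (c : Cfg p G)

omit [Fact p.Prime] [Finite G] in
theorem P_comm : ∀ u ∈ (c.P : Subgroup G), ∀ v ∈ (c.P : Subgroup G), u * v = v * u := by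
  intro u hu v hv
  have h0 := (c.hyp.1 c.P).isMulCommutative
  have h1 := h0.is_comm.comm (⟨u, hu⟩ : (c.P : Subgroup G)) ⟨v, hv⟩
  exact congrArg Subtype.val h1

omit [Fact p.Prime] [Finite G] in
theorem L_comm : ∀ a ∈ c.L, ∀ b ∈ c.L, a * b = b * a := c.hyp.2 c.L c.L_card

omit [Fact p.Prime] [Finite G] in
theorem P_le_M : (c.P : Subgroup G) ≤ c.M := Subgroup.le_normalizer

omit [Fact p.Prime] [Finite G] in
theorem L_le_M : c.L ≤ c.M := by
  unfold Cfg.M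
  rw [← c.sup_eq]
  exact le_sup_right

omit [Fact p.Prime] [Finite G] in
theorem mem_M_iff (g : G) : g ∈ c.M ↔ ∃ u ∈ (c.P : Subgroup G), ∃ l ∈ c.L, g = u * l := by
  have h1 : ((((c.P : Subgroup G) ⊔ c.L : Subgroup G)) : Set G) =
      ((c.P : Subgroup G) : Set G) * (c.L : Set G) :=
    Subgroup.coe_mul_of_right_le_normalizer_left (c.P : Subgroup G) c.L c.L_le_M
  have h2 : g ∈ c.M ↔ g ∈ ((((c.P : Subgroup G) ⊔ c.L : Subgroup G)) : Set G) := by
    unfold Cfg.M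
    rw [← c.sup_eq]
    rfl
  rw [h2, h1, Set.mem_mul]
  constructor
  · rintro ⟨u, hu, l, hl, rfl⟩
    exact ⟨u, hu, l, hl, rfl⟩
  · rintro ⟨u, hu, l, hl, rfl⟩
    exact ⟨u, hu, l, hl, rfl⟩

omit [Finite G] in
theorem P_inf_L : (c.P : Subgroup G) ⊓ c.L = ⊥ := by
  have hp : p.Prime := Fact.out
  rw [eq_bot_iff]
  intro x hx
  rw [Subgroup.mem_bot]
  obtain ⟨hxP, hxL⟩ := Subgroup.mem_inf.mp hx
  obtain ⟨k, hk⟩ := Cfsg.Agent.Helper20.exists_orderOf_eq_of_mem_isPGroup c.P.isPGroup' hxP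
  by_contra hne
  have hk0 : k ≠ 0 := by
    rintro rfl
    rw [pow_zero, orderOf_eq_one_iff] at hk
    exact hne hk
  have h1 : p ∣ orderOf x := by
    rw [hk]
    exact dvd_pow_self p hk0
  have h2 : orderOf x ∣ Nat.card ↥c.L := by
    have := orderOf_dvd_natCard (⟨x, hxL⟩ : c.L)
    rwa [Subgroup.orderOf_mk] at this
  exact c.L_card (h1.trans h2)

omit [Finite G] in
theorem card_M : Nat.card ↥c.M = Nat.card ↥(c.P : Subgroup G) * Nat.card ↥c.L := by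
  rw [← Nat.card_prod]
  symm
  let f : ↥(c.P : Subgroup G) × ↥c.L → ↥c.M := fun x =>
    ⟨(x.1 : G) * (x.2 : G), (c.mem_M_iff _).mpr ⟨x.1, x.1.2, x.2, x.2.2, rfl⟩⟩
  refine Nat.card_congr (Equiv.ofBijective f ⟨?_, ?_⟩)
  · rintro ⟨⟨u, hu⟩, ⟨l, hl⟩⟩ ⟨⟨u', hu'⟩, ⟨l', hl'⟩⟩ h
    have h1 : u * l = u' * l' := congrArg Subtype.val h
    have h2 : u'⁻¹ * u = l' * l⁻¹ := by
      have : u'⁻¹ * (u * l) * l⁻¹ = u'⁻¹ * (u' * l') * l⁻¹ := by rw [h1]
      simpa [mul_assoc] using this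
    have h3 : u'⁻¹ * u ∈ (c.P : Subgroup G) ⊓ c.L := by
      refine Subgroup.mem_inf.mpr ⟨mul_mem (inv_mem hu') hu, ?_⟩
      rw [h2]
      exact mul_mem hl' (inv_mem hl)
    rw [c.P_inf_L, Subgroup.mem_bot] at h3
    have h4 : u = u' := by
      have : u' * (u'⁻¹ * u) = u' * 1 := by rw [h3]
      simpa using this
    subst h4
    have h5 : l = l' := mul_left_cancel h1
    subst h5
    rfl
  · rintro ⟨g, hg⟩
    obtain ⟨u, hu, l, hl, rfl⟩ := (c.mem_M_iff g).mp hg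
    exact ⟨⟨⟨u, hu⟩, ⟨l, hl⟩⟩, rfl⟩

omit [Fact p.Prime] [Finite G] in
include c in
theorem nonab : ∃ a b : G, a * b ≠ b * a := by
  obtain ⟨x, -, u, -, h⟩ := c.act
  exact ⟨x, u, h⟩

omit [Fact p.Prime] [Finite G] in
theorem M_ne_top : c.M ≠ ⊤ := by
  intro htop
  have hn : (c.P : Subgroup G).Normal := Subgroup.normalizer_eq_top_iff.mp htop
  have := c.simple
  rcases this.eq_bot_or_eq_top_of_normal _ hn with h1 | h1
  · exact c.P_ne h1
  · obtain ⟨x, -, u, hu, h⟩ := c.act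
    have hx : x ∈ (c.P : Subgroup G) := by rw [h1]; exact Subgroup.mem_top x
    exact h (c.P_comm x hx u hu)

omit [Finite G] in
theorem mem_P_of_mem_M {x : G} (hx : x ∈ c.M) (ho : ∃ k : ℕ, orderOf x = p ^ k) :
    x ∈ (c.P : Subgroup G) :=
  Cfsg.Agent.Helper20.mem_sylow_of_mem_normalizer_of_orderOf_csa c.P hx ho

end Cfg

end Cfsg.Agent.Helper20.CS
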