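import Mathlib
import Cfsg.Agent.Lib.Helper20.CSDefs
import Cfsg.Agent.Lib.Helper20.CSFACTS1
import Cfsg.Agent.Lib.Helper20.CSB0

set_option autoImplicit false

/-!
# S4016, piece FACTS2: `M = N_G(P)` is maximal and self-normalizing, `P` is TI, `C_G(u) ≤ M`,
fixed-point-freeness
-/

universe u

namespace Cfsg.Agent.Helper20.CS

open Subgroup

variable {p : ℕ} [Fact p.Prime] {G : Type u} [Group G] [Finite G]

namespace Cfg

variable (c : Cfg p G)

theorem max (H : Subgroup G) (hMH : c.M ≤ H) (hH : H ≠ ⊤) : H = c.M := by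
  have hact : ¬ normalizer ((c.P : Subgroup G) : Set G) ≤
      centralizer ((c.P : Subgroup G) : Set G) := by
    intro hle
    obtain ⟨x, hx, u, hu, hxu⟩ := c.act
    have h1 : x ∈ centralizer ((c.P : Subgroup G) : Set G) := hle (c.L_le_M hx)
    rw [mem_centralizer_iff] at h1
    exact hxu (h1 u hu).symm
  exact eq_normalizer_of_ge c.hyp c.sub c.P hact H hMH hH

theorem conj_mem_M_iff (g : G) : (∀ x : G, x ∈ c.M → g * x * g⁻¹ ∈ c.M) ↔ g ∈ c.M := by
  constructor
  · intro hg
    have hPP : ∀ h : G, h ∈ (c.P : Subgroup G) → g * h * g⁻¹ ∈ (c.P : Subgroup G) := by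
      intro h hh
      apply c.mem_P_of_mem_M (hg h (c.P_le_M hh))
      have h1 : orderOf (g * h * g⁻¹) = orderOf h := by
        have := orderOf_injective (MulAut.conj g).toMonoidHom (MulAut.conj g).injective h
        simpa [MulAut.conj_apply] using this
      rw [h1]
      exact Cfsg.Agent.Helper20.exists_orderOf_eq_of_mem_isPGroup c.P.isPGroup' hh
    let f : ↥(c.P : Subgroup G) → ↥(c.P : Subgroup G) := fun h => ⟨g * h * g⁻¹, hPP h h.2⟩
    have hinj : Function.Injective f := by
      intro a b hab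
      have h1 : g * (a : G) * g⁻¹ = g * (b : G) * g⁻¹ := congrArg Subtype.val hab
      have h2 : (a : G) = b := by
        have := congrArg (fun t => g⁻¹ * t * g) h1
        simpa [mul_assoc] using this
      exact Subtype.ext h2
    have hsurj : Function.Surjective f := Finite.injective_iff_surjective.mp hinj
    show g ∈ normalizer ((c.P : Subgroup G) : Set G)
    rw [mem_normalizer_iff]
    intro h
    constructor
    · exact hPP h
    · intro hh
      obtain ⟨a, ha⟩ := hsurj ⟨g * h * g⁻¹, hh⟩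
      have h1 : g * (a : G) * g⁻¹ = g * h * g⁻¹ := congrArg Subtype.val ha
      have h2 : (a : G) = h := by
        have := congrArg (fun t => g⁻¹ * t * g) h1
        simpa [mul_assoc] using this
      rw [← h2]
      exact a.2
  · intro hg x hx
    exact mul_mem (mul_mem hg hx) (inv_mem hg)

theorem normalizer_M : normalizer (c.M : Set G) = c.M := by
  apply le_antisymm
  · intro g hg
    rw [← c.conj_mem_M_iff]
    intro x hx
    exact (mem_normalizer_iff.mp hg x).mp hx
  · exact le_normalizer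

omit [Fact p.Prime] [Finite G] in
/-- conjugating the normalizer of `zpowers u` -/
theorem facts2_conj_normalizer (g u x : G) (hx : x ∈ normalizer ((zpowers u : Subgroup G) : Set G)) :
    g * x * g⁻¹ ∈ normalizer ((zpowers (g * u * g⁻¹) : Subgroup G) : Set G) := by
  have h1 : zpowers (g * u * g⁻¹) = (zpowers u).map (MulAut.conj g).toMonoidHom := by
    rw [MonoidHom.map_zpowers]
    rfl
  rw [h1]
  have h2 := Subgroup.map_equiv_normalizer_eq (zpowers u) (MulAut.conj g)
  have h3 : g * x * g⁻¹ ∈ (normalizer ((zpowers u : Subgroup G) : Set G)).map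
      (MulAut.conj g).toMonoidHom := ⟨x, hx, rfl⟩
  rw [h2] at h3
  exact h3

theorem ti {g : G} (hg : g ∉ c.M) {u : G} (hu : u ∈ (c.P : Subgroup G))
    (hu' : g * u * g⁻¹ ∈ (c.P : Subgroup G)) : u = 1 := by
  by_contra hne
  apply hg
  rw [← c.conj_mem_M_iff]
  intro x hx
  have h1 : normalizer ((zpowers u : Subgroup G) : Set G) = c.M :=
    c.norm_eq (zpowers u) (zpowers_le.mpr hu) (by rwa [Ne, zpowers_eq_bot])
  have hne' : g * u * g⁻¹ ≠ 1 := by
    intro h
    apply hne
    have := congrArg (fun t => g⁻¹ * t * g) h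
    simpa [mul_assoc] using this
  have h2 : normalizer ((zpowers (g * u * g⁻¹) : Subgroup G) : Set G) = c.M :=
    c.norm_eq (zpowers (g * u * g⁻¹)) (zpowers_le.mpr hu') (by rwa [Ne, zpowers_eq_bot])
  rw [← h2]
  apply facts2_conj_normalizer
  rw [h1]
  exact hx

omit [Fact p.Prime] [Finite G] in
theorem centralizer_le {u : G} (hu : u ∈ (c.P : Subgroup G)) (hu1 : u ≠ 1) :
    centralizer ({u} : Set G) ≤ c.M := by
  intro x hx
  have h1 : normalizer ((zpowers u : Subgroup G) : Set G) = c.M :=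
    c.norm_eq (zpowers u) (zpowers_le.mpr hu) (by rwa [Ne, zpowers_eq_bot])
  rw [← h1, mem_normalizer_iff]
  intro h
  have hxu : u * x = x * u := mem_centralizer_iff.mp hx u (Set.mem_singleton u)
  have hcomm : Commute x u := hxu.symm
  have key : ∀ h : G, h ∈ zpowers u → x * h * x⁻¹ = h := by
    intro h hh
    obtain ⟨k, rfl⟩ := mem_zpowers_iff.mp hh
    have : Commute x (u ^ k) := hcomm.zpow_right k
    rw [this.eq, mul_assoc, mul_inv_cancel, mul_one]
  constructor
  · intro hh
    rw [key h hh]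
    exact hh
  · intro hh
    have key' : ∀ h : G, h ∈ zpowers u → x⁻¹ * h * x = h := by
      intro h hh
      obtain ⟨k, rfl⟩ := mem_zpowers_iff.mp hh
      have : Commute x⁻¹ (u ^ k) := (hcomm.zpow_right k).inv_left
      rw [this.eq, mul_assoc, inv_mul_cancel, mul_one]
    have h2 := key' _ hh
    have h3 : x⁻¹ * (x * h * x⁻¹) * x = h := by group
    rw [h3] at h2
    rw [h2]
    exact hh

theorem fpf {x : G} (hx : x ∈ c.M) {u : G} (hu : u ∈ (c.P : Subgroup G)) (hu1 : u ≠ 1)
    (hxu : x * u = u * x) : ∀ v ∈ (c.P : Subgroup G), x * v = v * x :=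
  Cfsg.Agent.Helper20.commute_of_normalizes_cyclic_sylow c.P (c.hyp.1 c.P) hx hu hu1 hxu

omit [Fact p.Prime] [Finite G] in
theorem mem_L0_iff (x : G) :
    x ∈ c.L0 ↔ x ∈ c.L ∧ ∀ v ∈ (c.P : Subgroup G), x * v = v * x := by
  unfold Cfg.L0
  rw [Subgroup.mem_inf, mem_centralizer_iff]
  constructor
  · rintro ⟨h1, h2⟩
    exact ⟨h1, fun v hv => (h2 v hv).symm⟩
  · rintro ⟨h1, h2⟩
    exact ⟨h1, fun v hv => (h2 v hv).symm⟩

end Cfg

end Cfsg.Agent.Helper20.CS
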