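import Mathlib
import Cfsg.Prelude.Def_Characters
import Cfsg.Agent.Lib.Helper24.CharComplete
import Cfsg.Agent.Lib.Helper24.CharLinear
import Cfsg.Agent.Lib.Helper5.CharCenter

/-!
# Central characters and the commutator subgroup (helper20)

For an irreducible character `χ` of a finite group and a central element `z` lying in the
commutator subgroup, `χ z = χ 1 * c` with `c ^ χ 1 = 1` (determinant argument).
-/

set_option autoImplicit false

namespace Cfsg.Agent.Helper20

open Cfsg Cfsg.Agent.Helper24

universe u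

open scoped ComplexConjugate

/-- determinant argument: a central element of the commutator subgroup acts on an irreducible
representation of degree `n` by a scalar `c` with `c ^ n = 1`. -/
theorem central_commutator_char {G : Type u} [Group G] [Finite G] {χ : G → ℂ} (hχ : IsIrrCharacter G χ)
    {z : G} (hz : z ∈ Subgroup.center G) (hz' : z ∈ commutator G) :
    ∃ (n : ℕ) (c : ℂ), 0 < n ∧ χ 1 = n ∧ χ z = n * c ∧ c ^ n = 1 := by
  classical
  letI : Fintype G := Fintype.ofFinite G
  obtain ⟨n, ρ, hρ, rfl⟩ := hχ
  have hcomm : ∀ h : G, ρ z ∘ₗ ρ h = ρ h ∘ₗ ρ z := by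
    intro h
    have h1 : z * h = h * z := (Subgroup.mem_center_iff.mp hz h).symm
    have h2 : ρ (z * h) = ρ (h * z) := by rw [h1]
    rw [map_mul, map_mul] at h2
    exact h2
  obtain ⟨c, hc⟩ := exists_scalar_of_comm ρ hρ (ρ z) hcomm
  have hfr : Module.finrank ℂ (Fin n → ℂ) = n := by simp
  have hnpos : 0 < n := by
    rw [isIrreducible_iff] at hρ
    obtain ⟨hnt, -⟩ := hρ
    have : 0 < Module.finrank ℂ (Fin n → ℂ) := Module.finrank_pos
    rwa [hfr] at this
  refine ⟨n, c, hnpos, ?_, ?_, ?_⟩
  · rw [Representation.char_one, hfr]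
  · show LinearMap.trace ℂ (Fin n → ℂ) (ρ z) = n * c
    rw [hc, map_smul, LinearMap.trace_one, hfr, smul_eq_mul, mul_comm]
  · -- the determinant is a homomorphism to a commutative group
    let d : G →* ℂˣ := MonoidHom.toHomUnits ((LinearMap.det : Module.End ℂ (Fin n → ℂ) →* ℂ).comp ρ)
    have h1 : z ∈ d.ker := Abelianization.commutator_subset_ker d hz'
    rw [MonoidHom.mem_ker] at h1
    have h2 : ((d z : ℂˣ) : ℂ) = LinearMap.det (ρ z) := rfl
    rw [h1, hc, LinearMap.det_smul, hfr, map_one, mul_one] at h2
    exact h2.symm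

end Cfsg.Agent.Helper20
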