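import Mathlib
import Cfsg.Prelude.Def_Characters
import Cfsg.Agent.Lib.Helper24.CharComplete
import Cfsg.Agent.Lib.Helper24.CharLinear
import Cfsg.Agent.Lib.Helper5.CharCenter
import Cfsg.Agent.Lib.Helper20.SchurExp1

/-!
# Sum of squares of degrees of the characters over a fixed central character (helper20)
-/

set_option autoImplicit false

namespace Cfsg.Agent.Helper20

open Cfsg Cfsg.Agent.Helper24 Cfsg.Agent.Helper5

universe u

open scoped ComplexConjugate

section

variable {G : Type u} [Group G] [Fintype G] (Z : Subgroup G) [Fintype Z]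

/-- `χ` lies over the linear character `lam` of the (central) subgroup `Z` -/
def LiesOver (lam : Z →* ℂˣ) (χ : G → ℂ) : Prop :=
  ∀ z : Z, χ z = χ 1 * ((lam z : ℂˣ) : ℂ)

theorem classInner_restrict_central [Z.Normal] (hZ : Z ≤ Subgroup.center G) (lam : Z →* ℂˣ)
    {χ : G → ℂ} (hχ : IsIrrCharacter G χ) [Decidable (LiesOver Z lam χ)] :
    classInner (fun z : Z => χ z) (fun z : Z => ((lam z : ℂˣ) : ℂ)) =
      if LiesOver Z lam χ then χ 1 else 0 := by
  obtain ⟨φ, hφ, hφ1, he⟩ := restrict_central_eq Z hZ hχ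
  have hlam : IsIrrCharacter Z (fun z : Z => ((lam z : ℂˣ) : ℂ)) := isIrrCharacter_of_monoidHom lam
  obtain ⟨n, hn, hn1⟩ := irr_one_eq hχ
  have hne : χ 1 ≠ 0 := by
    rw [hn1]
    exact_mod_cast hn.ne'
  rw [he, classInner_smul_left, irr_orthogonality hφ hlam]
  by_cases h : φ = (fun z : Z => ((lam z : ℂˣ) : ℂ))
  · have hL : LiesOver Z lam χ := by
      intro z
      have := congrFun he z
      simp only [Pi.smul_apply, smul_eq_mul] at this
      rw [this, h]
    rw [if_pos h, if_pos hL, mul_one]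
  · have hL : ¬ LiesOver Z lam χ := by
      intro hL
      apply h
      funext z
      have h1 := congrFun he z
      simp only [Pi.smul_apply, smul_eq_mul] at h1
      have h2 := hL z
      rw [h1] at h2
      exact mul_left_cancel₀ hne h2
    rw [if_neg h, if_neg hL, mul_zero]

variable [Fintype (IrrCharacter G)]

theorem sum_conj_mul_classInner (lam : Z →* ℂˣ) :
    ∑ χ : IrrCharacter G, conj ((χ : G → ℂ) 1) *
        classInner (fun z : Z => (χ : G → ℂ) z) (fun z : Z => ((lam z : ℂˣ) : ℂ)) =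
      (Nat.card Z : ℂ)⁻¹ * (Nat.card G : ℂ) := by
  classical
  unfold classInner
  have h1 : ∀ χ : IrrCharacter G, conj ((χ : G → ℂ) 1) *
      ((Nat.card Z : ℂ)⁻¹ * ∑ z : Z, (χ : G → ℂ) z * conj (((lam z : ℂˣ) : ℂ))) =
      (Nat.card Z : ℂ)⁻¹ * ∑ z : Z, conj (((lam z : ℂˣ) : ℂ)) *
        ((χ : G → ℂ) z * conj ((χ : G → ℂ) 1)) := by
    intro χ
    rw [mul_left_comm, Finset.mul_sum]
    congr 1
    refine Finset.sum_congr rfl fun z _ => ?_
    ring
  simp only [h1]
  rw [← Finset.mul_sum, Finset.sum_comm]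
  congr 1
  simp only [← Finset.mul_sum, second_orthogonality]
  rw [Finset.sum_eq_single (1 : Z)]
  · rw [map_one, Units.val_one, map_one, one_mul]
    congr 1
    apply Nat.card_congr
    refine ⟨fun y => y.1, fun g => ⟨g, ?_⟩, ?_, ?_⟩
    · rw [mul_one, mul_inv_cancel]
      rfl
    · intro y
      rfl
    · intro g
      rfl
  · intro z _ hz
    have hempty : IsEmpty {y : G // y * 1 * y⁻¹ = (z : G)} := by
      constructor
      rintro ⟨y, hy⟩
      apply hz
      apply Subtype.ext
      rw [mul_one, mul_inv_cancel] at hy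
      exact hy.symm
    rw [Nat.card_of_isEmpty, Nat.cast_zero, mul_zero]
  · intro h
    exact absurd (Finset.mem_univ _) h

/-- the squares of the degrees of the irreducible characters lying over a fixed linear character
of a central subgroup `Z` sum to `|G : Z|` -/
theorem card_mul_sum_sq_liesOver [Z.Normal] (hZ : Z ≤ Subgroup.center G) (lam : Z →* ℂˣ)
    [DecidablePred (LiesOver (G := G) Z lam)] :
    Nat.card Z * ∑ χ : IrrCharacter G,
        (if LiesOver Z lam (χ : G → ℂ) then charDegree (χ : G → ℂ) ^ 2 else 0) = Nat.card G := by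
  have h1 := sum_conj_mul_classInner Z lam
  have h2 : ∀ χ : IrrCharacter G, conj ((χ : G → ℂ) 1) *
      classInner (fun z : Z => (χ : G → ℂ) z) (fun z : Z => ((lam z : ℂˣ) : ℂ)) =
      (((if LiesOver Z lam (χ : G → ℂ) then charDegree (χ : G → ℂ) ^ 2 else 0 : ℕ)) : ℂ) := by
    intro χ
    rw [classInner_restrict_central Z hZ lam χ.2, irr_one_eq_charDegree χ.2, Complex.conj_natCast]
    split_ifs
    · push_cast
      ring
    · simp
  simp only [h2] at h1
  rw [← Nat.cast_sum] at h1
  have hZ0 : (Nat.card Z : ℂ) ≠ 0 := by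
    rw [Nat.cast_ne_zero]
    exact Nat.card_pos.ne'
  have h3 : ((Nat.card Z * ∑ χ : IrrCharacter G,
        (if LiesOver Z lam (χ : G → ℂ) then charDegree (χ : G → ℂ) ^ 2 else 0) : ℕ) : ℂ) =
      ((Nat.card G : ℕ) : ℂ) := by
    rw [Nat.cast_mul, h1, ← mul_assoc, mul_inv_cancel₀ hZ0, one_mul]
  exact_mod_cast h3

/-- if `d` divides the degree of every irreducible character lying over `lam`, then
`d ^ 2` divides `|G : Z|` -/
theorem sq_dvd_of_forall_liesOver [Z.Normal] (hZ : Z ≤ Subgroup.center G) (lam : Z →* ℂˣ)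
    (d : ℕ) (hd : ∀ χ : G → ℂ, IsIrrCharacter G χ → LiesOver Z lam χ → d ∣ charDegree χ) :
    ∃ m : ℕ, Nat.card G = Nat.card Z * (d ^ 2 * m) := by
  classical
  have h1 := card_mul_sum_sq_liesOver Z hZ lam
  have h2 : d ^ 2 ∣ ∑ χ : IrrCharacter G,
        (if LiesOver Z lam (χ : G → ℂ) then charDegree (χ : G → ℂ) ^ 2 else 0) := by
    apply Finset.dvd_sum
    intro χ _
    split_ifs with h
    · exact pow_dvd_pow_of_dvd (hd _ χ.2 h) 2
    · exact dvd_zero _
  obtain ⟨m, hm⟩ := h2
  exact ⟨m, by rw [← hm, h1]⟩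

end

end Cfsg.Agent.Helper20
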