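import Mathlib
import Cfsg.Prelude.Def_Characters
import Cfsg.Agent.Lib.Helper20.SchurExp1
import Cfsg.Agent.Lib.Helper20.SchurExp2

/-!
# `exp(Z)^2` divides `|G : Z|` for `Z ≤ Z(G) ∩ G'` (helper20)
-/

set_option autoImplicit false

namespace Cfsg.Agent.Helper20

open Cfsg Cfsg.Agent.Helper24 Cfsg.Agent.Helper5

universe u v

open scoped ComplexConjugate

/-- prime power part: if `A ≃ Z ≤ Z(G) ∩ G'` has an element of order `p ^ k`, then
`p ^ (2k)` divides `|G : Z|` -/
theorem prime_pow_sq_dvd_index {G : Type u} [Group G] [Finite G] (Z : Subgroup G)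
    (hZ : Z ≤ Subgroup.center G) (hZ' : Z ≤ commutator G) {A : Type v} [CommGroup A]
    (e : Z ≃* A) {p k : ℕ} (hp : p.Prime) (a : A) (ha : orderOf a = p ^ k) :
    (p ^ k) ^ 2 ∣ Z.index := by
  classical
  letI : Fintype G := Fintype.ofFinite G
  letI : Fintype Z := Fintype.ofFinite Z
  letI : Fintype (IrrCharacter G) := irrFintype
  haveI : Finite A := Finite.of_equiv Z e.toEquiv
  haveI hZn : Z.Normal := ⟨fun z hz g => by
    have h1 := Subgroup.mem_center_iff.mp (hZ hz) g
    rw [h1, mul_inv_cancel_right]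
    exact hz⟩
  rcases Nat.eq_zero_or_pos k with hk | hk
  · rw [hk, pow_zero, one_pow]
    exact one_dvd _
  -- the element of order `p`
  set b : A := a ^ p ^ (k - 1) with hb
  have hb1 : b ≠ 1 := by
    intro h
    have h1 : orderOf a ∣ p ^ (k - 1) := orderOf_dvd_of_pow_eq_one h
    rw [ha] at h1
    have h2 := (Nat.pow_dvd_pow_iff_le_right hp.one_lt).mp h1
    omega
  haveI : NeZero ((Monoid.exponent A : ℕ) : ℂ) :=
    ⟨by exact_mod_cast Monoid.exponent_ne_zero_of_finite⟩
  obtain ⟨μ, hμ⟩ := CommGroup.exists_apply_ne_one_of_hasEnoughRootsOfUnity A ℂ hb1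
  let lam : Z →* ℂˣ := μ.comp e.toMonoidHom
  have key : ∀ χ : G → ℂ, IsIrrCharacter G χ → LiesOver Z lam χ → p ^ k ∣ charDegree χ := by
    intro χ hχ hL
    set z : Z := e.symm a with hz
    obtain ⟨n, c, hn, hn1, hnz, hcn⟩ := central_commutator_char hχ (hZ z.2) (hZ' z.2)
    have h1 := hL z
    rw [hn1, hnz] at h1
    have hn0 : (n : ℂ) ≠ 0 := by exact_mod_cast hn.ne'
    have h2 : c = ((lam z : ℂˣ) : ℂ) := mul_left_cancel₀ hn0 h1
    have h3 : lam z = μ a := by
      show μ (e (e.symm a)) = μ a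
      rw [MulEquiv.apply_symm_apply]
    rw [h2, h3] at hcn
    have h4 : (μ a) ^ n = 1 := by
      apply Units.ext
      rw [Units.val_pow_eq_pow_val, hcn, Units.val_one]
    have h5 : orderOf (μ a) ∣ n := orderOf_dvd_of_pow_eq_one h4
    have h6 : orderOf (μ a) ∣ p ^ k := by
      apply orderOf_dvd_of_pow_eq_one
      rw [← map_pow, ← ha, pow_orderOf_eq_one, map_one]
    obtain ⟨j, hj, hj2⟩ := (Nat.dvd_prime_pow hp).mp h6
    have hjk : j = k := by
      by_contra hne
      have hlt : j ≤ k - 1 := by omega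
      apply hμ
      rw [hb, map_pow]
      apply orderOf_dvd_iff_pow_eq_one.mp
      rw [hj2]
      exact pow_dvd_pow p hlt
    rw [charDegree_natCast n hn1, ← hjk, ← hj2]
    exact h5
  obtain ⟨m, hm⟩ := sq_dvd_of_forall_liesOver Z hZ lam (p ^ k) key
  have h1 := Z.card_mul_index
  rw [hm] at h1
  have h2 : Z.index = (p ^ k) ^ 2 * m := Nat.eq_of_mul_eq_mul_left Nat.card_pos h1
  exact ⟨m, h2⟩

/-- **Schur**: if `Z ≤ Z(G) ∩ G'` then `exp(Z)^2` divides `|G : Z|`. -/
theorem exponent_sq_dvd_index {G : Type u} [Group G] [Finite G] (Z : Subgroup G)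
    (hZ : Z ≤ Subgroup.center G) (hZ' : Z ≤ commutator G) {A : Type v} [CommGroup A]
    (e : Z ≃* A) : Monoid.exponent A ^ 2 ∣ Z.index := by
  haveI : Finite A := Finite.of_equiv Z e.toEquiv
  have he0 : Monoid.exponent A ≠ 0 := Monoid.exponent_ne_zero_of_finite
  have hi0 : Z.index ≠ 0 := Subgroup.index_ne_zero_of_finite
  rw [← Nat.factorization_prime_le_iff_dvd (pow_ne_zero 2 he0) hi0]
  intro p hp
  obtain ⟨a, ha⟩ := hp.exists_orderOf_eq_pow_factorization_exponent A
  have h1 := prime_pow_sq_dvd_index Z hZ hZ' e hp a ha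
  rw [← pow_mul] at h1
  have h2 := (hp.pow_dvd_iff_le_factorization hi0).mp h1
  rw [Nat.factorization_pow]
  simpa [mul_comm] using h2

end Cfsg.Agent.Helper20
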