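import Mathlib
import Cfsg.Agent.Lib.Helper18.WCAbsDefs

/-!
# S2244, piece WC-ELIMSTEP: one step of the torus elimination (`elim_step`)
-/

set_option autoImplicit false
set_option linter.unusedSectionVars false
set_option linter.unusedVariables false

namespace Cfsg.Agent.Helper18.WC

open scoped commutatorElement

/-- product decomposition of `H ⊔ N` when `H` normalizes `N` -/
theorem wc_elimstep_sup {G : Type*} [Group G] (H N : Subgroup G)
    (hn : ∀ h ∈ H, ∀ n ∈ N, h * n * h⁻¹ ∈ N) :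
    ∀ g ∈ H ⊔ N, ∃ h ∈ H, ∃ n ∈ N, g = h * n := by
  have hn' : ∀ h ∈ H, ∀ n ∈ N, h⁻¹ * n * h ∈ N := by
    intro h hh n hnn
    have := hn h⁻¹ (H.inv_mem hh) n hnn
    simpa using this
  let P : Subgroup G :=
    { carrier := {g | ∃ h ∈ H, ∃ n ∈ N, g = h * n}
      one_mem' := ⟨1, H.one_mem, 1, N.one_mem, by simp⟩
      mul_mem' := by
        rintro _ _ ⟨h1, hh1, n1, hn1, rfl⟩ ⟨h2, hh2, n2, hn2, rfl⟩
        refine ⟨h1 * h2, H.mul_mem hh1 hh2, (h2⁻¹ * n1 * h2) * n2,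
          N.mul_mem (hn' h2 hh2 n1 hn1) hn2, ?_⟩
        group
      inv_mem' := by
        rintro _ ⟨h1, hh1, n1, hn1, rfl⟩
        refine ⟨h1⁻¹, H.inv_mem hh1, h1 * n1⁻¹ * h1⁻¹, hn h1 hh1 _ (N.inv_mem hn1), ?_⟩
        group }
  have hle : H ⊔ N ≤ P := by
    refine sup_le ?_ ?_
    · intro h hh; exact ⟨h, hh, 1, N.one_mem, by simp⟩
    · intro n hnn; exact ⟨1, H.one_mem, n, hnn, by simp⟩
  intro g hg
  exact hle hg

/-- an additive subgroup of a finite field, nonzero and stable under multiplication by nonzero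
squares, is everything -/
theorem wc_elimstep_sq {F : Type*} [Field F] [Finite F] (A : AddSubgroup F)
    (hA : ∃ a ∈ A, a ≠ 0) (hsq : ∀ l : F, l ≠ 0 → ∀ a ∈ A, l ^ 2 * a ∈ A) : ∀ t : F, t ∈ A := by
  obtain ⟨a, haA, ha0⟩ := hA
  have hsq' : ∀ l : F, l ^ 2 * a ∈ A := by
    intro l
    by_cases hl : l = 0
    · subst hl; simp
    · exact hsq l hl a haA
  have key : ∀ s : F, s * a ∈ A := by
    intro s
    by_cases h2 : ringChar F = 2
    · obtain ⟨r, hr⟩ := FiniteField.isSquare_of_char_two h2 s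
      have := hsq' r
      rwa [pow_two, ← hr] at this
    · have h20 : (2 : F) ≠ 0 := Ring.two_ne_zero h2
      have e : s * a = ((s + 1) / 2) ^ 2 * a - ((s - 1) / 2) ^ 2 * a := by
        field_simp
        ring
      rw [e]
      exact A.sub_mem (hsq' _) (hsq' _)
  intro t
  have := key (t / a)
  rwa [div_mul_cancel₀ t ha0] at this

section Abs

variable {G ι τ F : Type*} [Group G] [Field F] [Finite F] [DecidableEq ι]
  (U X M M' : Subgroup G) (K : Finset ι) (x : ι → F → G) (tor : τ → G) (χ : ι → τ → F)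

theorem wc_elimstep_x_zero (hxadd : ∀ a ∈ K, ∀ s t, x a (s + t) = x a s * x a t)
    (a : ι) (ha : a ∈ K) : x a 0 = 1 := by
  have h1 := hxadd a ha 0 0
  rw [add_zero] at h1
  have h2 : x a 0 * x a 0 = x a 0 * 1 := by rw [mul_one]; exact h1.symm
  exact mul_left_cancel h2

theorem wc_elimstep_x_neg (hxadd : ∀ a ∈ K, ∀ s t, x a (s + t) = x a s * x a t)
    (a : ι) (ha : a ∈ K) (t : F) : x a (-t) = (x a t)⁻¹ := by
  have h1 := hxadd a ha t (-t)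
  rw [add_neg_cancel, wc_elimstep_x_zero K x hxadd a ha] at h1
  exact eq_inv_of_mul_eq_one_right h1.symm

theorem wc_elimstep_M'_le (T : Finset ι) : M' ≤ ES M' x T := by
  unfold ES
  exact le_sup_right

theorem wc_elimstep_gen_mem (T : Finset ι) (c : ι) (hc : c ∈ T) (t : F) : x c t ∈ ES M' x T := by
  unfold ES
  exact (le_sup_left : _ ≤ _ ⊔ M') (Subgroup.subset_closure ⟨c, hc, t, rfl⟩)

theorem wc_elimstep_ES_le (hM'M : M' ≤ M) (hxM : ∀ a ∈ K, ∀ t, x a t ∈ M)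
    (T : Finset ι) (hT : T ⊆ K) : ES M' x T ≤ M := by
  unfold ES
  refine sup_le ?_ hM'M
  rw [Subgroup.closure_le]
  rintro g ⟨b, hb, t, rfl⟩
  exact hxM b (hT hb) t

theorem wc_elimstep_ES_le_of (T : Finset ι) (E : Subgroup G) (h1 : M' ≤ E)
    (h2 : ∀ c ∈ T, ∀ t, x c t ∈ E) : ES M' x T ≤ E := by
  unfold ES
  refine sup_le ?_ h1
  rw [Subgroup.closure_le]
  rintro g ⟨b, hb, t, rfl⟩
  exact h2 b hb t

theorem wc_elimstep_ES_norm (hMU : M ≤ U) (hM'M : M' ≤ M)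
    (hcomm : ∀ u ∈ U, ∀ y ∈ M, ⁅u, y⁆ ∈ M')
    (hxM : ∀ a ∈ K, ∀ t, x a t ∈ M) (T : Finset ι) (hT : T ⊆ K) :
    ∀ u ∈ U, ∀ e ∈ ES M' x T, u * e * u⁻¹ ∈ ES M' x T := by
  intro u hu e he
  have heM : e ∈ M := wc_elimstep_ES_le M M' K x hM'M hxM T hT he
  have h1 : ⁅u, e⁆ ∈ M' := hcomm u hu e heM
  have h2 : u * e * u⁻¹ = ⁅u, e⁆ * e := by rw [commutatorElement_def]; group
  rw [h2]
  exact (ES M' x T).mul_mem (wc_elimstep_M'_le M' x T h1) he

theorem wc_elimstep_ES_tor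
    (hTM' : ∀ h, ∀ y ∈ M', tor h * y * (tor h)⁻¹ ∈ M')
    (hTx : ∀ h, ∀ a ∈ K, ∀ t, tor h * x a t * (tor h)⁻¹ = x a (χ a h * t))
    (T : Finset ι) (hT : T ⊆ K) (h : τ) :
    ∀ e ∈ ES M' x T, tor h * e * (tor h)⁻¹ ∈ ES M' x T := by
  have hle : ES M' x T ≤ (ES M' x T).comap (MulAut.conj (tor h)).toMonoidHom := by
    apply wc_elimstep_ES_le_of
    · intro m hm
      rw [Subgroup.mem_comap]
      change (MulAut.conj (tor h)) m ∈ _
      rw [MulAut.conj_apply]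
      exact wc_elimstep_M'_le M' x T (hTM' h m hm)
    · intro c hc t
      rw [Subgroup.mem_comap]
      change (MulAut.conj (tor h)) (x c t) ∈ _
      rw [MulAut.conj_apply, hTx h c (hT hc) t]
      exact wc_elimstep_gen_mem M' x T c hc _
  intro e he
  have := hle he
  rw [Subgroup.mem_comap] at this
  change (MulAut.conj (tor h)) e ∈ _ at this
  rwa [MulAut.conj_apply] at this

theorem wc_elimstep_sup_tor
    (hTX : ∀ h, ∀ y ∈ X, tor h * y * (tor h)⁻¹ ∈ X)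
    (hTM' : ∀ h, ∀ y ∈ M', tor h * y * (tor h)⁻¹ ∈ M')
    (hTx : ∀ h, ∀ a ∈ K, ∀ t, tor h * x a t * (tor h)⁻¹ = x a (χ a h * t))
    (T : Finset ι) (hT : T ⊆ K) (h : τ) :
    ∀ e ∈ X ⊔ ES M' x T, tor h * e * (tor h)⁻¹ ∈ X ⊔ ES M' x T := by
  have hle : X ⊔ ES M' x T ≤ (X ⊔ ES M' x T).comap (MulAut.conj (tor h)).toMonoidHom := by
    refine sup_le ?_ ?_
    · intro y hy
      rw [Subgroup.mem_comap]
      change (MulAut.conj (tor h)) y ∈ _
      rw [MulAut.conj_apply]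
      exact (le_sup_left : X ≤ X ⊔ ES M' x T) (hTX h y hy)
    · intro e he
      rw [Subgroup.mem_comap]
      change (MulAut.conj (tor h)) e ∈ _
      rw [MulAut.conj_apply]
      exact (le_sup_right : ES M' x T ≤ X ⊔ ES M' x T)
        (wc_elimstep_ES_tor M' K x tor χ hTM' hTx T hT h e he)
  intro e he
  have := hle he
  rw [Subgroup.mem_comap] at this
  change (MulAut.conj (tor h)) e ∈ _ at this
  rwa [MulAut.conj_apply] at this

/-- splitting off the `b`-component of an element of `E_S` -/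
theorem wc_elimstep_split (hMU : M ≤ U) (hM'M : M' ≤ M)
    (hcomm : ∀ u ∈ U, ∀ y ∈ M, ⁅u, y⁆ ∈ M')
    (hxadd : ∀ a ∈ K, ∀ s t, x a (s + t) = x a s * x a t)
    (hxM : ∀ a ∈ K, ∀ t, x a t ∈ M)
    (S : Finset ι) (hSK : S ⊆ K) (b : ι) (hb : b ∈ S) :
    ∀ e ∈ ES M' x S, ∃ u, ∃ e' ∈ ES M' x (S.erase b), e = x b u * e' := by
  have hbK : b ∈ K := hSK hb
  have hS'K : S.erase b ⊆ K := fun c hc => hSK (Finset.mem_of_mem_erase hc)
  let B : Subgroup G :=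
    { carrier := {g | ∃ u, g = x b u}
      one_mem' := ⟨0, (wc_elimstep_x_zero K x hxadd b hbK).symm⟩
      mul_mem' := by
        rintro _ _ ⟨u1, rfl⟩ ⟨u2, rfl⟩
        exact ⟨u1 + u2, (hxadd b hbK u1 u2).symm⟩
      inv_mem' := by
        rintro _ ⟨u1, rfl⟩
        exact ⟨-u1, (wc_elimstep_x_neg K x hxadd b hbK u1).symm⟩ }
  have hBN : ∀ g ∈ B, ∀ n ∈ ES M' x (S.erase b), g * n * g⁻¹ ∈ ES M' x (S.erase b) := by
    rintro _ ⟨u, rfl⟩ n hn
    exact wc_elimstep_ES_norm U M M' K x hMU hM'M hcomm hxM (S.erase b) hS'K (x b u)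
      (hMU (hxM b hbK u)) n hn
  have hle : ES M' x S ≤ B ⊔ ES M' x (S.erase b) := by
    apply wc_elimstep_ES_le_of
    · exact (wc_elimstep_M'_le M' x (S.erase b)).trans le_sup_right
    · intro c hc t
      by_cases hcb : c = b
      · subst hcb
        exact (le_sup_left : B ≤ B ⊔ ES M' x (S.erase c)) ⟨t, rfl⟩
      · exact (le_sup_right : _ ≤ B ⊔ ES M' x (S.erase b))
          (wc_elimstep_gen_mem M' x (S.erase b) c (Finset.mem_erase.2 ⟨hcb, hc⟩) t)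
  intro e he
  obtain ⟨g, ⟨u, rfl⟩, n, hn, hgn⟩ := wc_elimstep_sup B (ES M' x (S.erase b)) hBN e (hle he)
  exact ⟨u, n, hn, hgn⟩

/-- WC-ELIMSTEP -/
theorem elim_step
    (hXM : X ≤ M) (hMU : M ≤ U) (hM'M : M' ≤ M)
    (hXn : ∀ u ∈ U, ∀ y ∈ X, u * y * u⁻¹ ∈ X)
    (hcomm : ∀ u ∈ U, ∀ y ∈ M, ⁅u, y⁆ ∈ M')
    (hxadd : ∀ a ∈ K, ∀ s t, x a (s + t) = x a s * x a t)
    (hxM : ∀ a ∈ K, ∀ t, x a t ∈ M)
    (hTX : ∀ h, ∀ y ∈ X, tor h * y * (tor h)⁻¹ ∈ X)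
    (hTM' : ∀ h, ∀ y ∈ M', tor h * y * (tor h)⁻¹ ∈ M')
    (hTx : ∀ h, ∀ a ∈ K, ∀ t, tor h * x a t * (tor h)⁻¹ = x a (χ a h * t))
    (hsq : ∀ a ∈ K, ∀ l : F, l ≠ 0 → ∃ h, χ a h = l ^ 2)
    (hsep : ∀ a ∈ K, ∀ b ∈ K, a ≠ b → ∃ h, χ b h = 1 ∧ χ a h ≠ 1)
    (a : ι) (ha : a ∈ K) (S : Finset ι) (hS : S ⊆ K.erase a) (b : ι) (hb : b ∈ S)
    (h : ∀ t, x a t ∈ X ⊔ ES M' x S) :
    ∀ t, x a t ∈ X ⊔ ES M' x (S.erase b) := by
  classical
  have hbK : b ∈ K := Finset.mem_of_mem_erase (hS hb)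
  have hba : b ≠ a := Finset.ne_of_mem_erase (hS hb)
  have hSK : S ⊆ K := fun c hc => Finset.mem_of_mem_erase (hS hc)
  have hS'K : S.erase b ⊆ K := fun c hc => hSK (Finset.mem_of_mem_erase hc)
  have hNU : ∀ u ∈ U, ∀ e ∈ ES M' x (S.erase b), u * e * u⁻¹ ∈ ES M' x (S.erase b) :=
    wc_elimstep_ES_norm U M M' K x hMU hM'M hcomm hxM (S.erase b) hS'K
  have hNtor : ∀ h, ∀ e ∈ ES M' x (S.erase b), tor h * e * (tor h)⁻¹ ∈ ES M' x (S.erase b) :=
    fun h => wc_elimstep_ES_tor M' K x tor χ hTM' hTx (S.erase b) hS'K h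
  -- decomposition of `x a 1`
  obtain ⟨y, hy, e, he, hye⟩ := wc_elimstep_sup X (ES M' x S)
    (fun u hu n hn => wc_elimstep_ES_norm U M M' K x hMU hM'M hcomm hxM S hSK u
      (hMU (hXM hu)) n hn) (x a 1) (h 1)
  obtain ⟨u, e', he', hee'⟩ :=
    wc_elimstep_split U M M' K x hMU hM'M hcomm hxadd hxM S hSK b hb e he
  obtain ⟨h0, hb1, hc⟩ := hsep a ha b hbK (Ne.symm hba)
  have hz : tor h0 * y * (tor h0)⁻¹ * y⁻¹ ∈ X := X.mul_mem (hTX h0 y hy) (X.inv_mem hy)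
  have hy' : y = x a 1 * e⁻¹ := by rw [hye]; group
  have htb : tor h0 * x b u * (tor h0)⁻¹ = x b u := by
    have := hTx h0 b hbK u
    rwa [hb1, one_mul] at this
  have hta : tor h0 * x a 1 * (tor h0)⁻¹ = x a (χ a h0) := by
    have := hTx h0 a ha 1
    rwa [mul_one] at this
  have hte : tor h0 * e * (tor h0)⁻¹ = x b u * (tor h0 * e' * (tor h0)⁻¹) := by
    rw [hee']
    calc tor h0 * (x b u * e') * (tor h0)⁻¹
        = (tor h0 * x b u * (tor h0)⁻¹) * (tor h0 * e' * (tor h0)⁻¹) := by group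
      _ = _ := by rw [htb]
  have hz2 : tor h0 * y * (tor h0)⁻¹ * y⁻¹
      = x a (χ a h0) * ((tor h0 * e' * (tor h0)⁻¹)⁻¹ * e') * (x a 1)⁻¹ := by
    have h1 : tor h0 * y * (tor h0)⁻¹ * y⁻¹
        = (tor h0 * x a 1 * (tor h0)⁻¹) * (tor h0 * e * (tor h0)⁻¹)⁻¹ * e * (x a 1)⁻¹ := by
      rw [hy']; group
    rw [h1, hta, hte]
    rw [hee']
    group
  have hn : (tor h0 * e' * (tor h0)⁻¹)⁻¹ * e' ∈ ES M' x (S.erase b) :=
    (ES M' x (S.erase b)).mul_mem ((ES M' x (S.erase b)).inv_mem (hNtor h0 e' he')) he'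
  have hn' : x a 1 * ((tor h0 * e' * (tor h0)⁻¹)⁻¹ * e') * (x a 1)⁻¹ ∈ ES M' x (S.erase b) :=
    hNU (x a 1) (hMU (hxM a ha 1)) _ hn
  have hsub : x a (χ a h0 - 1) = x a (χ a h0) * (x a 1)⁻¹ := by
    have := hxadd a ha (χ a h0 - 1) 1
    rw [sub_add_cancel] at this
    rw [this]; group
  have hmem : x a (χ a h0 - 1) ∈ X ⊔ ES M' x (S.erase b) := by
    have e1 : x a (χ a h0 - 1) = (tor h0 * y * (tor h0)⁻¹ * y⁻¹)
        * (x a 1 * ((tor h0 * e' * (tor h0)⁻¹)⁻¹ * e') * (x a 1)⁻¹)⁻¹ := by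
      rw [hz2, hsub]; group
    rw [e1]
    exact Subgroup.mul_mem _ ((le_sup_left : X ≤ X ⊔ ES M' x (S.erase b)) hz)
      (Subgroup.inv_mem _ ((le_sup_right : _ ≤ X ⊔ ES M' x (S.erase b)) hn'))
  -- the additive subgroup
  let A : AddSubgroup F :=
    { carrier := {t | x a t ∈ X ⊔ ES M' x (S.erase b)}
      zero_mem' := by
        change x a 0 ∈ X ⊔ ES M' x (S.erase b)
        rw [wc_elimstep_x_zero K x hxadd a ha]
        exact Subgroup.one_mem _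
      add_mem' := by
        intro s t hs ht
        change x a (s + t) ∈ X ⊔ ES M' x (S.erase b)
        rw [hxadd a ha s t]
        exact Subgroup.mul_mem _ hs ht
      neg_mem' := by
        intro t ht
        change x a (-t) ∈ X ⊔ ES M' x (S.erase b)
        rw [wc_elimstep_x_neg K x hxadd a ha t]
        exact Subgroup.inv_mem _ ht }
  have hAsq : ∀ l : F, l ≠ 0 → ∀ t ∈ A, l ^ 2 * t ∈ A := by
    intro l hl t ht
    obtain ⟨h1, hh1⟩ := hsq a ha l hl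
    change x a (l ^ 2 * t) ∈ X ⊔ ES M' x (S.erase b)
    rw [← hh1, ← hTx h1 a ha t]
    exact wc_elimstep_sup_tor X M' K x tor χ hTX hTM' hTx (S.erase b) hS'K h1 _ ht
  exact wc_elimstep_sq A ⟨χ a h0 - 1, hmem, sub_ne_zero.2 hc⟩ hAsq

end Abs

end Cfsg.Agent.Helper18.WC
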