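import Mathlib
import Cfsg.Agent.Lib.Helper18.WCAbsDefs
import Cfsg.Agent.Lib.Helper20.WCELIMSTEP

/-!
# S2244, piece WC-ELIMBASE: base of the torus elimination (`elim_base`)
-/

set_option autoImplicit false
set_option linter.unusedSectionVars false
set_option linter.unusedVariables false

namespace Cfsg.Agent.Helper18.WC

open scoped commutatorElement

section Abs

variable {G ι τ F : Type*} [Group G] [Field F] [Finite F] [DecidableEq ι]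
  (U X M M' : Subgroup G) (K : Finset ι) (x : ι → F → G) (tor : τ → G) (χ : ι → τ → F)

/-- one nonzero parameter in `X ⊔ E_T` gives all of them -/
theorem wc_elimbase_full
    (hxadd : ∀ a ∈ K, ∀ s t, x a (s + t) = x a s * x a t)
    (hTX : ∀ h, ∀ y ∈ X, tor h * y * (tor h)⁻¹ ∈ X)
    (hTM' : ∀ h, ∀ y ∈ M', tor h * y * (tor h)⁻¹ ∈ M')
    (hTx : ∀ h, ∀ a ∈ K, ∀ t, tor h * x a t * (tor h)⁻¹ = x a (χ a h * t))
    (hsq : ∀ a ∈ K, ∀ l : F, l ≠ 0 → ∃ h, χ a h = l ^ 2)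
    (a : ι) (ha : a ∈ K) (T : Finset ι) (hT : T ⊆ K)
    (hex : ∃ u : F, u ≠ 0 ∧ x a u ∈ X ⊔ ES M' x T) :
    ∀ t, x a t ∈ X ⊔ ES M' x T := by
  classical
  let A : AddSubgroup F :=
    { carrier := {t | x a t ∈ X ⊔ ES M' x T}
      zero_mem' := by
        change x a 0 ∈ X ⊔ ES M' x T
        rw [wc_elimstep_x_zero K x hxadd a ha]
        exact Subgroup.one_mem _
      add_mem' := by
        intro s t hs ht
        change x a (s + t) ∈ X ⊔ ES M' x T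
        rw [hxadd a ha s t]
        exact Subgroup.mul_mem _ hs ht
      neg_mem' := by
        intro t ht
        change x a (-t) ∈ X ⊔ ES M' x T
        rw [wc_elimstep_x_neg K x hxadd a ha t]
        exact Subgroup.inv_mem _ ht }
  have hAsq : ∀ l : F, l ≠ 0 → ∀ t ∈ A, l ^ 2 * t ∈ A := by
    intro l hl t ht
    obtain ⟨h1, hh1⟩ := hsq a ha l hl
    change x a (l ^ 2 * t) ∈ X ⊔ ES M' x T
    rw [← hh1, ← hTx h1 a ha t]
    exact wc_elimstep_sup_tor X M' K x tor χ hTX hTM' hTx T hT h1 _ ht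
  obtain ⟨u, hu0, hu⟩ := hex
  exact wc_elimstep_sq A ⟨u, hu, hu0⟩ hAsq

/-- WC-ELIMBASE -/
theorem elim_base
    (hXM : X ≤ M) (hMU : M ≤ U) (hM'M : M' ≤ M)
    (hXn : ∀ u ∈ U, ∀ y ∈ X, u * y * u⁻¹ ∈ X)
    (hcomm : ∀ u ∈ U, ∀ y ∈ M, ⁅u, y⁆ ∈ M')
    (hxadd : ∀ a ∈ K, ∀ s t, x a (s + t) = x a s * x a t)
    (hxM : ∀ a ∈ K, ∀ t, x a t ∈ M)
    (hgen : M ≤ ES M' x K)
    (hTX : ∀ h, ∀ y ∈ X, tor h * y * (tor h)⁻¹ ∈ X)
    (hTM' : ∀ h, ∀ y ∈ M', tor h * y * (tor h)⁻¹ ∈ M')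
    (hTx : ∀ h, ∀ a ∈ K, ∀ t, tor h * x a t * (tor h)⁻¹ = x a (χ a h * t))
    (hsq : ∀ a ∈ K, ∀ l : F, l ≠ 0 → ∃ h, χ a h = l ^ 2)
    (a : ι) (ha : a ∈ K) (hnd : ¬ X ≤ ES M' x (K.erase a)) :
    ∀ t, x a t ∈ X ⊔ ES M' x (K.erase a) := by
  classical
  have hT : K.erase a ⊆ K := Finset.erase_subset a K
  obtain ⟨y, hyX, hyE⟩ := SetLike.not_le_iff_exists.1 hnd
  have hyK : y ∈ ES M' x K := hgen (hXM hyX)
  obtain ⟨u, e', he', hye⟩ :=
    wc_elimstep_split U M M' K x hMU hM'M hcomm hxadd hxM K (Finset.Subset.refl K) a ha y hyK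
  have hu0 : u ≠ 0 := by
    rintro rfl
    rw [wc_elimstep_x_zero K x hxadd a ha, one_mul] at hye
    exact hyE (hye ▸ he')
  apply wc_elimbase_full X M' K x tor χ hxadd hTX hTM' hTx hsq a ha (K.erase a) hT
  refine ⟨u, hu0, ?_⟩
  have e1 : x a u = y * e'⁻¹ := by rw [hye]; group
  rw [e1]
  exact Subgroup.mul_mem _ ((le_sup_left : X ≤ X ⊔ ES M' x (K.erase a)) hyX)
    (Subgroup.inv_mem _ ((le_sup_right : _ ≤ X ⊔ ES M' x (K.erase a)) he'))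

end Abs

end Cfsg.Agent.Helper18.WC
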