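import Mathlib
import Cfsg.Agent.Lib.Helper20.SchDefs

/-!
# S4395, piece SCH-G0LIFT: homomorphisms out of `G0`
-/

set_option autoImplicit false

namespace Cfsg.Agent.Helper20.Sch

theorem sch_g0lift_cycHom_natCast {M : Type*} [Group M] (n : ℕ) (g : M) (hg : g ^ n = 1) (k : ℕ) :
    cycHom n g hg (Multiplicative.ofAdd ((k : ℕ) : ZMod n)) = g ^ k := by
  have := cycHom_intCast n g hg (k : ℤ)
  rwa [Int.cast_natCast, zpow_natCast] at this

theorem sch_g0lift_exists_nat (n : ℕ) [NeZero n] (g : Multiplicative (ZMod n)) :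
    ∃ k : ℕ, k < n ∧ g = Multiplicative.ofAdd ((k : ℕ) : ZMod n) :=
  ⟨(Multiplicative.toAdd g).val, ZMod.val_lt _, by
    rw [ZMod.natCast_zmod_val]; rfl⟩

section G0

variable {V C : Type*} [AddCommGroup V] [AddCommGroup C]
  (β : V →+ V →+ C) (m : V ≃+ V) (hm : ∀ x y, β (m x) (m y) = β x y)

theorem sch_g0lift_actHom_natCast (n : ℕ) (hn : Heis.aut β m hm ^ n = 1) (k : ℕ) (h : Heis β) :
    actHom β m hm n hn (Multiplicative.ofAdd ((k : ℕ) : ZMod n)) h = ⟨m^[k] h.fst, h.snd⟩ := by
  unfold actHom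
  rw [sch_g0lift_cycHom_natCast, Heis.aut_pow_apply]

theorem sch_g0lift_theta_iterate {W : Type*} [Group W] (θ : Multiplicative V →* W) (w : W)
    (hθ : ∀ x, θ (Multiplicative.ofAdd (m x)) = w * θ (Multiplicative.ofAdd x) * w⁻¹)
    (k : ℕ) (x : V) :
    θ (Multiplicative.ofAdd (m^[k] x)) = w ^ k * θ (Multiplicative.ofAdd x) * (w ^ k)⁻¹ := by
  induction k with
  | zero => simp
  | succ k ih =>
    rw [Function.iterate_succ_apply', hθ, ih, pow_succ']
    group

theorem sch_g0lift_central (n : ℕ) [NeZero n] (hn : Heis.aut β m hm ^ n = 1) (c : C) :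
    (SemidirectProduct.inl (⟨0, c⟩ : Heis β) : G0 β m hm n hn) ∈
      Subgroup.center (G0 β m hm n hn) := by
  rw [Subgroup.mem_center_iff]
  intro g
  obtain ⟨k, _, hk⟩ := sch_g0lift_exists_nat n g.right
  apply SemidirectProduct.ext
  · simp only [SemidirectProduct.mul_left, SemidirectProduct.left_inl,
      SemidirectProduct.right_inl, map_one, MulAut.one_apply]
    rw [hk, sch_g0lift_actHom_natCast]
    ext
    · simp [Function.iterate_fixed (map_zero m)]
    · simp [Function.iterate_fixed (map_zero m), add_comm]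
  · simp

end G0

section G0

variable {V C : Type*} [AddCommGroup V] [AddCommGroup C] [Finite V] [Finite C]
  (β : V →+ V →+ C) (m : V ≃+ V) (hm : ∀ x y, β (m x) (m y) = β x y)

/-- SCH-G0LIFT : homomorphisms out of `G0`. -/
theorem exists_G0_hom (n : ℕ) [NeZero n] (hn : Heis.aut β m hm ^ n = 1)
    {W : Type*} [Group W] (θ : Multiplicative V →* W) (w : W)
    (hθ : ∀ x, θ (Multiplicative.ofAdd (m x)) = w * θ (Multiplicative.ofAdd x) * w⁻¹)
    (hinj : Function.Injective θ) (how : orderOf w = n)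
    (hdisj : θ.range ⊓ Subgroup.zpowers w = ⊥) (hsup : θ.range ⊔ Subgroup.zpowers w = ⊤) :
    ∃ π : G0 β m hm n hn →* W, Function.Surjective π ∧
      π.ker ≤ Subgroup.center (G0 β m hm n hn) := by
  have hwn : w ^ n = 1 := by rw [← how]; exact pow_orderOf_eq_one w
  set fn : Heis β →* W := θ.comp (Heis.fstHom β) with hfn
  set fg : Multiplicative (ZMod n) →* W := cycHom n w hwn with hfg
  have hcompat : ∀ g : Multiplicative (ZMod n),
      fn.comp (actHom β m hm n hn g).toMonoidHom = (MulAut.conj (fg g)).toMonoidHom.comp fn := by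
    intro g
    obtain ⟨k, _, rfl⟩ := sch_g0lift_exists_nat n g
    ext h
    simp only [MonoidHom.coe_comp, MulEquiv.coe_toMonoidHom, Function.comp_apply,
      MulAut.conj_apply]
    rw [sch_g0lift_actHom_natCast, hfn, hfg, sch_g0lift_cycHom_natCast]
    simp only [MonoidHom.coe_comp, Function.comp_apply, Heis.fstHom_apply]
    exact sch_g0lift_theta_iterate m θ w hθ k h.fst
  refine ⟨SemidirectProduct.lift fn fg hcompat, ?_, ?_⟩
  · rw [← MonoidHom.range_eq_top, eq_top_iff, ← hsup]
    apply sup_le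
    · rintro _ ⟨x, rfl⟩
      refine ⟨SemidirectProduct.inl (⟨Multiplicative.toAdd x, 0⟩ : Heis β), ?_⟩
      rw [SemidirectProduct.lift_inl]
      rfl
    · rw [Subgroup.zpowers_le]
      refine ⟨SemidirectProduct.inr (Multiplicative.ofAdd (1 : ZMod n)), ?_⟩
      rw [SemidirectProduct.lift_inr, hfg, cycHom_one]
  · intro g hg
    rw [MonoidHom.mem_ker] at hg
    obtain ⟨k, hkn, hk⟩ := sch_g0lift_exists_nat n g.right
    have hg' : g = SemidirectProduct.inl g.left * SemidirectProduct.inr g.right :=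
      (SemidirectProduct.inl_left_mul_inr_right g).symm
    rw [hg', map_mul, SemidirectProduct.lift_inl, SemidirectProduct.lift_inr, hk, hfg,
      sch_g0lift_cycHom_natCast] at hg
    have h1 : fn g.left = (w ^ k)⁻¹ := eq_inv_of_mul_eq_one_left hg
    have h2 : fn g.left ∈ θ.range ⊓ Subgroup.zpowers w := by
      refine Subgroup.mem_inf.mpr ⟨⟨_, rfl⟩, ?_⟩
      rw [h1]
      exact Subgroup.inv_mem _ (Subgroup.pow_mem _ (Subgroup.mem_zpowers w) k)
    rw [hdisj, Subgroup.mem_bot] at h2
    have h3 : g.left.fst = 0 := by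
      have : θ (Multiplicative.ofAdd g.left.fst) = θ 1 := by rw [map_one]; exact h2
      have := hinj this
      exact this
    have h4 : w ^ k = 1 := by
      rw [h2] at h1
      exact inv_eq_one.mp h1.symm
    have h5 : k = 0 := by
      by_contra hk0
      have := orderOf_le_of_pow_eq_one (Nat.pos_of_ne_zero hk0) h4
      omega
    have h6 : g.right = 1 := by rw [hk, h5]; simp
    have h7 : g = SemidirectProduct.inl (⟨0, g.left.snd⟩ : Heis β) := by
      rw [hg', h6, map_one, mul_one]
      congr 1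
      ext
      · exact h3
      · rfl
    rw [h7]
    exact sch_g0lift_central β m hm n hn _

end G0

end Cfsg.Agent.Helper20.Sch
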