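import Mathlib
import Cfsg.Agent.Lib.Helper20.SylFifteen2

/-!
# Fifteen Sylow 7-subgroups: intersections (helper20)
-/

set_option autoImplicit false

namespace Cfsg.Agent.Helper20.SylFifteen

open Subgroup MulAction

universe u

variable {G : Type u} [Group G] [Finite G]

instance fact7 : Fact (Nat.Prime 7) := ⟨by norm_num⟩

omit [Finite G] in
theorem stabilizer_card (P Q : Sylow 7 G) :
    Nat.card (stabilizer ↥(P : Subgroup G) Q) = Nat.card ↥((P : Subgroup G) ⊓ Q) := by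
  refine Nat.card_congr ⟨fun y => ⟨y.1.1, y.1.2, ?_⟩, fun y => ⟨⟨y.1, y.2.1⟩, ?_⟩, ?_, ?_⟩
  · have h1 : (y.1 : ↥(P : Subgroup G)) • Q = Q := y.2
    have h2 : ((y.1 : ↥(P : Subgroup G)) : G) • Q = Q := h1
    rw [Sylow.smul_eq_iff_mem_normalizer] at h2
    have h3 : ((y.1 : ↥(P : Subgroup G)) : G) ∈ (P : Subgroup G) ⊓ normalizer (Q : Set G) :=
      ⟨y.1.2, h2⟩
    rw [P.isPGroup'.inf_normalizer_sylow Q] at h3
    exact h3.2
  · show (⟨y.1, y.2.1⟩ : ↥(P : Subgroup G)) • Q = Q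
    show (y.1 : G) • Q = Q
    rw [Sylow.smul_eq_iff_mem_normalizer]
    exact le_normalizer y.2.2
  · intro y; rfl
  · intro y; rfl

theorem inter_card (h15 : Nat.card (Sylow 7 G) = 15) (P Q : Sylow 7 G) (hPQ : P ≠ Q) :
    Nat.card ↥((P : Subgroup G) ⊓ Q) * 7 = Nat.card (P : Subgroup G) := by
  classical
  haveI : Finite (Sylow 7 G) := Nat.finite_of_card_ne_zero (by rw [h15]; norm_num)
  obtain ⟨n, hn⟩ := (P.isPGroup').card_orbit (α := Sylow 7 G) Q
  have h1 : Nat.card (orbit ↥(P : Subgroup G) Q) * Nat.card (stabilizer ↥(P : Subgroup G) Q)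
      = Nat.card (P : Subgroup G) := by
    rw [← Nat.card_prod]
    exact Nat.card_congr (orbitProdStabilizerEquivGroup ↥(P : Subgroup G) Q)
  -- the orbit avoids `P`
  have h2 : orbit ↥(P : Subgroup G) Q ⊆ ({P} : Set (Sylow 7 G))ᶜ := by
    rintro _ ⟨y, rfl⟩ hy
    have hy' : y • Q = P := hy
    have h3 : Q = y⁻¹ • P := by rw [eq_inv_smul_iff]; exact hy'
    have h4 : y⁻¹ • P = P := by
      show ((y⁻¹ : ↥(P : Subgroup G)) : G) • P = P
      rw [Sylow.smul_eq_iff_mem_normalizer]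
      exact le_normalizer (y⁻¹).2
    exact hPQ (by rw [h3, h4])
  have h3 : (orbit ↥(P : Subgroup G) Q).ncard ≤ 14 := by
    have h4 := Set.ncard_le_ncard h2 (Set.toFinite _)
    have h5 : (({P} : Set (Sylow 7 G))ᶜ).ncard = 14 := by
      rw [Set.ncard_compl, Set.ncard_singleton, h15]
    omega
  rw [← Nat.card_coe_set_eq, hn] at h3
  -- the orbit is not a singleton
  have h4 : n ≠ 0 := by
    rintro rfl
    rw [pow_zero] at hn
    have h5 : Q ∈ fixedPoints ↥(P : Subgroup G) (Sylow 7 G) := by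
      intro y
      have h6 : y • Q ∈ orbit ↥(P : Subgroup G) Q := ⟨y, rfl⟩
      have h7 : Q ∈ orbit ↥(P : Subgroup G) Q := mem_orbit_self Q
      have h8 := Nat.card_eq_one_iff_unique.1 hn
      have h9 := h8.1.elim ⟨y • Q, h6⟩ ⟨Q, h7⟩
      exact congrArg Subtype.val h9
    rw [P.isPGroup'.sylow_mem_fixedPoints_iff] at h5
    exact hPQ (Sylow.ext (P.3 Q.2 h5)).symm
  have h5 : n = 1 := by
    rcases Nat.lt_or_ge n 2 with h | h
    · omega
    · exfalso
      have : 7 ^ 2 ≤ 7 ^ n := Nat.pow_le_pow_right (by norm_num) h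
      omega
  rw [hn, h5, pow_one, stabilizer_card] at h1
  rw [mul_comm]; exact h1

theorem card_eq_of_sylow (P Q : Sylow 7 G) :
    Nat.card (P : Subgroup G) = Nat.card (Q : Subgroup G) := by
  rw [Sylow.card_eq_multiplicity, Sylow.card_eq_multiplicity]

/-- the kernel of the action on the Sylow subgroups is trivial -/
def Faithful (G : Type u) [Group G] : Prop :=
  ∀ g : G, (∀ P : Sylow 7 G, g • P = P) → g = 1

omit [Finite G] in
theorem eq_bot_of_le_all (hf : Faithful G) (A : Subgroup G)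
    (hA : ∀ P : Sylow 7 G, A ≤ P) : A = ⊥ := by
  rw [eq_bot_iff]
  intro a ha
  rw [Subgroup.mem_bot]
  apply hf
  intro P
  rw [Sylow.smul_eq_iff_mem_normalizer]
  exact le_normalizer (hA P ha)

end Cfsg.Agent.Helper20.SylFifteen
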