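import Mathlib
import Cfsg.Agent.Lib.Helper20.SylFifteen3

/-!
# Fifteen Sylow 7-subgroups: the case of Sylow subgroups of order at least 49 (helper20)
-/

set_option autoImplicit false

namespace Cfsg.Agent.Helper20.SylFifteen

open Subgroup MulAction

universe u

variable {G : Type u} [Group G] [Finite G]

/-- the number of Sylow subgroups containing a nontrivial `7`-subgroup lying in two of them -/
theorem ncard_containing (h15 : Nat.card (Sylow 7 G) = 15) (hf : Faithful G)
    (b : Subgroup G) (hb : b ≠ ⊥) (P Q : Sylow 7 G) (hPQ : P ≠ Q)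
    (hbP : b ≤ P) (hbQ : b ≤ Q) :
    {R : Sylow 7 G | b ≤ R}.ncard = 8 := by
  classical
  haveI : Finite (Sylow 7 G) := Nat.finite_of_card_ne_zero (by rw [h15]; norm_num)
  have hb7 : IsPGroup 7 b := P.isPGroup'.to_le hbP
  have h1 := hb7.card_modEq_card_fixedPoints (α := Sylow 7 G)
  have h2 : fixedPoints ↥b (Sylow 7 G) = {R : Sylow 7 G | b ≤ R} := by
    ext R
    rw [hb7.sylow_mem_fixedPoints_iff]
    rfl
  rw [h2, h15, Nat.card_coe_set_eq] at h1
  set k := {R : Sylow 7 G | b ≤ R}.ncard with hk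
  have h3 : k ≤ 15 := by
    rw [hk, ← h15, ← Set.ncard_univ]
    exact Set.ncard_le_ncard (Set.subset_univ _) (Set.toFinite _)
  have h4 : 2 ≤ k := by
    have h5 : ({P, Q} : Set (Sylow 7 G)) ⊆ {R : Sylow 7 G | b ≤ R} := by
      intro R hR
      rcases hR with rfl | rfl
      · exact hbP
      · exact hbQ
    have h6 := Set.ncard_le_ncard h5 (Set.toFinite _)
    rw [Set.ncard_pair hPQ] at h6
    exact h6
  have h5 : k ≠ 15 := by
    intro h
    apply hb
    apply eq_bot_of_le_all hf
    have h6 : {R : Sylow 7 G | b ≤ R} = Set.univ := by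
      apply Set.eq_of_subset_of_ncard_le (Set.subset_univ _) _ (Set.toFinite _)
      rw [Set.ncard_univ, h15, ← hk, h]
    intro R
    have : R ∈ {R : Sylow 7 G | b ≤ R} := by rw [h6]; trivial
    exact this
  have h6 : 15 % 7 = k % 7 := h1
  omega

theorem caseA (h15 : Nat.card (Sylow 7 G) = 15) (hf : Faithful G)
    (P₀ Q₀ : Sylow 7 G) (h0 : P₀ ≠ Q₀) (hm : 1 < Nat.card ↥((P₀ : Subgroup G) ⊓ Q₀)) : False := by
  classical
  haveI : Finite (Sylow 7 G) := Nat.finite_of_card_ne_zero (by rw [h15]; norm_num)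
  letI : Fintype (Sylow 7 G) := Fintype.ofFinite _
  set m := Nat.card ↥((P₀ : Subgroup G) ⊓ Q₀) with hmdef
  have hcard : ∀ P Q : Sylow 7 G, P ≠ Q → Nat.card ↥((P : Subgroup G) ⊓ Q) = m := by
    intro P Q hPQ
    have h1 := inter_card h15 P Q hPQ
    have h2 := inter_card h15 P₀ Q₀ h0
    rw [card_eq_of_sylow P P₀, ← h2] at h1
    omega
  have hne : ∀ P Q : Sylow 7 G, P ≠ Q → (P : Subgroup G) ⊓ Q ≠ ⊥ := by
    intro P Q hPQ h
    have := hcard P Q hPQ
    rw [h, Subgroup.card_bot] at this
    omega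
  let s : Finset (Sylow 7 G × Sylow 7 G) := (Finset.univ : Finset (Sylow 7 G)).offDiag
  let f : Sylow 7 G × Sylow 7 G → Subgroup G := fun pq => (pq.1 : Subgroup G) ⊓ pq.2
  have hs : s.card = 210 := by
    rw [Finset.offDiag_card, Finset.card_univ, ← Nat.card_eq_fintype_card, h15]
  have key := Finset.card_eq_sum_card_image f s
  have hfib : ∀ b ∈ s.image f, (s.filter fun a => f a = b).card = 56 := by
    intro b hb
    rw [Finset.mem_image] at hb
    obtain ⟨⟨P, Q⟩, hPQs, rfl⟩ := hb
    have hPQ : P ≠ Q := by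
      have := Finset.mem_offDiag.1 hPQs
      exact this.2.2
    have h8 := ncard_containing h15 hf ((P : Subgroup G) ⊓ Q) (hne P Q hPQ) P Q hPQ
      inf_le_left inf_le_right
    have h9 : (s.filter fun a => f a = f (P, Q))
        = (Finset.univ.filter fun R : Sylow 7 G => (P : Subgroup G) ⊓ Q ≤ R).offDiag := by
      ext ⟨P', Q'⟩
      simp only [Finset.mem_filter, Finset.mem_offDiag, Finset.mem_univ, true_and, s, f]
      constructor
      · rintro ⟨hne', heq⟩
        refine ⟨?_, ?_, hne'⟩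
        · rw [← heq]; exact inf_le_left
        · rw [← heq]; exact inf_le_right
      · rintro ⟨h1, h2, hne'⟩
        refine ⟨hne', ?_⟩
        symm
        apply Subgroup.eq_of_le_of_card_ge (le_inf h1 h2)
        rw [hcard P Q hPQ, hcard P' Q' hne']
    rw [h9, Finset.offDiag_card]
    have h10 : (Finset.univ.filter fun R : Sylow 7 G => (P : Subgroup G) ⊓ Q ≤ R).card = 8 := by
      rw [← h8, Set.ncard_eq_toFinset_card']
      congr 1
      ext R
      simp
    rw [h10]
  rw [Finset.sum_congr rfl hfib, Finset.sum_const, smul_eq_mul, hs] at key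
  omega

end Cfsg.Agent.Helper20.SylFifteen
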