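import Mathlib
import Cfsg.Agent.Lib.Helper20.SylFifteen4

/-!
# Fifteen Sylow 7-subgroups of order 7: the centralizer of a Sylow subgroup (helper20)
-/

set_option autoImplicit false

namespace Cfsg.Agent.Helper20.SylFifteen

open Subgroup MulAction

universe u

variable {G : Type u} [Group G] [Finite G]

omit [Finite G] in
theorem fixedPoints_sylow (P : Sylow 7 G) :
    fixedPoints ↥(P : Subgroup G) (Sylow 7 G) = {P} := by
  ext Q
  rw [P.isPGroup'.sylow_mem_fixedPoints_iff, Set.mem_singleton_iff]
  constructor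
  · intro h
    exact Sylow.ext (P.3 Q.2 h)
  · rintro rfl
    exact le_rfl

omit [Finite G] in
theorem centralizer_smul (P : Sylow 7 G) {g : G} (hg : g ∈ centralizer ((P : Subgroup G) : Set G)) :
    g • P = P := by
  rw [Sylow.smul_eq_iff_mem_normalizer]
  exact Subgroup.centralizer_le_normalizer _ hg

omit [Finite G] in
theorem fixedPoints_zpowers (g : G) {X : Type*} [MulAction G X] :
    fixedPoints ↥(zpowers g) X = fixedBy X g := by
  ext a
  constructor
  · intro h
    exact h ⟨g, mem_zpowers g⟩
  · intro h y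
    have h1 : zpowers g ≤ stabilizer G a := by
      rw [Subgroup.zpowers_le]
      exact h
    exact h1 y.2

/-- an element of prime order `r ≠ 7` centralizing a Sylow subgroup is an involution with
exactly one fixed point -/
theorem centralizer_prime (h15 : Nat.card (Sylow 7 G) = 15) (hf : Faithful G)
    (P : Sylow 7 G) {g : G} (hg : g ∈ centralizer ((P : Subgroup G) : Set G))
    {r : ℕ} (hr : r.Prime) (hgr : orderOf g = r) (hr7 : r ≠ 7) :
    r = 2 ∧ fixedBy (Sylow 7 G) g = {P} := by
  classical
  haveI : Finite (Sylow 7 G) := Nat.finite_of_card_ne_zero (by rw [h15]; norm_num)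
  haveI : Fact r.Prime := ⟨hr⟩
  set F := fixedBy (Sylow 7 G) g with hF
  have hPF : P ∈ F := centralizer_smul P hg
  have hcomm : ∀ y : ↥(P : Subgroup G), g * (y : G) = (y : G) * g := by
    intro y
    exact ((Subgroup.mem_centralizer_iff.1 hg) y y.2).symm
  have hinv : ∀ y : ↥(P : Subgroup G), ∀ a ∈ F, y • a ∈ F := by
    intro y a ha
    show g • (y • a) = y • a
    have ha' : g • a = a := ha
    show g • ((y : G) • a) = (y : G) • a
    rw [smul_smul, hcomm y, ← smul_smul, ha']
  have h1 := ncard_invariant_modEq P.isPGroup' F hinv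
  rw [fixedPoints_sylow P] at h1
  have h2 : F ∩ {P} = {P} := by
    ext Q
    simp only [Set.mem_inter_iff, Set.mem_singleton_iff]
    constructor
    · exact fun h => h.2
    · rintro rfl; exact ⟨hPF, rfl⟩
  rw [h2, Set.ncard_singleton] at h1
  have h3 : F.ncard ≤ 15 := by
    rw [← h15, ← Set.ncard_univ]
    exact Set.ncard_le_ncard (Set.subset_univ _) (Set.toFinite _)
  -- the action of the cyclic group generated by `g`
  have hZ : IsPGroup r ↥(zpowers g) := by
    apply IsPGroup.of_card (n := 1)
    rw [Nat.card_zpowers, hgr, pow_one]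
  have hinv2 : ∀ y : ↥(zpowers g), ∀ a ∈ Fᶜ, y • a ∈ Fᶜ := by
    intro y a ha hya
    apply ha
    obtain ⟨k, hk⟩ := y.2
    have h4 : g • ((y : G) • a) = (y : G) • a := hya
    have h5 : g * (y : G) = (y : G) * g := by
      rw [← hk]
      exact (Commute.zpow_right (Commute.refl g) k).eq
    rw [smul_smul, h5, ← smul_smul] at h4
    exact smul_left_cancel _ h4
  have h4 := ncard_invariant_modEq hZ Fᶜ hinv2
  rw [fixedPoints_zpowers, ← hF, Set.compl_inter_self, Set.ncard_empty] at h4
  have h5 : Fᶜ.ncard = 15 - F.ncard := by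
    rw [Set.ncard_compl, h15]
  have h6 : r ∣ 15 - F.ncard := by
    rw [← h5]
    exact (Nat.modEq_zero_iff_dvd.1 h4)
  have h7 : F.ncard % 7 = 1 % 7 := h1
  have h8 : F.ncard = 1 ∨ F.ncard = 8 ∨ F.ncard = 15 := by omega
  rcases h8 with h8 | h8 | h8
  · rw [h8] at h6
    have h9 : r ∣ 2 * 7 := by norm_num; exact h6
    rcases (Nat.Prime.dvd_mul hr).1 h9 with h10 | h10
    · refine ⟨(Nat.prime_dvd_prime_iff_eq hr Nat.prime_two).1 h10, ?_⟩
      obtain ⟨Q, hQ⟩ := Set.ncard_eq_one.1 h8
      rw [hQ] at hPF ⊢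
      rw [Set.mem_singleton_iff] at hPF
      rw [hPF]
    · exact absurd ((Nat.prime_dvd_prime_iff_eq hr (by norm_num)).1 h10) hr7
  · rw [h8] at h6
    exact absurd ((Nat.prime_dvd_prime_iff_eq hr (by norm_num)).1 h6) hr7
  · exfalso
    have h9 : F = Set.univ := by
      apply Set.eq_of_subset_of_ncard_le (Set.subset_univ _) _ (Set.toFinite _)
      rw [Set.ncard_univ, h15, h8]
    have h10 : g = 1 := by
      apply hf
      intro Q
      have : Q ∈ F := by rw [h9]; trivial
      exact this
    rw [h10, orderOf_one] at hgr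
    exact hr.one_lt.ne hgr

end Cfsg.Agent.Helper20.SylFifteen
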