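import Mathlib
import Cfsg.Agent.Lib.Helper20.SylTO1

/-!
# Twenty-one Sylow 5-subgroups: the case of Sylow subgroups of order at least 25 (helper20)

The Sylow subgroups form a linear space whose lines are the sets of Sylow subgroups containing
an intersection `P ⊓ Q`; every line has at least six points and every point lies on at most
four lines.
-/

set_option autoImplicit false

namespace Cfsg.Agent.Helper20.SylTwentyOne

open Subgroup MulAction Cfsg.Agent.Helper20.SylFifteen

universe u

variable {G : Type u} [Group G] [Finite G]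

/-- the number of Sylow subgroups containing a nontrivial `5`-subgroup lying in two of them -/
theorem ncard_containing (h21 : Nat.card (Sylow 5 G) = 21) (hf : Faithful G)
    (b : Subgroup G) (hb : b ≠ ⊥) (P Q : Sylow 5 G) (hPQ : P ≠ Q)
    (hbP : b ≤ P) (hbQ : b ≤ Q) :
    6 ≤ {R : Sylow 5 G | b ≤ R}.ncard ∧ ∃ R : Sylow 5 G, ¬ b ≤ R := by
  classical
  haveI : Finite (Sylow 5 G) := Nat.finite_of_card_ne_zero (by rw [h21]; norm_num)
  have hb5 : IsPGroup 5 b := P.isPGroup'.to_le hbP
  have h1 := hb5.card_modEq_card_fixedPoints (α := Sylow 5 G)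
  have h2 : fixedPoints ↥b (Sylow 5 G) = {R : Sylow 5 G | b ≤ R} := by
    ext R
    rw [hb5.sylow_mem_fixedPoints_iff]
    rfl
  rw [h2, h21, Nat.card_coe_set_eq] at h1
  set k := {R : Sylow 5 G | b ≤ R}.ncard with hk
  have h4 : 2 ≤ k := by
    have h5 : ({P, Q} : Set (Sylow 5 G)) ⊆ {R : Sylow 5 G | b ≤ R} := by
      intro R hR
      rcases hR with rfl | rfl
      · exact hbP
      · exact hbQ
    have h6 := Set.ncard_le_ncard h5 (Set.toFinite _)
    rw [Set.ncard_pair hPQ] at h6
    exact h6
  have h6 : 21 % 5 = k % 5 := h1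
  refine ⟨by omega, ?_⟩
  by_contra hall
  rw [not_exists] at hall
  apply hb
  apply eq_bot_of_le_all hf
  intro R
  exact not_not.1 (hall R)

theorem caseA (h21 : Nat.card (Sylow 5 G) = 21) (hf : Faithful G)
    (P₀ Q₀ : Sylow 5 G) (h0 : P₀ ≠ Q₀) (hm : 1 < Nat.card ↥((P₀ : Subgroup G) ⊓ Q₀)) : False := by
  classical
  haveI : Finite (Sylow 5 G) := Nat.finite_of_card_ne_zero (by rw [h21]; norm_num)
  letI : Fintype (Sylow 5 G) := Fintype.ofFinite _
  set m := Nat.card ↥((P₀ : Subgroup G) ⊓ Q₀) with hmdef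
  have hcard : ∀ P Q : Sylow 5 G, P ≠ Q → Nat.card ↥((P : Subgroup G) ⊓ Q) = m := by
    intro P Q hPQ
    have h1 := inter_card h21 P Q hPQ
    have h2 := inter_card h21 P₀ Q₀ h0
    rw [card_eq_of_sylow P P₀, ← h2] at h1
    omega
  have hne : ∀ P Q : Sylow 5 G, P ≠ Q → (P : Subgroup G) ⊓ Q ≠ ⊥ := by
    intro P Q hPQ h
    have := hcard P Q hPQ
    rw [h, Subgroup.card_bot] at this
    omega
  -- a subgroup contained in two distinct Sylow subgroups, of the right order, is their meet
  have hmeet : ∀ (c : Subgroup G) (P Q : Sylow 5 G), P ≠ Q → c ≤ P → c ≤ Q → Nat.card c = m →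
      c = (P : Subgroup G) ⊓ Q := by
    intro c P Q hPQ hcP hcQ hc
    apply Subgroup.eq_of_le_of_card_ge (le_inf hcP hcQ)
    rw [hcard P Q hPQ, hc]
  set b : Subgroup G := (P₀ : Subgroup G) ⊓ Q₀ with hb
  obtain ⟨hL6, R₀, hR₀⟩ := ncard_containing h21 hf b (hne P₀ Q₀ h0) P₀ Q₀ h0 inf_le_left inf_le_right
  let s : Finset (Sylow 5 G) := (Finset.univ : Finset (Sylow 5 G)).erase R₀
  let f : Sylow 5 G → Subgroup G := fun Y => (R₀ : Subgroup G) ⊓ Y
  have hs : s.card = 20 := by
    rw [Finset.card_erase_of_mem (Finset.mem_univ _), Finset.card_univ, ← Nat.card_eq_fintype_card,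
      h21]
  have key := Finset.card_eq_sum_card_image f s
  -- every fibre has at least five elements
  have hfib : ∀ c ∈ s.image f, 5 ≤ (s.filter fun a => f a = c).card := by
    intro c hc
    rw [Finset.mem_image] at hc
    obtain ⟨Y₀, hY₀s, rfl⟩ := hc
    have hY₀ : Y₀ ≠ R₀ := (Finset.mem_erase.1 hY₀s).1
    obtain ⟨h6, -⟩ := ncard_containing h21 hf (f Y₀) (hne R₀ Y₀ hY₀.symm) R₀ Y₀ hY₀.symm
      inf_le_left inf_le_right
    have h9 : (s.filter fun a => f a = f Y₀)
        = (Finset.univ.filter fun R : Sylow 5 G => f Y₀ ≤ R).erase R₀ := by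
      ext Y
      simp only [Finset.mem_filter, Finset.mem_erase, Finset.mem_univ, true_and, s]
      constructor
      · rintro ⟨⟨hne', -⟩, heq⟩
        refine ⟨hne', ?_⟩
        rw [← heq]; exact inf_le_right
      · rintro ⟨hne', h1⟩
        refine ⟨⟨hne', trivial⟩, ?_⟩
        symm
        exact hmeet (f Y₀) R₀ Y hne'.symm inf_le_left h1 (hcard R₀ Y₀ hY₀.symm)
    rw [h9, Finset.card_erase_of_mem (by simp [f])]
    have h10 : (Finset.univ.filter fun R : Sylow 5 G => f Y₀ ≤ R).card
        = {R : Sylow 5 G | f Y₀ ≤ R}.ncard := by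
      rw [Set.ncard_eq_toFinset_card']
      congr 1
      ext R
      simp
    rw [h10]
    omega
  -- the image has at least six elements
  have himg : 6 ≤ (s.image f).card := by
    set L : Finset (Sylow 5 G) := Finset.univ.filter fun R : Sylow 5 G => b ≤ R with hL
    have hLcard : L.card = {R : Sylow 5 G | b ≤ R}.ncard := by
      rw [Set.ncard_eq_toFinset_card']
      congr 1
      ext R
      simp [hL]
    have hLs : L ⊆ s := by
      intro X hX
      rw [hL, Finset.mem_filter] at hX
      refine Finset.mem_erase.2 ⟨?_, Finset.mem_univ _⟩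
      rintro rfl
      exact hR₀ hX.2
    have hinj : Set.InjOn f (L : Set (Sylow 5 G)) := by
      intro X hX X' hX' hXX'
      by_contra hne'
      have hX1 : b ≤ X := by
        have := hX; rw [hL] at this; simpa using this
      have hX1' : b ≤ X' := by
        have := hX'; rw [hL] at this; simpa using this
      have hXR : X ≠ R₀ := by rintro rfl; exact hR₀ hX1
      have hXR' : X' ≠ R₀ := by rintro rfl; exact hR₀ hX1'
      have h1 : f X = (X : Subgroup G) ⊓ X' := by
        apply hmeet (f X) X X' hne' inf_le_right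
        · rw [hXX']; exact inf_le_right
        · exact hcard R₀ X hXR.symm
      have h2 : b = (X : Subgroup G) ⊓ X' :=
        hmeet b X X' hne' hX1 hX1' rfl
      apply hR₀
      rw [h2, ← h1]
      exact inf_le_left
    calc 6 ≤ L.card := by rw [hLcard]; exact hL6
      _ = (L.image f).card := (Finset.card_image_of_injOn hinj).symm
      _ ≤ (s.image f).card := Finset.card_le_card (Finset.image_subset_image hLs)
  have hsum : 5 * (s.image f).card ≤ s.card := by
    rw [key]
    calc 5 * (s.image f).card = ∑ _c ∈ s.image f, 5 := by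
          rw [Finset.sum_const, smul_eq_mul, mul_comm]
      _ ≤ ∑ c ∈ s.image f, (s.filter fun a => f a = c).card := Finset.sum_le_sum hfib
  omega

end Cfsg.Agent.Helper20.SylTwentyOne
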