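import Mathlib
import Cfsg.Agent.Lib.Helper20.SylTO2
import Cfsg.Agent.Lib.Helper20.SylFifteen5

/-!
# Twenty-one Sylow 5-subgroups of order 5: elements centralizing a Sylow subgroup (helper20)
-/

set_option autoImplicit false

namespace Cfsg.Agent.Helper20.SylTwentyOne

open Subgroup MulAction Cfsg.Agent.Helper20.SylFifteen

universe u

/-- the sign of an involution -/
theorem sign_of_sq_eq_one {α : Type*} [Fintype α] [DecidableEq α] (σ : Equiv.Perm α)
    (h : σ ^ 2 = 1) : Equiv.Perm.sign σ = (-1) ^ (σ.support.card / 2) := by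
  have h2 : ∀ n ∈ σ.cycleType, n = 2 := by
    intro n hn
    have h3 := Equiv.Perm.dvd_of_mem_cycleType hn
    have h4 : orderOf σ ∣ 2 := orderOf_dvd_of_pow_eq_one h
    have h5 := Equiv.Perm.two_le_of_mem_cycleType hn
    have h6 := Nat.le_of_dvd (by norm_num) (h3.trans h4)
    omega
  have h3 := Multiset.eq_replicate_card.2 h2
  have h4 : σ.support.card = Multiset.card σ.cycleType * 2 := by
    rw [← Equiv.Perm.sum_cycleType, h3, Multiset.sum_replicate, Multiset.card_replicate,
      smul_eq_mul]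
  rw [Equiv.Perm.sign_of_cycleType, Equiv.Perm.sum_cycleType, h4, Nat.mul_div_cancel _ (by norm_num)]
  rw [pow_add, pow_mul]
  simp

variable {G : Type u} [Group G] [Finite G]

/-- an element of prime order `r ≠ 5` centralizing a Sylow subgroup: its fixed points -/
theorem centralizer_prime (h21 : Nat.card (Sylow 5 G) = 21) (hf : Faithful G)
    (P : Sylow 5 G) {g : G} (hg : g ∈ centralizer ((P : Subgroup G) : Set G))
    {r : ℕ} (hr : r.Prime) (hgr : orderOf g = r) :
    P ∈ fixedBy (Sylow 5 G) g ∧ r ∣ 21 - (fixedBy (Sylow 5 G) g).ncard ∧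
      ((fixedBy (Sylow 5 G) g).ncard = 1 ∨ (fixedBy (Sylow 5 G) g).ncard = 6 ∨
        (fixedBy (Sylow 5 G) g).ncard = 11 ∨ (fixedBy (Sylow 5 G) g).ncard = 16) := by
  classical
  haveI : Finite (Sylow 5 G) := Nat.finite_of_card_ne_zero (by rw [h21]; norm_num)
  haveI : Fact r.Prime := ⟨hr⟩
  set F := fixedBy (Sylow 5 G) g with hF
  have hPF : P ∈ F := centralizer_smul P hg
  have hcomm : ∀ y : ↥(P : Subgroup G), g * (y : G) = (y : G) * g := by
    intro y
    exact ((Subgroup.mem_centralizer_iff.1 hg) y y.2).symm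
  have hinv : ∀ y : ↥(P : Subgroup G), ∀ a ∈ F, y • a ∈ F := by
    intro y a ha
    show g • (y • a) = y • a
    have ha' : g • a = a := ha
    show g • ((y : G) • a) = (y : G) • a
    rw [smul_smul, hcomm y, ← smul_smul, ha']
  have h1 := ncard_invariant_modEq P.isPGroup' F hinv
  rw [fixedPoints_sylow P] at h1
  have h2 : F ∩ {P} = {P} := by
    ext Q
    simp only [Set.mem_inter_iff, Set.mem_singleton_iff]
    constructor
    · exact fun h => h.2
    · rintro rfl; exact ⟨hPF, rfl⟩
  rw [h2, Set.ncard_singleton] at h1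
  have h3 : F.ncard ≤ 21 := by
    rw [← h21, ← Set.ncard_univ]
    exact Set.ncard_le_ncard (Set.subset_univ _) (Set.toFinite _)
  -- the action of the cyclic group generated by `g`
  have hZ : IsPGroup r ↥(zpowers g) := by
    apply IsPGroup.of_card (n := 1)
    rw [Nat.card_zpowers, hgr, pow_one]
  have hinv2 : ∀ y : ↥(zpowers g), ∀ a ∈ Fᶜ, y • a ∈ Fᶜ := by
    intro y a ha hya
    apply ha
    obtain ⟨k, hk⟩ := y.2
    have h4 : g • ((y : G) • a) = (y : G) • a := hya
    have h5 : g * (y : G) = (y : G) * g := by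
      rw [← hk]
      exact (Commute.zpow_right (Commute.refl g) k).eq
    rw [smul_smul, h5, ← smul_smul] at h4
    exact smul_left_cancel _ h4
  have h4 := ncard_invariant_modEq hZ Fᶜ hinv2
  rw [fixedPoints_zpowers, ← hF, Set.compl_inter_self, Set.ncard_empty] at h4
  have h5 : Fᶜ.ncard = 21 - F.ncard := by
    rw [Set.ncard_compl, h21]
  have h6 : r ∣ 21 - F.ncard := by
    rw [← h5]
    exact (Nat.modEq_zero_iff_dvd.1 h4)
  refine ⟨hPF, h6, ?_⟩
  have h7 : F.ncard % 5 = 1 % 5 := h1
  have h8 : F.ncard ≠ 21 := by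
    intro h8
    have h9 : F = Set.univ := by
      apply Set.eq_of_subset_of_ncard_le (Set.subset_univ _) _ (Set.toFinite _)
      rw [Set.ncard_univ, h21, h8]
    have h10 : g = 1 := by
      apply hf
      intro Q
      have : Q ∈ F := by rw [h9]; trivial
      exact this
    rw [h10, orderOf_one] at hgr
    exact hr.one_lt.ne hgr
  omega

/-- no element of order `7` centralizes a Sylow subgroup -/
theorem not_seven (h21 : Nat.card (Sylow 5 G) = 21) (hf : Faithful G)
    (P : Sylow 5 G) {g : G} (hg : g ∈ centralizer ((P : Subgroup G) : Set G)) :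
    orderOf g ≠ 7 := by
  intro h7
  obtain ⟨-, h1, h2⟩ := centralizer_prime h21 hf P hg (by norm_num : Nat.Prime 7) h7
  rcases h2 with h | h | h | h <;> rw [h] at h1 <;> omega

/-- a minimal example has no odd permutations -/
theorem sign_trivial
    (hnorm : ∀ M : Subgroup G, M.Normal → (∀ P : Sylow 5 G, (P : Subgroup G) ≤ M) → M = ⊤)
    [Fintype (Sylow 5 G)] [DecidableEq (Sylow 5 G)] (g : G) :
    Equiv.Perm.sign (MulAction.toPermHom G (Sylow 5 G) g) = 1 := by
  set sgn : G →* ℤˣ := Equiv.Perm.sign.comp (MulAction.toPermHom G (Sylow 5 G)) with hsgn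
  have h1 : sgn.ker = ⊤ := by
    apply hnorm _ inferInstance
    intro P x hx
    rw [MonoidHom.mem_ker]
    obtain ⟨k, hk⟩ := P.isPGroup' ⟨x, hx⟩
    have hk' : x ^ 5 ^ k = 1 := by
      have := congrArg Subtype.val hk
      simpa using this
    have h2 : sgn x ^ 5 ^ k = 1 := by rw [← map_pow, hk', map_one]
    rcases Int.units_eq_one_or (sgn x) with h | h
    · exact h
    · exfalso
      rw [h] at h2
      have hodd : Odd (5 ^ k) := Odd.pow (by decide)
      rw [hodd.neg_one_pow] at h2
      exact absurd h2 (by decide)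
  have h2 : g ∈ sgn.ker := by rw [h1]; trivial
  exact MonoidHom.mem_ker.1 h2

/-- an involution centralizing a Sylow subgroup fixes no other Sylow subgroup -/
theorem involution_fixedBy (h21 : Nat.card (Sylow 5 G) = 21) (hf : Faithful G)
    (hnorm : ∀ M : Subgroup G, M.Normal → (∀ P : Sylow 5 G, (P : Subgroup G) ≤ M) → M = ⊤)
    (P : Sylow 5 G) {g : G} (hg : g ∈ centralizer ((P : Subgroup G) : Set G))
    (hg2 : orderOf g = 2) : fixedBy (Sylow 5 G) g = {P} := by
  classical
  haveI : Finite (Sylow 5 G) := Nat.finite_of_card_ne_zero (by rw [h21]; norm_num)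
  letI : Fintype (Sylow 5 G) := Fintype.ofFinite _
  obtain ⟨hPF, h1, h2⟩ := centralizer_prime h21 hf P hg Nat.prime_two hg2
  set F := fixedBy (Sylow 5 G) g with hF
  have h3 : F.ncard = 1 ∨ F.ncard = 11 := by omega
  rcases h3 with h3 | h3
  · obtain ⟨Q, hQ⟩ := Set.ncard_eq_one.1 h3
    rw [hQ] at hPF ⊢
    rw [Set.mem_singleton_iff] at hPF
    rw [hPF]
  · exfalso
    set σ : Equiv.Perm (Sylow 5 G) := MulAction.toPermHom G (Sylow 5 G) g with hσ
    have hσ2 : σ ^ 2 = 1 := by
      rw [hσ, ← map_pow, ← hg2, pow_orderOf_eq_one, map_one]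
    have hsupp : σ.support = F.toFinsetᶜ := by
      ext Q
      rw [Equiv.Perm.mem_support, Finset.mem_compl, Set.mem_toFinset]
      rfl
    have hcard : σ.support.card = 10 := by
      rw [hsupp, Finset.card_compl, ← Nat.card_eq_fintype_card, h21,
        ← Set.ncard_eq_toFinset_card', h3]
    have h4 := sign_of_sq_eq_one σ hσ2
    rw [hcard, sign_trivial hnorm g] at h4
    exact absurd h4 (by decide)

end Cfsg.Agent.Helper20.SylTwentyOne
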