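import Mathlib
import Cfsg.Agent.Lib.Helper29.StemSylow

/-!
# Splitting off a central layer of a central extension

`σ : Γ →* B` is surjective with central kernel `K`, `N` is a normal subgroup of `B` whose full
preimage `Ñ` is abelian, `δ₀ ∈ Γ` acts on `N` so that `n ↦ [σ δ₀, n]` is bijective, and `Γ` is the
product of the centralizer of `Ñ` and the centralizer of `δ₀`.  Then `Z₁ = [δ₀, Ñ]` is a normal
subgroup of `Γ`, a complement to `K` in `Ñ`, and the problem of showing `[Γ, Γ] ∩ K = 1` is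
reduced to the central extension `Γ / Z₁ → B / N`.
-/

set_option autoImplicit false

namespace Cfsg.Agent.Helper20.SchurSz

open scoped commutatorElement
open Cfsg.Agent.Helper29.StemSylow

variable {Γ : Type*} [Group Γ] {B : Type*} [Group B]

/-- the subgroup of commutators `[δ, x]`, `x ∈ A`, for an abelian subgroup `A` normalized by `δ` -/
def commSubgroup (δ : Γ) (A : Subgroup Γ) (hA : ∀ x ∈ A, ∀ y ∈ A, x * y = y * x)
    (hδ : ∀ x ∈ A, δ * x * δ⁻¹ ∈ A) : Subgroup Γ where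
  carrier := {g | ∃ x ∈ A, g = ⁅δ, x⁆}
  one_mem' := ⟨1, A.one_mem, by rw [commutatorElement_one_right]⟩
  mul_mem' := by
    rintro g g' ⟨x, hx, rfl⟩ ⟨y, hy, rfl⟩
    refine ⟨x * y, A.mul_mem hx hy, ?_⟩
    have c1 : x⁻¹ * (δ * y * δ⁻¹) = (δ * y * δ⁻¹) * x⁻¹ := hA _ (A.inv_mem hx) _ (hδ y hy)
    have c2 : x⁻¹ * y⁻¹ = y⁻¹ * x⁻¹ := hA _ (A.inv_mem hx) _ (A.inv_mem hy)
    calc ⁅δ, x⁆ * ⁅δ, y⁆ = δ * x * δ⁻¹ * (x⁻¹ * (δ * y * δ⁻¹)) * y⁻¹ := by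
          rw [commutatorElement_def, commutatorElement_def]; group
      _ = δ * x * δ⁻¹ * ((δ * y * δ⁻¹) * x⁻¹) * y⁻¹ := by rw [c1]
      _ = δ * (x * y) * δ⁻¹ * (x⁻¹ * y⁻¹) := by group
      _ = δ * (x * y) * δ⁻¹ * (y⁻¹ * x⁻¹) := by rw [c2]
      _ = ⁅δ, x * y⁆ := by rw [commutatorElement_def]; group
  inv_mem' := by
    rintro g ⟨x, hx, rfl⟩
    refine ⟨x⁻¹, A.inv_mem hx, ?_⟩
    have c1 : x * (δ * x⁻¹ * δ⁻¹) = (δ * x⁻¹ * δ⁻¹) * x := hA _ hx _ (hδ _ (A.inv_mem hx))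
    calc ⁅δ, x⁆⁻¹ = x * (δ * x⁻¹ * δ⁻¹) := by rw [commutatorElement_def]; group
      _ = (δ * x⁻¹ * δ⁻¹) * x := c1
      _ = ⁅δ, x⁻¹⁆ := by rw [commutatorElement_def]; group

theorem mem_commSubgroup (δ : Γ) (A : Subgroup Γ) (hA : ∀ x ∈ A, ∀ y ∈ A, x * y = y * x)
    (hδ : ∀ x ∈ A, δ * x * δ⁻¹ ∈ A) (g : Γ) :
    g ∈ commSubgroup δ A hA hδ ↔ ∃ x ∈ A, g = ⁅δ, x⁆ := Iff.rfl

theorem commSubgroup_le (δ : Γ) (A : Subgroup Γ) (hA : ∀ x ∈ A, ∀ y ∈ A, x * y = y * x)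
    (hδ : ∀ x ∈ A, δ * x * δ⁻¹ ∈ A) : commSubgroup δ A hA hδ ≤ A := by
  rintro g ⟨x, hx, rfl⟩
  rw [commutatorElement_def]
  exact A.mul_mem (hδ x hx) (A.inv_mem hx)

/-- the reduction step -/
theorem reduce_central (σ : Γ →* B) (hs : Function.Surjective σ)
    (hK : σ.ker ≤ Subgroup.center Γ) (N : Subgroup B) [hN : N.Normal] (δ₀ : Γ)
    (hab : ∀ x ∈ N.comap σ, ∀ y ∈ N.comap σ, x * y = y * x)
    (hsurj : ∀ n ∈ N, ∃ n' ∈ N, ⁅σ δ₀, n'⁆ = n)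
    (hinj : ∀ n ∈ N, ⁅σ δ₀, n⁆ = 1 → n = 1)
    (hgen : ∀ g : Γ, ∃ x t : Γ, g = x * t ∧ (∀ z ∈ N.comap σ, x * z = z * x) ∧
      t * δ₀ = δ₀ * t) :
    ∃ (Z₁ : Subgroup Γ) (_ : Z₁.Normal) (hle : Z₁ ≤ N.comap σ),
      Function.Surjective (QuotientGroup.map Z₁ N σ hle) ∧
      (QuotientGroup.map Z₁ N σ hle).ker ≤ Subgroup.center (Γ ⧸ Z₁) ∧
      ((∀ k ∈ commutator (Γ ⧸ Z₁), k ∈ (QuotientGroup.map Z₁ N σ hle).ker → k = 1) →
        ∀ k ∈ commutator Γ, k ∈ σ.ker → k = 1) := by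
  have hnorm : ∀ (g : Γ), ∀ x ∈ N.comap σ, g * x * g⁻¹ ∈ N.comap σ := by
    intro g x hx
    rw [Subgroup.mem_comap, map_mul, map_mul, map_inv]
    exact hN.conj_mem _ hx _
  have hδ : ∀ x ∈ N.comap σ, δ₀ * x * δ₀⁻¹ ∈ N.comap σ := hnorm δ₀
  let Z₁ : Subgroup Γ := commSubgroup δ₀ (N.comap σ) hab hδ
  have hZ₁le : Z₁ ≤ N.comap σ := commSubgroup_le δ₀ (N.comap σ) hab hδ
  -- normality
  have hZ₁n : Z₁.Normal := by
    constructor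
    rintro v ⟨z, hz, rfl⟩ g
    obtain ⟨x, t, rfl, hx, ht⟩ := hgen g
    have h1 : t * ⁅δ₀, z⁆ * t⁻¹ = ⁅δ₀, t * z * t⁻¹⁆ := by
      rw [conjugate_commutatorElement]
      have : t * δ₀ * t⁻¹ = δ₀ := by rw [ht]; group
      rw [this]
    have h2 : ⁅δ₀, t * z * t⁻¹⁆ ∈ N.comap σ :=
      hZ₁le ⟨t * z * t⁻¹, hnorm t z hz, rfl⟩
    have h3 : x * t * ⁅δ₀, z⁆ * (x * t)⁻¹ = ⁅δ₀, t * z * t⁻¹⁆ := by
      calc x * t * ⁅δ₀, z⁆ * (x * t)⁻¹ = x * (t * ⁅δ₀, z⁆ * t⁻¹) * x⁻¹ := by group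
        _ = x * ⁅δ₀, t * z * t⁻¹⁆ * x⁻¹ := by rw [h1]
        _ = ⁅δ₀, t * z * t⁻¹⁆ * x * x⁻¹ := by rw [hx _ h2]
        _ = ⁅δ₀, t * z * t⁻¹⁆ := by group
    rw [h3]
    exact ⟨t * z * t⁻¹, hnorm t z hz, rfl⟩
  -- intersection with the kernel
  have hZ₁K : ∀ v ∈ Z₁, v ∈ σ.ker → v = 1 := by
    rintro v ⟨z, hz, rfl⟩ hk
    rw [MonoidHom.mem_ker, map_commutatorElement] at hk
    have h1 : σ z = 1 := hinj (σ z) hz hk
    have hzK : z ∈ σ.ker := h1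
    rw [commutatorElement_eq_one_iff_commute]
    exact central_comm σ hK hzK δ₀
  -- the preimage of `N` is `Z₁ K`
  have hdec : ∀ z ∈ N.comap σ, ∃ v ∈ Z₁, ∃ κ ∈ σ.ker, z = v * κ := by
    intro z hz
    obtain ⟨n', hn', hn⟩ := hsurj (σ z) hz
    obtain ⟨z', hz'⟩ := hs n'
    have hz'N : z' ∈ N.comap σ := by
      rw [Subgroup.mem_comap, hz']
      exact hn'
    refine ⟨⁅δ₀, z'⁆, ⟨z', hz'N, rfl⟩, ?_⟩
    exact exists_ker_mul σ z ⁅δ₀, z'⁆ (by rw [map_commutatorElement, hz', hn])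
  refine ⟨Z₁, hZ₁n, hZ₁le, ?_, ?_, ?_⟩
  · apply QuotientGroup.map_surjective_of_surjective
    intro b
    obtain ⟨b', rfl⟩ := QuotientGroup.mk_surjective b
    obtain ⟨g, rfl⟩ := hs b'
    exact ⟨g, rfl⟩
  · intro k hk
    obtain ⟨g, rfl⟩ := QuotientGroup.mk_surjective k
    rw [MonoidHom.mem_ker, QuotientGroup.map_mk, QuotientGroup.eq_one_iff] at hk
    obtain ⟨v, hv, κ, hκ, rfl⟩ := hdec g hk
    rw [Subgroup.mem_center_iff]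
    intro y
    obtain ⟨y', rfl⟩ := QuotientGroup.mk_surjective y
    have hv1 : ((v : Γ) : Γ ⧸ Z₁) = 1 := (QuotientGroup.eq_one_iff v).2 hv
    rw [QuotientGroup.mk_mul, hv1, one_mul, ← QuotientGroup.mk_mul, ← QuotientGroup.mk_mul,
      central_comm σ hK hκ y']
  · intro h k hk hkK
    have h1 : ((k : Γ) : Γ ⧸ Z₁) ∈ commutator (Γ ⧸ Z₁) := by
      have : (commutator Γ).map (QuotientGroup.mk' Z₁) ≤ commutator (Γ ⧸ Z₁) := by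
        rw [commutator_def, commutator_def, Subgroup.map_commutator]
        exact Subgroup.commutator_mono le_top le_top
      exact this ⟨k, hk, rfl⟩
    have h2 : ((k : Γ) : Γ ⧸ Z₁) ∈ (QuotientGroup.map Z₁ N σ hZ₁le).ker := by
      rw [MonoidHom.mem_ker, QuotientGroup.map_mk, (MonoidHom.mem_ker).1 hkK]
      rfl
    have h3 := h _ h1 h2
    rw [QuotientGroup.eq_one_iff] at h3
    exact hZ₁K k h3 hkK

end Cfsg.Agent.Helper20.SchurSz
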