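import Mathlib
import Cfsg.Prelude.Def_Solvable
import Cfsg.Agent.Lib.Helper20.W3Defs
import Cfsg.Agent.Lib.Helper2.ABLEMT
import Cfsg.Agent.Lib.Helper2.ABNIL
import Cfsg.Agent.Lib.Helper15.W3BLKA
import Cfsg.Agent.Lib.Helper6.W3CHIPAIR
import Cfsg.Agent.Lib.Helper5.W3EXCFIN

/-!
# S3300 (helper20): the block lemma `block_prodP` for a sign character (assembly of W3-BLKA, W3-CHIPAIR,
W3-EXCFIN after helper8's `exc_out` / `block_prod`).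
-/

set_option autoImplicit false

namespace Cfsg.Agent.Helper20.W3

open Cfsg.Agent.Helper8.XS Cfsg.Agent.Helper8.AB

section block

variable {G : Type*} [Group G] [Finite G] {z : G} {H : Subgroup G}
  [Fintype (G ⧸ H)] {ψ : ↥H →* ℤˣ} {n : ℕ}

/-- ASSEMBLY (after helper8's `exc_out`). -/
theorem exc_outP (gl : GlobP z H ψ n) (u : G) (Q : Subgroup G) (l : Loc u Q)
    (v : G) (hvQ : ∀ x ∈ Q, v⁻¹ * x * v ∈ Q) (hvH : v ∈ H) (huH : u ∈ H) (hu1 : valH ψ u = 1)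
    (k : ℕ) (hk : 1 ≤ k) (hvo : orderOf v = 2 ^ k) (hn : n = 2 ^ k)
    (hzQ : z ∉ Q)
    (hexc : ∀ e ∈ Q, e ∉ H → v⁻¹ * e⁻¹ * v * e ∈ H → valH ψ (v⁻¹ * e⁻¹ * v * e) ≠ 1) :
    False := by
  have huz : u * z = z * u := (gl.hH u).1 huH
  have hT := cent_index_ge_four l z gl.hzz huz.symm hzQ
  have hnotH : ∀ e : G, e * z ≠ z * e → e ∉ H := fun e he heH => he ((gl.hH e).1 heH)
  have hex0 : ∃ e₀ ∈ Q, v⁻¹ * e₀⁻¹ * v * e₀ ∉ H := by
    by_contra hcon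
    push Not at hcon
    obtain ⟨e', he', he'z, -⟩ := hT 1 Q.one_mem
    obtain ⟨e, he, hez, hee'⟩ := hT e' he'
    exact hnotH _ hee' (exc_cosetP gl u Q l.xs v hvQ hvH huH hu1 hexc e e' he he' (hnotH _ hez)
      (hnotH _ he'z) (hcon e he) (hcon e' he'))
  obtain ⟨e₀, he₀, h0⟩ := hex0
  have hsqF : ∀ x ∈ Q, x * x ∈ Q ⊓ H := by
    intro x hx
    refine ⟨Q.mul_mem hx hx, ?_⟩
    rcases l.xs.hsq x hx with h | h
    · rw [h]; exact H.one_mem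
    · rw [h]; exact huH
  have hcommF : ∀ x ∈ Q, ∀ w ∈ Q, x * w * x⁻¹ * w⁻¹ ∈ Q ⊓ H := by
    intro x hx w hw
    refine ⟨Q.mul_mem (Q.mul_mem (Q.mul_mem hx hw) (Q.inv_mem hx)) (Q.inv_mem hw), ?_⟩
    rcases l.xs.hcomm x hx w hw with h | h
    · have : x * w * x⁻¹ * w⁻¹ = 1 := by
        rw [h]; group
      rw [this]; exact H.one_mem
    · have : x * w * x⁻¹ * w⁻¹ = u := by
        rw [h]; group
      rw [this]; exact huH
  have hvF : ∀ x ∈ Q ⊓ H, v⁻¹ * x * v ∈ Q ⊓ H := by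
    intro x hx
    exact ⟨hvQ x hx.1, H.mul_mem (H.mul_mem (H.inv_mem hvH) hx.2) hvH⟩
  have hvpow : v ^ 2 ^ k = 1 := by
    rw [← hvo]; exact pow_orderOf_eq_one v
  have hkQ : ∀ e ∈ Q, v⁻¹ * e⁻¹ * v * e ∈ Q := by
    intro e he
    have := Q.mul_mem (hvQ e⁻¹ (Q.inv_mem he)) he
    simpa [mul_assoc] using this
  obtain ⟨e, he, h1, h2⟩ := exists_two_cycle Q (Q ⊓ H) inf_le_left hsqF hcommF v k hvpow hvQ hvF
    e₀ he₀ (fun h => h0 h.2)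
  exact exc_finalP gl u Q l.xs v hvQ hvH huH hu1 k hk hvo hn hexc e he
    (fun h => h1 ⟨hkQ e he, h⟩) h2.2

/-- ASSEMBLY (after helper8's `block_prod`): a block whose base point `u` has `ψ u = 1` (or `u ∉ H`)
and `z ∉ Q` has product one. -/
theorem block_prodP (gl : GlobP z H ψ n) (u : G) (Q : Subgroup G) (l : Loc u Q)
    (hzQ : z ∉ Q) (hu1 : valH ψ u = 1)
    (v : G) (hvH : v ∈ H) (hvu : v * u = u * v)
    (k : ℕ) (hk : 1 ≤ k) (hvo : orderOf v = 2 ^ k) (hn : n = 2 ^ k) :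
    ∏ x ∈ blk Q H ((1 : G) : G ⧸ H), valH ψ (x.out⁻¹ * v * x.out) = 1 := by
  have hvQ : ∀ x ∈ Q, v⁻¹ * x * v ∈ Q := by
    intro x hx
    have h1 : v⁻¹ * u = u * v⁻¹ := by
      calc v⁻¹ * u = v⁻¹ * (u * v) * v⁻¹ := by group
        _ = v⁻¹ * (v * u) * v⁻¹ := by rw [hvu]
        _ = u * v⁻¹ := by group
    have := l.hn v⁻¹ h1 x hx
    simpa using this
  by_cases huH : u ∈ H
  · by_cases hex : ∃ e ∈ Q, e ∉ H ∧ v⁻¹ * e⁻¹ * v * e ∈ H ∧ valH ψ (v⁻¹ * e⁻¹ * v * e) = 1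
    · obtain ⟨e, he, heH, hk', hk1⟩ := hex
      exact block_pairP gl u Q l.xs v hvQ hvH huH hu1 e he heH hk' hk1
    · exfalso
      have hexc : ∀ e ∈ Q, e ∉ H → v⁻¹ * e⁻¹ * v * e ∈ H →
          valH ψ (v⁻¹ * e⁻¹ * v * e) ≠ 1 := by
        intro e he heH hk' h1
        exact hex ⟨e, he, heH, hk', h1⟩
      exact exc_outP gl u Q l v hvQ hvH huH hu1 k hk hvo hn hzQ hexc
  · exact block_AP gl u Q l.xs v hvu huH

end block

end Cfsg.Agent.Helper20.W3
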