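import Mathlib
import Cfsg.Agent.Lib.Helper8.ABDefs
import Cfsg.Agent.Lib.Helper9.ABORBPROD

/-!
# S3300, piece W3-ORBP (helper20): blockwise evaluation of a product over cosets with an invariant
exceptional set `D`.
-/

set_option autoImplicit false

namespace Cfsg.Agent.Helper20.W3

open Cfsg.Agent.Helper8.XS Cfsg.Agent.Helper8.AB

/-- PIECE W3-ORBP -/
theorem prod_eq_of_blocksD {G : Type*} [Group G] (Q H : Subgroup G) [Fintype (G ⧸ H)]
    {A : Type*} [CommMonoid A] (f : G ⧸ H → A) (c₀ : G ⧸ H)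
    (hfix : ∀ e ∈ Q, e • c₀ = c₀) (D : Finset (G ⧸ H))
    (hD : ∀ c ∈ D, ∀ e ∈ Q, e • c ∈ D) (hc₀ : c₀ ∉ D)
    (hblk : ∀ c : G ⧸ H, c ≠ c₀ → c ∉ D → ∏ x ∈ blk Q H c, f x = 1) :
    ∏ x, f x = f c₀ * ∏ x ∈ D, f x := by
  classical
  -- membership in `D` is constant on blocks
  have hDblk : ∀ c x : G ⧸ H, x ∈ blk Q H c → (x ∈ D ↔ c ∈ D) := by
    intro c x hx
    obtain ⟨e, he, rfl⟩ := mem_blk.1 hx
    constructor
    · intro h
      have := hD _ h e⁻¹ (Q.inv_mem he)
      rwa [inv_smul_smul] at this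
    · intro h
      exact hD c h e he
  have h1 : ∏ x, (if x ∈ D then 1 else f x) = (if c₀ ∈ D then 1 else f c₀) := by
    apply prod_eq_of_blocks Q H (fun x => if x ∈ D then 1 else f x) c₀ hfix
    intro c hc
    by_cases hcD : c ∈ D
    · apply Finset.prod_eq_one
      intro x hx
      rw [if_pos ((hDblk c x hx).2 hcD)]
    · rw [← hblk c hc hcD]
      apply Finset.prod_congr rfl
      intro x hx
      rw [if_neg (fun h => hcD ((hDblk c x hx).1 h))]
  rw [if_neg hc₀] at h1
  rw [← h1]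
  have h2 : ∀ x : G ⧸ H, f x = (if x ∈ D then 1 else f x) * (if x ∈ D then f x else 1) := by
    intro x
    by_cases hx : x ∈ D
    · rw [if_pos hx, if_pos hx, one_mul]
    · rw [if_neg hx, if_neg hx, mul_one]
  calc ∏ x, f x = ∏ x, ((if x ∈ D then 1 else f x) * (if x ∈ D then f x else 1)) :=
        Finset.prod_congr rfl (fun x _ => h2 x)
    _ = (∏ x, (if x ∈ D then 1 else f x)) * ∏ x, (if x ∈ D then f x else 1) :=
        Finset.prod_mul_distrib
    _ = (∏ x, (if x ∈ D then 1 else f x)) * ∏ x ∈ D, f x := by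
        congr 1
        rw [← Finset.prod_filter]
        congr 1
        ext x
        simp

end Cfsg.Agent.Helper20.W3
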