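import Mathlib
import Cfsg.Prelude.Def_Solvable
import Cfsg.Agent.Lib.Helper20.W3Defs
import Cfsg.Agent.Lib.Helper8.ABAsm
import Cfsg.Agent.Lib.Helper20.W3Blk
import Cfsg.Agent.Lib.Helper20.W3ORBP

/-!
# S3300, piece W3-STAR (helper20): the transfer of `y` into `H / K`, evaluated blockwise; only the blocks
in `Dset` survive.  Adaptation of helper8's `AB.main`.
-/

set_option autoImplicit false

namespace Cfsg.Agent.Helper20.W3

open Cfsg.Agent.Helper8.XS Cfsg.Agent.Helper8.AB

section ctx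

variable {G : Type*} [Group G] [Finite G] {z : G} {H E K : Subgroup G} {n : ℕ}

/-- `z ∈ K`: `z` is a commutator of two elements of `E ≤ H`. -/
theorem w3star_val_z (c : Ctx3 z H E K n) (χ : ↥H →* ℤˣ) : valH χ z = 1 := by
  have xs := c.loc.xs
  -- `E` is not abelian
  have hex : ∃ w ∈ E, ∃ x ∈ E, w * x ≠ x * w := by
    by_contra hcon
    push Not at hcon
    have hsub : ∀ w ∈ E, w = 1 ∨ w = z := fun w hw => xs.hcenter w hw (hcon w hw)
    have hle : Nat.card ↥E ≤ 2 := by
      have hfin : ((E : Set G)) ⊆ ({1, z} : Set G) := by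
        intro w hw
        rcases hsub w hw with h | h
        · left; exact h
        · right; exact h
      have h1 : Set.ncard (E : Set G) ≤ Set.ncard ({1, z} : Set G) :=
        Set.ncard_le_ncard hfin (Set.toFinite _)
      have h2 : Set.ncard ({1, z} : Set G) ≤ 2 := Set.ncard_insert_le _ _ |>.trans (by simp)
      have h3 : Nat.card ↥E = Set.ncard (E : Set G) := rfl
      omega
    rw [c.hcard] at hle
    have : 2 ^ 1 < 2 ^ (2 * n + 1) := Nat.pow_lt_pow_right (by norm_num) (by have := c.hn; omega)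
    omega
  obtain ⟨w, hw, x, hx, hwx⟩ := hex
  have hz : z = (w⁻¹)⁻¹ * (x⁻¹)⁻¹ * w⁻¹ * x⁻¹ := by
    rcases xs.hcomm w hw x hx with h | h
    · exact absurd h hwx
    · rw [inv_inv, inv_inv, h]; group
  rw [hz]
  exact val_comm χ (H.inv_mem (c.hEH hw)) (H.inv_mem (c.hEH hx))

/-- the value attached to `e • x` for `e` commuting with `w` -/
theorem w3star_smul [Fintype (G ⧸ H)] (χ : ↥H →* ℤˣ) (w e : G) (hew : e * w = w * e) (x : G ⧸ H) :
    valH χ ((e • x).out⁻¹ * w * (e • x).out) = valH χ (x.out⁻¹ * w * x.out) := by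
  have hx : x = ((x.out : G) : G ⧸ H) := (QuotientGroup.out_eq' x).symm
  conv_lhs => rw [hx, MulAction.Quotient.smul_mk, valH_out]
  simp only [smul_eq_mul]
  have : (e * x.out)⁻¹ * w * (e * x.out) = x.out⁻¹ * w * x.out := by
    calc (e * x.out)⁻¹ * w * (e * x.out) = x.out⁻¹ * (e⁻¹ * (w * e)) * x.out := by group
      _ = x.out⁻¹ * (e⁻¹ * (e * w)) * x.out := by rw [hew]
      _ = x.out⁻¹ * w * x.out := by group
  rw [this]

/-- PIECE W3-STAR -/
theorem star (c : Ctx3 z H E K n) [Fintype (G ⧸ H)] (χ : ↥H →* ℤˣ)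
    (hχ : ∀ h : ↥H, χ h = 1 ↔ (h : G) ∈ K) (y : G) (hyH : y ∈ H) (k : ℕ) (hk : 1 ≤ k)
    (hyo : orderOf y = 2 ^ k) (hmin : ∀ w ∈ H, orderOf w < orderOf y → w ∈ K) :
    valH χ y * ∏ x ∈ Dset χ z, valH χ (x.out⁻¹ * y * x.out) = 1 := by
  classical
  have h4 : ∀ a : ℤˣ, a ^ 4 = 1 := by
    intro a
    rcases Int.units_eq_one_or a with h | h <;> rw [h] <;> decide
  have hminχ : ∀ w : ↥H, orderOf (w : G) < orderOf y → χ w = 1 :=
    fun w hw => (hχ w).2 (hmin w w.2 hw)
  have gl : GlobP z H χ (2 ^ k) :=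
    { hzz := c.hzz
      hz1 := c.hz1
      hH := c.hH
      hmin := by
        intro w hw
        rw [← hyo] at hw
        exact hminχ w hw }
  have htr := hom_trivial c.hres h4 (MonoidHom.transfer χ) y
  rw [transfer_eq_prod H χ y hminχ] at htr
  have hfix : ∀ e ∈ E, e • (((1 : G) : G ⧸ H)) = ((1 : G) : G ⧸ H) := by
    intro e he
    rw [MulAction.Quotient.smul_mk, QuotientGroup.eq]
    simpa using H.inv_mem (c.hEH he)
  have hEz : ∀ e ∈ E, e * z = z * e := fun e he => (c.hH e).1 (c.hEH he)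
  have hD : ∀ x ∈ Dset χ z, ∀ e ∈ E, e • x ∈ Dset χ z := by
    intro x hx e he
    rw [mem_Dset] at hx ⊢
    rw [w3star_smul χ z e (hEz e he) x]
    exact hx
  have hc₀ : ((1 : G) : G ⧸ H) ∉ Dset χ z := by
    rw [mem_Dset, valH_out, inv_one, one_mul, mul_one, w3star_val_z c χ]
    decide
  have hyz : y * z = z * y := (c.hH y).1 hyH
  have hblk : ∀ c' : G ⧸ H, c' ≠ ((1 : G) : G ⧸ H) → c' ∉ Dset χ z →
      ∏ x ∈ blk E H c', valH χ (x.out⁻¹ * y * x.out) = 1 := by
    intro c' hc' hc'D
    by_cases hall : ∀ x ∈ blk E H c', valH χ (x.out⁻¹ * y * x.out) = 1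
    · exact Finset.prod_eq_one hall
    · push Not at hall
      obtain ⟨x, hx, hx1⟩ := hall
      rw [← blk_eq_of_mem hx]
      set r : G := x.out with hr
      have hxr : x = (r : G ⧸ H) := (QuotientGroup.out_eq' x).symm
      obtain ⟨e, he, hxe⟩ := mem_blk.1 hx
      have hrH : r ∉ H := by
        intro hrH
        apply hc'
        have hx0 : x = ((1 : G) : G ⧸ H) := by
          rw [hxr, QuotientGroup.eq]
          simpa using hrH
        have : c' = e⁻¹ • x := by rw [hxe, ← mul_smul, inv_mul_cancel, one_smul]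
        rw [this, hx0]
        exact hfix e⁻¹ (E.inv_mem he)
      have hxD : x ∉ Dset χ z := by
        intro hxD
        apply hc'D
        have : c' = e⁻¹ • x := by rw [hxe, ← mul_smul, inv_mul_cancel, one_smul]
        rw [this]
        exact hD x hxD e⁻¹ (E.inv_mem he)
      have hu1 : valH χ (r⁻¹ * z * r) = 1 := by
        rw [mem_Dset] at hxD
        rcases val_eq_or χ (r⁻¹ * z * r) with h | h
        · exact h
        · exact absurd h hxD
      have hvH : r⁻¹ * y * r ∈ H := by
        by_contra hcon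
        exact hx1 (valH_of_not_mem _ hcon)
      rw [hxr, blk_translate]
      have hzQ : z ∉ E.map (MulAut.conj r⁻¹).toMonoidHom := by
        rintro ⟨e', he', he'z⟩
        have he'z' : r⁻¹ * e' * r = z := by
          simpa [MulAut.conj_apply] using he'z
        have h1 : r * z * r⁻¹ = e' := by
          rw [← he'z']; group
        have h2 : r * z * r⁻¹ = z := c.hwc r (by rw [h1]; exact he')
        apply hrH
        rw [c.hH]
        calc r * z = r * z * r⁻¹ * r := by group
          _ = z * r := by rw [h2]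
      apply block_prodP gl (r⁻¹ * z * r) _ (loc_conj c.loc r) hzQ hu1 (r⁻¹ * y * r) hvH _ k hk _ rfl
      · calc r⁻¹ * y * r * (r⁻¹ * z * r) = r⁻¹ * (y * z) * r := by group
          _ = r⁻¹ * (z * y) * r := by rw [hyz]
          _ = r⁻¹ * z * r * (r⁻¹ * y * r) := by group
      · rw [← hyo]
        have : r⁻¹ * y * r = MulAut.conj r⁻¹ y := by simp
        rw [this, MulEquiv.orderOf_eq]
  rw [prod_eq_of_blocksD E H _ ((1 : G) : G ⧸ H) hfix (Dset χ z) hD hc₀ hblk] at htr
  rw [valH_out, inv_one, one_mul, mul_one] at htr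
  exact htr

end ctx

end Cfsg.Agent.Helper20.W3
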