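import Mathlib
import Cfsg.Prelude.Def_Solvable
import Cfsg.Agent.Lib.Helper20.W3Defs
import Cfsg.Agent.Lib.Helper20.W3STAR
import Cfsg.Agent.Lib.Helper11.W3MINY

/-!
# S3300, piece W3-INVOL (helper20): `H ∖ K` contains an involution.
-/

set_option autoImplicit false

namespace Cfsg.Agent.Helper20.W3

open Cfsg.Agent.Helper8.XS Cfsg.Agent.Helper8.AB

section ctx

variable {G : Type*} [Group G] [Finite G] {z : G} {H E K : Subgroup G} {n : ℕ}

/-- PIECE W3-INVOL -/
theorem exists_invol (c : Ctx3 z H E K n) (χ : ↥H →* ℤˣ)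
    (hχ : ∀ h : ↥H, χ h = 1 ↔ (h : G) ∈ K) :
    ∃ y : G, y ∈ H ∧ y ∉ K ∧ y * y = 1 := by
  obtain ⟨y, hyH, hyK, ⟨k, hk1, hyo⟩, hmin⟩ := exists_minP c
  refine ⟨y, hyH, hyK, ?_⟩
  by_cases hk : k = 1
  · have := pow_orderOf_eq_one y
    rwa [hyo, hk, pow_one, pow_two] at this
  · exfalso
    have hk2 : 2 ≤ k := by omega
    haveI : Fintype (G ⧸ H) := Fintype.ofFinite _
    have hst := star c χ hχ y hyH k hk1 hyo hmin
    have hz2 : orderOf z = 2 := by
      apply orderOf_eq_prime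
      · rw [pow_two]; exact c.hzz
      · exact c.hz1
    have hempty : Dset χ z = ∅ := by
      apply Finset.eq_empty_of_forall_notMem
      intro x hx
      rw [mem_Dset] at hx
      obtain ⟨hwH, hwK⟩ := (val_neg_iff χ hχ _).1 hx
      apply hwK
      apply hmin _ hwH
      have : x.out⁻¹ * z * x.out = MulAut.conj x.out⁻¹ z := by simp
      rw [this, MulEquiv.orderOf_eq, hz2, hyo]
      calc 2 = 2 ^ 1 := by norm_num
        _ < 2 ^ k := Nat.pow_lt_pow_right (by norm_num) (by omega)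
    rw [hempty, Finset.prod_empty, mul_one] at hst
    have := (val_neg_iff χ hχ y).2 ⟨hyH, hyK⟩
    rw [hst] at this
    exact absurd this (by decide)

end ctx

end Cfsg.Agent.Helper20.W3
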