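import Mathlib
import Cfsg.Agent.Lib.Helper20.A3Defs
import Cfsg.Agent.Lib.Helper20.A3LAM2
import Cfsg.Agent.Lib.Helper12.A3BIL
import Cfsg.Agent.Lib.Helper12.A3CARDW
import Cfsg.Agent.Lib.Helper17.A3D4
import Cfsg.Agent.Lib.Helper18.A3CNT
import Cfsg.Agent.Lib.Helper22.A3EQV
import Cfsg.Agent.Lib.Helper23.A3U2
import Cfsg.Agent.Lib.Helper7.A3COMM
import Cfsg.Agent.Lib.Helper7.A3SMALL
import Cfsg.Agent.Lib.Helper19.A3ASM8
import Cfsg.Agent.Lib.Helper19.A3ASM16
import Cfsg.Agent.Lib.Helper12.FrattiniAct
import Cfsg.Agent.Lib.Helper1.Critical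

set_option autoImplicit false
set_option linter.unusedSectionVars false
set_option linter.unusedVariables false
set_option linter.style.haveILetI false

/-!
Top-level assembly for S3117.
-/

namespace Cfsg.Agent.Helper20.A3

universe u

/-- The abstract lemma. -/
theorem abs_solvable {W U : Type*} [Group W] [Group U] [Finite W] [Finite U]
    (hW : ∀ w : W, w * w = 1) (hU : ∀ u : U, u * u = 1) (q : W → U)
    (hq : IsQuadMap q) (R : Subgroup (MulAut W))
    (hR : ∀ g ∈ R, ∃ h : MulAut U, ∀ w, q (g w) = h (q w))
    (hcard : Nat.card W ≤ 16) (hcount : n0 q + Nat.card U ≤ 4) : Group.IsSolvable R := by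
  rcases card_W_cases hW hcard with h | h | h
  · haveI := solv_mulAut_of_card_le_four h
    infer_instance
  · exact abs_eight hW hU q hq R hR h hcount
  · exact abs_sixteen hW hU q hq R hR h hcount

/-- Restriction of automorphisms to a characteristic subgroup. -/
def resHom {G : Type*} [Group G] (P : Subgroup G) [hP : P.Characteristic] :
    MulAut G →* MulAut ↥P where
  toFun α :=
    { toFun := fun y => ⟨α (y : G), by
        have h : P.comap α.toMonoidHom = P := hP.fixed α
        have h2 : (y : G) ∈ P.comap α.toMonoidHom := by rw [h]; exact y.2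
        exact h2⟩
      invFun := fun y => ⟨α.symm (y : G), by
        have h : P.comap α.symm.toMonoidHom = P := hP.fixed α.symm
        have h2 : (y : G) ∈ P.comap α.symm.toMonoidHom := by rw [h]; exact y.2
        exact h2⟩
      left_inv := fun y => Subtype.ext (α.symm_apply_apply (y : G))
      right_inv := fun y => Subtype.ext (α.apply_symm_apply (y : G))
      map_mul' := fun a b => Subtype.ext (map_mul α (a : G) (b : G)) }
  map_one' := by
    apply MulEquiv.ext
    intro y
    rfl
  map_mul' α β := by
    apply MulEquiv.ext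
    intro y
    rfl

theorem resHom_coe {G : Type*} [Group G] (P : Subgroup G) [hP : P.Characteristic]
    (α : MulAut G) (y : ↥P) : ((resHom P α y : ↥P) : G) = α (y : G) := rfl

/-- A group with a homomorphism to a solvable group with abelian kernel is solvable. -/
theorem solv_of_abelian_ker {G G'' : Type*} [Group G] [Group G''] (g : G →* G'')
    [hG'' : Group.IsSolvable G''] (h : ∀ a ∈ g.ker, ∀ b ∈ g.ker, a * b = b * a) :
    Group.IsSolvable G := by
  haveI : Group.IsSolvable ↥g.ker := by
    apply Group.isSolvable_of_comm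
    intro a b
    apply Subtype.ext
    exact h a a.2 b b.2
  exact Group.isSolvable_of_ker_le_range g.ker.subtype g (by simp)

/-- Involutions of a subgroup inject into involutions of the group. -/
theorem card_invol_subgroup_le {X : Type*} [Group X] [Finite X] (H : Subgroup X) :
    Nat.card {x : ↥H // orderOf x = 2} ≤ Nat.card {x : X // orderOf x = 2} := by
  apply Nat.card_le_card_of_injective
    (fun x : {x : ↥H // orderOf x = 2} =>
      (⟨(x.1 : X), by rw [Subgroup.orderOf_coe]; exact x.2⟩ : {x : X // orderOf x = 2}))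
  intro a b hab
  apply Subtype.ext
  apply Subtype.ext
  exact congrArg (fun z : {x : X // orderOf x = 2} => (z.1 : X)) hab

/-- The Frattini subgroup of a nontrivial finite group is proper. -/
theorem card_frattini_lt {C : Type*} [Group C] [Finite C] [Nontrivial C] :
    Nat.card ↥(frattini C) < Nat.card C := by
  have hne : frattini C ≠ ⊤ := by
    rcases eq_top_or_exists_le_coatom (⊥ : Subgroup C) with h | ⟨K, hK, -⟩
    · exact absurd h bot_ne_top
    · intro htop
      have := frattini_le_coatom hK
      rw [htop] at this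
      exact hK.1 (top_le_iff.mp this)
  exact lt_of_le_of_ne (Subgroup.card_le_card_group _)
    (fun h => hne (Subgroup.eq_top_of_card_eq _ h))

/-- **(UC)** A `2`-group with central Frattini subgroup and at most three involutions has a
solvable automorphism group. -/
theorem uc_solvable (n : ℕ) : ∀ (C : Type u) [Group C] [Finite C], Nat.card C = n →
    IsPGroup 2 C → frattini C ≤ Subgroup.center C →
    Nat.card {x : C // orderOf x = 2} ≤ 3 → Group.IsSolvable (MulAut C) := by
  induction n using Nat.strong_induction_on with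
  | _ n ih =>
  intro C _ _ hn hC hΦ h3
  by_cases htriv : Subsingleton C
  · haveI := htriv
    haveI : Subsingleton (MulAut C) := ⟨fun a b => by
      apply MulEquiv.ext
      intro x
      exact Subsingleton.elim _ _⟩
    infer_instance
  rw [not_subsingleton_iff_nontrivial] at htriv
  haveI := htriv
  -- the Frattini subgroup
  have hlt : Nat.card ↥(frattini C) < n := hn ▸ card_frattini_lt
  have hcomm : ∀ a ∈ frattini C, ∀ b ∈ frattini C, a * b = b * a := by
    intro a ha b hb
    exact ((Subgroup.mem_center_iff.mp (hΦ ha)) b).symm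
  haveI hsolΦ : Group.IsSolvable (MulAut ↥(frattini C)) := by
    apply ih _ hlt ↥(frattini C) rfl (hC.to_subgroup _)
    · intro f _
      rw [Subgroup.mem_center_iff]
      intro g
      apply Subtype.ext
      exact hcomm g g.2 f f.2
    · exact le_trans (card_invol_subgroup_le _) h3
  -- the image on the Frattini quotient
  let ρ := Cfsg.Agent.Helper12.FA.autQuot (frattini C)
  haveI hsolR : Group.IsSolvable ↥ρ.range := by
    apply abs_solvable (frattini_quot_exp_two hC) (UU_exp_two hC hΦ) (qU C)
      (qU_isQuadMap hC hΦ) ρ.range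
    · rintro g ⟨α, rfl⟩
      exact qU_equivariant hC hΦ α
    · exact card_frattini_quot_le hC h3
    · have := n0_add_card_le hC hΦ
      omega
  -- the product map
  let g : MulAut C →* ↥ρ.range × MulAut ↥(frattini C) :=
    ρ.rangeRestrict.prod (resHom (frattini C))
  apply solv_of_abelian_ker g
  have hker : ∀ α ∈ g.ker, (∀ f ∈ frattini C, α f = f) ∧ ∀ x, x⁻¹ * α x ∈ frattini C := by
    intro α hα
    rw [MonoidHom.mem_ker] at hα
    have h1 : ρ.rangeRestrict α = 1 := congrArg Prod.fst hα
    have h2 : resHom (frattini C) α = 1 := congrArg Prod.snd hα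
    constructor
    · intro f hf
      have := congrArg (fun β : MulAut ↥(frattini C) => ((β ⟨f, hf⟩ : ↥(frattini C)) : C)) h2
      exact this
    · intro x
      have h3 : ρ α = 1 := congrArg Subtype.val h1
      have h4 : ρ α (QuotientGroup.mk x) = QuotientGroup.mk x := by
        rw [h3]; rfl
      rw [Cfsg.Agent.Helper12.FA.autQuot_mk] at h4
      have h5 := QuotientGroup.eq.mp h4.symm
      exact h5
  intro α hα β hβ
  obtain ⟨a1, a2⟩ := hker α hα
  obtain ⟨b1, b2⟩ := hker β hβ
  exact comm_of_stab (frattini C) hcomm α β a1 a2 b1 b2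

/-- **S3117.** -/
theorem main {X : Type u} [Group X] [Finite X] (h2 : IsPGroup 2 X)
    (h3 : Nat.card {x : X // orderOf x = 2} = 3) : Group.IsSolvable (MulAut X) := by
  haveI : Fact (Nat.Prime 2) := ⟨Nat.prime_two⟩
  obtain ⟨H, hchar, hfr, hcomm, hcent⟩ := Cfsg.Agent.Helper1.exists_critical h2
  haveI := hchar
  haveI : H.Normal := inferInstance
  haveI hsolH : Group.IsSolvable (MulAut ↥H) := by
    apply uc_solvable _ ↥H rfl (h2.to_subgroup _)
    · intro f hf
      rw [Subgroup.mem_center_iff]
      intro g
      apply Subtype.ext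
      have h1 : ((f : ↥H) : X) ∈ (frattini ↥H).map H.subtype := Subgroup.mem_map_of_mem _ hf
      have h2' := hfr h1
      rw [Subgroup.mem_centralizer_iff] at h2'
      exact h2' g g.2
    · exact le_trans (card_invol_subgroup_le _) h3.le
  apply solv_of_abelian_ker (resHom H)
  have hker : ∀ α ∈ (resHom H).ker, (∀ n ∈ Subgroup.centralizer (H : Set X), α n = n) ∧
      ∀ x, x⁻¹ * α x ∈ Subgroup.centralizer (H : Set X) := by
    intro α hα
    rw [MonoidHom.mem_ker] at hα
    have hfix : ∀ h ∈ H, α h = h := by
      intro h hh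
      have := congrArg (fun β : MulAut ↥H => ((β ⟨h, hh⟩ : ↥H) : X)) hα
      exact this
    constructor
    · intro n hn
      exact hfix n (hcent hn)
    · intro x
      rw [Subgroup.mem_centralizer_iff]
      intro h hh
      have hconj : x * h * x⁻¹ ∈ H := (inferInstance : H.Normal).conj_mem h hh x
      have e1 := hfix _ hconj
      rw [map_mul, map_mul, hfix h hh, map_inv] at e1
      -- α x * h * (α x)⁻¹ = x * h * x⁻¹
      have e2 : α x * h = x * h * x⁻¹ * α x := by
        rw [← e1]; group
      calc h * (x⁻¹ * α x) = x⁻¹ * (x * h * x⁻¹ * α x) := by group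
        _ = x⁻¹ * (α x * h) := by rw [e2]
        _ = x⁻¹ * α x * h := by group
  have hNcomm : ∀ a ∈ Subgroup.centralizer (H : Set X), ∀ b ∈ Subgroup.centralizer (H : Set X),
      a * b = b * a := by
    intro a ha b hb
    rw [Subgroup.mem_centralizer_iff] at ha
    exact (ha b (hcent hb)).symm
  intro α hα β hβ
  obtain ⟨a1, a2⟩ := hker α hα
  obtain ⟨b1, b2⟩ := hker β hβ
  exact comm_of_stab (Subgroup.centralizer (H : Set X)) hNcomm α β a1 a2 b1 b2

end Cfsg.Agent.Helper20.A3
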