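import Mathlib
import Cfsg.Agent.Lib.Helper20.A5QDefs
import Cfsg.Agent.Lib.Helper3.Dihedral
import Cfsg.Agent.Lib.Helper16.QuatRecog

set_option autoImplicit false
set_option linter.unusedSectionVars false
set_option linter.unusedVariables false

/-!
S3106, end part of piece CEXTRA (helper20): a group of order `32` generated by `a₁, a₂, b₁, b₂` with
`a₁² = a₂² = 1`, `(a₁a₂)² = z`, `b₁² = b₂² = (b₁b₂)² = z`, `[a_i, b_j] = 1`, `z ≠ 1` central and centre inside
`{1, z}` is the central product `Q8 * D8`.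
-/

namespace Cfsg.Agent.Helper20.A5Q

open Cfsg.Agent.Helper3 Cfsg.Agent.Helper16

section Gens

variable {C : Type*} [Group C]

/-- the dihedral part: relations -/
theorem gens_dih (z a1 a2 : C) (hzc : ∀ x, z * x = x * z) (ha1 : a1 ^ 2 = 1) (ha2 : a2 ^ 2 = 1)
    (ha12 : (a1 * a2) ^ 2 = z) :
    z ^ 2 = 1 ∧ (a1 * a2) ^ 4 = 1 ∧ a1 * a1 = 1 ∧ a1 * (a1 * a2) * a1 = (a1 * a2)⁻¹ := by
  have h1 : a1 * a1 = 1 := by rw [← pow_two]; exact ha1
  have h2 : a2 * a2 = 1 := by rw [← pow_two]; exact ha2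
  have hinv : (a1 * a2)⁻¹ = a2 * a1 := by
    apply inv_eq_of_mul_eq_one_right
    calc a1 * a2 * (a2 * a1) = a1 * (a2 * a2) * a1 := by group
      _ = 1 := by rw [h2, mul_one, h1]
  have h3 : a1 * (a1 * a2) * a1 = (a1 * a2)⁻¹ := by
    rw [hinv, ← mul_assoc, h1, one_mul]
  -- `z = (a1 a2)^2`, conjugation by `a1` inverts `a1 a2` and fixes `z`
  have h4 : a1 * z * a1 = z := by
    rw [← hzc a1, mul_assoc, h1, mul_one]
  have h5 : a1 * z * a1 = ((a1 * a2)⁻¹) ^ 2 := by
    rw [← ha12, ← h3, pow_two, pow_two]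
    calc a1 * (a1 * a2 * (a1 * a2)) * a1 = a1 * (a1 * a2) * (a1 * a1) * (a1 * a2) * a1 := by
          rw [h1, mul_one]; group
      _ = a1 * (a1 * a2) * a1 * (a1 * (a1 * a2) * a1) := by group
  have h6 : z = z⁻¹ := by
    rw [h4, inv_pow, ha12] at h5
    exact h5
  have hz2 : z ^ 2 = 1 := by
    rw [pow_two]
    nth_rewrite 1 [h6]
    exact inv_mul_cancel z
  refine ⟨hz2, ?_, h1, h3⟩
  calc (a1 * a2) ^ 4 = ((a1 * a2) ^ 2) ^ 2 := by rw [← pow_mul]
    _ = 1 := by rw [ha12, hz2]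

/-- the quaternion part: relations -/
theorem gens_quat (z b1 b2 : C) (hz2 : z ^ 2 = 1) (hb1 : b1 ^ 2 = z) (hb2 : b2 ^ 2 = z)
    (hb12 : (b1 * b2) ^ 2 = z) :
    b1 ^ (2 * 2) = 1 ∧ b2 ^ 2 = b1 ^ 2 ∧ b2 * b1 * b2⁻¹ = b1⁻¹ := by
  refine ⟨?_, by rw [hb1, hb2], ?_⟩
  · rw [pow_mul, hb1, hz2]
  · -- `b1 b2 b1 b2 = b2 b2`, so `b1 b2 b1 = b2`
    have h1 : b1 * b2 * (b1 * b2) = b2 * b2 := by
      rw [← pow_two, hb12, ← pow_two, hb2]
    have h2 : b1 * b2 * b1 = b2 := by
      have : b1 * b2 * b1 * b2 = b2 * b2 := by rw [← h1]; group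
      exact mul_right_cancel this
    have h3 : b2 * b1 = b1⁻¹ * b2 := by
      rw [eq_inv_mul_iff_mul_eq, ← mul_assoc]
      exact h2
    rw [h3, mul_assoc, mul_inv_cancel, mul_one]

variable [Finite C]

theorem isQ8D8_of_gens (hcard : Nat.card C = 32) (z a1 a2 b1 b2 : C) (hz : z ≠ 1)
    (hzc : ∀ x, z * x = x * z) (ha1 : a1 ^ 2 = 1) (ha2 : a2 ^ 2 = 1) (ha12 : (a1 * a2) ^ 2 = z)
    (hb1 : b1 ^ 2 = z) (hb2 : b2 ^ 2 = z) (hb12 : (b1 * b2) ^ 2 = z)
    (h11 : a1 * b1 = b1 * a1) (h12 : a1 * b2 = b2 * a1) (h21 : a2 * b1 = b1 * a2)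
    (h22 : a2 * b2 = b2 * a2) (hgen : Subgroup.closure {a1, a2, b1, b2} = ⊤)
    (hcen : ∀ c ∈ Subgroup.center C, c = 1 ∨ c = z) : IsQ8D8 C := by
  obtain ⟨hz2, hρ4, hs, hsx⟩ := gens_dih z a1 a2 hzc ha1 ha2 ha12
  obtain ⟨hx4, ht, htx⟩ := gens_quat z b1 b2 hz2 hb1 hb2 hb12
  -- orders
  have hρo : orderOf (a1 * a2) = 4 := by
    have := orderOf_eq_prime_pow (x := a1 * a2) (p := 2) (n := 1) (by rw [pow_one, ha12]; exact hz)
      (by norm_num; exact hρ4)
    simpa using this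
  have hbo : orderOf b1 = 4 := by
    have := orderOf_eq_prime_pow (x := b1) (p := 2) (n := 1) (by rw [pow_one, hb1]; exact hz)
      (by norm_num; exact hx4)
    simpa using this
  -- the two homomorphisms
  let fD : DihedralGroup 4 →* C := dihedralLift (a1 * a2) a1 hρ4 hs hsx
  let fQ : QuaternionGroup 2 →* C := quaternionLift b1 b2 hx4 ht htx
  have hfDr : ∀ i : ZMod 4, fD (DihedralGroup.r i) = (a1 * a2) ^ i.val := fun i => rfl
  have hfDs : ∀ i : ZMod 4, fD (DihedralGroup.sr i) = a1 * (a1 * a2) ^ i.val := fun i => rfl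
  have hfQa : ∀ i : ZMod (2 * 2), fQ (QuaternionGroup.a i) = b1 ^ i.val := fun i => rfl
  have hfQx : ∀ i : ZMod (2 * 2), fQ (QuaternionGroup.xa i) = b2 * b1 ^ i.val := fun i => rfl
  -- injectivity
  have hDinj : Function.Injective fD := by
    rw [injective_iff_map_eq_one]
    rintro (i | i) hi
    · rw [hfDr] at hi
      have h1 := orderOf_dvd_of_pow_eq_one hi
      rw [hρo] at h1
      have h2 : i.val < 4 := ZMod.val_lt i
      have h3 : i.val = 0 := Nat.eq_zero_of_dvd_of_lt h1 h2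
      have h4 : i = 0 := (ZMod.val_eq_zero i).1 h3
      rw [h4]; rfl
    · exfalso
      rw [hfDs] at hi
      have h1 : a1 = ((a1 * a2) ^ i.val)⁻¹ := eq_inv_of_mul_eq_one_left hi
      have hc : Commute a1 (a1 * a2) := by
        have hc0 : Commute ((a1 * a2) ^ i.val)⁻¹ (a1 * a2) :=
          ((Commute.refl (a1 * a2)).pow_left _).inv_left
        rw [← h1] at hc0
        exact hc0
      have h2 : a1 * (a1 * a2) * a1 = a1 * a2 := by
        rw [hc.eq, mul_assoc, hs, mul_one]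
      rw [hsx] at h2
      have h3 : (a1 * a2) ^ 2 = 1 := by
        rw [pow_two]
        nth_rewrite 1 [← h2]
        exact inv_mul_cancel _
      rw [ha12] at h3
      exact hz h3
  have hQinj : Function.Injective fQ := by
    rw [injective_iff_map_eq_one]
    rintro (i | i) hi
    · rw [hfQa] at hi
      have h1 := orderOf_dvd_of_pow_eq_one hi
      rw [hbo] at h1
      have h2 : i.val < 4 := ZMod.val_lt i
      have h3 : i.val = 0 := Nat.eq_zero_of_dvd_of_lt h1 h2
      have h4 : i = 0 := (ZMod.val_eq_zero i).1 h3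
      rw [h4]; rfl
    · exfalso
      rw [hfQx] at hi
      have h1 : b2 = (b1 ^ i.val)⁻¹ := eq_inv_of_mul_eq_one_left hi
      have hc : Commute b2 b1 := by
        have hc0 : Commute (b1 ^ i.val)⁻¹ b1 := ((Commute.refl b1).pow_left _).inv_left
        rw [← h1] at hc0
        exact hc0
      have h2 : b2 * b1 * b2⁻¹ = b1 := by
        rw [hc.eq, mul_assoc, mul_inv_cancel, mul_one]
      rw [htx] at h2
      have h3 : b1 ^ 2 = 1 := by
        rw [pow_two]
        nth_rewrite 1 [← h2]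
        exact inv_mul_cancel _
      rw [hb1] at h3
      exact hz h3
  -- commutation
  have hcA : ∀ a ∈ fQ.range, Commute a a1 ∧ Commute a a2 := by
    rintro _ ⟨q, rfl⟩
    have c11 : Commute b1 a1 := h11.symm
    have c12 : Commute b1 a2 := h21.symm
    have c21 : Commute b2 a1 := h12.symm
    have c22 : Commute b2 a2 := h22.symm
    rcases q with i | i
    · rw [hfQa]
      exact ⟨c11.pow_left _, c12.pow_left _⟩
    · rw [hfQx]
      exact ⟨c21.mul_left (c11.pow_left _), c22.mul_left (c12.pow_left _)⟩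
  have hcomm : ∀ a ∈ fQ.range, ∀ b ∈ fD.range, a * b = b * a := by
    rintro a ha _ ⟨d, rfl⟩
    obtain ⟨c1, c2⟩ := hcA a ha
    rcases d with i | i
    · rw [hfDr]
      exact ((c1.mul_right c2).pow_right _).eq
    · rw [hfDs]
      exact (c1.mul_right ((c1.mul_right c2).pow_right _)).eq
  -- membership of the generators
  have ha1B : a1 ∈ fD.range := ⟨DihedralGroup.sr 0, by rw [hfDs, ZMod.val_zero, pow_zero, mul_one]⟩
  have ha2B : a2 ∈ fD.range := ⟨DihedralGroup.sr 1, by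
    rw [hfDs]
    have : (1 : ZMod 4).val = 1 := rfl
    rw [this, pow_one, ← mul_assoc, hs, one_mul]⟩
  have hb1A : b1 ∈ fQ.range := ⟨QuaternionGroup.a 1, by
    rw [hfQa]
    have : (1 : ZMod (2 * 2)).val = 1 := rfl
    rw [this, pow_one]⟩
  have hb2A : b2 ∈ fQ.range := ⟨QuaternionGroup.xa 0, by rw [hfQx, ZMod.val_zero, pow_zero, mul_one]⟩
  have hzB : z ∈ fD.range := ⟨DihedralGroup.r 2, by
    rw [hfDr]
    have : (2 : ZMod 4).val = 2 := rfl
    rw [this, ha12]⟩
  have hzA : z ∈ fQ.range := ⟨QuaternionGroup.a 2, by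
    rw [hfQa]
    have : (2 : ZMod (2 * 2)).val = 2 := rfl
    rw [this, hb1]⟩
  refine ⟨hcard, fQ.range, fD.range, ⟨(MonoidHom.ofInjective hQinj).symm⟩,
    ⟨(MonoidHom.ofInjective hDinj).symm⟩, hcomm, ?_, ?_⟩
  · rw [eq_top_iff, ← hgen, Subgroup.closure_le]
    rintro x (rfl | rfl | rfl | rfl)
    · exact (le_sup_right : fD.range ≤ fQ.range ⊔ fD.range) ha1B
    · exact (le_sup_right : fD.range ≤ fQ.range ⊔ fD.range) ha2B
    · exact (le_sup_left : fQ.range ≤ fQ.range ⊔ fD.range) hb1A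
    · exact (le_sup_left : fQ.range ≤ fQ.range ⊔ fD.range) hb2A
  · apply le_antisymm
    · rintro c ⟨hcA', hcB'⟩
      have hcA'' : c ∈ fQ.range := hcA'
      have hcB'' : c ∈ fD.range := hcB'
      have hle : Subgroup.closure {a1, a2, b1, b2} ≤ Subgroup.centralizer {c} := by
        rw [Subgroup.closure_le]
        rintro x (rfl | rfl | rfl | rfl)
        · exact Subgroup.mem_centralizer_singleton_iff.mpr (hcomm c hcA'' _ ha1B).symm
        · exact Subgroup.mem_centralizer_singleton_iff.mpr (hcomm c hcA'' _ ha2B).symm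
        · exact Subgroup.mem_centralizer_singleton_iff.mpr (hcomm _ hb1A c hcB'')
        · exact Subgroup.mem_centralizer_singleton_iff.mpr (hcomm _ hb2A c hcB'')
      rw [hgen] at hle
      rw [Subgroup.mem_center_iff]
      intro g
      have := Subgroup.mem_centralizer_singleton_iff.mp (hle (Subgroup.mem_top g))
      exact this
    · intro c hc
      rcases hcen c hc with rfl | rfl
      · exact Subgroup.one_mem _
      · exact ⟨hzA, hzB⟩

end Gens

end Cfsg.Agent.Helper20.A5Q
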