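import Mathlib
import Cfsg.Agent.Lib.Helper20.A5QDefs
import Cfsg.Agent.Lib.Helper2.A5QCOMMSQ
import Cfsg.Agent.Lib.Helper19.A5QCF0
import Cfsg.Agent.Lib.Helper25.A5QT4ADJ
import Cfsg.Agent.Lib.Helper2.A5QT4K
import Cfsg.Agent.Lib.Helper2.A5QT4H
import Cfsg.Agent.Lib.Helper7.A5QS2A1
import Cfsg.Agent.Lib.Helper7.A5QS2A2
import Cfsg.Agent.Lib.Helper7.A5QS2A3
import Cfsg.Agent.Lib.Helper7.A5QS2A4
import Cfsg.Agent.Lib.Helper2.A5QS2B
import Cfsg.Agent.Lib.Helper21.A5QMAXN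
import Cfsg.Agent.Lib.Helper25.A5QQUOT
import Cfsg.Agent.Lib.Helper2.A5QTR
import Cfsg.Agent.Lib.Helper22.A5QINIT
import Cfsg.Agent.Lib.Helper2.A5QT0
import Cfsg.Agent.Lib.Helper6.A5QT1

set_option autoImplicit false
set_option linter.unusedSectionVars false
set_option linter.unusedVariables false
set_option linter.style.haveILetI false

/-!
Top-level assembly for S3106.
-/

namespace Cfsg.Agent.Helper20.A5Q

open Cfsg.Agent.Helper22.SecRank

section Setting

variable {Y : Type*} [Group Y] [Finite Y] {P : Subgroup Y}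

/-- `Φ(P)` is not a minimal normal subgroup of order `16`. -/
theorem top4 (h : A5S Y P) (hcard : Nat.card (Sq P) = 16)
    (hmin : ∀ K : Subgroup Y, K.Normal → K ≤ Sq P → K = ⊥ ∨ K = Sq P) : False := by
  have hΦn : (Sq P).Normal := Sq_normal P h.normal
  have hΦ1 : Sq P ≠ ⊥ := by
    intro hb
    rw [hb, Subgroup.card_bot] at hcard
    omega
  obtain ⟨hcen, hexp, -⟩ := min_normal_facts h (Sq P) hΦn le_rfl hΦ1 hmin
  obtain ⟨f, t, hf, ht, ht2, hinv⟩ := h.elems
  obtain ⟨t', ht', ht'2, hinv'⟩ := exists_t_sq h f hf t ht ht2 hinv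
  have ht'P : t' ^ 2 ∈ P := Sq_le P ht'2
  obtain ⟨B, hB, hBcard⟩ := exists_fixV h f hf t' ht' ht'P hinv'
  obtain ⟨K₀, hK, hKcard⟩ := exists_fixW h hcard hmin f hf t' ht' ht'P hinv'
  exact top4_section h hcen hexp t' ht' ht'2 B hB hBcard hcard K₀ hK hKcard

/-- The second layer, `#U = 2`. -/
theorem s2a (h : A5S Y P) (U : Subgroup Y) (hUn : U.Normal) (hUΦ : U ≤ Sq P)
    (hU : Nat.card U = 2) (hΦ : Nat.card (Sq P) = 4) : False := by
  have hcen := s2a_central h U hUn hUΦ hU hΦ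
  have hexp := s2a_exp h U hUn hUΦ hU hΦ hcen
  have hinv := s2a_invol h hΦ hcen hexp
  exact s2a_contra h hΦ hexp hinv

/-- The core of the argument. -/
theorem core (h : A5S Y P) (h4 : 4 ≤ Nat.card (Sq P))
    (hstar : ∀ K : Subgroup Y, K.Normal → K ≤ Sq P → K ≠ ⊥ →
      Nat.card (Sq P) ≤ 2 * Nat.card K) : False := by
  have hΦn : (Sq P).Normal := Sq_normal P h.normal
  have hΦ1 : Sq P ≠ ⊥ := by
    intro hb
    rw [hb, Subgroup.card_bot] at h4
    omega
  obtain ⟨U, hUn, hUΦ, hU1, hUmin⟩ := exists_min_normal (Sq P) hΦn hΦ1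
  obtain ⟨-, -, hUcard⟩ := min_normal_facts h U hUn hUΦ hU1 hUmin
  have h1 := hstar U hUn hUΦ hU1
  have hdvd : Nat.card U ∣ Nat.card (Sq P) := Subgroup.card_dvd_of_le hUΦ
  obtain ⟨k, hk⟩ := hdvd
  have hUpos : 0 < Nat.card U := Nat.card_pos
  have hk12 : k = 1 ∨ k = 2 := by
    have hk0 : k ≠ 0 := by
      intro h0
      rw [h0, mul_zero] at hk
      omega
    have : k ≤ 2 := by
      by_contra hlt
      push Not at hlt
      have : Nat.card U * 3 ≤ Nat.card U * k := Nat.mul_le_mul_left _ hlt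
      omega
    omega
  rcases hk12 with rfl | rfl
  · -- `U = Φ(P)`
    have hUeq : U = Sq P := Subgroup.eq_of_le_of_card_ge hUΦ (by omega)
    subst hUeq
    rcases hUcard with h2 | h16
    · omega
    · exact top4 h h16 hUmin
  · rcases hUcard with h2 | h16
    · exact s2a h U hUn hUΦ h2 (by omega)
    · exact s2b_contra h U hUn hUΦ hUmin h16 (by omega)

/-- `Φ(P)` has order at most `2`. -/
theorem card_Sq_le_two (h : A5S Y P) : Nat.card (Sq P) ≤ 2 := by
  by_contra hgt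
  push Not at hgt
  have hΦn : (Sq P).Normal := Sq_normal P h.normal
  -- `#Φ(P)` is a power of `2`, so it is at least `4`
  have h4 : 4 ≤ Nat.card (Sq P) := by
    have hp : IsPGroup 2 ↥(Sq P) :=
      IsPGroup.of_injective h.pgroup (Subgroup.inclusion (Sq_le P))
        (Subgroup.inclusion_injective _)
    obtain ⟨n, hn⟩ := IsPGroup.iff_card.mp hp
    rw [hn] at hgt ⊢
    rcases n with _ | _ | n
    · norm_num at hgt
    · norm_num at hgt
    · have e : 2 ^ (n + 1 + 1) = 4 * 2 ^ n := by ring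
      rw [e]
      have : 0 < 2 ^ n := Nat.pos_of_ne_zero (by positivity)
      omega
  obtain ⟨N, hNn, hNΦ, hN4, hNmax⟩ := exists_max_N h h4
  haveI := hNn
  obtain ⟨hq, hSq⟩ := a5s_quot h N hNΦ
  have hNpos : 0 < Nat.card N := Nat.card_pos
  have c2 := card_eq_card_map_mul N (Sq P) hNΦ
  apply core hq
  · rw [hSq]
    nlinarith
  · intro Kb hKbn hKbΦ hKb1
    rw [hSq] at hKbΦ ⊢
    -- the preimage of `Kb`
    have hKn : (Kb.comap (QuotientGroup.mk' N)).Normal :=
      Subgroup.Normal.comap hKbn (QuotientGroup.mk' N)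
    have hNK : N ≤ Kb.comap (QuotientGroup.mk' N) := by
      intro x hx
      rw [Subgroup.mem_comap]
      have : QuotientGroup.mk' N x = 1 := (QuotientGroup.eq_one_iff x).mpr hx
      rw [this]
      exact Kb.one_mem
    have hKmap : (Kb.comap (QuotientGroup.mk' N)).map (QuotientGroup.mk' N) = Kb :=
      Subgroup.map_comap_eq_self_of_surjective (QuotientGroup.mk'_surjective N) Kb
    have hKΦ : Kb.comap (QuotientGroup.mk' N) ≤ Sq P := by
      intro x hx
      rw [Subgroup.mem_comap] at hx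
      obtain ⟨y, hy, hxy⟩ := hKbΦ hx
      have hyx : y⁻¹ * x ∈ N := QuotientGroup.eq.mp hxy
      have hx' : x = y * (y⁻¹ * x) := by group
      rw [hx']
      exact (Sq P).mul_mem hy (hNΦ hyx)
    have hKne : Kb.comap (QuotientGroup.mk' N) ≠ N := by
      intro he
      apply hKb1
      rw [← hKmap, he, Subgroup.map_eq_bot_iff, QuotientGroup.ker_mk']
    have c1 := card_eq_card_map_mul N _ hNK
    rw [hKmap] at c1
    have := hNmax _ hKn hNK hKΦ hKne
    rw [c1, c2] at this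
    nlinarith

end Setting

/-- **S3106.** -/
theorem main {X : Type*} [Group X] [Finite X] (hc : Cfsg.IsPConstrained 2 X)
    (hO : Cfsg.oddCore X = ⊥) (h4 : Cfsg.SectionalPRankLE 2 4 X)
    (hQ : ∃ A : Subgroup (X ⧸ Cfsg.pCore 2 X), Nonempty (↥A ≃* ↥(alternatingGroup (Fin 5)))) :
    (Cfsg.IsElementaryAbelian 2 (Cfsg.pCore 2 X) ∧ Nat.card ↥(Cfsg.pCore 2 X) = 16) ∨
      (Nat.card ↥(Cfsg.pCore 2 X) = 32 ∧ ∃ A B : Subgroup ↥(Cfsg.pCore 2 X),
        Nonempty (↥A ≃* QuaternionGroup 2) ∧ Nonempty (↥B ≃* DihedralGroup 4) ∧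
          (∀ a ∈ A, ∀ b ∈ B, a * b = b * a) ∧
          A ⊔ B = ⊤ ∧ A ⊓ B = Subgroup.center ↥(Cfsg.pCore 2 X)) := by
  obtain ⟨L, hRL, hS⟩ := exists_a5s hc hO h4 hQ
  have ε : ↥((Cfsg.pCore 2 X).subgroupOf L) ≃* ↥(Cfsg.pCore 2 X) :=
    Subgroup.subgroupOfEquivOfLe hRL
  have h2 := card_Sq_le_two hS
  have hpos : 0 < Nat.card (Sq ((Cfsg.pCore 2 X).subgroupOf L)) := Nat.card_pos
  have h12 : Nat.card (Sq ((Cfsg.pCore 2 X).subgroupOf L)) = 1 ∨
      Nat.card (Sq ((Cfsg.pCore 2 X).subgroupOf L)) = 2 := by omega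
  rcases h12 with h1 | h2'
  · left
    have hbot : Sq ((Cfsg.pCore 2 X).subgroupOf L) = ⊥ := Subgroup.card_eq_one.mp h1
    obtain ⟨hcomm, hexp, hcard⟩ := elem_of_Sq_bot hS hbot
    refine ⟨⟨⟨⟨fun a b => ?_⟩⟩, fun a ha => ?_⟩, ?_⟩
    · have := hcomm (ε.symm a) (ε.symm b)
      have h' := congrArg ε this
      simpa using h'
    · have := hexp (ε.symm ⟨a, ha⟩)
      have h' := congrArg ε this
      rw [map_pow, MulEquiv.apply_symm_apply, map_one] at h'
      exact congrArg Subtype.val h'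
    · rw [← Nat.card_congr ε.toEquiv]
      exact hcard
  · right
    have hq := (isQ8D8_of_card_two hS h2').of_equiv ε
    exact hq


end Cfsg.Agent.Helper20.A5Q
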