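import Mathlib

set_option autoImplicit false

namespace Cfsg.Agent.Helper20.AbPerm

/-- `d ^ d * n ≤ n ^ d` once `2 ^ d ≤ n` and `1 ≤ d`. -/
theorem pow_self_mul_le (d n : ℕ) (hd : 1 ≤ d) (hn : 2 ^ d ≤ n) : d ^ d * n ≤ n ^ d := by
  obtain ⟨e, rfl⟩ : ∃ e, d = e + 1 := ⟨d - 1, by omega⟩
  have h1 : e + 1 ≤ 2 ^ e := Nat.lt_two_pow_self
  have h2 : (e + 1) ^ (e + 1) ≤ n ^ e := by
    calc (e + 1) ^ (e + 1) ≤ (2 ^ e) ^ (e + 1) := Nat.pow_le_pow_left h1 _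
      _ = (2 ^ (e + 1)) ^ e := by rw [← pow_mul, ← pow_mul, mul_comm]
      _ ≤ n ^ e := Nat.pow_le_pow_left hn _
  calc (e + 1) ^ (e + 1) * n ≤ n ^ e * n := Nat.mul_le_mul_right _ h2
    _ = n ^ (e + 1) := by rw [pow_succ]

/-- weighted AM-GM in the form needed: `k ^ k * ∏ n i ≤ (∑ n i) ^ k` with `k = ∑ d i`,
provided `2 ^ d i ≤ n i`, `1 ≤ d i`. -/
theorem amgm_weighted_nat {ι : Type*} (s : Finset ι) (d n : ι → ℕ)
    (h : ∀ i ∈ s, 1 ≤ d i ∧ 2 ^ d i ≤ n i) :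
    (∑ i ∈ s, d i) ^ (∑ i ∈ s, d i) * ∏ i ∈ s, n i ≤ (∑ i ∈ s, n i) ^ (∑ i ∈ s, d i) := by
  classical
  rcases s.eq_empty_or_nonempty with rfl | hne
  · simp
  set k := ∑ i ∈ s, d i with hk
  have hkpos : 0 < k := by
    obtain ⟨i, hi⟩ := hne
    exact lt_of_lt_of_le (h i hi).1 (Finset.single_le_sum (f := d) (fun _ _ => Nat.zero_le _) hi)
  -- real AM-GM
  have key := Real.geom_mean_le_arith_mean s (fun i => (d i : ℝ)) (fun i => (n i : ℝ) / d i)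
    (fun i _ => Nat.cast_nonneg _) (by
      have : (0 : ℝ) < ((∑ i ∈ s, d i : ℕ) : ℝ) := by exact_mod_cast hkpos
      simpa using this)
    (fun i _ => by positivity)
  have hsumw : ∑ i ∈ s, (d i : ℝ) = (k : ℝ) := by rw [hk]; push_cast; rfl
  have hsumz : ∑ i ∈ s, (d i : ℝ) * ((n i : ℝ) / d i) = ((∑ i ∈ s, n i : ℕ) : ℝ) := by
    push_cast
    refine Finset.sum_congr rfl fun i hi => ?_
    have : (d i : ℝ) ≠ 0 := by
      have := (h i hi).1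
      positivity
    field_simp
  beta_reduce at key
  rw [hsumw, hsumz] at key
  have hprod : ∏ i ∈ s, ((n i : ℝ) / d i) ^ ((d i : ℕ) : ℝ) = ∏ i ∈ s, ((n i : ℝ) / d i) ^ (d i) :=
    Finset.prod_congr rfl fun i _ => Real.rpow_natCast _ _
  rw [hprod] at key
  set P : ℝ := ∏ i ∈ s, ((n i : ℝ) / d i) ^ (d i) with hP
  have hPnn : 0 ≤ P := Finset.prod_nonneg fun i _ => by positivity
  have key2 : P ≤ (((∑ i ∈ s, n i : ℕ) : ℝ) / k) ^ k := by
    have := pow_le_pow_left₀ (Real.rpow_nonneg hPnn _) key k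
    rwa [Real.rpow_inv_natCast_pow hPnn hkpos.ne'] at this
  have hfac : ∀ i ∈ s, ((n i : ℕ) : ℝ) ≤ ((n i : ℝ) / d i) ^ (d i) := by
    intro i hi
    have hd := (h i hi).1
    have hdpos : (0 : ℝ) < (d i : ℝ) := by exact_mod_cast hd
    rw [div_pow, le_div_iff₀ (by positivity)]
    have := pow_self_mul_le (d i) (n i) hd (h i hi).2
    have h' : ((d i ^ d i * n i : ℕ) : ℝ) ≤ ((n i ^ d i : ℕ) : ℝ) := by exact_mod_cast this
    push_cast at h'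
    linarith
  have hprodle : ((∏ i ∈ s, n i : ℕ) : ℝ) ≤ P := by
    push_cast
    exact Finset.prod_le_prod (fun i _ => Nat.cast_nonneg _) hfac
  have hkR : (0 : ℝ) < (k : ℝ) := by exact_mod_cast hkpos
  have final : ((k ^ k * ∏ i ∈ s, n i : ℕ) : ℝ) ≤ (((∑ i ∈ s, n i) ^ k : ℕ) : ℝ) := by
    have h3 := hprodle.trans key2
    rw [div_pow, le_div_iff₀ (by positivity)] at h3
    push_cast at h3 ⊢
    linarith
  exact_mod_cast final

end Cfsg.Agent.Helper20.AbPerm
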