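import Mathlib
import Cfsg.Agent.Lib.Helper20.AbPerm1

set_option autoImplicit false

namespace Cfsg.Agent.Helper20.AbPerm

variable {A : Type*} [Group A] [Finite A]

omit [Finite A] in
theorem index_biInf_le {ι : Type*} [DecidableEq ι] (f : ι → Subgroup A) (s : Finset ι) :
    (⨅ i ∈ s, f i).index ≤ ∏ i ∈ s, (f i).index := by
  induction s using Finset.induction_on with
  | empty => simp
  | insert a s ha ih =>
    rw [Finset.iInf_insert, Finset.prod_insert ha]
    exact (Subgroup.index_inf_le).trans (Nat.mul_le_mul_left _ ih)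

/-- greedy selection of a subfamily along which the intersections with `V` drop strictly. -/
theorem exists_selection {ι : Type*} [DecidableEq ι] (p : ℕ) [hp : Fact p.Prime]
    (hA : IsPGroup p A) (V : Subgroup A) (f : ι → Subgroup A) (s : Finset ι) :
    ∃ s' ⊆ s, ∃ d : ι → ℕ, V ⊓ (⨅ i ∈ s', f i) = V ⊓ (⨅ i ∈ s, f i) ∧
      (∀ i ∈ s', 1 ≤ d i ∧ p ^ d i ≤ (f i).index) ∧
      (⨅ i ∈ s', f i).relIndex V = p ^ (∑ i ∈ s', d i) := by
  induction s using Finset.induction_on with
  | empty => exact ⟨∅, le_rfl, fun _ => 0, rfl, by simp, by simp⟩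
  | insert a s ha ih =>
    obtain ⟨s', hs's, d, h1, h2, h3⟩ := ih
    have has' : a ∉ s' := fun h => ha (hs's h)
    by_cases hle : V ⊓ (⨅ i ∈ s', f i) ≤ f a
    · refine ⟨s', hs's.trans (Finset.subset_insert _ _), d, ?_, h2, h3⟩
      rw [Finset.iInf_insert, inf_left_comm, ← h1]
      exact (inf_eq_right.mpr hle).symm
    · set W := V ⊓ (⨅ i ∈ s', f i) with hW
      have hWp : IsPGroup p W := hA.to_subgroup W
      obtain ⟨e, he⟩ := hWp.index ((f a).subgroupOf W)
      have he' : (f a).relIndex W = p ^ e := he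
      have he1 : 1 ≤ e := by
        rcases Nat.eq_zero_or_pos e with h0 | h0
        · exfalso
          rw [h0, pow_zero, Subgroup.relIndex_eq_one] at he'
          exact hle he'
        · exact h0
      have hele : p ^ e ≤ (f a).index := by
        rw [← he', ← Subgroup.relIndex_top_right]
        refine Subgroup.relIndex_le_of_le_right le_top ?_
        rw [Subgroup.relIndex_top_right]
        exact Subgroup.index_ne_zero_of_finite
      refine ⟨insert a s', Finset.insert_subset_insert a hs's, Function.update d a e, ?_, ?_, ?_⟩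
      · rw [Finset.iInf_insert, Finset.iInf_insert, inf_left_comm, ← hW, h1]
        exact inf_left_comm _ _ _
      · intro i hi
        rcases Finset.mem_insert.mp hi with rfl | hi
        · rw [Function.update_self]
          exact ⟨he1, hele⟩
        · have hia : i ≠ a := fun h => has' (h ▸ hi)
          rw [Function.update_of_ne hia]
          exact h2 i hi
      · rw [Finset.iInf_insert, Finset.sum_insert has', Function.update_self]
        have hsum : ∑ i ∈ s', Function.update d a e i = ∑ i ∈ s', d i := by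
          refine Finset.sum_congr rfl fun i hi => ?_
          have hia : i ≠ a := fun h => has' (h ▸ hi)
          rw [Function.update_of_ne hia]
        rw [hsum, pow_add, ← h3, ← he', hW, inf_comm V]
        exact (Subgroup.relIndex_inf_mul_relIndex _ _ _).symm

/-- abstract bound: a finite `p`-group `A`, a subgroup `V` of order `p ^ k` containing all elements
of order dividing `p`, a family of subgroups with trivial intersection. -/
theorem card_mul_pow_le {ι : Type*} [Fintype ι] (p : ℕ) [hp : Fact p.Prime]
    (hA : IsPGroup p A) (V : Subgroup A) (hV : ∀ x : A, x ^ p = 1 → x ∈ V) (k : ℕ)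
    (hk : Nat.card V = p ^ k) (f : ι → Subgroup A) (hf : ⨅ i, f i = ⊥) :
    Nat.card A * k ^ k ≤ (∑ i, (f i).index) ^ k := by
  classical
  obtain ⟨s', -, d, h1, h2, h3⟩ := exists_selection p hA V f Finset.univ
  set B := ⨅ i ∈ s', f i with hB
  have hVB : V ⊓ B = ⊥ := by
    rw [h1]
    have : (⨅ i ∈ (Finset.univ : Finset ι), f i) = ⨅ i, f i := by simp
    rw [this, hf, inf_bot_eq]
  have hBbot : B = ⊥ := by
    by_contra hne
    have hBp : IsPGroup p B := hA.to_subgroup B
    have hdvd : p ∣ Nat.card B := by
      rcases hBp.card_eq_or_dvd with h | h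
      · exact absurd (Subgroup.card_eq_one.mp h) hne
      · exact h
    obtain ⟨x, hx⟩ := exists_prime_orderOf_dvd_card' p hdvd
    have hxp : (x : A) ^ p = 1 := by
      have : x ^ p = 1 := by rw [← hx]; exact pow_orderOf_eq_one x
      exact_mod_cast congrArg Subtype.val this
    have hmem : (x : A) ∈ V ⊓ B := ⟨hV _ hxp, x.2⟩
    rw [hVB, Subgroup.mem_bot] at hmem
    have hx1 : x = 1 := Subtype.ext hmem
    rw [hx1, orderOf_one] at hx
    exact hp.out.one_lt.ne hx
  have hksum : k = ∑ i ∈ s', d i := by
    rw [hBbot, Subgroup.relIndex_bot_left, hk] at h3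
    exact Nat.pow_right_injective hp.out.two_le h3
  have hcard : Nat.card A ≤ ∏ i ∈ s', (f i).index := by
    rw [← Subgroup.index_bot, ← hBbot]
    exact index_biInf_le f s'
  have hamgm := amgm_weighted_nat s' d (fun i => (f i).index) (fun i hi =>
    ⟨(h2 i hi).1, (Nat.pow_le_pow_left hp.out.two_le _).trans (h2 i hi).2⟩)
  rw [← hksum] at hamgm
  calc Nat.card A * k ^ k ≤ (∏ i ∈ s', (f i).index) * k ^ k := Nat.mul_le_mul_right _ hcard
    _ = k ^ k * ∏ i ∈ s', (f i).index := mul_comm _ _
    _ ≤ (∑ i ∈ s', (f i).index) ^ k := hamgm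
    _ ≤ (∑ i, (f i).index) ^ k :=
      Nat.pow_le_pow_left (Finset.sum_le_sum_of_subset (Finset.subset_univ _)) _

/-- a finite commutative `p`-group acting faithfully on a finite set. -/
theorem card_mul_pow_le_of_action {Ω : Type*} [Finite Ω] [MulAction A Ω] (p : ℕ)
    [hp : Fact p.Prime] (hA : IsPGroup p A) (hcomm : ∀ a b : A, a * b = b * a)
    (hfaith : ∀ a : A, (∀ ω : Ω, a • ω = ω) → a = 1)
    (k : ℕ) (hk : Nat.card {x : A // x ^ p = 1} = p ^ k) :
    Nat.card A * k ^ k ≤ Nat.card Ω ^ k := by
  classical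
  let V : Subgroup A :=
    { carrier := {x | x ^ p = 1}
      one_mem' := one_pow _
      mul_mem' := fun {a b} ha hb => by
        show (a * b) ^ p = 1
        rw [(show Commute a b from hcomm a b).mul_pow, show a ^ p = 1 from ha,
          show b ^ p = 1 from hb, one_mul]
      inv_mem' := fun {a} ha => by
        show a⁻¹ ^ p = 1
        rw [inv_pow, show a ^ p = 1 from ha, inv_one] }
  have hkV : Nat.card V = p ^ k := hk
  letI : Fintype (MulAction.orbitRel.Quotient A Ω) := Fintype.ofFinite _
  let f : MulAction.orbitRel.Quotient A Ω → Subgroup A := fun q => MulAction.stabilizer A q.out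
  have hf : ⨅ q, f q = ⊥ := by
    rw [eq_bot_iff]
    intro a ha
    rw [Subgroup.mem_bot]
    apply hfaith
    intro ω
    have hmem : a ∈ f (Quotient.mk'' ω) := (Subgroup.mem_iInf.mp ha) _
    have hrel : (MulAction.orbitRel A Ω) (Quotient.out (Quotient.mk'' ω : MulAction.orbitRel.Quotient A Ω)) ω :=
      Quotient.exact (Quotient.out_eq _)
    rw [MulAction.orbitRel_apply] at hrel
    obtain ⟨b, hb⟩ := hrel
    have hstab : a • (Quotient.out (Quotient.mk'' ω : MulAction.orbitRel.Quotient A Ω)) = _ :=
      MulAction.mem_stabilizer_iff.mp hmem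
    have hb' : ω = b⁻¹ • (Quotient.out (Quotient.mk'' ω : MulAction.orbitRel.Quotient A Ω)) := by
      rw [← hb, inv_smul_smul]
    rw [hb', smul_smul, hcomm, ← smul_smul, hstab]
  have hsum : ∑ q, (f q).index = Nat.card Ω := by
    rw [Nat.card_congr (MulAction.selfEquivSigmaOrbitsQuotientStabilizer A Ω), Nat.card_sigma]
    rfl
  rw [← hsum]
  exact card_mul_pow_le p hA V (fun x hx => hx) k hkV f hf

end Cfsg.Agent.Helper20.AbPerm
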