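import Mathlib
import Cfsg.Agent.Lib.Helper20.AutCoprime

set_option autoImplicit false

namespace Cfsg.Agent.Helper20

/-- a `p`-element normalizing a Sylow `p`-subgroup lies in it -/
theorem mem_sylow_of_mem_normalizer_of_orderOf {G : Type*} [Group G] [Finite G] (p : ℕ)
    [Fact p.Prime] (P : Sylow p G) (h : G) (hh : h ∈ Subgroup.normalizer ((P : Subgroup G) : Set G))
    (e : ℕ) (he : orderOf h = p ^ e) : h ∈ (P : Subgroup G) := by
  have h1 : IsPGroup p (Subgroup.zpowers h) := by
    apply IsPGroup.of_card (n := e)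
    rw [Nat.card_zpowers, he]
  have h2 : Subgroup.zpowers h ≤ Subgroup.normalizer ((P : Subgroup G) : Set G) := by
    rw [Subgroup.zpowers_le]
    exact hh
  have h3 := IsPGroup.to_sup_of_normal_left' P.isPGroup' h1 h2
  have h4 := P.is_maximal' h3 le_sup_left
  have h5 : Subgroup.zpowers h ≤ (P : Subgroup G) := by
    rw [← h4]
    exact le_sup_right
  exact h5 (Subgroup.mem_zpowers h)

/-- For an abelian Sylow `p`-subgroup generated by at most `d` elements in a group of order
coprime to `∏_{j ≤ d} (p^j - 1)`, the normalizer equals the centralizer. -/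
theorem normalizer_le_centralizer_of_coprime {G : Type*} [Group G] [Finite G] (p : ℕ)
    [Fact p.Prime] (P : Sylow p G) (hab : IsMulCommutative (P : Subgroup G))
    (S : Finset (P : Subgroup G)) (hS : Subgroup.closure (S : Set (P : Subgroup G)) = ⊤) (d : ℕ)
    (hd : S.card ≤ d)
    (hcop : Nat.Coprime (Nat.card G) (∏ j ∈ Finset.range d, (p ^ (j + 1) - 1))) :
    Subgroup.normalizer ((P : Subgroup G) : Set G) ≤
      Subgroup.centralizer ((P : Subgroup G) : Set G) := by
  have hp : p.Prime := Fact.out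
  intro g hg
  obtain ⟨K, hK⟩ := card_mulAut_dvd (P : Subgroup G) p P.isPGroup' S hS d hd
  set α := (P : Subgroup G).normalizerMonoidHom ⟨g, hg⟩ with hα
  have hker : ∀ u : Subgroup.normalizer ((P : Subgroup G) : Set G),
      (P : Subgroup G).normalizerMonoidHom u = 1 ↔
        (u : G) ∈ Subgroup.centralizer ((P : Subgroup G) : Set G) := by
    intro u
    rw [← MonoidHom.mem_ker, Subgroup.normalizerMonoidHom_ker]
    rfl
  -- the order of `α` divides the order of `g`
  have h3 : orderOf α ∣ orderOf g := by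
    have := orderOf_map_dvd (P : Subgroup G).normalizerMonoidHom
      (⟨g, hg⟩ : Subgroup.normalizer ((P : Subgroup G) : Set G))
    rwa [← Subgroup.orderOf_coe] at this
  have h3' : orderOf α ∣ Nat.card G := dvd_trans h3 (orderOf_dvd_natCard g)
  -- the order of `α` is prime to `p`
  obtain ⟨e, m, hm, hgm⟩ := Nat.exists_eq_pow_mul_and_not_dvd (orderOf_pos g).ne' p hp.ne_one
  have h4 : orderOf (g ^ m) = p ^ e := by
    rw [orderOf_pow_of_dvd (fun h0 => by rw [h0] at hm; exact hm (dvd_zero p))
      (Dvd.intro_left _ hgm.symm), hgm]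
    exact Nat.mul_div_cancel _ (Nat.pos_of_ne_zero
      (fun h0 => by rw [h0] at hm; exact hm (dvd_zero p)))
  have h5 : g ^ m ∈ (P : Subgroup G) :=
    mem_sylow_of_mem_normalizer_of_orderOf p P (g ^ m) (Subgroup.pow_mem _ hg m) e h4
  have h6 : g ^ m ∈ Subgroup.centralizer ((P : Subgroup G) : Set G) := by
    rw [Subgroup.mem_centralizer_iff]
    intro y hy
    have := hab.is_comm.comm (⟨y, hy⟩ : (P : Subgroup G)) ⟨g ^ m, h5⟩
    exact congrArg Subtype.val this
  have h7 : α ^ m = 1 := by
    rw [hα, ← map_pow]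
    exact (hker _).mpr h6
  have h8 : orderOf α ∣ m := orderOf_dvd_of_pow_eq_one h7
  have h9 : Nat.Coprime (orderOf α) p :=
    Nat.Coprime.coprime_dvd_left h8 ((Nat.Prime.coprime_iff_not_dvd hp).mpr hm).symm
  -- conclusion
  have h10 : orderOf α ∣ ∏ j ∈ Finset.range d, (p ^ (j + 1) - 1) :=
    (Nat.Coprime.pow_right K h9).dvd_of_dvd_mul_left (dvd_trans (orderOf_dvd_natCard α) hK)
  have h11 : orderOf α = 1 := Nat.eq_one_of_dvd_coprimes hcop h3' h10
  rw [orderOf_eq_one_iff] at h11
  exact (hker ⟨g, hg⟩).mp h11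

end Cfsg.Agent.Helper20
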