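import Mathlib

/-!
# Stem extensions of a presented group: the kernel is generated by the relator values

Plus a few helpers for computing with central elements.
-/

set_option autoImplicit false

namespace Cfsg.Agent.Helper20.AltMult

open scoped commutatorElement

section general

variable {α : Type*} {R : Set (FreeGroup α)} {Γ : Type*} [Group Γ]

/-- If `σ : Γ → ⟨α | R⟩` has central kernel contained in the commutator subgroup and `y` lifts the
generators, then `ker σ` is generated by the relators evaluated at `y`. -/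
theorem ker_le_closure_relators (σ : Γ →* PresentedGroup R)
    (hcen : σ.ker ≤ Subgroup.center Γ) (hcomm : σ.ker ≤ commutator Γ) (y : α → Γ)
    (hy : ∀ a, σ (y a) = PresentedGroup.of a) :
    σ.ker ≤ Subgroup.closure ((fun r => FreeGroup.lift y r) '' R) := by
  set N : Subgroup Γ := Subgroup.closure ((fun r => FreeGroup.lift y r) '' R) with hN
  have hσy : σ.comp (FreeGroup.lift y) = PresentedGroup.mk R := by
    apply FreeGroup.ext_hom
    intro a
    rw [MonoidHom.comp_apply, FreeGroup.lift_apply_of, hy a]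
    rfl
  have hNle : N ≤ σ.ker := by
    rw [hN, Subgroup.closure_le]
    rintro _ ⟨r, hr, rfl⟩
    rw [SetLike.mem_coe, MonoidHom.mem_ker]
    have := DFunLike.congr_fun hσy r
    rw [MonoidHom.comp_apply] at this
    rw [this]
    exact PresentedGroup.one_of_mem hr
  have hNc : N ≤ Subgroup.center Γ := hNle.trans hcen
  haveI hNn : N.Normal := by
    constructor
    intro n hn g
    have := hNc hn
    rw [Subgroup.mem_center_iff] at this
    rw [this g, mul_inv_cancel_right]
    exact hn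
  -- the section
  have hrel : ∀ r ∈ R, FreeGroup.lift (fun a => (QuotientGroup.mk' N) (y a)) r = 1 := by
    intro r hr
    have h1 : FreeGroup.lift (fun a => (QuotientGroup.mk' N) (y a)) =
        (QuotientGroup.mk' N).comp (FreeGroup.lift y) := by
      apply FreeGroup.ext_hom
      intro a
      rw [MonoidHom.comp_apply, FreeGroup.lift_apply_of, FreeGroup.lift_apply_of]
    rw [h1, MonoidHom.comp_apply, QuotientGroup.mk'_apply, QuotientGroup.eq_one_iff]
    exact Subgroup.subset_closure ⟨r, hr, rfl⟩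
  let ψ : PresentedGroup R →* Γ ⧸ N := PresentedGroup.toGroup hrel
  let σb : Γ ⧸ N →* PresentedGroup R := QuotientGroup.lift N σ hNle
  have hσψ : σb.comp ψ = MonoidHom.id _ := by
    apply PresentedGroup.ext
    intro a
    rw [MonoidHom.comp_apply, MonoidHom.id_apply]
    show σb (PresentedGroup.toGroup hrel (PresentedGroup.of a)) = _
    rw [PresentedGroup.toGroup.of]
    show σb ((y a : Γ) : Γ ⧸ N) = _
    rw [QuotientGroup.lift_mk, hy a]
  have hσbc : σb.ker ≤ Subgroup.center (Γ ⧸ N) := by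
    intro x hx
    obtain ⟨g, rfl⟩ := QuotientGroup.mk_surjective x
    rw [MonoidHom.mem_ker] at hx
    have hg : g ∈ σ.ker := by
      rw [MonoidHom.mem_ker]
      have : σb (g : Γ ⧸ N) = σ g := QuotientGroup.lift_mk N _ g
      rw [← this]; exact hx
    have hgc := hcen hg
    rw [Subgroup.mem_center_iff] at hgc ⊢
    intro z
    obtain ⟨h, rfl⟩ := QuotientGroup.mk_surjective z
    rw [← QuotientGroup.mk_mul, ← QuotientGroup.mk_mul, hgc h]
  -- two homs agreeing modulo the central kernel agree on commutators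
  let ρ : Γ →* Γ ⧸ N := ψ.comp σ
  let μ : Γ →* Γ ⧸ N := QuotientGroup.mk' N
  have hρμ : ∀ g, σb (ρ g) = σb (μ g) := by
    intro g
    have h1 : σb (ρ g) = (σb.comp ψ) (σ g) := rfl
    rw [h1, hσψ, MonoidHom.id_apply]
    show σ g = σb ((g : Γ) : Γ ⧸ N)
    rw [QuotientGroup.lift_mk]
  have hcommEq : ∀ a b : Γ, ρ a * ρ b * (ρ a)⁻¹ * (ρ b)⁻¹ = μ a * μ b * (μ a)⁻¹ * (μ b)⁻¹ := by
    intro a b
    -- change second argument, then first
    have key : ∀ (s p q : Γ ⧸ N), σb p = σb q → s * p * s⁻¹ * p⁻¹ = s * q * s⁻¹ * q⁻¹ := by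
      intro s p q hpq
      have hz : p⁻¹ * q ∈ σb.ker := by
        rw [MonoidHom.mem_ker, map_mul, map_inv, hpq, inv_mul_cancel]
      have hzc := hσbc hz
      rw [Subgroup.mem_center_iff] at hzc
      have h1 := hzc s⁻¹
      calc s * p * s⁻¹ * p⁻¹ = s * p * (s⁻¹ * (p⁻¹ * q)) * (p⁻¹ * q)⁻¹ * p⁻¹ := by group
        _ = s * p * ((p⁻¹ * q) * s⁻¹) * (p⁻¹ * q)⁻¹ * p⁻¹ := by rw [h1]
        _ = s * q * s⁻¹ * q⁻¹ := by group
    have e1 := key (ρ a) (ρ b) (μ b) (hρμ b)
    have e2 := key (μ b) (ρ a) (μ a) (hρμ a)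
    have e3 : ρ a * μ b * (ρ a)⁻¹ * (μ b)⁻¹ = (μ b * ρ a * (μ b)⁻¹ * (ρ a)⁻¹)⁻¹ := by group
    have e4 : μ a * μ b * (μ a)⁻¹ * (μ b)⁻¹ = (μ b * μ a * (μ b)⁻¹ * (μ a)⁻¹)⁻¹ := by group
    rw [e1, e3, e2, e4]
  have heq : commutator Γ ≤ ρ.eqLocus μ := by
    rw [commutator_def, Subgroup.commutator_le]
    intro a _ b _
    show ρ ⁅a, b⁆ = μ ⁅a, b⁆
    rw [commutatorElement_def, map_mul, map_mul, map_mul, map_inv, map_inv, map_mul, map_mul,
      map_mul, map_inv, map_inv]
    exact hcommEq a b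
  intro k hk
  have h1 : ρ k = μ k := heq (hcomm hk)
  have h2 : ρ k = 1 := by
    show ψ (σ k) = 1
    rw [MonoidHom.mem_ker.mp hk, map_one]
  rw [h2] at h1
  have h3 : ((k : Γ) : Γ ⧸ N) = 1 := h1.symm
  rwa [QuotientGroup.eq_one_iff] at h3

end general

section central

variable {G : Type*} [Group G]

theorem cen_comm {c : G} (hc : c ∈ Subgroup.center G) (g : G) : g * c = c * g :=
  Subgroup.mem_center_iff.mp hc g

theorem cen_comm' {c : G} (hc : c ∈ Subgroup.center G) (g h : G) : g * (c * h) = c * (g * h) := by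
  rw [← mul_assoc, cen_comm hc g, mul_assoc]

/-- conjugating a central element does nothing -/
theorem cen_conj {c : G} (hc : c ∈ Subgroup.center G) (g : G) : g * c * g⁻¹ = c := by
  rw [cen_comm hc g, mul_inv_cancel_right]

/-- conjugation by `c * x` with `c` central is conjugation by `x` -/
theorem conj_cen_mul {c : G} (hc : c ∈ Subgroup.center G) (x y : G) :
    (c * x) * y * (c * x)⁻¹ = x * y * x⁻¹ := by
  rw [mul_inv_rev]
  have h1 : c * x * y * (x⁻¹ * c⁻¹) = c * (x * y * x⁻¹) * c⁻¹ := by group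
  rw [h1, ← cen_comm hc (x * y * x⁻¹), mul_inv_cancel_right]

/-- a product of three central multiples -/
theorem cen_triple {c1 c2 c3 : G} (h1 : c1 ∈ Subgroup.center G) (h2 : c2 ∈ Subgroup.center G)
    (h3 : c3 ∈ Subgroup.center G) (x y z : G) :
    (c1 * x) * (c2 * y) * (c3 * z) = (c1 * c2 * c3) * (x * y * z) := by
  calc (c1 * x) * (c2 * y) * (c3 * z) = c1 * (x * (c2 * (y * (c3 * z)))) := by group
    _ = c1 * (x * (c2 * (c3 * (y * z)))) := by rw [cen_comm' h3 y z]
    _ = c1 * (c2 * (x * (c3 * (y * z)))) := by rw [cen_comm' h2 x]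
    _ = c1 * (c2 * (c3 * (x * (y * z)))) := by rw [cen_comm' h3 x]
    _ = (c1 * c2 * c3) * (x * y * z) := by group

/-- a product of two central multiples -/
theorem cen_pair {c1 c2 : G} (h1 : c1 ∈ Subgroup.center G) (h2 : c2 ∈ Subgroup.center G)
    (x y : G) : (c1 * x) * (c2 * y) = (c1 * c2) * (x * y) := by
  calc (c1 * x) * (c2 * y) = c1 * (x * (c2 * y)) := by group
    _ = c1 * (c2 * (x * y)) := by rw [cen_comm' h2 x]
    _ = (c1 * c2) * (x * y) := by group

theorem cen_mul_pow {c : G} (hc : c ∈ Subgroup.center G) (x : G) (n : ℕ) :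
    (c * x) ^ n = c ^ n * x ^ n := by
  have : Commute c x := (cen_comm hc x).symm
  exact this.mul_pow n

theorem mul_cen_pow {c : G} (hc : c ∈ Subgroup.center G) (x : G) (n : ℕ) :
    (x * c) ^ n = x ^ n * c ^ n := by
  have : Commute x c := cen_comm hc x
  exact this.mul_pow n

theorem inv_of_sq_one {a : G} (ha : a ^ 2 = 1) : a⁻¹ = a := by
  rw [inv_eq_iff_mul_eq_one, ← pow_two]; exact ha

end central

end Cfsg.Agent.Helper20.AltMult
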