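import Mathlib
import Cfsg.Agent.Lib.Helper20.AltMultA

/-!
# Word computations in central extensions (for the multiplier of the alternating groups)
-/

set_option autoImplicit false

namespace Cfsg.Agent.Helper20.AltMult

variable {G : Type*} [Group G]

/-- involutions `a b` with `(ab)^k` central: `((ab)^k)^2 = 1`. -/
theorem inv_pow_sq (a b : G) (ha : a ^ 2 = 1) (hb : b ^ 2 = 1) (k : ℕ)
    (hc : (a * b) ^ k ∈ Subgroup.center G) : ((a * b) ^ k) ^ 2 = 1 := by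
  have ha' := inv_of_sq_one ha
  have hb' := inv_of_sq_one hb
  have h0 : a * (a * b) * a⁻¹ = (a * b)⁻¹ := by
    rw [mul_inv_rev, ha', hb']
    calc a * (a * b) * a = a ^ 2 * b * a := by (try simp only [pow_two, pow_three']); group
      _ = b * a := by rw [ha, one_mul]
  have h1 : a * (a * b) ^ k * a⁻¹ = ((a * b) ^ k)⁻¹ := by
    rw [← conj_pow, h0, inv_pow]
  have h2 : a * (a * b) ^ k * a⁻¹ = (a * b) ^ k := cen_conj hc a
  have h3 : (a * b) ^ k = ((a * b) ^ k)⁻¹ := h2.symm.trans h1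
  rw [pow_two]
  nth_rewrite 2 [h3]
  exact mul_inv_cancel _

/-- `b` an involution, `(ab)^2` and `a^3` central: `(a^3)^2 = ((ab)^2)^3`. -/
theorem cube_sq_eq (a b : G) (hb : b ^ 2 = 1) (he : (a * b) ^ 2 ∈ Subgroup.center G)
    (hz : a ^ 3 ∈ Subgroup.center G) : (a ^ 3) ^ 2 = ((a * b) ^ 2) ^ 3 := by
  have hb' := inv_of_sq_one hb
  have h1 : b * a * b⁻¹ = a⁻¹ * (a * b) ^ 2 := by
    rw [hb']; simp only [pow_two]; group
  have h2 : (b * a * b⁻¹) ^ 3 = a ^ 3 := by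
    rw [conj_pow]; exact cen_conj hz b
  have h3 : (a⁻¹ * (a * b) ^ 2) ^ 3 = (a⁻¹) ^ 3 * ((a * b) ^ 2) ^ 3 := mul_cen_pow he _ 3
  rw [h1, h3, inv_pow] at h2
  calc (a ^ 3) ^ 2 = a ^ 3 * a ^ 3 := pow_two _
    _ = a ^ 3 * ((a ^ 3)⁻¹ * ((a * b) ^ 2) ^ 3) := by rw [h2]
    _ = ((a * b) ^ 2) ^ 3 := mul_inv_cancel_left _ _

theorem inv_mul_inv_of_cube {u : G} (hu : u ^ 3 = 1) : u⁻¹ * u⁻¹ = u := by
  have h : u * u * u = 1 := by rw [← hu, pow_three']
  calc u⁻¹ * u⁻¹ = u⁻¹ * u⁻¹ * (u * u * u) := by rw [h, mul_one]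
    _ = u := by (try simp only [pow_two, pow_three']); group

theorem a4_rel1 (u t : G) (hu : u ^ 3 = 1) :
    (u * t * u⁻¹) * (u⁻¹ * t * u) * t = (u * t) ^ 3 := by
  have huu := inv_mul_inv_of_cube hu
  calc (u * t * u⁻¹) * (u⁻¹ * t * u) * t = u * t * (u⁻¹ * u⁻¹) * t * u * t := by (try simp only [pow_two, pow_three']); group
    _ = u * t * u * t * u * t := by rw [huu]
    _ = (u * t) ^ 3 := by (try simp only [pow_two, pow_three']); group

theorem a4_rel2 (u t : G) (hu : u ^ 3 = 1) (hd : (u * t) ^ 3 ∈ Subgroup.center G) :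
    t * (u * t * u⁻¹) * (u⁻¹ * t * u) = (u * t) ^ 3 := by
  have h := a4_rel1 u t hu
  calc t * (u * t * u⁻¹) * (u⁻¹ * t * u)
      = t * ((u * t * u⁻¹) * (u⁻¹ * t * u) * t) * t⁻¹ := by (try simp only [pow_two, pow_three']); group
    _ = t * (u * t) ^ 3 * t⁻¹ := by rw [h]
    _ = (u * t) ^ 3 := cen_conj hd t

theorem a4_core (t0 t1 t2 d : G) (hd : d ∈ Subgroup.center G) (h0 : t0 ^ 2 = 1) (h1 : t1 ^ 2 = 1)
    (h12 : t1 * t2 = d * t0) (h01 : t0 * t1 = d * t2) : d ^ 4 = 1 := by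
  have e2 : t2 = d⁻¹ * (t0 * t1) := by rw [h01, inv_mul_cancel_left]
  have hdi : d⁻¹ ∈ Subgroup.center G := Subgroup.inv_mem _ hd
  have e3 : t1 * t0 * t1 = d ^ 2 * t0 := by
    have h : t1 * (d⁻¹ * (t0 * t1)) = d * t0 := by rw [← e2]; exact h12
    rw [cen_comm' hdi] at h
    calc t1 * t0 * t1 = d * (d⁻¹ * (t1 * (t0 * t1))) := by (try simp only [pow_two, pow_three']); group
      _ = d * (d * t0) := by rw [h]
      _ = d ^ 2 * t0 := by (try simp only [pow_two, pow_three']); group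
  have e4 : (t1 * t0 * t1) ^ 2 = 1 := by
    have h1' := inv_of_sq_one h1
    have h : t1 * t0 * t1 = t1 * t0 * t1⁻¹ := by rw [h1']
    rw [h, conj_pow, h0, mul_one, mul_inv_cancel]
  rw [e3, cen_mul_pow (Subgroup.pow_mem _ hd 2), h0, mul_one, ← pow_mul] at e4
  exact e4

/-- the `A₄` lemma, odd version: `u^3 = 1`, `t^2 = 1`, `(ut)^3` central: `((ut)^3)^4 = 1`. -/
theorem a4_odd (u t : G) (hu : u ^ 3 = 1) (ht : t ^ 2 = 1)
    (hd : (u * t) ^ 3 ∈ Subgroup.center G) : ((u * t) ^ 3) ^ 4 = 1 := by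
  have ht' := inv_of_sq_one ht
  have h1sq : (u * t * u⁻¹) ^ 2 = 1 := by rw [conj_pow, ht, mul_one, mul_inv_cancel]
  have h2sq : (u⁻¹ * t * u) ^ 2 = 1 := by
    have : u⁻¹ * t * u = u⁻¹ * t * (u⁻¹)⁻¹ := by rw [inv_inv]
    rw [this, conj_pow, ht, mul_one, mul_inv_cancel]
  have h2' := inv_of_sq_one h2sq
  apply a4_core t (u * t * u⁻¹) (u⁻¹ * t * u) ((u * t) ^ 3) hd ht h1sq
  · have h := a4_rel1 u t hu
    calc (u * t * u⁻¹) * (u⁻¹ * t * u) = ((u * t * u⁻¹) * (u⁻¹ * t * u) * t) * t⁻¹ := by (try simp only [pow_two, pow_three']); group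
      _ = (u * t) ^ 3 * t := by rw [h, ht']
  · have h := a4_rel2 u t hu hd
    calc t * (u * t * u⁻¹) = (t * (u * t * u⁻¹) * (u⁻¹ * t * u)) * (u⁻¹ * t * u)⁻¹ := by (try simp only [pow_two, pow_three']); group
      _ = (u * t) ^ 3 * (u⁻¹ * t * u) := by rw [h, h2']

/-- the `A₄` lemma, `3'` version. -/
theorem a4_three (u t : G) (hu : u ^ 3 = 1) (hr : t ^ 2 ∈ Subgroup.center G)
    (hd : (u * t) ^ 3 = t ^ 2) :
    (t ^ 2) ^ 2 = 1 ∧ (u * t * u⁻¹) * (u⁻¹ * t * u) = t ∧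
      (u⁻¹ * t * u) * (u * t * u⁻¹) = t ^ 2 * t := by
  have h1sq : (u * t * u⁻¹) ^ 2 = t ^ 2 := by rw [conj_pow]; exact cen_conj hr u
  have h2sq : (u⁻¹ * t * u) ^ 2 = t ^ 2 := by
    have : u⁻¹ * t * u = u⁻¹ * t * (u⁻¹)⁻¹ := by rw [inv_inv]
    rw [this, conj_pow]; exact cen_conj hr u⁻¹
  have hdc : (u * t) ^ 3 ∈ Subgroup.center G := by rw [hd]; exact hr
  have R0 : (u * t * u⁻¹) * (u⁻¹ * t * u) = t := by
    have h := a4_rel1 u t hu
    calc (u * t * u⁻¹) * (u⁻¹ * t * u) = ((u * t * u⁻¹) * (u⁻¹ * t * u) * t) * t⁻¹ := by (try simp only [pow_two, pow_three']); group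
      _ = t ^ 2 * t⁻¹ := by rw [h, hd]
      _ = t := by (try simp only [pow_two, pow_three']); group
  have R2 : t * (u * t * u⁻¹) = u⁻¹ * t * u := by
    have h := a4_rel2 u t hu hdc
    have hinv : (u⁻¹ * t * u)⁻¹ = (t ^ 2)⁻¹ * (u⁻¹ * t * u) := by
      rw [← h2sq]; simp only [pow_two]; group
    calc t * (u * t * u⁻¹) = (t * (u * t * u⁻¹) * (u⁻¹ * t * u)) * (u⁻¹ * t * u)⁻¹ := by (try simp only [pow_two, pow_three']); group
      _ = t ^ 2 * ((t ^ 2)⁻¹ * (u⁻¹ * t * u)) := by rw [h, hd, hinv]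
      _ = u⁻¹ * t * u := mul_inv_cancel_left _ _
  have R3 : (u⁻¹ * t * u) * (u * t * u⁻¹) = t ^ 2 * t := by
    rw [← R2]
    calc t * (u * t * u⁻¹) * (u * t * u⁻¹) = t * (u * t * u⁻¹) ^ 2 := by (try simp only [pow_two, pow_three']); group
      _ = t * t ^ 2 := by rw [h1sq]
      _ = t ^ 2 * t := by (try simp only [pow_two, pow_three']); group
  refine ⟨?_, R0, R3⟩
  -- t1 * t * t1 = t
  have e1 : (u * t * u⁻¹) * t * (u * t * u⁻¹) = t := by
    calc (u * t * u⁻¹) * t * (u * t * u⁻¹) = (u * t * u⁻¹) * (t * (u * t * u⁻¹)) := by (try simp only [pow_two, pow_three']); group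
      _ = t := by rw [R2, R0]
  have e2 : ((u * t * u⁻¹) * t * (u * t * u⁻¹)) ^ 2 = t ^ 2 * t ^ 2 * t ^ 2 := by
    set t1 := u * t * u⁻¹ with ht1
    calc (t1 * t * t1) ^ 2 = t1 * t * (t1 ^ 2) * t * t1 := by (try simp only [pow_two, pow_three']); group
      _ = t1 * t * (t ^ 2) * t * t1 := by rw [h1sq]
      _ = t1 * (t * (t ^ 2 * (t * t1))) := by (try simp only [pow_two, pow_three']); group
      _ = t1 * (t ^ 2 * (t * (t * t1))) := by rw [cen_comm' hr t]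
      _ = t ^ 2 * (t1 * (t * (t * t1))) := by rw [cen_comm' hr t1]
      _ = t ^ 2 * (t1 * (t ^ 2 * t1)) := by (try simp only [pow_two, pow_three']); group
      _ = t ^ 2 * (t ^ 2 * (t1 * t1)) := by rw [cen_comm' hr t1]
      _ = t ^ 2 * (t ^ 2 * t1 ^ 2) := by rw [pow_two t1]
      _ = t ^ 2 * t ^ 2 * t ^ 2 := by rw [h1sq]; simp only [pow_two]; group
  rw [e1] at e2
  -- t^2 = t^2 * t^2 * t^2
  have e3 : t ^ 2 * t ^ 2 = 1 := by
    have : t ^ 2 * 1 = t ^ 2 * (t ^ 2 * t ^ 2) := by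
      rw [mul_one]; nth_rewrite 1 [e2]; simp only [pow_two]; group
    exact (mul_left_cancel this).symm
  rw [pow_two]; exact e3

/-- two commuting involutions `b c` acting on `a` with central defects. -/
theorem far_eq (a b c : G) (hb : b ^ 2 = 1) (hc : c ^ 2 = 1) (hbc : (b * c) ^ 2 = 1)
    (heb : (a * b) ^ 2 ∈ Subgroup.center G) (hec : (a * c) ^ 2 ∈ Subgroup.center G) :
    (((a * b) ^ 2)⁻¹ * (a * c) ^ 2) ^ 2 = 1 := by
  have hb' := inv_of_sq_one hb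
  have hc' := inv_of_sq_one hc
  set eb := (a * b) ^ 2 with heb'
  set ec := (a * c) ^ 2 with hec'
  have h1 : b * a * b⁻¹ = a⁻¹ * eb := by rw [hb', heb']; simp only [pow_two]; group
  have h2 : c * a * c⁻¹ = a⁻¹ * ec := by rw [hc', hec']; simp only [pow_two]; group
  have hebi : eb⁻¹ ∈ Subgroup.center G := Subgroup.inv_mem _ heb
  have hκ : eb⁻¹ * ec ∈ Subgroup.center G := Subgroup.mul_mem _ hebi hec
  have h3 : (b * c) * a * (b * c)⁻¹ = a * (eb⁻¹ * ec) := by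
    calc (b * c) * a * (b * c)⁻¹ = b * (c * a * c⁻¹) * b⁻¹ := by (try simp only [pow_two, pow_three']); group
      _ = b * (a⁻¹ * ec) * b⁻¹ := by rw [h2]
      _ = b * a⁻¹ * (ec * b⁻¹) := by (try simp only [pow_two, pow_three']); group
      _ = b * a⁻¹ * (b⁻¹ * ec) := by rw [← cen_comm hec b⁻¹]
      _ = (b * a * b⁻¹)⁻¹ * ec := by (try simp only [pow_two, pow_three']); group
      _ = (a⁻¹ * eb)⁻¹ * ec := by rw [h1]
      _ = eb⁻¹ * a * ec := by (try simp only [pow_two, pow_three']); group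
      _ = a * eb⁻¹ * ec := by rw [cen_comm hebi a]
      _ = a * (eb⁻¹ * ec) := by (try simp only [pow_two, pow_three']); group
  have hs : (b * c) * (b * c) = 1 := by rw [← pow_two]; exact hbc
  have h4 : a = a * (eb⁻¹ * ec) * (eb⁻¹ * ec) := by
    calc a = ((b * c) * (b * c)) * a * ((b * c) * (b * c))⁻¹ := by rw [hs]; group
      _ = (b * c) * ((b * c) * a * (b * c)⁻¹) * (b * c)⁻¹ := by (try simp only [pow_two, pow_three']); group
      _ = (b * c) * (a * (eb⁻¹ * ec)) * (b * c)⁻¹ := by rw [h3]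
      _ = (b * c) * a * ((eb⁻¹ * ec) * (b * c)⁻¹) := by (try simp only [pow_two, pow_three']); group
      _ = (b * c) * a * ((b * c)⁻¹ * (eb⁻¹ * ec)) := by rw [← cen_comm hκ (b * c)⁻¹]
      _ = ((b * c) * a * (b * c)⁻¹) * (eb⁻¹ * ec) := by (try simp only [pow_two, pow_three']); group
      _ = a * (eb⁻¹ * ec) * (eb⁻¹ * ec) := by rw [h3]
  rw [pow_two]
  have h5 : a * 1 = a * ((eb⁻¹ * ec) * (eb⁻¹ * ec)) := by
    rw [mul_one]; nth_rewrite 1 [h4]; group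
  exact (mul_left_cancel h5).symm

/-- commutators with the two members of a braid pair agree -/
theorem comm_chain (a b b' : G) (hν : a * b * a⁻¹ * b⁻¹ ∈ Subgroup.center G)
    (hν' : a * b' * a⁻¹ * b'⁻¹ ∈ Subgroup.center G) (hbr : b * b' * b = b' * b * b') :
    a * b' * a⁻¹ * b'⁻¹ = a * b * a⁻¹ * b⁻¹ := by
  set ν := a * b * a⁻¹ * b⁻¹ with hνd
  set ν' := a * b' * a⁻¹ * b'⁻¹ with hν'd
  have e1 : a * b * a⁻¹ = ν * b := by rw [hνd]; group
  have e2 : a * b' * a⁻¹ = ν' * b' := by rw [hν'd]; group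
  have l1 : a * (b * b' * b) * a⁻¹ = (ν * ν' * ν) * (b * b' * b) := by
    calc a * (b * b' * b) * a⁻¹ = (a * b * a⁻¹) * (a * b' * a⁻¹) * (a * b * a⁻¹) := by (try simp only [pow_two, pow_three']); group
      _ = (ν * b) * (ν' * b') * (ν * b) := by rw [e1, e2]
      _ = (ν * ν' * ν) * (b * b' * b) := cen_triple hν hν' hν _ _ _
  have l2 : a * (b' * b * b') * a⁻¹ = (ν' * ν * ν') * (b' * b * b') := by
    calc a * (b' * b * b') * a⁻¹ = (a * b' * a⁻¹) * (a * b * a⁻¹) * (a * b' * a⁻¹) := by (try simp only [pow_two, pow_three']); group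
      _ = (ν' * b') * (ν * b) * (ν' * b') := by rw [e1, e2]
      _ = (ν' * ν * ν') * (b' * b * b') := cen_triple hν' hν hν' _ _ _
  rw [hbr] at l1
  rw [l1] at l2
  have l3 : ν * ν' * ν = ν' * ν * ν' := mul_right_cancel l2
  have hc : ν * ν' = ν' * ν := cen_comm hν' ν
  rw [hc] at l3
  exact (mul_left_cancel l3).symm

/-- `u^3 = 1`, `b^2` and `(ub)^2` central. -/
theorem inv0_cube (u b : G) (hu : u ^ 3 = 1) (hr : b ^ 2 ∈ Subgroup.center G)
    (he : (u * b) ^ 2 ∈ Subgroup.center G) :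
    ((b ^ 2)⁻¹ * (u * b) ^ 2) ^ 3 = 1 ∧ b * u * b⁻¹ = u⁻¹ * ((b ^ 2)⁻¹ * (u * b) ^ 2) := by
  have hri : (b ^ 2)⁻¹ ∈ Subgroup.center G := Subgroup.inv_mem _ hr
  have hκ : (b ^ 2)⁻¹ * (u * b) ^ 2 ∈ Subgroup.center G := Subgroup.mul_mem _ hri he
  have h1 : b * u * b⁻¹ = u⁻¹ * ((b ^ 2)⁻¹ * (u * b) ^ 2) := by
    calc b * u * b⁻¹ = u⁻¹ * ((u * b) ^ 2 * (b ^ 2)⁻¹) := by (try simp only [pow_two, pow_three']); group
      _ = u⁻¹ * ((b ^ 2)⁻¹ * (u * b) ^ 2) := by rw [cen_comm hri]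
  refine ⟨?_, h1⟩
  have h2 : (b * u * b⁻¹) ^ 3 = 1 := by rw [conj_pow, hu, mul_one, mul_inv_cancel]
  rw [h1, mul_cen_pow hκ, inv_pow, hu, inv_one, one_mul] at h2
  exact h2

theorem braid_conj (a b : G) (hbr : a * b * a = b * a * b) : (a * b) * a * (a * b)⁻¹ = b := by
  calc (a * b) * a * (a * b)⁻¹ = (a * b * a) * b⁻¹ * a⁻¹ := by (try simp only [pow_two, pow_three']); group
    _ = (b * a * b) * b⁻¹ * a⁻¹ := by rw [hbr]
    _ = b := by (try simp only [pow_two, pow_three']); group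

theorem braid_sq (a b : G) (ha : a ^ 2 ∈ Subgroup.center G) (hbr : a * b * a = b * a * b) :
    b ^ 2 = a ^ 2 := by
  have h := braid_conj a b hbr
  calc b ^ 2 = ((a * b) * a * (a * b)⁻¹) ^ 2 := by rw [h]
    _ = (a * b) * a ^ 2 * (a * b)⁻¹ := conj_pow
    _ = a ^ 2 := cen_conj ha _

theorem braid_cube (a b : G) (ha : a ^ 2 ∈ Subgroup.center G) (hbr : a * b * a = b * a * b) :
    (a * b) ^ 3 = (a ^ 2) ^ 3 := by
  have hb := braid_sq a b ha hbr
  calc (a * b) ^ 3 = (a * b * a) * (b * a * b) := by (try simp only [pow_two, pow_three']); group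
    _ = (a * b * a) * (a * b * a) := by rw [hbr]
    _ = a * (b * (a ^ 2 * (b * a))) := by (try simp only [pow_two, pow_three']); group
    _ = a * (a ^ 2 * (b * (b * a))) := by rw [cen_comm' ha b]
    _ = a ^ 2 * (a * (b * (b * a))) := by rw [cen_comm' ha a]
    _ = a ^ 2 * (a * (b ^ 2 * a)) := by (try simp only [pow_two, pow_three']); group
    _ = a ^ 2 * (a * (a ^ 2 * a)) := by rw [hb]
    _ = (a ^ 2) ^ 3 := by (try simp only [pow_two, pow_three']); group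

theorem far_sq (a b : G) (ha : a ^ 2 ∈ Subgroup.center G) :
    (a * b) ^ 2 = (a * b * a⁻¹ * b⁻¹) * (a ^ 2 * b ^ 2) := by
  calc (a * b) ^ 2 = (a * b * a⁻¹ * b⁻¹) * (b * (a ^ 2 * b)) := by (try simp only [pow_two, pow_three']); group
    _ = (a * b * a⁻¹ * b⁻¹) * (a ^ 2 * (b * b)) := by rw [cen_comm' ha b]
    _ = (a * b * a⁻¹ * b⁻¹) * (a ^ 2 * b ^ 2) := by rw [pow_two b]

/-- the value of the far commutator. -/
theorem nu_eq (u t s ν' : G) (hu : u ^ 3 = 1) (hr : t ^ 2 ∈ Subgroup.center G)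
    (hd : (u * t) ^ 3 = t ^ 2) (hsu : s * u * s⁻¹ = u⁻¹) (hν' : ν' ∈ Subgroup.center G)
    (hst : s * t * s⁻¹ = ν' * t) : ν' * t ^ 2 = 1 := by
  obtain ⟨-, R0, R3⟩ := a4_three u t hu hr hd
  have f1 : s * (u * t * u⁻¹) * s⁻¹ = ν' * (u⁻¹ * t * u) := by
    calc s * (u * t * u⁻¹) * s⁻¹ = (s * u * s⁻¹) * (s * t * s⁻¹) * (s * u * s⁻¹)⁻¹ := by (try simp only [pow_two, pow_three']); group
      _ = u⁻¹ * (ν' * t) * (u⁻¹)⁻¹ := by rw [hsu, hst]
      _ = u⁻¹ * (ν' * (t * u)) := by (try simp only [pow_two, pow_three']); group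
      _ = ν' * (u⁻¹ * (t * u)) := by rw [cen_comm' hν']
      _ = ν' * (u⁻¹ * t * u) := by (try simp only [pow_two, pow_three']); group
  have f2 : s * (u⁻¹ * t * u) * s⁻¹ = ν' * (u * t * u⁻¹) := by
    calc s * (u⁻¹ * t * u) * s⁻¹ = (s * u * s⁻¹)⁻¹ * (s * t * s⁻¹) * (s * u * s⁻¹) := by (try simp only [pow_two, pow_three']); group
      _ = (u⁻¹)⁻¹ * (ν' * t) * u⁻¹ := by rw [hsu, hst]
      _ = u * (ν' * (t * u⁻¹)) := by (try simp only [pow_two, pow_three']); group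
      _ = ν' * (u * (t * u⁻¹)) := by rw [cen_comm' hν']
      _ = ν' * (u * t * u⁻¹) := by (try simp only [pow_two, pow_three']); group
  have f3 : s * ((u * t * u⁻¹) * (u⁻¹ * t * u)) * s⁻¹ = (ν' * ν') * (t ^ 2 * t) := by
    calc s * ((u * t * u⁻¹) * (u⁻¹ * t * u)) * s⁻¹
        = (s * (u * t * u⁻¹) * s⁻¹) * (s * (u⁻¹ * t * u) * s⁻¹) := by (try simp only [pow_two, pow_three']); group
      _ = (ν' * (u⁻¹ * t * u)) * (ν' * (u * t * u⁻¹)) := by rw [f1, f2]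
      _ = (ν' * ν') * ((u⁻¹ * t * u) * (u * t * u⁻¹)) := cen_pair hν' hν' _ _
      _ = (ν' * ν') * (t ^ 2 * t) := by rw [R3]
  rw [R0, hst] at f3
  -- ν' * t = ν' * ν' * (t^2 * t)
  have f4 : ν' * (1 * t) = ν' * ((ν' * t ^ 2) * t) := by
    rw [one_mul, f3]; simp only [pow_two]; group
  have f5 := mul_right_cancel (mul_left_cancel f4)
  exact f5.symm

end Cfsg.Agent.Helper20.AltMult
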