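import Mathlib
import Cfsg.Agent.Lib.Helper20.AltMultB
import Cfsg.Agent.Lib.Helper11.CarmichaelD

/-!
# Central covers of the Carmichael presentation: lifts of the generators
-/

set_option autoImplicit false

namespace Cfsg.Agent.Helper20.AltMult

open Cfsg.Agent.Helper11.Carmichael

/-- a central stem cover of the group presented by Carmichael's relations -/
structure Cov (Γ : Type*) [Group Γ] (m : ℕ) where
  σ : Γ →* PresentedGroup (carRels m)
  surj : Function.Surjective σ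
  cen : σ.ker ≤ Subgroup.center Γ
  comm : σ.ker ≤ commutator Γ

variable {Γ : Type*} [Group Γ] {m : ℕ}

/-- `y` lifts the generators -/
def IsLift (C : Cov Γ m) (y : ℕ → Γ) : Prop := ∀ i, i < m → C.σ (y i) = tgen m i

theorem Cov.exists_lift (C : Cov Γ m) : ∃ y : ℕ → Γ, IsLift C y := by
  choose f hf using C.surj
  exact ⟨fun i => f (tgen m i), fun i _ => hf _⟩

theorem Cov.ker_le_of_vals (C : Cov Γ m) (y : ℕ → Γ) (hy : IsLift C y) (S : Subgroup Γ)
    (h0 : 0 < m → y 0 ^ 3 ∈ S) (h1 : ∀ i, 1 ≤ i → i < m → y i ^ 2 ∈ S)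
    (h2 : ∀ i, i + 1 < m → (y i * y (i + 1)) ^ 3 ∈ S)
    (h3 : ∀ i j, i + 1 < j → j < m → (y i * y j) ^ 2 ∈ S) : C.σ.ker ≤ S := by
  have hk := ker_le_closure_relators C.σ C.cen C.comm (fun i : Fin m => y i.val)
    (fun i => by rw [hy i.val i.2, tgen_of_lt m i.val i.2])
  refine hk.trans ?_
  rw [Subgroup.closure_le]
  rintro _ ⟨r, hr, rfl⟩
  rcases hr with ((⟨i, hi, rfl⟩ | ⟨i, hi, rfl⟩) | ⟨i, j, hij, rfl⟩) | ⟨i, j, hij, rfl⟩
  · show FreeGroup.lift (fun i : Fin m => y i.val) (FreeGroup.of i ^ 3) ∈ S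
    rw [map_pow, FreeGroup.lift_apply_of, hi]
    exact h0 (by have := i.2; omega)
  · show FreeGroup.lift (fun i : Fin m => y i.val) (FreeGroup.of i ^ 2) ∈ S
    rw [map_pow, FreeGroup.lift_apply_of]
    exact h1 i.val hi i.2
  · show FreeGroup.lift (fun i : Fin m => y i.val) ((FreeGroup.of i * FreeGroup.of j) ^ 3) ∈ S
    rw [map_pow, map_mul, FreeGroup.lift_apply_of, FreeGroup.lift_apply_of, hij]
    exact h2 i.val (by have := j.2; omega)
  · show FreeGroup.lift (fun i : Fin m => y i.val) ((FreeGroup.of i * FreeGroup.of j) ^ 2) ∈ S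
    rw [map_pow, map_mul, FreeGroup.lift_apply_of, FreeGroup.lift_apply_of]
    exact h3 i.val j.val hij j.2

section lifts

variable {n : ℕ} (C : Cov Γ (n + 1)) {y : ℕ → Γ} (hy : IsLift C y)

include hy

theorem mem_ker_cube : y 0 ^ 3 ∈ C.σ.ker := by
  rw [MonoidHom.mem_ker, map_pow, hy 0 (by omega), tgen_of_lt _ _ (by omega : 0 < n + 1)]
  exact rel_cube (n + 1) ⟨0, by omega⟩ rfl

theorem mem_ker_sq (i : ℕ) (hi1 : 1 ≤ i) (hi : i < n + 1) : y i ^ 2 ∈ C.σ.ker := by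
  rw [MonoidHom.mem_ker, map_pow, hy i hi, tgen_of_lt _ _ hi]
  exact rel_sq (n + 1) ⟨i, hi⟩ hi1

theorem mem_ker_adj (i : ℕ) (hi : i + 1 < n + 1) : (y i * y (i + 1)) ^ 3 ∈ C.σ.ker := by
  rw [MonoidHom.mem_ker, map_pow, map_mul, hy i (by omega), hy (i + 1) hi,
    tgen_of_lt _ _ (by omega : i < n + 1), tgen_of_lt _ _ hi]
  exact rel_adj (n + 1) ⟨i, by omega⟩ ⟨i + 1, hi⟩ rfl

theorem mem_ker_far (i j : ℕ) (hij : i + 1 < j) (hj : j < n + 1) :
    (y i * y j) ^ 2 ∈ C.σ.ker := by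
  rw [MonoidHom.mem_ker, map_pow, map_mul, hy i (by omega), hy j hj,
    tgen_of_lt _ _ (by omega : i < n + 1), tgen_of_lt _ _ hj]
  exact rel_far (n + 1) ⟨i, by omega⟩ ⟨j, hj⟩ hij

theorem mem_ker_comm (i j : ℕ) (hi : 1 ≤ i) (hij : i + 2 ≤ j) (hj : j < n + 1) :
    y i * y j * (y i)⁻¹ * (y j)⁻¹ ∈ C.σ.ker := by
  rw [MonoidHom.mem_ker, map_mul, map_mul, map_mul, map_inv, map_inv, hy i (by omega), hy j hj]
  have h := (carRel_tgen n).comm i j hi (by omega) hij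
  rw [h]; group

end lifts

/-- two lifts of the same generator differ by a central element -/
theorem lift_diff {n : ℕ} (C : Cov Γ (n + 1)) (a b : Γ) (h : C.σ a = C.σ b) :
    a⁻¹ * b ∈ C.σ.ker := by
  rw [MonoidHom.mem_ker, map_mul, map_inv, h, inv_mul_cancel]

end Cfsg.Agent.Helper20.AltMult
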