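import Mathlib
import Cfsg.Agent.Lib.Helper20.AltMultC

/-!
# The odd part of the kernel of a stem cover of `Aₙ` is trivial (`n = 5` or `n ≥ 8`)
-/

set_option autoImplicit false

namespace Cfsg.Agent.Helper20.AltMult

open Cfsg.Agent.Helper11.Carmichael

variable {Γ : Type*} [Group Γ]

theorem odd_pow_two_eq_one {K : Subgroup Γ} [Finite K] (hodd : Odd (Nat.card K)) {x : Γ}
    (hx : x ∈ K) (k : ℕ) (h : x ^ (2 ^ k) = 1) : x = 1 := by
  have h1 : orderOf x ∣ Nat.card K := Subgroup.orderOf_dvd_natCard K hx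
  have h2 : orderOf x ∣ 2 ^ k := orderOf_dvd_of_pow_eq_one h
  have h3 : Nat.Coprime (Nat.card K) (2 ^ k) := by
    apply Nat.Coprime.pow_right
    exact (Nat.coprime_two_right.mpr hodd)
  have h4 : orderOf x ∣ 1 := by
    have := Nat.dvd_gcd h1 h2
    rwa [h3] at this
  exact orderOf_eq_one_iff.mp (Nat.dvd_one.mp h4)

theorem odd_exists_sqrt {K : Subgroup Γ} [Finite K] (hodd : Odd (Nat.card K)) {x : Γ}
    (hx : x ∈ K) : ∃ c ∈ K, c ^ 2 = x := by
  obtain ⟨k, hk⟩ := hodd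
  refine ⟨x ^ (k + 1), Subgroup.pow_mem _ hx _, ?_⟩
  have h1 : x ^ Nat.card K = 1 := by
    have := Subgroup.orderOf_dvd_natCard K hx
    exact orderOf_dvd_iff_pow_eq_one.mp this
  rw [← pow_mul]
  have : (k + 1) * 2 = Nat.card K + 1 := by omega
  rw [this, pow_succ, h1, one_mul]

variable {n : ℕ} (C : Cov Γ (n + 1))

/-- an odd-normalised lift -/
theorem exists_odd_lift [Finite C.σ.ker] (hodd : Odd (Nat.card C.σ.ker)) :
    ∃ y : ℕ → Γ, IsLift C y ∧ (∀ i, 1 ≤ i → i < n + 1 → y i ^ 2 = 1) ∧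
      (2 < n + 1 → (y 0 * y 2) ^ 2 = 1) := by
  obtain ⟨y0, hy0⟩ := C.exists_lift
  have hc : ∀ i, ∃ c : Γ, c ∈ C.σ.ker ∧ (1 ≤ i ∧ i < n + 1 → c ^ 2 = ((y0 i) ^ 2)⁻¹) := by
    intro i
    by_cases hi : 1 ≤ i ∧ i < n + 1
    · have hm : ((y0 i) ^ 2)⁻¹ ∈ C.σ.ker :=
        Subgroup.inv_mem _ (mem_ker_sq C hy0 i hi.1 hi.2)
      obtain ⟨c, hcK, hc2⟩ := odd_exists_sqrt hodd hm
      exact ⟨c, hcK, fun _ => hc2⟩
    · exact ⟨1, Subgroup.one_mem _, fun h => absurd h hi⟩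
  choose c hcK hc2 using hc
  -- first normalise the involutions
  have hy1lift : IsLift C (fun i => y0 i * c i) := by
    intro i hi
    show C.σ (y0 i * c i) = _
    rw [map_mul, MonoidHom.mem_ker.mp (hcK i), mul_one, hy0 i hi]
  have hy1sq : ∀ i, 1 ≤ i → i < n + 1 → (y0 i * c i) ^ 2 = 1 := by
    intro i hi1 hi
    rw [mul_cen_pow (C.cen (hcK i)), hc2 i ⟨hi1, hi⟩, mul_inv_cancel]
  -- then normalise y 0
  have hc0 : ∃ c0 : Γ, c0 ∈ C.σ.ker ∧
      (2 < n + 1 → c0 ^ 2 = ((y0 0 * c 0 * (y0 2 * c 2)) ^ 2)⁻¹) := by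
    by_cases h2 : 2 < n + 1
    · have hm : ((y0 0 * c 0 * (y0 2 * c 2)) ^ 2)⁻¹ ∈ C.σ.ker :=
        Subgroup.inv_mem _ (mem_ker_far C hy1lift 0 2 (by omega) h2)
      obtain ⟨c0, hc0K, hc02⟩ := odd_exists_sqrt hodd hm
      exact ⟨c0, hc0K, fun _ => hc02⟩
    · exact ⟨1, Subgroup.one_mem _, fun h => absurd h h2⟩
  obtain ⟨c0, hc0K, hc02⟩ := hc0
  refine ⟨fun i => if i = 0 then c0 * (y0 0 * c 0) else y0 i * c i, ?_, ?_, ?_⟩
  · intro i hi
    by_cases h0 : i = 0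
    · subst h0
      show C.σ (if (0 : ℕ) = 0 then c0 * (y0 0 * c 0) else y0 0 * c 0) = _
      rw [if_pos rfl, map_mul, MonoidHom.mem_ker.mp hc0K, one_mul]
      exact hy1lift 0 hi
    · show C.σ (if i = 0 then c0 * (y0 0 * c 0) else y0 i * c i) = _
      rw [if_neg h0]
      exact hy1lift i hi
  · intro i hi1 hi
    have h0 : i ≠ 0 := by omega
    show (if i = 0 then c0 * (y0 0 * c 0) else y0 i * c i) ^ 2 = 1
    rw [if_neg h0]
    exact hy1sq i hi1 hi
  · intro h2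
    show ((if (0 : ℕ) = 0 then c0 * (y0 0 * c 0) else y0 0 * c 0) *
      (if (2 : ℕ) = 0 then c0 * (y0 0 * c 0) else y0 2 * c 2)) ^ 2 = 1
    rw [if_pos rfl, if_neg (by norm_num)]
    have : c0 * (y0 0 * c 0) * (y0 2 * c 2) = c0 * (y0 0 * c 0 * (y0 2 * c 2)) := by group
    rw [this, cen_mul_pow (C.cen hc0K), hc02 h2, inv_mul_cancel]

/-- the odd case: the kernel is trivial when `m = 3` or `m ≥ 6`. -/
theorem ker_eq_bot_of_odd [Finite C.σ.ker] (hodd : Odd (Nat.card C.σ.ker))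
    (hm : n + 1 = 3 ∨ 6 ≤ n + 1) : C.σ.ker = ⊥ := by
  obtain ⟨y, hy, hsq, h02⟩ := exists_odd_lift C hodd
  have h2m : 2 < n + 1 := by omega
  have hK : ∀ x ∈ C.σ.ker, ∀ k : ℕ, x ^ (2 ^ k) = 1 → x = 1 :=
    fun x hx k h => odd_pow_two_eq_one hodd hx k h
  -- far pairs
  have F1 : ∀ i j, 1 ≤ i → i + 2 ≤ j → j < n + 1 → (y i * y j) ^ 2 = 1 := by
    intro i j hi hij hj
    have hmem := mem_ker_far C hy i j (by omega) hj
    have := inv_pow_sq (y i) (y j) (hsq i hi (by omega)) (hsq j (by omega) hj) 2 (C.cen hmem)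
    exact hK _ hmem 1 (by simpa using this)
  have F2 : ∀ i, 1 ≤ i → i + 1 < n + 1 → (y i * y (i + 1)) ^ 3 = 1 := by
    intro i hi hi1
    have hmem := mem_ker_adj C hy i hi1
    have := inv_pow_sq (y i) (y (i + 1)) (hsq i hi (by omega)) (hsq (i + 1) (by omega) hi1) 3
      (C.cen hmem)
    exact hK _ hmem 1 (by simpa using this)
  have F3 : y 0 ^ 3 = 1 := by
    have hmem := mem_ker_cube C hy
    have := cube_sq_eq (y 0) (y 2) (hsq 2 (by omega) h2m)
      (C.cen (mem_ker_far C hy 0 2 (by omega) h2m)) (C.cen hmem)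
    rw [h02 h2m, one_pow] at this
    exact hK _ hmem 1 (by simpa using this)
  have F4 : (y 0 * y 1) ^ 3 = 1 := by
    have hmem := mem_ker_adj C hy 0 (by omega)
    have := a4_odd (y 0) (y 1) F3 (hsq 1 le_rfl (by omega)) (C.cen hmem)
    exact hK _ hmem 2 (by simpa using this)
  -- the values e_j
  have Feq : ∀ i j, 2 ≤ i → i + 2 ≤ j → j < n + 1 → (y 0 * y j) ^ 2 = (y 0 * y i) ^ 2 := by
    intro i j hi hij hj
    have hmi := mem_ker_far C hy 0 i (by omega) (by omega)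
    have hmj := mem_ker_far C hy 0 j (by omega) hj
    have := far_eq (y 0) (y i) (y j) (hsq i (by omega) (by omega)) (hsq j (by omega) hj)
      (F1 i j (by omega) hij hj) (C.cen hmi) (C.cen hmj)
    have hmem : ((y 0 * y i) ^ 2)⁻¹ * (y 0 * y j) ^ 2 ∈ C.σ.ker :=
      Subgroup.mul_mem _ (Subgroup.inv_mem _ hmi) hmj
    have h1 := hK _ hmem 1 (by simpa using this)
    exact (inv_mul_eq_one.mp h1).symm
  have F5 : ∀ j, 2 ≤ j → j < n + 1 → (y 0 * y j) ^ 2 = 1 := by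
    intro j hj2 hj
    rcases hm with hm | hm
    · have : j = 2 := by omega
      subst this
      exact h02 h2m
    · by_cases h4 : 4 ≤ j
      · rw [Feq 2 j le_rfl (by omega) hj]; exact h02 h2m
      · by_cases h3 : j = 3
        · subst h3
          have e1 := Feq 3 5 (by omega) (by omega) (by omega)
          have e2 := Feq 2 5 le_rfl (by omega) (by omega)
          rw [← e1, e2]; exact h02 h2m
        · have : j = 2 := by omega
          subst this
          exact h02 h2m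
  rw [eq_bot_iff]
  apply C.ker_le_of_vals y hy ⊥
  · intro _; rw [F3]; exact Subgroup.one_mem _
  · intro i hi1 hi; rw [hsq i hi1 hi]; exact Subgroup.one_mem _
  · intro i hi
    by_cases h0 : i = 0
    · subst h0; rw [F4]; exact Subgroup.one_mem _
    · rw [F2 i (by omega) hi]; exact Subgroup.one_mem _
  · intro i j hij hj
    by_cases h0 : i = 0
    · subst h0; rw [F5 j (by omega) hj]; exact Subgroup.one_mem _
    · rw [F1 i j (by omega) (by omega) hj]; exact Subgroup.one_mem _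

end Cfsg.Agent.Helper20.AltMult
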