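import Mathlib
import Cfsg.Agent.Lib.Helper20.AltMultD

/-!
# The `3'`-part of the kernel of a stem cover of `Aₙ` has order at most `2`
-/

set_option autoImplicit false

namespace Cfsg.Agent.Helper20.AltMult

open Cfsg.Agent.Helper11.Carmichael

variable {Γ : Type*} [Group Γ]

theorem cube_inj {K : Subgroup Γ} [Finite K] (h3 : ¬ 3 ∣ Nat.card K) {x : Γ} (hx : x ∈ K)
    (h : x ^ 3 = 1) : x = 1 := by
  have h1 : orderOf x ∣ Nat.card K := Subgroup.orderOf_dvd_natCard K hx
  have h2 : orderOf x ∣ 3 := orderOf_dvd_of_pow_eq_one h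
  have hp : Nat.Prime 3 := by norm_num
  rcases (Nat.dvd_prime hp).mp h2 with h | h
  · exact orderOf_eq_one_iff.mp h
  · rw [h] at h1; exact absurd h1 h3

theorem exists_cube_root {K : Subgroup Γ} [Finite K] (h3 : ¬ 3 ∣ Nat.card K) {x : Γ}
    (hx : x ∈ K) : ∃ c ∈ K, c ^ 3 = x := by
  have h1 : x ^ Nat.card K = 1 :=
    orderOf_dvd_iff_pow_eq_one.mp (Subgroup.orderOf_dvd_natCard K hx)
  have hmod : Nat.card K % 3 = 1 ∨ Nat.card K % 3 = 2 := by omega
  rcases hmod with hm | hm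
  · refine ⟨x ^ (2 * (Nat.card K / 3) + 1), Subgroup.pow_mem _ hx _, ?_⟩
    rw [← pow_mul]
    have : (2 * (Nat.card K / 3) + 1) * 3 = 2 * Nat.card K + 1 := by omega
    rw [this, pow_succ, pow_mul', h1, one_pow, one_mul]
  · refine ⟨x ^ (Nat.card K / 3 + 1), Subgroup.pow_mem _ hx _, ?_⟩
    rw [← pow_mul]
    have : (Nat.card K / 3 + 1) * 3 = Nat.card K + 1 := by omega
    rw [this, pow_succ, h1, one_mul]

/-- replacing the second member of an "almost braid" pair by a conjugate gives a braid pair -/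
theorem braid_fix (a b0 : Γ) (hz : (a * b0 * a) * (b0 * a * b0)⁻¹ ∈ Subgroup.center Γ) :
    a * ((a * b0) * a * (a * b0)⁻¹) * a =
      ((a * b0) * a * (a * b0)⁻¹) * a * ((a * b0) * a * (a * b0)⁻¹) := by
  have e1 : a * b0 * a = ((a * b0 * a) * (b0 * a * b0)⁻¹) * (b0 * a * b0) := by group
  have e2 : (a * b0) * a * (a * b0)⁻¹ = ((a * b0 * a) * (b0 * a * b0)⁻¹) * b0 := by group
  rw [e2]
  generalize (a * b0 * a) * (b0 * a * b0)⁻¹ = z at hz e1
  calc a * (z * b0) * a = z * (a * b0 * a) := by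
        rw [cen_comm' hz a b0, mul_assoc z]
    _ = z * (z * (b0 * a * b0)) := by rw [e1]
    _ = z * b0 * a * (z * b0) := by
        have h1 : z * b0 * a * (z * b0) = z * (b0 * (a * (z * b0))) := by group
        rw [h1, cen_comm' hz a b0, cen_comm' hz b0]
        group

section main

variable {n : ℕ} (C : Cov Γ (n + 1))

/-- the normalised lifts -/
def nlift (y0 : ℕ → Γ) (a b : Γ) : ℕ → Γ
  | 0 => a
  | 1 => b
  | (i + 2) => (nlift y0 a b (i + 1) * y0 (i + 2)) * nlift y0 a b (i + 1) *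
      (nlift y0 a b (i + 1) * y0 (i + 2))⁻¹

theorem nlift_succ (y0 : ℕ → Γ) (a b : Γ) (i : ℕ) :
    nlift y0 a b (i + 2) = (nlift y0 a b (i + 1) * y0 (i + 2)) * nlift y0 a b (i + 1) *
      (nlift y0 a b (i + 1) * y0 (i + 2))⁻¹ := rfl

theorem nlift_isLift {y0 : ℕ → Γ} (hy0 : IsLift C y0) (a b : Γ)
    (ha : C.σ a = tgen (n + 1) 0) (hb : 1 < n + 1 → C.σ b = tgen (n + 1) 1) :
    IsLift C (nlift y0 a b) := by
  intro i
  induction i with
  | zero => intro _; exact ha
  | succ i ih =>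
    intro hi
    cases i with
    | zero => exact hb hi
    | succ k =>
      rw [nlift_succ, map_mul, map_mul, map_inv, map_mul, ih (by omega), hy0 (k + 2) hi]
      exact braid_conj _ _ ((carRel_tgen n).braid (k + 1) (by omega) (by omega))

theorem nlift_braid {y0 : ℕ → Γ} (hy0 : IsLift C y0) (a b : Γ)
    (ha : C.σ a = tgen (n + 1) 0) (hb : 1 < n + 1 → C.σ b = tgen (n + 1) 1)
    (i : ℕ) (hi1 : 1 ≤ i) (hi : i + 1 < n + 1) :
    nlift y0 a b i * nlift y0 a b (i + 1) * nlift y0 a b i =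
      nlift y0 a b (i + 1) * nlift y0 a b i * nlift y0 a b (i + 1) := by
  obtain ⟨k, rfl⟩ : ∃ k, i = k + 1 := ⟨i - 1, by omega⟩
  have hL := nlift_isLift C hy0 a b ha hb
  rw [nlift_succ]
  apply braid_fix
  apply C.cen
  rw [MonoidHom.mem_ker, map_mul, map_inv, map_mul, map_mul, map_mul, map_mul,
    hL (k + 1) (by omega), hy0 (k + 2) hi,
    (carRel_tgen n).braid (k + 1) (by omega) (by omega), mul_inv_cancel]

end main

end Cfsg.Agent.Helper20.AltMult
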