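import Mathlib
import Cfsg.Agent.Lib.Helper20.AltMultE

/-!
# The `3'`-part of the kernel of a stem cover of `Aₙ` has order at most `2`: main computation
-/

set_option autoImplicit false

namespace Cfsg.Agent.Helper20.AltMult

open Cfsg.Agent.Helper11.Carmichael

variable {Γ : Type*} [Group Γ]

/-- a normalised lift exists -/
theorem exists_norm_lift {n : ℕ} (C : Cov Γ (n + 1)) [Finite C.σ.ker]
    (h3 : ¬ 3 ∣ Nat.card C.σ.ker) (hn : 2 ≤ n + 1) :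
    ∃ y : ℕ → Γ, IsLift C y ∧ y 0 ^ 3 = 1 ∧ (y 0 * y 1) ^ 3 = y 1 ^ 2 ∧
      ∀ i, 1 ≤ i → i + 1 < n + 1 → y i * y (i + 1) * y i = y (i + 1) * y i * y (i + 1) := by
  obtain ⟨y0, hy0⟩ := C.exists_lift
  obtain ⟨c0, hc0K, hc0⟩ := exists_cube_root h3 (Subgroup.inv_mem _ (mem_ker_cube C hy0))
  have ha3 : (y0 0 * c0) ^ 3 = 1 := by rw [mul_cen_pow (C.cen hc0K), hc0, mul_inv_cancel]
  have haσ : C.σ (y0 0 * c0) = tgen (n + 1) 0 := by
    rw [map_mul, MonoidHom.mem_ker.mp hc0K, mul_one, hy0 0 (by omega)]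
  have hQK : (y0 1) ^ 2 ∈ C.σ.ker := mem_ker_sq C hy0 1 le_rfl (by omega)
  have hPK : ((y0 0 * c0) * y0 1) ^ 3 ∈ C.σ.ker := by
    rw [MonoidHom.mem_ker, map_pow, map_mul, haσ, hy0 1 (by omega),
      tgen_of_lt _ _ (by omega : 0 < n + 1), tgen_of_lt _ _ (by omega : 1 < n + 1)]
    exact rel_adj (n + 1) ⟨0, by omega⟩ ⟨1, by omega⟩ rfl
  have hkK : ((y0 0 * c0) * y0 1) ^ 3 * ((y0 1) ^ 2)⁻¹ ∈ C.σ.ker :=
    Subgroup.mul_mem _ hPK (Subgroup.inv_mem _ hQK)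
  have hkiK : (((y0 0 * c0) * y0 1) ^ 3 * ((y0 1) ^ 2)⁻¹)⁻¹ ∈ C.σ.ker := Subgroup.inv_mem _ hkK
  have hbσ : C.σ (y0 1 * (((y0 0 * c0) * y0 1) ^ 3 * ((y0 1) ^ 2)⁻¹)⁻¹) = tgen (n + 1) 1 := by
    rw [map_mul, MonoidHom.mem_ker.mp hkiK, mul_one, hy0 1 (by omega)]
  have hd : ((y0 0 * c0) * (y0 1 * (((y0 0 * c0) * y0 1) ^ 3 * ((y0 1) ^ 2)⁻¹)⁻¹)) ^ 3 =
      (y0 1 * (((y0 0 * c0) * y0 1) ^ 3 * ((y0 1) ^ 2)⁻¹)⁻¹) ^ 2 := by
    have hkc := C.cen hkiK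
    have hQc := C.cen hQK
    rw [← mul_assoc, mul_cen_pow hkc, mul_cen_pow hkc]
    generalize ((y0 0 * c0) * y0 1) ^ 3 = P at *
    generalize (y0 1) ^ 2 = Q at *
    have e1 : P * (P * Q⁻¹)⁻¹ = Q := by
      have : P * (P * Q⁻¹)⁻¹ = P * Q * P⁻¹ := by group
      rw [this]; exact cen_conj hQc P
    rw [pow_succ' _ 2, ← mul_assoc, e1]
  refine ⟨nlift y0 (y0 0 * c0) (y0 1 * (((y0 0 * c0) * y0 1) ^ 3 * ((y0 1) ^ 2)⁻¹)⁻¹),
    nlift_isLift C hy0 _ _ haσ (fun _ => hbσ), ha3, hd, ?_⟩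
  intro i hi1 hi
  exact nlift_braid C hy0 _ _ haσ (fun _ => hbσ) i hi1 hi

theorem card_ker_le_two {n : ℕ} (C : Cov Γ (n + 1)) [Finite Γ]
    (h3 : ¬ 3 ∣ Nat.card C.σ.ker) (hn : 2 ≤ n + 1) : Nat.card C.σ.ker ≤ 2 := by
  obtain ⟨y, hy, ha3, hd, hbr⟩ := exists_norm_lift C h3 hn
  have hrK : y 1 ^ 2 ∈ C.σ.ker := mem_ker_sq C hy 1 le_rfl (by omega)
  have hrc : y 1 ^ 2 ∈ Subgroup.center Γ := C.cen hrK
  -- (a) all squares agree
  have hsq : ∀ i, 1 ≤ i → i < n + 1 → y i ^ 2 = y 1 ^ 2 := by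
    intro i
    induction i with
    | zero => intro h; omega
    | succ i ih =>
      intro _ hi
      by_cases h0 : i = 0
      · subst h0; rfl
      · have hi2 := ih (by omega) (by omega)
        rw [braid_sq (y i) (y (i + 1)) (by rw [hi2]; exact hrc) (hbr i (by omega) hi), hi2]
  -- (b)
  have hr2 : (y 1 ^ 2) ^ 2 = 1 := (a4_three (y 0) (y 1) ha3 hrc hd).1
  have hr3 : (y 1 ^ 2) ^ 3 = y 1 ^ 2 := by rw [pow_succ, hr2, one_mul]
  -- (c)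
  have hadj : ∀ i, 1 ≤ i → i + 1 < n + 1 → (y i * y (i + 1)) ^ 3 = y 1 ^ 2 := by
    intro i hi1 hi
    have hi2 := hsq i hi1 (by omega)
    rw [braid_cube (y i) (y (i + 1)) (by rw [hi2]; exact hrc) (hbr i hi1 hi), hi2, hr3]
  -- (d)
  have hinv0 : ∀ j, 2 ≤ j → j < n + 1 →
      (y 0 * y j) ^ 2 = y 1 ^ 2 ∧ y j * y 0 * (y j)⁻¹ = (y 0)⁻¹ := by
    intro j hj2 hj
    have hj2' := hsq j (by omega) hj
    have hfar := mem_ker_far C hy 0 j (by omega) hj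
    obtain ⟨hκ3, hconj⟩ := inv0_cube (y 0) (y j) ha3 (by rw [hj2']; exact hrc) (C.cen hfar)
    have hκK : ((y j) ^ 2)⁻¹ * (y 0 * y j) ^ 2 ∈ C.σ.ker :=
      Subgroup.mul_mem _ (Subgroup.inv_mem _ (by rw [hj2']; exact hrK)) hfar
    have hκ1 := cube_inj h3 hκK hκ3
    rw [hκ1, mul_one] at hconj
    refine ⟨?_, hconj⟩
    rw [← hj2']
    exact (inv_mul_eq_one.mp hκ1).symm
  -- (e)
  have hνK : ∀ i j, 1 ≤ i → i + 2 ≤ j → j < n + 1 →
      y i * y j * (y i)⁻¹ * (y j)⁻¹ ∈ C.σ.ker := fun i j h1 h2 h3 => mem_ker_comm C hy i j h1 h2 h3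
  have hνK' : ∀ i j, 1 ≤ i → i + 2 ≤ j → j < n + 1 →
      y j * y i * (y j)⁻¹ * (y i)⁻¹ ∈ C.σ.ker := by
    intro i j h1 h2 h3
    have := Subgroup.inv_mem _ (hνK i j h1 h2 h3)
    have e : (y i * y j * (y i)⁻¹ * (y j)⁻¹)⁻¹ = y j * y i * (y j)⁻¹ * (y i)⁻¹ := by group
    rwa [e] at this
  have movej : ∀ i j, 1 ≤ i → i + 2 ≤ j → j + 1 < n + 1 →
      y i * y (j + 1) * (y i)⁻¹ * (y (j + 1))⁻¹ = y i * y j * (y i)⁻¹ * (y j)⁻¹ := by
    intro i j h1 h2 h3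
    exact comm_chain (y i) (y j) (y (j + 1)) (C.cen (hνK i j h1 h2 (by omega)))
      (C.cen (hνK i (j + 1) h1 (by omega) h3)) (hbr j (by omega) h3)
  have movei : ∀ i j, 1 ≤ i → i + 3 ≤ j → j < n + 1 →
      y (i + 1) * y j * (y (i + 1))⁻¹ * (y j)⁻¹ = y i * y j * (y i)⁻¹ * (y j)⁻¹ := by
    intro i j h1 h2 h3
    have h := comm_chain (y j) (y i) (y (i + 1)) (C.cen (hνK' i j h1 (by omega) h3))
      (C.cen (hνK' (i + 1) j (by omega) (by omega) h3)) (hbr i h1 (by omega))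
    have e1 : y (i + 1) * y j * (y (i + 1))⁻¹ * (y j)⁻¹ =
        (y j * y (i + 1) * (y j)⁻¹ * (y (i + 1))⁻¹)⁻¹ := by group
    have e2 : y i * y j * (y i)⁻¹ * (y j)⁻¹ = (y j * y i * (y j)⁻¹ * (y i)⁻¹)⁻¹ := by group
    rw [e1, e2, h]
  have base : 3 < n + 1 → y 1 * y 3 * (y 1)⁻¹ * (y 3)⁻¹ = y 1 ^ 2 := by
    intro h4
    have h := nu_eq (y 0) (y 1) (y 3) (y 3 * y 1 * (y 3)⁻¹ * (y 1)⁻¹) ha3 hrc hd
      (hinv0 3 (by omega) h4).2 (C.cen (hνK' 1 3 le_rfl (by omega) h4)) (by group)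
    have e : y 1 * y 3 * (y 1)⁻¹ * (y 3)⁻¹ = (y 3 * y 1 * (y 3)⁻¹ * (y 1)⁻¹)⁻¹ := by group
    rw [e]
    exact inv_eq_of_mul_eq_one_right h
  have hν : ∀ j i, 1 ≤ i → i + 2 ≤ j → j < n + 1 →
      y i * y j * (y i)⁻¹ * (y j)⁻¹ = y 1 ^ 2 := by
    intro j
    induction j using Nat.strong_induction_on with
    | _ j ih =>
      intro i h1 h2 h3
      by_cases hj : i + 3 ≤ j
      · obtain ⟨j', rfl⟩ : ∃ j', j = j' + 1 := ⟨j - 1, by omega⟩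
        rw [movej i j' h1 (by omega) h3]
        exact ih j' (by omega) i h1 (by omega) (by omega)
      · have hj' : j = i + 2 := by omega
        subst hj'
        by_cases hi1 : i = 1
        · subst hi1; exact base h3
        · obtain ⟨i', rfl⟩ : ∃ i', i = i' + 1 := ⟨i - 1, by omega⟩
          rw [movei i' (i' + 1 + 2) (by omega) (by omega) h3]
          have e : i' + 1 + 2 = (i' + 2) + 1 := by omega
          rw [e, movej i' (i' + 2) (by omega) (by omega) (by omega)]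
          exact ih (i' + 2) (by omega) i' (by omega) (by omega) (by omega)
  -- (f)
  have hfar : ∀ i j, 1 ≤ i → i + 2 ≤ j → j < n + 1 →
      (y i * y j) ^ 2 = y 1 ^ 2 * (y 1 ^ 2 * y 1 ^ 2) := by
    intro i j h1 h2 h3
    have hi2 := hsq i h1 (by omega)
    rw [far_sq (y i) (y j) (by rw [hi2]; exact hrc), hν j i h1 h2 h3, hi2, hsq j (by omega) h3]
  -- conclusion
  have hle : C.σ.ker ≤ Subgroup.zpowers (y 1 ^ 2) := by
    have hmem : y 1 ^ 2 ∈ Subgroup.zpowers (y 1 ^ 2) := Subgroup.mem_zpowers _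
    apply C.ker_le_of_vals y hy
    · intro _; rw [ha3]; exact Subgroup.one_mem _
    · intro i hi1 hi; rw [hsq i hi1 hi]; exact hmem
    · intro i hi
      by_cases h0 : i = 0
      · subst h0; rw [zero_add, hd]; exact hmem
      · rw [hadj i (by omega) hi]; exact hmem
    · intro i j hij hj
      by_cases h0 : i = 0
      · subst h0; rw [(hinv0 j (by omega) hj).1]; exact hmem
      · rw [hfar i j (by omega) (by omega) hj]
        exact Subgroup.mul_mem _ hmem (Subgroup.mul_mem _ hmem hmem)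
  calc Nat.card C.σ.ker ≤ Nat.card (Subgroup.zpowers (y 1 ^ 2)) := Subgroup.card_le_of_le hle
    _ = orderOf (y 1 ^ 2) := Nat.card_zpowers _
    _ ≤ 2 := orderOf_le_of_pow_eq_one (by norm_num) hr2

end Cfsg.Agent.Helper20.AltMult
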