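import Mathlib
import Cfsg.Agent.Lib.Helper20.AltMultF
import Cfsg.Agent.Lib.Helper20.SchurCover1
import Cfsg.Agent.Lib.Helper20.SchurExp3

/-!
# Stem covers of `Aₙ`: the kernel has order at most `2` (`n = 4, 5` or `n ≥ 8`)
-/

set_option autoImplicit false

namespace Cfsg.Agent.Helper20.AltMult

open Cfsg.Agent.Helper11.Carmichael

variable {Γ : Type*} [Group Γ] {m : ℕ}

theorem normal_of_le_center {M : Subgroup Γ} (hM : M ≤ Subgroup.center Γ) : M.Normal := by
  constructor
  intro x hx g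
  rw [cen_conj (hM hx) g]
  exact hx

/-- the quotient of a stem cover by a subgroup of the kernel -/
noncomputable def Cov.quot (C : Cov Γ m) (M : Subgroup Γ) [M.Normal] (hM : M ≤ C.σ.ker) :
    Cov (Γ ⧸ M) m where
  σ := QuotientGroup.lift M C.σ hM
  surj := by
    intro x
    obtain ⟨g, rfl⟩ := C.surj x
    exact ⟨(g : Γ ⧸ M), QuotientGroup.lift_mk M _ g⟩
  cen := by
    rw [QuotientGroup.ker_lift]
    rintro _ ⟨k, hk, rfl⟩
    have hkc := C.cen hk
    rw [Subgroup.mem_center_iff] at hkc ⊢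
    intro z
    obtain ⟨h, rfl⟩ := QuotientGroup.mk_surjective z
    show (h : Γ ⧸ M) * (k : Γ ⧸ M) = (k : Γ ⧸ M) * (h : Γ ⧸ M)
    rw [← QuotientGroup.mk_mul, ← QuotientGroup.mk_mul, hkc h]
  comm := by
    rw [QuotientGroup.ker_lift]
    rintro _ ⟨k, hk, rfl⟩
    rw [← Cfsg.Agent.Helper20.map_commutator_of_surjective (QuotientGroup.mk' M)
      (QuotientGroup.mk'_surjective M)]
    exact ⟨k, C.comm hk, rfl⟩

theorem Cov.card_eq (C : Cov Γ m) [Finite Γ] :
    Nat.card Γ = Nat.card (PresentedGroup (carRels m)) * Nat.card C.σ.ker := by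
  rw [Subgroup.card_eq_card_quotient_mul_card_subgroup C.σ.ker]
  congr 1
  exact Nat.card_congr (QuotientGroup.quotientKerEquivOfSurjective C.σ C.surj).toEquiv

theorem Cov.card_quot (C : Cov Γ m) [Finite Γ] (M : Subgroup Γ) [M.Normal]
    (hM : M ≤ C.σ.ker) :
    Nat.card C.σ.ker = Nat.card (C.quot M hM).σ.ker * Nat.card M := by
  have h1 := C.card_eq
  have h2 := (C.quot M hM).card_eq
  have h3 := Subgroup.card_eq_card_quotient_mul_card_subgroup M
  haveI : Finite (PresentedGroup (carRels m)) := Finite.of_surjective _ C.surj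
  have hpos : 0 < Nat.card (PresentedGroup (carRels m)) := Nat.card_pos
  rw [h2, mul_assoc] at h3
  rw [h3] at h1
  exact (Nat.eq_of_mul_eq_mul_left hpos h1).symm

/-- the kernel is a `2`-group when `m = 3` or `m ≥ 6` -/
theorem Cov.card_ker_two_pow {n : ℕ} (C : Cov Γ (n + 1)) [Finite Γ]
    (hm : n + 1 = 3 ∨ 6 ≤ n + 1) : ∃ a : ℕ, Nat.card C.σ.ker = 2 ^ a := by
  haveI : Fact (Nat.Prime 2) := ⟨Nat.prime_two⟩
  obtain ⟨P⟩ : Nonempty (Sylow 2 C.σ.ker) := inferInstance
  have hMle : (P : Subgroup C.σ.ker).map C.σ.ker.subtype ≤ C.σ.ker := by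
    rintro _ ⟨x, -, rfl⟩
    exact x.2
  haveI hMn : ((P : Subgroup C.σ.ker).map C.σ.ker.subtype).Normal :=
    normal_of_le_center (hMle.trans C.cen)
  have hMcard : Nat.card ((P : Subgroup C.σ.ker).map C.σ.ker.subtype) =
      2 ^ (Nat.card C.σ.ker).factorization 2 := by
    rw [Subgroup.card_map_of_injective (Subgroup.subtype_injective _)]
    exact P.card_eq_multiplicity
  have hq := C.card_quot _ hMle
  rw [hMcard] at hq
  have hKpos : Nat.card C.σ.ker ≠ 0 := Nat.card_pos.ne'
  have hodd : Odd (Nat.card (C.quot _ hMle).σ.ker) := by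
    rw [← Nat.not_even_iff_odd, even_iff_two_dvd]
    have h1 : Nat.card (C.quot _ hMle).σ.ker =
        Nat.card C.σ.ker / 2 ^ (Nat.card C.σ.ker).factorization 2 := by
      exact (Nat.div_eq_of_eq_mul_left (pow_pos (by norm_num) _) hq).symm
    rw [h1]
    exact Nat.not_dvd_ordCompl Nat.prime_two hKpos
  have hbot := ker_eq_bot_of_odd (C.quot _ hMle) hodd hm
  rw [hbot, Subgroup.card_bot, one_mul] at hq
  exact ⟨_, hq⟩

/-- the case `m = 2`: `3` does not divide the order of the kernel, by Schur's exponent bound -/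
theorem Cov.not_three_dvd_of_two (C : Cov Γ 2) [Finite Γ] : ¬ 3 ∣ Nat.card C.σ.ker := by
  intro h3
  haveI : Fact (Nat.Prime 3) := ⟨by norm_num⟩
  obtain ⟨x, hx⟩ := exists_prime_orderOf_dvd_card' 3 h3
  haveI : Finite (PresentedGroup (carRels 2)) := Finite.of_surjective _ C.surj
  have hidx : C.σ.ker.index = 12 := by
    rw [Subgroup.index_ker, MonoidHom.range_eq_top.mpr C.surj, Subgroup.card_top]
    have e := MulEquiv.ofBijective (toAltHom 2) (toAltHom_bijective 2)
    rw [Nat.card_congr e.toEquiv]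
    have h2 : 2 * Nat.card (alternatingGroup (Fin (2 + 2))) = Nat.factorial (2 + 2) := by
      rw [Nat.card_eq_fintype_card, two_mul_card_alternatingGroup, Fintype.card_perm,
        Fintype.card_fin]
    have h4 : Nat.factorial (2 + 2) = 24 := by decide
    rw [h4] at h2
    omega
  -- kernel is commutative
  letI : CommGroup C.σ.ker :=
    { (inferInstance : Group C.σ.ker) with
      mul_comm := fun a b => Subtype.ext (cen_comm (C.cen b.2) a.1) }
  have h := Cfsg.Agent.Helper20.prime_pow_sq_dvd_index C.σ.ker C.cen C.comm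
    (MulEquiv.refl C.σ.ker) (p := 3) (k := 1) (by norm_num) x (by rw [hx, pow_one])
  rw [hidx] at h
  revert h
  decide

/-- **The multiplier of `Aₙ`**: a stem cover of `Aₙ` (`n = m + 2`, `m = 2, 3` or `m ≥ 6`) has kernel
of order at most `2`. -/
theorem Cov.card_ker_le (C : Cov Γ m) [Finite Γ] (hm : m = 2 ∨ m = 3 ∨ 6 ≤ m) :
    Nat.card C.σ.ker ≤ 2 := by
  obtain ⟨n, rfl⟩ : ∃ n, m = n + 1 := ⟨m - 1, by omega⟩
  apply card_ker_le_two C _ (by omega)
  by_cases h2 : n + 1 = 2
  · have hn : n = 1 := by omega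
    subst hn
    exact C.not_three_dvd_of_two
  · obtain ⟨a, ha⟩ := C.card_ker_two_pow (by omega)
    rw [ha]
    intro h
    have := (Nat.Prime.dvd_of_dvd_pow (by norm_num : Nat.Prime 3) h)
    omega

end Cfsg.Agent.Helper20.AltMult
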