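import Mathlib

/-!
Linear algebra core for the "three orbits" theorem, part 1:
cyclic submodules, and irreducibility of the minimal polynomial under a transitivity hypothesis.
-/

namespace Cfsg.Agent.Helper20.AutOrb

open Polynomial

variable {p q : ℕ} [hp : Fact p.Prime] [hq : Fact q.Prime]
variable {V : Type*} [AddCommGroup V] [Module (ZMod p) V]

/-- The cyclic submodule generated by `u` under `T`. -/
def cyc (T : Module.End (ZMod p) V) (u : V) : Submodule (ZMod p) V :=
  Submodule.span (ZMod p) (Set.range fun k : ℕ => (T ^ k) u)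

theorem mem_cyc_self (T : Module.End (ZMod p) V) (u : V) : u ∈ cyc T u :=
  Submodule.subset_span ⟨0, by simp⟩

theorem cyc_le_comap (T : Module.End (ZMod p) V) (u : V) :
    cyc T u ≤ (cyc T u).comap T := by
  unfold cyc
  rw [Submodule.span_le]
  rintro _ ⟨k, rfl⟩
  refine Submodule.subset_span ⟨k + 1, ?_⟩
  simp [pow_succ']

theorem aeval_mem_cyc (T : Module.End (ZMod p) V) (u : V) (g : (ZMod p)[X]) {w : V}
    (hw : w ∈ cyc T u) : aeval T g w ∈ cyc T u :=
  Polynomial.aeval_apply_smul_mem_of_le_comap hw g T (cyc_le_comap T u)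

theorem cyc_le_of_invariant (T : Module.End (ZMod p) V) (u : V) (S : Submodule (ZMod p) V)
    (hS : S ≤ S.comap T) (hu : u ∈ S) : cyc T u ≤ S := by
  unfold cyc
  rw [Submodule.span_le]
  rintro _ ⟨k, rfl⟩
  show (T ^ k) u ∈ S
  induction k with
  | zero => simpa using hu
  | succ k ih =>
    have : (T ^ (k + 1)) u = T ((T ^ k) u) := by simp [pow_succ']
    rw [this]
    exact hS ih

theorem equiv_pow_apply (T : Module.End (ZMod p) V) (γ : V ≃ₗ[ZMod p] V) (i : ℕ)
    (hγ : ∀ w, γ (T w) = (T ^ i) (γ w)) (k : ℕ) (w : V) :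
    γ ((T ^ k) w) = ((T ^ i) ^ k) (γ w) := by
  induction k generalizing w with
  | zero => simp
  | succ k ih =>
    have h1 : (T ^ (k + 1)) w = (T ^ k) (T w) := by simp [pow_succ]
    have h2 : ((T ^ i) ^ (k + 1)) (γ w) = ((T ^ i) ^ k) ((T ^ i) (γ w)) := by simp [pow_succ]
    rw [h1, h2, ih, hγ]

theorem map_cyc_le (T : Module.End (ZMod p) V) (γ : V ≃ₗ[ZMod p] V) (i : ℕ)
    (hγ : ∀ w, γ (T w) = (T ^ i) (γ w)) (u : V) :
    (cyc T u).map (γ : V →ₗ[ZMod p] V) ≤ cyc T (γ u) := by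
  unfold cyc
  rw [Submodule.map_span, Submodule.span_le]
  rintro _ ⟨_, ⟨k, rfl⟩, rfl⟩
  refine Submodule.subset_span ⟨i * k, ?_⟩
  simp only [LinearEquiv.coe_coe]
  rw [equiv_pow_apply T γ i hγ k u, ← pow_mul]

variable [Finite V]

theorem finrank_cyc_le (T : Module.End (ZMod p) V) (γ : V ≃ₗ[ZMod p] V) (i : ℕ)
    (hγ : ∀ w, γ (T w) = (T ^ i) (γ w)) (u : V) :
    Module.finrank (ZMod p) (cyc T u) ≤ Module.finrank (ZMod p) (cyc T (γ u)) := by
  rw [← LinearEquiv.finrank_map_eq γ (cyc T u)]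
  exact Submodule.finrank_mono (map_cyc_le T γ i hγ u)

theorem finrank_cyc_eq (T : Module.End (ZMod p) V)
    (H1 : ∀ u v : V, u ≠ 0 → v ≠ 0 → ∃ (γ : V ≃ₗ[ZMod p] V) (i : ℕ),
      (∀ w, γ (T w) = (T ^ i) (γ w)) ∧ γ u = v)
    (u v : V) (hu : u ≠ 0) (hv : v ≠ 0) :
    Module.finrank (ZMod p) (cyc T u) = Module.finrank (ZMod p) (cyc T v) := by
  apply le_antisymm
  · obtain ⟨γ, i, hγ, rfl⟩ := H1 u v hu hv
    exact finrank_cyc_le T γ i hγ u
  · obtain ⟨γ, i, hγ, rfl⟩ := H1 v u hv hu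
    exact finrank_cyc_le T γ i hγ v

theorem finrank_cyc_pos (T : Module.End (ZMod p) V) (u : V) (hu : u ≠ 0) :
    0 < Module.finrank (ZMod p) (cyc T u) := by
  rw [Module.finrank_pos_iff_exists_ne_zero]
  exact ⟨⟨u, mem_cyc_self T u⟩, fun h => hu (by simpa using congrArg Subtype.val h)⟩

theorem ker_aeval_le_comap (T : Module.End (ZMod p) V) (f : (ZMod p)[X]) :
    LinearMap.ker (aeval T f) ≤ (LinearMap.ker (aeval T f)).comap T := by
  intro z hz
  rw [Submodule.mem_comap, LinearMap.mem_ker]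
  rw [LinearMap.mem_ker] at hz
  have h1 : aeval T f (T z) = (aeval T (f * X)) z := by
    rw [map_mul, aeval_X]; rfl
  have h2 : (aeval T (X * f)) z = T (aeval T f z) := by
    rw [map_mul, aeval_X]; rfl
  rw [h1, mul_comm, h2, hz, map_zero]

theorem irreducible_minpoly [Nontrivial V] (hpq : p ≠ q) (T : Module.End (ZMod p) V)
    (hcyc : aeval T (cyclotomic q (ZMod p)) = 0)
    (H1 : ∀ u v : V, u ≠ 0 → v ≠ 0 → ∃ (γ : V ≃ₗ[ZMod p] V) (i : ℕ),
      (∀ w, γ (T w) = (T ^ i) (γ w)) ∧ γ u = v) :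
    Irreducible (minpoly (ZMod p) T) := by
  have hint : IsIntegral (ZMod p) T := Algebra.IsIntegral.isIntegral T
  have hμdvd : minpoly (ZMod p) T ∣ cyclotomic q (ZMod p) := minpoly.dvd _ _ hcyc
  haveI : NeZero ((q : ℕ) : ZMod p) := by
    refine ⟨fun h => ?_⟩
    rw [ZMod.natCast_eq_zero_iff] at h
    exact hpq ((Nat.prime_dvd_prime_iff_eq hp.out hq.out).mp h)
  have hsep : (minpoly (ZMod p) T).Separable :=
    Polynomial.Separable.of_dvd (separable_cyclotomic q (ZMod p)) hμdvd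
  have hμ0 : minpoly (ZMod p) T ≠ 0 := minpoly.ne_zero hint
  rw [irreducible_iff]
  refine ⟨minpoly.not_isUnit _ _, fun f h hfh => ?_⟩
  by_contra hcon
  rw [not_or] at hcon
  obtain ⟨hf, hh⟩ := hcon
  have hcop : IsCoprime f h := (hfh ▸ hsep).isCoprime
  obtain ⟨a, b, hab⟩ := hcop
  have hf0 : f ≠ 0 := fun h0 => hμ0 (by rw [hfh, h0, zero_mul])
  have hh0 : h ≠ 0 := fun h0 => hμ0 (by rw [hfh, h0, mul_zero])
  have hprod : ∀ z : V, aeval T f (aeval T h z) = 0 := by
    intro z
    have : aeval T (f * h) z = 0 := by rw [← hfh, minpoly.aeval]; rfl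
    rwa [map_mul] at this
  have hprod' : ∀ z : V, aeval T h (aeval T f z) = 0 := by
    intro z
    have : aeval T (h * f) z = 0 := by rw [mul_comm, ← hfh, minpoly.aeval]; rfl
    rwa [map_mul] at this
  -- kernels nontrivial
  have hN : LinearMap.ker (aeval T f) ≠ ⊥ := by
    intro hN
    have hinj : Function.Injective (aeval T f) := LinearMap.ker_eq_bot.mp hN
    have hz : aeval T h = 0 := by
      ext z
      exact hinj (by rw [hprod z, LinearMap.zero_apply, map_zero])
    have hd : f * h ∣ 1 * h := by rw [one_mul, ← hfh]; exact minpoly.dvd _ _ hz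
    exact hf (isUnit_of_dvd_one ((mul_dvd_mul_iff_right hh0).mp hd))
  have hM : LinearMap.ker (aeval T h) ≠ ⊥ := by
    intro hM
    have hinj : Function.Injective (aeval T h) := LinearMap.ker_eq_bot.mp hM
    have hz : aeval T f = 0 := by
      ext z
      exact hinj (by rw [hprod' z, LinearMap.zero_apply, map_zero])
    have hd : f * h ∣ f * 1 := by rw [mul_one, ← hfh]; exact minpoly.dvd _ _ hz
    exact hh (isUnit_of_dvd_one ((mul_dvd_mul_iff_left hf0).mp hd))
  obtain ⟨v, hvN, hv0⟩ := Submodule.exists_mem_ne_zero_of_ne_bot hN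
  obtain ⟨w, hwM, hw0⟩ := Submodule.exists_mem_ne_zero_of_ne_bot hM
  rw [LinearMap.mem_ker] at hvN hwM
  have hone : ∀ z : V, aeval T (a * f) z + aeval T (b * h) z = z := by
    intro z
    have : aeval T (a * f + b * h) z = z := by rw [hab, map_one]; rfl
    rwa [map_add] at this
  have haf_v : aeval T (a * f) v = 0 := by
    rw [map_mul]; show aeval T a (aeval T f v) = 0; rw [hvN, map_zero]
  have hbh_w : aeval T (b * h) w = 0 := by
    rw [map_mul]; show aeval T b (aeval T h w) = 0; rw [hwM, map_zero]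
  have hbh_v : aeval T (b * h) v = v := by
    have := hone v; rwa [haf_v, zero_add] at this
  have haf_w : aeval T (a * f) w = w := by
    have := hone w; rwa [hbh_w, add_zero] at this
  have hv_mem : v ∈ cyc T (v + w) := by
    have := aeval_mem_cyc T (v + w) (b * h) (mem_cyc_self T (v + w))
    rwa [map_add, hbh_v, hbh_w, add_zero] at this
  have hw_mem : w ∈ cyc T (v + w) := by
    have := aeval_mem_cyc T (v + w) (a * f) (mem_cyc_self T (v + w))
    rwa [map_add, haf_v, haf_w, zero_add] at this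
  have hu0 : v + w ≠ 0 := by
    intro h0
    rw [h0] at hv_mem
    have : cyc T (0 : V) ≤ ⊥ := cyc_le_of_invariant T 0 ⊥ (by simp) (by simp)
    exact hv0 (by simpa using this hv_mem)
  have h1 : cyc T v ≤ cyc T (v + w) :=
    cyc_le_of_invariant T v _ (cyc_le_comap T (v + w)) hv_mem
  have h2 : cyc T w ≤ cyc T (v + w) :=
    cyc_le_of_invariant T w _ (cyc_le_comap T (v + w)) hw_mem
  have h3 : cyc T v ≤ LinearMap.ker (aeval T f) :=
    cyc_le_of_invariant T v _ (ker_aeval_le_comap T f) (LinearMap.mem_ker.mpr hvN)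
  have h4 : cyc T w ≤ LinearMap.ker (aeval T h) :=
    cyc_le_of_invariant T w _ (ker_aeval_le_comap T h) (LinearMap.mem_ker.mpr hwM)
  have hdisj : cyc T v ⊓ cyc T w = ⊥ := by
    rw [eq_bot_iff]
    intro z hz
    have hz1 := LinearMap.mem_ker.mp (h3 hz.1)
    have hz2 := LinearMap.mem_ker.mp (h4 hz.2)
    have := hone z
    rw [map_mul, map_mul] at this
    have e1 : (aeval T a * aeval T f) z = aeval T a (aeval T f z) := rfl
    have e2 : (aeval T b * aeval T h) z = aeval T b (aeval T h z) := rfl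
    rw [e1, e2, hz1, hz2, map_zero, map_zero, add_zero] at this
    simpa using this.symm
  have hfin := Submodule.finrank_sup_add_finrank_inf_eq (cyc T v) (cyc T w)
  rw [hdisj, finrank_bot, add_zero] at hfin
  have hle : Module.finrank (ZMod p) ↥(cyc T v ⊔ cyc T w) ≤
      Module.finrank (ZMod p) (cyc T (v + w)) := Submodule.finrank_mono (sup_le h1 h2)
  have e1 := finrank_cyc_eq T H1 v (v + w) hv0 hu0
  have e2 := finrank_cyc_eq T H1 w (v + w) hw0 hu0
  have hpos := finrank_cyc_pos T (v + w) hu0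
  omega

end Cfsg.Agent.Helper20.AutOrb
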