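import Mathlib
import Cfsg.Agent.Lib.Helper20.AutOrb1

/-!
Linear algebra core for the "three orbits" theorem, part 2:
degree of the minimal polynomial and the primitive root conclusion.
-/

namespace Cfsg.Agent.Helper20.AutOrb

open Polynomial

variable {p q : ℕ} [hp : Fact p.Prime] [hq : Fact q.Prime]
variable {V : Type*} [AddCommGroup V] [Module (ZMod p) V]

theorem aeval_pow_eq_zero (T : Module.End (ZMod p) V) (γ : V ≃ₗ[ZMod p] V) (i : ℕ)
    (hγ : ∀ w, γ (T w) = (T ^ i) (γ w)) (g : (ZMod p)[X]) (hg : aeval T g = 0) :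
    aeval (T ^ i) g = 0 := by
  have hc : γ.conjAlgEquiv (ZMod p) T = T ^ i := by
    rw [LinearEquiv.conjAlgEquiv_apply]
    ext w
    simp only [LinearMap.coe_comp, LinearEquiv.coe_coe, Function.comp_apply]
    rw [hγ, LinearEquiv.apply_symm_apply]
  rw [← hc, Polynomial.aeval_algHom_apply, hg, map_zero]

theorem ne_one_of_fpf [Nontrivial V] (T : Module.End (ZMod p) V)
    (hfpf : ∀ v, T v = v → v = 0) : T ≠ 1 := by
  intro h
  obtain ⟨v, hv⟩ := exists_ne (0 : V)
  exact hv (hfpf v (by rw [h]; rfl))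

theorem pow_ne_pow [Nontrivial V] (T : Module.End (ZMod p) V) (hTq : T ^ q = 1)
    (hfpf : ∀ v, T v = v → v = 0) {i j : ℕ} (hij : i < j) (hj : j < q) : T ^ i ≠ T ^ j := by
  intro h
  have hk : T ^ (j - i) = 1 := by
    have h1 : T ^ (q - i) * T ^ i = 1 := by rw [← pow_add, Nat.sub_add_cancel (by omega), hTq]
    have h2 : T ^ j = T ^ i * T ^ (j - i) := by rw [← pow_add]; congr 1; omega
    calc T ^ (j - i) = (T ^ (q - i) * T ^ i) * T ^ (j - i) := by rw [h1, one_mul]
      _ = T ^ (q - i) * (T ^ i * T ^ (j - i)) := by rw [mul_assoc]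
      _ = T ^ (q - i) * T ^ i := by rw [← h2, ← h]
      _ = 1 := h1
  have hd1 : orderOf T ∣ j - i := orderOf_dvd_of_pow_eq_one hk
  have hd2 : orderOf T ∣ q := orderOf_dvd_of_pow_eq_one hTq
  have hcop : Nat.Coprime (j - i) q :=
    (Nat.coprime_of_lt_prime (by omega) (by omega) hq.out).symm
  have : orderOf T = 1 := Nat.eq_one_of_dvd_coprimes hcop hd1 hd2
  exact ne_one_of_fpf T hfpf (orderOf_eq_one_iff.mp this)

variable [Finite V]

theorem natDegree_minpoly_ge [Nontrivial V] (T : Module.End (ZMod p) V) (hTq : T ^ q = 1)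
    (hfpf : ∀ v, T v = v → v = 0)
    (hirr : Irreducible (minpoly (ZMod p) T))
    (H2 : ∀ i, 0 < i → i < q → ∃ γ : V ≃ₗ[ZMod p] V, ∀ w, γ (T w) = (T ^ i) (γ w)) :
    q - 1 ≤ (minpoly (ZMod p) T).natDegree := by
  have hint : IsIntegral (ZMod p) T := Algebra.IsIntegral.isIntegral T
  haveI : Fact (Irreducible (minpoly (ZMod p) T)) := ⟨hirr⟩
  set μ := minpoly (ZMod p) T with hμ
  let r : AdjoinRoot μ := AdjoinRoot.root μ
  have hroot : ∀ i, 0 < i → i < q → aeval (r ^ i) μ = 0 := by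
    intro i hi0 hiq
    obtain ⟨γ, hγ⟩ := H2 i hi0 hiq
    have h1 : aeval (T ^ i) μ = 0 := aeval_pow_eq_zero T γ i hγ μ (minpoly.aeval _ _)
    have h2 : aeval T (μ.comp (X ^ i)) = 0 := by
      rw [Polynomial.aeval_comp, map_pow, aeval_X, h1]
    have h3 : μ ∣ μ.comp (X ^ i) := minpoly.dvd _ _ h2
    have h4 : aeval r (μ.comp (X ^ i)) = 0 := by
      rw [AdjoinRoot.aeval_eq, AdjoinRoot.mk_eq_zero]; exact h3
    rwa [Polynomial.aeval_comp, map_pow, aeval_X] at h4
  have hinj : Set.InjOn (fun i : ℕ => r ^ i) (Finset.Icc 1 (q - 1) : Finset ℕ) := by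
    have key : ∀ i j : ℕ, i < j → j < q → r ^ i ≠ r ^ j := by
      intro i j hij hjq h
      have h1 : AdjoinRoot.mk μ ((X : (ZMod p)[X]) ^ i - X ^ j) = 0 := by
        rw [map_sub, map_pow, map_pow, AdjoinRoot.mk_X, sub_eq_zero]; exact h
      rw [AdjoinRoot.mk_eq_zero] at h1
      obtain ⟨c, hc⟩ := h1
      have h2 : aeval T ((X : (ZMod p)[X]) ^ i - X ^ j) = 0 := by
        rw [hc, map_mul, minpoly.aeval, zero_mul]
      rw [map_sub, map_pow, map_pow, aeval_X, sub_eq_zero] at h2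
      exact pow_ne_pow T hTq hfpf hij hjq h2
    intro i hi j hj hij
    simp only [Finset.coe_Icc, Set.mem_Icc] at hi hj
    by_contra hne
    rcases Nat.lt_or_gt_of_ne hne with h | h
    · exact key i j h (by omega) hij
    · exact key j i h (by omega) hij.symm
  let Z : Finset (AdjoinRoot μ) := (Finset.Icc 1 (q - 1)).image (fun i : ℕ => r ^ i)
  have hZcard : Z.card = q - 1 := by
    rw [Finset.card_image_of_injOn hinj]; simp
  have hμ0 : μ ≠ 0 := minpoly.ne_zero hint
  have hsub : Z.val ⊆ (μ.map (algebraMap (ZMod p) (AdjoinRoot μ))).roots := by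
    intro z hz
    rw [Finset.mem_val, Finset.mem_image] at hz
    obtain ⟨i, hi, rfl⟩ := hz
    rw [Finset.mem_Icc] at hi
    rw [Polynomial.mem_roots (Polynomial.map_ne_zero hμ0), IsRoot, eval_map, ← aeval_def]
    exact hroot i (by omega) (by have := hq.out.two_le; omega)
  have := Polynomial.card_le_degree_of_subset_roots hsub
  rw [hZcard, natDegree_map] at this
  exact this

omit [Finite V] in
theorem sub_one_injective (T : Module.End (ZMod p) V) (hfpf : ∀ v, T v = v → v = 0) :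
    Function.Injective ⇑(T - 1 : Module.End (ZMod p) V) := by
  rw [← LinearMap.ker_eq_bot, LinearMap.ker_eq_bot']
  intro v hv
  apply hfpf
  have : T v - v = 0 := by simpa using hv
  exact sub_eq_zero.mp this

/-- `T ^ q = 1` and `T` fixed-point-free imply that the `q`-th cyclotomic polynomial kills `T`. -/
theorem aeval_cyclotomic_eq_zero (T : Module.End (ZMod p) V) (hTq : T ^ q = 1)
    (hfpf : ∀ v, T v = v → v = 0) : aeval T (cyclotomic q (ZMod p)) = 0 := by
  have h1 : aeval T (cyclotomic q (ZMod p)) * (T - 1) = 0 := by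
    have := congrArg (aeval T) (cyclotomic_prime_mul_X_sub_one (ZMod p) q)
    simpa [hTq] using this
  have hinj : Function.Injective ⇑(T - 1 : Module.End (ZMod p) V) := sub_one_injective T hfpf
  have hsurj : Function.Surjective ⇑(T - 1 : Module.End (ZMod p) V) :=
    Finite.injective_iff_surjective.mp hinj
  ext w
  obtain ⟨w', rfl⟩ := hsurj w
  have := LinearMap.congr_fun h1 w'
  simpa using this

theorem orderOf_eq_of_transitive_linear [Nontrivial V] (hpq : p ≠ q)
    (T : Module.End (ZMod p) V) (hTq : T ^ q = 1) (hfpf : ∀ v, T v = v → v = 0)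
    (H1 : ∀ u v : V, u ≠ 0 → v ≠ 0 → ∃ (γ : V ≃ₗ[ZMod p] V) (i : ℕ),
      (∀ w, γ (T w) = (T ^ i) (γ w)) ∧ γ u = v)
    (H2 : ∀ i, 0 < i → i < q → ∃ γ : V ≃ₗ[ZMod p] V, ∀ w, γ (T w) = (T ^ i) (γ w)) :
    orderOf ((p : ℕ) : ZMod q) = q - 1 := by
  have hcyc := aeval_cyclotomic_eq_zero T hTq hfpf
  have hirr := irreducible_minpoly hpq T hcyc H1
  have hge := natDegree_minpoly_ge T hTq hfpf hirr H2
  have hint : IsIntegral (ZMod p) T := Algebra.IsIntegral.isIntegral T
  have hμdvd : minpoly (ZMod p) T ∣ cyclotomic q (ZMod p) := minpoly.dvd _ _ hcyc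
  have hcop : p.Coprime q := (Nat.coprime_primes hp.out hq.out).mpr hpq
  have hcard : Fintype.card (ZMod p) = p ^ 1 := by rw [ZMod.card, pow_one]
  have hdeg := Polynomial.natDegree_of_dvd_cyclotomic_of_irreducible hcard hcop hμdvd hirr
  have hu : orderOf ((p : ℕ) : ZMod q) =
      orderOf (ZMod.unitOfCoprime (p ^ 1) (hcop.pow_left 1)) := by
    rw [← orderOf_units, ZMod.coe_unitOfCoprime, pow_one]
  have hle : orderOf (ZMod.unitOfCoprime (p ^ 1) (hcop.pow_left 1)) ∣ q - 1 :=
    ZMod.orderOf_units_dvd_card_sub_one _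
  have hq2 := hq.out.two_le
  have := Nat.le_of_dvd (by omega) hle
  rw [hu]
  omega

end Cfsg.Agent.Helper20.AutOrb
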