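import Mathlib
import Cfsg.Agent.Lib.Helper20.AutOrb2

/-!
Linear algebra core for the "three orbits" theorem, part 3:
construction of twisted and transitive automorphisms when `p` is a primitive root mod `q`.
-/

namespace Cfsg.Agent.Helper20.AutOrb

open Polynomial

variable {p q : ℕ} [hp : Fact p.Prime] [hq : Fact q.Prime]

theorem irreducible_cyclotomic_of_orderOf (hpq : p ≠ q)
    (hord : orderOf ((p : ℕ) : ZMod q) = q - 1) : Irreducible (cyclotomic q (ZMod p)) := by
  have hpn : ¬ p ∣ q := fun h => hpq ((Nat.prime_dvd_prime_iff_eq hp.out hq.out).mp h)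
  refine ZMod.irreducible_of_dvd_cyclotomic_of_natDegree hpn (dvd_refl _) ?_
  rw [natDegree_cyclotomic, Nat.totient_prime hq.out, ← hord, ← orderOf_units,
    ZMod.coe_unitOfCoprime]

/-- The field `F_p[X]/(Φ_q)`. -/
abbrev EE (p q : ℕ) [Fact p.Prime] : Type := AdjoinRoot (cyclotomic q (ZMod p))

variable {V : Type*} [AddCommGroup V] [Module (ZMod p) V]

/-- The ring homomorphism `E → End V` determined by `T`. -/
noncomputable def evHom (T : Module.End (ZMod p) V)
    (hcyc : aeval T (cyclotomic q (ZMod p)) = 0) : EE p q →+* Module.End (ZMod p) V :=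
  Ideal.Quotient.lift (Ideal.span {cyclotomic q (ZMod p)})
    ((aeval T : (ZMod p)[X] →ₐ[ZMod p] Module.End (ZMod p) V) : (ZMod p)[X] →+* _)
    (by
      intro a ha
      obtain ⟨c, rfl⟩ := Ideal.mem_span_singleton.mp ha
      simp [hcyc])

theorem evHom_mk (T : Module.End (ZMod p) V)
    (hcyc : aeval T (cyclotomic q (ZMod p)) = 0) (g : (ZMod p)[X]) :
    evHom T hcyc (AdjoinRoot.mk _ g) = aeval T g :=
  Ideal.Quotient.lift_mk _ _ _

theorem evHom_root (T : Module.End (ZMod p) V)
    (hcyc : aeval T (cyclotomic q (ZMod p)) = 0) :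
    evHom T hcyc (AdjoinRoot.root _) = T := by
  rw [← AdjoinRoot.mk_X, evHom_mk, aeval_X]

section Constructions

variable [Finite V] (hpq : p ≠ q) (hord : orderOf ((p : ℕ) : ZMod q) = q - 1)
  (T : Module.End (ZMod p) V) (hcyc : aeval T (cyclotomic q (ZMod p)) = 0)

include hpq hord hcyc in
theorem exists_commuting_equiv (u v : V) (hu : u ≠ 0) (hv : v ≠ 0) :
    ∃ γ : V ≃+ V, (∀ w, γ (T w) = T (γ w)) ∧ γ u = v := by
  haveI : Fact (Irreducible (cyclotomic q (ZMod p))) :=
    ⟨irreducible_cyclotomic_of_orderOf hpq hord⟩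
  letI : Module (EE p q) V := Module.compHom V (evHom T hcyc)
  have hsmul : ∀ (e : EE p q) (w : V), e • w = evHom T hcyc e w := fun _ _ => rfl
  let f : (Submodule.span (EE p q) {u}) ≃ₗ[EE p q] (Submodule.span (EE p q) {v}) :=
    (LinearEquiv.toSpanNonzeroSingleton (EE p q) V u hu).symm ≪≫ₗ
      (LinearEquiv.toSpanNonzeroSingleton (EE p q) V v hv)
  obtain ⟨g, hg⟩ := Submodule.exists_linearEquiv_restrict_eq f
  refine ⟨g.toAddEquiv, ?_, ?_⟩
  · intro w
    have h1 : ∀ z : V, T z = (AdjoinRoot.root _ : EE p q) • z := by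
      intro z; rw [hsmul, evHom_root]
    show g (T w) = T (g w)
    rw [h1 w, h1 (g w), map_smul]
  · show g u = v
    have hu' : u ∈ Submodule.span (EE p q) {u} := Submodule.mem_span_singleton_self u
    have := hg ⟨u, hu'⟩
    rw [← this]
    have e1 : (LinearEquiv.toSpanNonzeroSingleton (EE p q) V u hu).symm ⟨u, hu'⟩ = 1 := by
      rw [LinearEquiv.symm_apply_eq, LinearEquiv.toSpanNonzeroSingleton_one]
    show ((LinearEquiv.toSpanNonzeroSingleton (EE p q) V v hv)
      ((LinearEquiv.toSpanNonzeroSingleton (EE p q) V u hu).symm ⟨u, hu'⟩) : V) = v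
    rw [e1, LinearEquiv.toSpanNonzeroSingleton_one]

include hpq hord in
theorem aeval_root_pow_eq_zero (i : ℕ) (hi : ¬ q ∣ i) :
    haveI : Fact (Irreducible (cyclotomic q (ZMod p))) :=
      ⟨irreducible_cyclotomic_of_orderOf hpq hord⟩
    aeval ((AdjoinRoot.root (cyclotomic q (ZMod p)) : EE p q) ^ i) (cyclotomic q (ZMod p)) = 0 := by
  haveI : Fact (Irreducible (cyclotomic q (ZMod p))) :=
    ⟨irreducible_cyclotomic_of_orderOf hpq hord⟩
  haveI : NeZero ((q : ℕ) : EE p q) := by
    refine ⟨fun h => ?_⟩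
    have h1 : ((q : ℕ) : EE p q) = algebraMap (ZMod p) (EE p q) ((q : ℕ) : ZMod p) := by
      rw [map_natCast]
    rw [h1, map_eq_zero_iff _ (algebraMap (ZMod p) (EE p q)).injective,
      ZMod.natCast_eq_zero_iff] at h
    exact hpq ((Nat.prime_dvd_prime_iff_eq hp.out hq.out).mp h)
  have hroot : IsPrimitiveRoot (AdjoinRoot.root (cyclotomic q (ZMod p)) : EE p q) q := by
    rw [← isRoot_cyclotomic_iff, ← map_cyclotomic q (algebraMap (ZMod p) (EE p q))]
    exact AdjoinRoot.isRoot_root _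
  have hcop : Nat.Coprime i q := (Nat.Coprime.symm ((Nat.Prime.coprime_iff_not_dvd hq.out).mpr hi))
  have h2 := hroot.pow_of_coprime i hcop
  rw [← isRoot_cyclotomic_iff, ← map_cyclotomic q (algebraMap (ZMod p) (EE p q)), IsRoot,
    eval_map_algebraMap] at h2
  exact h2

include hpq hord hcyc in
theorem exists_twisted_equiv (i : ℕ) (hi : ¬ q ∣ i) :
    ∃ γ : V ≃+ V, ∀ w, γ (T w) = (T ^ i) (γ w) := by
  haveI : Fact (Irreducible (cyclotomic q (ZMod p))) :=
    ⟨irreducible_cyclotomic_of_orderOf hpq hord⟩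
  letI : Module (EE p q) V := Module.compHom V (evHom T hcyc)
  have hsmul : ∀ (e : EE p q) (w : V), e • w = evHom T hcyc e w := fun _ _ => rfl
  let σ₀ : EE p q →ₐ[ZMod p] EE p q :=
    AdjoinRoot.liftAlgHom (cyclotomic q (ZMod p)) (Algebra.ofId (ZMod p) (EE p q))
      ((AdjoinRoot.root _ : EE p q) ^ i) (by
        have := aeval_root_pow_eq_zero hpq hord i hi
        rw [aeval_def] at this
        exact this)
  have hσroot : σ₀ (AdjoinRoot.root _) = (AdjoinRoot.root _ : EE p q) ^ i :=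
    AdjoinRoot.liftAlgHom_root _ _ _ _
  haveI : Module.Finite (ZMod p) (EE p q) :=
    (AdjoinRoot.powerBasis (cyclotomic_ne_zero q (ZMod p))).finite
  haveI : Finite (EE p q) := Module.finite_of_finite (ZMod p)
  have hσbij : Function.Bijective σ₀ :=
    Finite.injective_iff_bijective.mp (σ₀ : EE p q →+* EE p q).injective
  let σ : EE p q ≃+ EE p q := AddEquiv.ofBijective (σ₀ : EE p q →+ EE p q) hσbij
  have hσ : ∀ e, σ e = σ₀ e := fun _ => rfl
  let b := Module.Basis.ofVectorSpace (EE p q) V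
  let γ : V ≃+ V :=
    b.repr.toAddEquiv.trans ((Finsupp.mapRange.addEquiv σ).trans b.repr.symm.toAddEquiv)
  have hγdef : ∀ w, γ w = b.repr.symm (Finsupp.mapRange.addEquiv σ (b.repr w)) := fun _ => rfl
  have hmr : ∀ (e : EE p q) (f : Module.Basis.ofVectorSpaceIndex (EE p q) V →₀ EE p q),
      Finsupp.mapRange.addEquiv σ (e • f) = σ₀ e • Finsupp.mapRange.addEquiv σ f := by
    intro e f
    ext j
    simp [hσ]
  have hγ : ∀ (e : EE p q) (w : V), γ (e • w) = σ₀ e • γ w := by
    intro e w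
    rw [hγdef, hγdef, map_smul, hmr, map_smul]
  refine ⟨γ, fun w => ?_⟩
  have h1 : T w = (AdjoinRoot.root _ : EE p q) • w := by rw [hsmul, evHom_root]
  have h2 : (T ^ i) (γ w) = ((AdjoinRoot.root _ : EE p q) ^ i) • γ w := by
    rw [hsmul, map_pow, evHom_root]
  rw [h1, hγ, hσroot, h2]

end Constructions

end Cfsg.Agent.Helper20.AutOrb
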