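import Mathlib
import Cfsg.Agent.Lib.Helper20.AutOrb3

/-!
Multiplicative wrappers of the linear algebra core for the "three orbits" theorem.
-/

namespace Cfsg.Agent.Helper20.AutOrb

open Polynomial

variable {p q : ℕ} [hp : Fact p.Prime] [hq : Fact q.Prime]
variable {P : Type*} [CommGroup P] [Module (ZMod p) (Additive P)]

/-- A multiplicative automorphism as a `ZMod p`-linear equivalence of `Additive P`. -/
def toLin (γ : MulAut P) : Additive P ≃ₗ[ZMod p] Additive P :=
  { MulEquiv.toAdditive γ with
    map_smul' := fun c x => ZMod.map_smul (MulEquiv.toAdditive γ) c x }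

theorem toLin_apply (γ : MulAut P) (w : Additive P) :
    toLin (p := p) γ w = Additive.ofMul (γ (Additive.toMul w)) := rfl

/-- `MulAut P → End (Additive P)` as a monoid homomorphism. -/
def toEnd : MulAut P →* Module.End (ZMod p) (Additive P) where
  toFun γ := (toLin γ).toLinearMap
  map_one' := by ext; rfl
  map_mul' := by intros; ext; rfl

theorem toEnd_apply (γ : MulAut P) (w : Additive P) :
    toEnd (p := p) γ w = Additive.ofMul (γ (Additive.toMul w)) := rfl

theorem orderOf_eq_of_transitive [Finite P] [Nontrivial P] (hpq : p ≠ q)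
    (T : MulAut P) (hTq : T ^ q = 1) (hfpf : ∀ w, T w = w → w = 1)
    (H1 : ∀ u v : P, u ≠ 1 → v ≠ 1 → ∃ (γ : MulAut P) (i : ℕ),
      (∀ w, γ (T w) = (T ^ i) (γ w)) ∧ γ u = v)
    (H2 : ∀ i, 0 < i → i < q → ∃ γ : MulAut P, ∀ w, γ (T w) = (T ^ i) (γ w)) :
    orderOf ((p : ℕ) : ZMod q) = q - 1 := by
  haveI : Finite (Additive P) := inferInstanceAs (Finite P)
  haveI : Nontrivial (Additive P) := inferInstanceAs (Nontrivial P)
  refine orderOf_eq_of_transitive_linear (V := Additive P) hpq (toEnd (p := p) T) ?_ ?_ ?_ ?_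
  · rw [← map_pow, hTq, map_one]
  · intro v hv
    have := hfpf (Additive.toMul v) (by
      have := congrArg Additive.toMul hv
      simpa [toEnd_apply] using this)
    exact Additive.toMul.injective (by simpa using this)
  · intro u v hu hv
    obtain ⟨γ, i, hγ, huv⟩ := H1 (Additive.toMul u) (Additive.toMul v)
      (fun h => hu (Additive.toMul.injective (by simpa using h)))
      (fun h => hv (Additive.toMul.injective (by simpa using h)))
    refine ⟨toLin γ, i, ?_, ?_⟩
    · intro w
      rw [← map_pow, toEnd_apply, toLin_apply, toEnd_apply, toLin_apply]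
      simp only [toMul_ofMul]
      rw [hγ]
    · rw [toLin_apply, huv]; simp
  · intro i hi0 hiq
    obtain ⟨γ, hγ⟩ := H2 i hi0 hiq
    refine ⟨toLin γ, ?_⟩
    intro w
    rw [← map_pow, toEnd_apply, toLin_apply, toEnd_apply, toLin_apply]
    simp only [toMul_ofMul]
    rw [hγ]

theorem exists_auts_of_primitive_root [Finite P] (hpq : p ≠ q)
    (hord : orderOf ((p : ℕ) : ZMod q) = q - 1)
    (T : MulAut P) (hTq : T ^ q = 1) (hfpf : ∀ w, T w = w → w = 1) :
    (∀ i, ¬ q ∣ i → ∃ γ : MulAut P, ∀ w, γ (T w) = (T ^ i) (γ w)) ∧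
    (∀ u v : P, u ≠ 1 → v ≠ 1 → ∃ γ : MulAut P, (∀ w, γ (T w) = T (γ w)) ∧ γ u = v) := by
  haveI : Finite (Additive P) := inferInstanceAs (Finite P)
  have hTq' : (toEnd (p := p) T) ^ q = 1 := by rw [← map_pow, hTq, map_one]
  have hfpf' : ∀ v : Additive P, toEnd (p := p) T v = v → v = 0 := by
    intro v hv
    have := hfpf (Additive.toMul v) (by
      have := congrArg Additive.toMul hv
      simpa [toEnd_apply] using this)
    exact Additive.toMul.injective (by simpa using this)
  have hcyc := aeval_cyclotomic_eq_zero (toEnd (p := p) T) hTq' hfpf'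
  constructor
  · intro i hi
    obtain ⟨γ, hγ⟩ := exists_twisted_equiv hpq hord (toEnd (p := p) T) hcyc i hi
    refine ⟨MulEquiv.toAdditive.symm γ, fun w => ?_⟩
    have := hγ (Additive.ofMul w)
    rw [← map_pow, toEnd_apply, toEnd_apply] at this
    have h2 := congrArg Additive.toMul this
    simpa using h2
  · intro u v hu hv
    obtain ⟨γ, hγ, huv⟩ := exists_commuting_equiv hpq hord (toEnd (p := p) T) hcyc
      (Additive.ofMul u) (Additive.ofMul v)
      (fun h => hu (Additive.ofMul.injective (by simpa using h)))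
      (fun h => hv (Additive.ofMul.injective (by simpa using h)))
    refine ⟨MulEquiv.toAdditive.symm γ, fun w => ?_, ?_⟩
    · have := hγ (Additive.ofMul w)
      rw [toEnd_apply, toEnd_apply] at this
      have h2 := congrArg Additive.toMul this
      simpa using h2
    · have h2 := congrArg Additive.toMul huv
      simpa using h2

end Cfsg.Agent.Helper20.AutOrb
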