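import Mathlib

/-!
Extending automorphisms of a normal abelian subgroup with cyclic complement to the whole group.
-/

namespace Cfsg.Agent.Helper20.AutOrb

/-- The `i`-th power map as an automorphism of a commutative finite group of order prime to `i`. -/
noncomputable def powEquiv {K : Type*} [Group K] (hK : ∀ a b : K, a * b = b * a) {i : ℕ}
    (h : (Nat.card K).Coprime i) : K ≃* K :=
  { powCoprime h with
    map_mul' := fun a b => by
      show (a * b) ^ i = a ^ i * b ^ i
      exact Commute.mul_pow (hK a b) i }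

theorem powEquiv_apply {K : Type*} [Group K] (hK : ∀ a b : K, a * b = b * a) {i : ℕ}
    (h : (Nat.card K).Coprime i) (k : K) : powEquiv hK h k = k ^ i := rfl

variable {G : Type*} [Group G]

theorem conj_pow_compat (P : Subgroup G) [hPn : P.Normal] (x : G) (γ : MulAut P) (i : ℕ)
    (hγ : ∀ w : P, (γ ⟨x * w * x⁻¹, hPn.conj_mem w w.2 x⟩ : G) = x ^ i * γ w * (x ^ i)⁻¹)
    (n : ℕ) (w : P) :
    (γ ⟨x ^ n * w * (x ^ n)⁻¹, hPn.conj_mem w w.2 (x ^ n)⟩ : G) =
      (x ^ n) ^ i * γ w * ((x ^ n) ^ i)⁻¹ := by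
  induction n generalizing w with
  | zero => simp
  | succ n ih =>
    have h1 : (⟨x ^ (n + 1) * w * (x ^ (n + 1))⁻¹, hPn.conj_mem w w.2 (x ^ (n + 1))⟩ : P) =
        ⟨x * (⟨x ^ n * w * (x ^ n)⁻¹, hPn.conj_mem w w.2 (x ^ n)⟩ : P) * x⁻¹,
          hPn.conj_mem _ (hPn.conj_mem w w.2 (x ^ n)) x⟩ := by
      apply Subtype.ext
      simp only [pow_succ', mul_inv_rev]
      group
    rw [h1, hγ, ih]
    have h2 : (x ^ (n + 1)) ^ i = x ^ i * (x ^ n) ^ i := by
      rw [← pow_mul, ← pow_mul, ← pow_add]; congr 1; ring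
    rw [h2, mul_inv_rev]
    group

theorem exists_mulAut_extending [Finite G] (P : Subgroup G) [hPn : P.Normal] (x : G)
    (hc : P.IsComplement' (Subgroup.zpowers x)) (γ : MulAut P) (i : ℕ)
    (hi : (orderOf x).Coprime i)
    (hγ : ∀ w : P, (γ ⟨x * w * x⁻¹, hPn.conj_mem w w.2 x⟩ : G) = x ^ i * γ w * (x ^ i)⁻¹) :
    ∃ α : MulAut G, α x = x ^ i ∧ ∀ w : P, α (w : G) = γ w := by
  have hKcomm : ∀ a b : Subgroup.zpowers x, a * b = b * a := fun a b =>
    Subtype.ext (setLike_mul_comm a.2 b.2)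
  have hcard : (Nat.card (Subgroup.zpowers x)).Coprime i := by rw [Nat.card_zpowers]; exact hi
  let δ : Subgroup.zpowers x ≃* Subgroup.zpowers x := powEquiv hKcomm hcard
  let e := SemidirectProduct.mulEquivSubgroup hc
  have compat : ∀ k : Subgroup.zpowers x,
      ((P.normalizerMonoidHom.comp (Subgroup.inclusion (P.normalizer_eq_top ▸ le_top))) k).trans γ
        = γ.trans ((P.normalizerMonoidHom.comp
            (Subgroup.inclusion (P.normalizer_eq_top ▸ le_top))) (δ k)) := by
    intro k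
    obtain ⟨n, hn⟩ := (mem_powers_iff_mem_zpowers (x := x)).mpr k.2
    ext w
    have := conj_pow_compat P x γ i hγ n w
    simp only [MulEquiv.trans_apply]
    have hk : ((P.normalizerMonoidHom.comp
        (Subgroup.inclusion (P.normalizer_eq_top ▸ le_top))) k) w =
        ⟨x ^ n * w * (x ^ n)⁻¹, hPn.conj_mem w w.2 (x ^ n)⟩ := by
      apply Subtype.ext
      show (k : G) * w * (k : G)⁻¹ = _
      rw [← hn]
    rw [hk, this]
    show _ = ((δ k : Subgroup.zpowers x) : G) * (γ w) * ((δ k : Subgroup.zpowers x) : G)⁻¹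
    rw [powEquiv_apply]
    simp only [Subgroup.coe_pow]
    rw [← hn]
  let c := SemidirectProduct.congr γ δ compat
  refine ⟨e.symm.trans (c.trans e), ?_, ?_⟩
  · have hx : x ∈ Subgroup.zpowers x := Subgroup.mem_zpowers x
    have h1 : e.symm x = SemidirectProduct.inr ⟨x, hx⟩ := by
      rw [MulEquiv.symm_apply_eq, SemidirectProduct.mulEquivSubgroup_apply]
      simp
    simp only [MulEquiv.trans_apply]
    rw [h1, SemidirectProduct.mulEquivSubgroup_apply]
    simp [c, δ, powEquiv_apply]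
  · intro w
    have h1 : e.symm (w : G) = SemidirectProduct.inl w := by
      rw [MulEquiv.symm_apply_eq, SemidirectProduct.mulEquivSubgroup_apply]
      simp
    simp only [MulEquiv.trans_apply]
    rw [h1, SemidirectProduct.mulEquivSubgroup_apply]
    simp [c]

end Cfsg.Agent.Helper20.AutOrb
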