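import Mathlib
import Cfsg.Agent.Lib.Helper20.AutOrb4
import Cfsg.Agent.Lib.Helper20.AutOrb5

/-!
The converse direction of the "three orbits" theorem: constructing enough automorphisms.
-/

namespace Cfsg.Agent.Helper20.AutOrb

open scoped IsMulCommutative

section Converse

variable {G : Type*} [Group G] [Finite G] {p q : ℕ} [hp : Fact p.Prime] [hq : Fact q.Prime]
  (P : Subgroup G) [hPn : P.Normal] [hPab : IsMulCommutative P]
  (hPexp : ∀ a ∈ P, a ^ p = 1) (x : G) (hx : orderOf x = q)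
  (hc : P.IsComplement' (Subgroup.zpowers x))
  (hpq : p ≠ q) (hord : orderOf ((p : ℕ) : ZMod q) = q - 1)
  (hfpf : ∀ k y : G, orderOf k = q → y ∈ P → k * y * k⁻¹ = y → y = 1)

include hPexp hx hc hpq hord hfpf in
theorem exists_auts :
    (∀ i, ¬ q ∣ i → ∃ α : MulAut G, α x = x ^ i) ∧
    (∀ u v : G, u ∈ P → v ∈ P → u ≠ 1 → v ≠ 1 → ∃ α : MulAut G, α u = v) := by
  letI : Module (ZMod p) (Additive P) := AddCommGroup.zmodModule (n := p) (by
    intro v
    have h1 : (Additive.toMul v) ^ p = 1 := Subtype.ext (by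
      rw [Subgroup.coe_pow]; exact hPexp _ (Additive.toMul v).2)
    have h2 : p • v = Additive.ofMul ((Additive.toMul v) ^ p) := rfl
    rw [h2, h1]; rfl)
  let T : MulAut P := MulAut.conjNormal x
  have hTq : T ^ q = 1 := by
    show (MulAut.conjNormal x : MulAut P) ^ q = 1
    rw [← map_pow, ← hx, pow_orderOf_eq_one, map_one]
  have hTfpf : ∀ w : P, T w = w → w = 1 := by
    intro w hw
    have h1 : x * w * x⁻¹ = w := by
      rw [← MulAut.conjNormal_apply]
      exact congrArg Subtype.val hw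
    exact Subtype.ext (hfpf x w hx w.2 h1)
  obtain ⟨B1, B2⟩ := exists_auts_of_primitive_root hpq hord T hTq hTfpf
  have hTpow : ∀ (i : ℕ) (w : P), ((T ^ i) w : G) = x ^ i * w * (x ^ i)⁻¹ := by
    intro i w
    show (((MulAut.conjNormal x : MulAut P) ^ i) w : G) = _
    rw [← map_pow, MulAut.conjNormal_apply]
  have hT1 : ∀ w : P, T w = ⟨x * w * x⁻¹, hPn.conj_mem w w.2 x⟩ := by
    intro w
    exact Subtype.ext (MulAut.conjNormal_apply x w)
  constructor
  · intro i hi
    obtain ⟨γ, hγ⟩ := B1 i hi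
    have hcop : (orderOf x).Coprime i := by
      rw [hx]; exact (Nat.Prime.coprime_iff_not_dvd hq.out).mpr hi
    obtain ⟨α, hα, -⟩ := exists_mulAut_extending P x hc γ i hcop (by
      intro w
      rw [← hT1 w, hγ w, hTpow])
    exact ⟨α, hα⟩
  · intro u v hu hv hu1 hv1
    obtain ⟨γ, hγ, huv⟩ := B2 ⟨u, hu⟩ ⟨v, hv⟩
      (fun h => hu1 (congrArg Subtype.val h)) (fun h => hv1 (congrArg Subtype.val h))
    obtain ⟨α, -, hα⟩ := exists_mulAut_extending P x hc γ 1 (Nat.coprime_one_right _) (by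
      intro w
      rw [← hT1 w, hγ w, pow_one]
      exact MulAut.conjNormal_apply x (γ w))
    refine ⟨α, ?_⟩
    have := hα ⟨u, hu⟩
    rw [huv] at this
    exact this

include hPexp hx hc hpq hord hfpf in
theorem exists_aut_to_outside (g : G) (hg : g ∉ P) : ∃ α : MulAut G, α x = g := by
  obtain ⟨⟨w, k⟩, hwk⟩ := hc.2 g
  simp only at hwk
  obtain ⟨j, hj⟩ := (mem_powers_iff_mem_zpowers (x := x)).mpr k.2
  simp only at hj
  have hk1 : (k : G) ≠ 1 := by
    intro h
    apply hg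
    rw [← hwk, h, mul_one]
    exact w.2
  have hqj : ¬ q ∣ j := by
    intro h
    apply hk1
    rw [← hj]
    obtain ⟨c, rfl⟩ := h
    rw [pow_mul, ← hx, pow_orderOf_eq_one, one_pow]
  have hkord : orderOf (k : G) = q := by
    rw [← hj, Nat.Coprime.orderOf_pow, hx]
    rw [hx]
    exact (Nat.Prime.coprime_iff_not_dvd hq.out).mpr hqj
  let f : P → P := fun u =>
    ⟨u * (k * (u : G)⁻¹ * (k : G)⁻¹), P.mul_mem u.2 (hPn.conj_mem _ (P.inv_mem u.2) k)⟩
  have hfinj : Function.Injective f := by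
    intro u u' h
    have h1 : (u : G) * (k * (u : G)⁻¹ * (k : G)⁻¹) = u' * (k * (u' : G)⁻¹ * (k : G)⁻¹) :=
      congrArg Subtype.val h
    have h3 : (u' : G)⁻¹ * u * k = k * ((u' : G)⁻¹ * u) := by
      have e1 : (u' : G)⁻¹ * u * k =
          (u' : G)⁻¹ * ((u : G) * (k * (u : G)⁻¹ * (k : G)⁻¹)) * k * u := by group
      rw [e1, h1]
      group
    have h2 : (k : G) * ((u' : G)⁻¹ * u) * (k : G)⁻¹ = (u' : G)⁻¹ * u := by
      rw [← h3]; group
    have h4 := hfpf k _ hkord (P.mul_mem (P.inv_mem u'.2) u.2) h2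
    rw [inv_mul_eq_one] at h4
    exact Subtype.ext h4.symm
  obtain ⟨u, hu⟩ := (Finite.injective_iff_surjective.mp hfinj) w
  have hu' : (u : G) * (k * (u : G)⁻¹ * (k : G)⁻¹) = w := congrArg Subtype.val hu
  obtain ⟨α, hα⟩ := (exists_auts P hPexp x hx hc hpq hord hfpf).1 j hqj
  refine ⟨MulAut.conj (u : G) * α, ?_⟩
  rw [MulAut.mul_apply, hα, MulAut.conj_apply, hj, ← hwk, ← hu']
  group

end Converse

end Cfsg.Agent.Helper20.AutOrb
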