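import Mathlib
import Cfsg.Agent.Lib.Helper20.AutOrb6

/-!
The converse direction of the "three orbits" theorem: counting the orbits.
-/

namespace Cfsg.Agent.Helper20.AutOrb

theorem orbit_mk_eq_iff {G : Type*} [Group G] (a b : G) :
    (Quotient.mk'' a : MulAction.orbitRel.Quotient (MulAut G) G) = Quotient.mk'' b ↔
      ∃ α : MulAut G, α b = a := by
  rw [Quotient.eq'', MulAction.orbitRel_apply, MulAction.mem_orbit_iff]
  simp only [MulAut.smul_def]

theorem card_orbits_eq_three {G : Type*} [Group G] [Finite G] (p q n : ℕ)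
    [hp : Fact p.Prime] [hq : Fact q.Prime]
    (hpq : p ≠ q) (hn : 1 ≤ n) (hcard : Nat.card G = p ^ n * q)
    (P : Sylow p G) (hPn : (P : Subgroup G).Normal) (hPab : IsMulCommutative (P : Subgroup G))
    (hPexp : ∀ a ∈ (P : Subgroup G), a ^ p = 1)
    (hord : orderOf ((p : ℕ) : ZMod q) = q - 1)
    (hfpf : ∀ x y : G, orderOf x = q → orderOf y = p → x * y * x⁻¹ ≠ y) :
    Nat.card (MulAction.orbitRel.Quotient (MulAut G) G) = 3 := by
  haveI := hPn
  haveI := hPab
  have hPcard : Nat.card (P : Subgroup G) = p ^ n := by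
    rw [Sylow.card_eq_multiplicity, hcard]
    congr 1
    rw [Nat.factorization_mul (pow_ne_zero _ hp.out.ne_zero) hq.out.ne_zero,
      Nat.Prime.factorization_pow hp.out, Nat.Prime.factorization hq.out]
    simp [hpq]
  obtain ⟨x, hx⟩ := exists_prime_orderOf_dvd_card' q (by rw [hcard]; exact dvd_mul_left q _)
  have hc : (P : Subgroup G).IsComplement' (Subgroup.zpowers x) :=
    Subgroup.isComplement'_of_coprime (by rw [hPcard, Nat.card_zpowers, hx, hcard])
      (by
        rw [hPcard, Nat.card_zpowers, hx]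
        exact Nat.Coprime.pow_left n ((Nat.coprime_primes hp.out hq.out).mpr hpq))
  have hPord : ∀ y ∈ (P : Subgroup G), y ≠ 1 → orderOf y = p := by
    intro y hy hy1
    have := orderOf_dvd_of_pow_eq_one (hPexp y hy)
    rcases (Nat.dvd_prime hp.out).mp this with h | h
    · exact absurd (orderOf_eq_one_iff.mp h) hy1
    · exact h
  have hfpf' : ∀ k y : G, orderOf k = q → y ∈ (P : Subgroup G) → k * y * k⁻¹ = y → y = 1 := by
    intro k y hk hy hky
    by_contra hy1
    exact hfpf k y hk (hPord y hy hy1) hky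
  have hx1 : x ≠ 1 := by
    intro h1
    rw [h1, orderOf_one] at hx
    exact hq.out.one_lt.ne hx
  have hxP : x ∉ (P : Subgroup G) := by
    intro h
    have := hPord x h hx1
    exact hpq (by rw [← this, hx])
  have hex : ∃ y0 ∈ (P : Subgroup G), y0 ≠ 1 := by
    by_contra hcon
    push Not at hcon
    have hbot : (P : Subgroup G) = ⊥ := (Subgroup.eq_bot_iff_forall _).mpr hcon
    rw [hbot, Subgroup.card_bot] at hPcard
    have := Nat.one_lt_pow (by omega : n ≠ 0) hp.out.one_lt
    omega
  obtain ⟨y0, hy0P, hy01⟩ := hex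
  have hchar : (P : Subgroup G).Characteristic := Sylow.characteristic_of_normal P hPn
  have hPinv : ∀ (α : MulAut G) (y : G), α y ∈ (P : Subgroup G) ↔ y ∈ (P : Subgroup G) := by
    intro α y
    have h1 := hchar.fixed α
    have h2 : y ∈ Subgroup.comap α.toMonoidHom (P : Subgroup G) ↔ α y ∈ (P : Subgroup G) :=
      Subgroup.mem_comap
    rw [← h2, h1]
  obtain ⟨-, A2⟩ := exists_auts (P : Subgroup G) hPexp x hx hc hpq hord hfpf'
  have A3 := exists_aut_to_outside (P : Subgroup G) hPexp x hx hc hpq hord hfpf'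
  classical
  letI := Fintype.ofFinite (MulAction.orbitRel.Quotient (MulAut G) G)
  rw [Nat.card_eq_fintype_card, ← Finset.card_univ, Finset.card_eq_three]
  refine ⟨Quotient.mk'' 1, Quotient.mk'' y0, Quotient.mk'' x, ?_, ?_, ?_, ?_⟩
  · rw [Ne, orbit_mk_eq_iff]
    rintro ⟨α, hα⟩
    apply hy01
    have : α y0 = α 1 := by rw [hα, map_one]
    exact α.injective this
  · rw [Ne, orbit_mk_eq_iff]
    rintro ⟨α, hα⟩
    apply hx1
    have : α x = α 1 := by rw [hα, map_one]
    exact α.injective this
  · rw [Ne, orbit_mk_eq_iff]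
    rintro ⟨α, hα⟩
    apply hxP
    rw [← hPinv α x, hα]
    exact hy0P
  · ext z
    simp only [Finset.mem_univ, Finset.mem_insert, Finset.mem_singleton, true_iff]
    induction z using Quotient.inductionOn' with
    | h g =>
      by_cases hg1 : g = 1
      · left; rw [hg1]
      · by_cases hgP : g ∈ (P : Subgroup G)
        · right; left
          rw [orbit_mk_eq_iff]
          exact A2 y0 g hy0P hgP hy01 hg1
        · right; right
          rw [orbit_mk_eq_iff]
          exact A3 g hgP

end Cfsg.Agent.Helper20.AutOrb
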