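import Mathlib
import Cfsg.Agent.Lib.Helper20.AutOrb4

/-!
The forward direction of the "three orbits" theorem: structure from the orbit hypotheses (part 1).
-/

namespace Cfsg.Agent.Helper20.AutOrb

/-- Restriction of an automorphism to an invariant subgroup. -/
def restrictAut {G : Type*} [Group G] (P : Subgroup G) (α : MulAut G)
    (hα : ∀ y, α y ∈ P ↔ y ∈ P) : MulAut P :=
  { toFun := fun y => ⟨α (y : G), (hα y).mpr y.2⟩
    invFun := fun y => ⟨α.symm (y : G),
      (hα (α.symm (y : G))).mp (by rw [MulEquiv.apply_symm_apply]; exact y.2)⟩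
    left_inv := fun y => Subtype.ext (α.symm_apply_apply (y : G))
    right_inv := fun y => Subtype.ext (α.apply_symm_apply (y : G))
    map_mul' := fun a b => Subtype.ext (map_mul α (a : G) (b : G)) }

theorem restrictAut_coe {G : Type*} [Group G] (P : Subgroup G) (α : MulAut G)
    (hα : ∀ y, α y ∈ P ↔ y ∈ P) (y : P) : (restrictAut P α hα y : G) = α y := rfl

section Forward

variable {G : Type*} [Group G] [Finite G] {r s : ℕ} [hr : Fact r.Prime] [hs : Fact s.Prime]

/-- The `r`-torsion subgroup, when all `r`-torsion elements lie in a commutative subgroup. -/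
def torSub (r : ℕ) (D : Subgroup G) (hDab : ∀ u ∈ D, ∀ v ∈ D, u * v = v * u)
    (hall : ∀ g : G, g ^ r = 1 → g ∈ D) : Subgroup G where
  carrier := {g | g ^ r = 1}
  one_mem' := one_pow r
  mul_mem' := fun {a b} ha hb => by
    show (a * b) ^ r = 1
    have hc : Commute a b := hDab a (hall a ha) b (hall b hb)
    rw [hc.mul_pow, ha, hb, one_mul]
  inv_mem' := fun {a} ha => by
    show (a⁻¹) ^ r = 1
    rw [inv_pow, ha, inv_one]

theorem mem_torSub (D : Subgroup G) (hDab : ∀ u ∈ D, ∀ v ∈ D, u * v = v * u)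
    (hall : ∀ g : G, g ^ r = 1 → g ∈ D) (g : G) : g ∈ torSub r D hDab hall ↔ g ^ r = 1 := Iff.rfl

variable (hrs : r ≠ s)
  (O1 : ∀ g : G, orderOf g = 1 ∨ orderOf g = r ∨ orderOf g = s)
  (O2 : ∀ g h : G, orderOf g = orderOf h → ∃ α : MulAut G, α g = h)

include O2 in
theorem torsion_mem_of_characteristic (D : Subgroup G) (hDchar : D.Characteristic)
    (d : G) (hdD : d ∈ D) (hd : orderOf d = r) (g : G) (hg : g ^ r = 1) : g ∈ D := by
  have := orderOf_dvd_of_pow_eq_one hg
  rcases (Nat.dvd_prime hr.out).mp this with h | h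
  · rw [orderOf_eq_one_iff.mp h]; exact D.one_mem
  · obtain ⟨α, hα⟩ := O2 d g (hd.trans h.symm)
    rw [← hα]
    have h1 := hDchar.fixed α
    have h2 : d ∈ Subgroup.comap α.toMonoidHom D ↔ α d ∈ D := Subgroup.mem_comap
    rw [← h2, h1]
    exact hdD

include hrs O1 in
theorem fpf_of_orders (x y : G) (hx : orderOf x = s) (hy : orderOf y = r) :
    x * y * x⁻¹ ≠ y := by
  intro hxy
  have hc : Commute x y := by
    have : x * y = y * x := by
      calc x * y = x * y * x⁻¹ * x := by group
        _ = y * x := by rw [hxy]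
    exact this
  have hcop : (orderOf x).Coprime (orderOf y) := by
    rw [hx, hy]; exact (Nat.coprime_primes hs.out hr.out).mpr (Ne.symm hrs)
  have h1 := hc.orderOf_mul_eq_mul_orderOf_of_coprime hcop
  rw [hx, hy] at h1
  have hr2 := hr.out.two_le
  have hs2 := hs.out.two_le
  rcases O1 (x * y) with h | h | h
  · rw [h] at h1; nlinarith
  · rw [h] at h1; nlinarith
  · rw [h] at h1; nlinarith

include hrs O1 in
theorem sylow_eq_torSub (D : Subgroup G) (hDab : ∀ u ∈ D, ∀ v ∈ D, u * v = v * u)
    (hall : ∀ g : G, g ^ r = 1 → g ∈ D) (S : Sylow r G) :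
    (S : Subgroup G) = torSub r D hDab hall := by
  symm
  have hPp : IsPGroup r (torSub r D hDab hall) := fun g =>
    ⟨1, Subtype.ext (by rw [pow_one, Subgroup.coe_pow]; exact g.2)⟩
  apply S.is_maximal' hPp
  intro g hg
  show g ^ r = 1
  obtain ⟨k, hk⟩ := (IsPGroup.iff_orderOf.mp S.isPGroup') ⟨g, hg⟩
  rw [← Subgroup.orderOf_coe] at hk
  simp only at hk
  rcases O1 g with h | h | h
  · rw [orderOf_eq_one_iff.mp h, one_pow]
  · rw [← h, pow_orderOf_eq_one]
  · exfalso
    rw [h] at hk
    rcases Nat.eq_zero_or_pos k with hk0 | hk0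
    · rw [hk0, pow_zero] at hk
      exact hs.out.one_lt.ne' hk
    · have : r ∣ s := by rw [hk]; exact dvd_pow_self r hk0.ne'
      exact hrs ((Nat.prime_dvd_prime_iff_eq hr.out hs.out).mp this)

end Forward

end Cfsg.Agent.Helper20.AutOrb
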