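import Mathlib
import Cfsg.Agent.Lib.Helper20.AutOrb8

/-!
The forward direction of the "three orbits" theorem: structure from the orbit hypotheses (part 2).
-/

namespace Cfsg.Agent.Helper20.AutOrb

open scoped IsMulCommutative Pointwise

section Forward

variable {G : Type*} [Group G] [Finite G] {r s : ℕ} [hr : Fact r.Prime] [hs : Fact s.Prime]
  (hrs : r ≠ s)
  (O1 : ∀ g : G, orderOf g = 1 ∨ orderOf g = r ∨ orderOf g = s)
  (O2 : ∀ g h : G, orderOf g = orderOf h → ∃ α : MulAut G, α g = h)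

include hrs O1 in
/-- The Sylow `s`-subgroup has order `s`. -/
theorem exponent_eq_one (a b : ℕ) (hcard : Nat.card G = r ^ a * s ^ b)
    (xs : G) (hxs : orderOf xs = s)
    (P : Subgroup G) [hPn : P.Normal] [hPab : IsMulCommutative P] (hPne : P ≠ ⊥)
    (hPmem : ∀ g, g ∈ P ↔ g ^ r = 1)
    (h41 : ∀ (A V : Subgroup G) [IsMulCommutative V], V ≠ ⊥ →
      A ≤ Subgroup.normalizer (V : Set G) →
      (∀ a ∈ A, a ≠ 1 → V ⊓ Subgroup.centralizer {a} = ⊥) →
      (∃ p q : ℕ, p.Prime ∧ q.Prime ∧ Nat.card A = p * q) → IsCyclic A) :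
    b = 1 := by
  have hr2 := hr.out.two_le
  have hs2 := hs.out.two_le
  have hb1 : 1 ≤ b := by
    by_contra hb
    have hb0 : b = 0 := by omega
    rw [hb0, pow_zero, mul_one] at hcard
    have h1 : s ∣ r ^ a := by rw [← hcard, ← hxs]; exact orderOf_dvd_natCard xs
    have h2 := hs.out.dvd_of_dvd_pow h1
    exact hrs ((Nat.prime_dvd_prime_iff_eq hs.out hr.out).mp h2).symm
  by_contra hne
  have hb2 : 2 ≤ b := by omega
  have hdvd : s ^ 2 ∣ Nat.card G := by
    rw [hcard]; exact dvd_mul_of_dvd_right (pow_dvd_pow s hb2) _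
  obtain ⟨A, hA⟩ := Sylow.exists_subgroup_card_pow_prime s hdvd
  have hfpfA : ∀ a' ∈ A, a' ≠ 1 → P ⊓ Subgroup.centralizer {a'} = ⊥ := by
    intro a' ha' ha1
    have hord : orderOf a' = s := by
      have h1 : orderOf a' ∣ s ^ 2 := by
        have := orderOf_dvd_natCard (⟨a', ha'⟩ : A)
        rw [hA, ← Subgroup.orderOf_coe] at this
        exact this
      rcases O1 a' with h | h | h
      · exact absurd (orderOf_eq_one_iff.mp h) ha1
      · exfalso
        rw [h] at h1
        have h2 := hr.out.dvd_of_dvd_pow h1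
        exact hrs ((Nat.prime_dvd_prime_iff_eq hr.out hs.out).mp h2)
      · exact h
    rw [eq_bot_iff]
    rintro y ⟨hyP, hyC⟩
    rw [Subgroup.mem_bot]
    by_contra hy1
    have hyr : orderOf y = r := by
      have h1 := orderOf_dvd_of_pow_eq_one ((hPmem y).mp hyP)
      rcases (Nat.dvd_prime hr.out).mp h1 with h | h
      · exact absurd (orderOf_eq_one_iff.mp h) hy1
      · exact h
    have hcomm : a' * y = y * a' := (Subgroup.mem_centralizer_iff.mp hyC) a' rfl
    apply fpf_of_orders hrs O1 a' y hord hyr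
    rw [hcomm]; group
  have hcyc : IsCyclic A := h41 A P hPne (by rw [Subgroup.normalizer_eq_top]; exact le_top) hfpfA
    ⟨s, s, hs.out, hs.out, by rw [hA, sq]⟩
  obtain ⟨g, hg⟩ := hcyc.exists_generator
  have h1 : orderOf g = s ^ 2 := by rw [orderOf_eq_card_of_forall_mem_zpowers hg, hA]
  rw [← Subgroup.orderOf_coe] at h1
  rcases O1 (g : G) with h | h | h
  · rw [h] at h1; nlinarith
  · rw [h] at h1
    have h2 : s ∣ r := by rw [h1]; exact dvd_pow_self s (by norm_num)
    exact hrs ((Nat.prime_dvd_prime_iff_eq hs.out hr.out).mp h2).symm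
  · rw [h] at h1; nlinarith

include hrs O1 O2 in
theorem orderOf_eq_of_orbits (a : ℕ) (hcard : Nat.card G = r ^ a * s)
    (xs : G) (hxs : orderOf xs = s)
    (P : Subgroup G) [hPn : P.Normal] [hPab : IsMulCommutative P] (hPne : P ≠ ⊥)
    (hPmem : ∀ g, g ∈ P ↔ g ^ r = 1) (hPcard : Nat.card P = r ^ a) :
    orderOf ((r : ℕ) : ZMod s) = s - 1 := by
  have hr2 := hr.out.two_le
  have hs2 := hs.out.two_le
  letI : Module (ZMod r) (Additive P) := AddCommGroup.zmodModule (n := r) (by
    intro v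
    have h1 : (Additive.toMul v) ^ r = 1 := Subtype.ext (by
      rw [Subgroup.coe_pow]; exact (hPmem _).mp (Additive.toMul v).2)
    have h2 : r • v = Additive.ofMul ((Additive.toMul v) ^ r) := rfl
    rw [h2, h1]; rfl)
  haveI : Nontrivial P := (Subgroup.nontrivial_iff_ne_bot P).mpr hPne
  have hPord : ∀ y ∈ P, y ≠ 1 → orderOf y = r := by
    intro y hy hy1
    have h1 := orderOf_dvd_of_pow_eq_one ((hPmem y).mp hy)
    rcases (Nat.dvd_prime hr.out).mp h1 with h | h
    · exact absurd (orderOf_eq_one_iff.mp h) hy1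
    · exact h
  let T : MulAut P := MulAut.conjNormal xs
  have hTq : T ^ s = 1 := by
    show (MulAut.conjNormal xs : MulAut P) ^ s = 1
    rw [← map_pow, ← hxs, pow_orderOf_eq_one, map_one]
  have hTfpf : ∀ w : P, T w = w → w = 1 := by
    intro w hw
    have h1 : xs * w * xs⁻¹ = w := by
      rw [← MulAut.conjNormal_apply]
      exact congrArg Subtype.val hw
    by_contra hw1
    have hw1' : (w : G) ≠ 1 := fun h => hw1 (Subtype.ext h)
    exact fpf_of_orders hrs O1 xs w hxs (hPord w w.2 hw1') h1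
  have hTpow : ∀ (i : ℕ) (w : P), ((T ^ i) w : G) = xs ^ i * w * (xs ^ i)⁻¹ := by
    intro i w
    show (((MulAut.conjNormal xs : MulAut P) ^ i) w : G) = _
    rw [← map_pow, MulAut.conjNormal_apply]
  have hT1 : ∀ w : P, (T w : G) = xs * w * xs⁻¹ := fun w => MulAut.conjNormal_apply xs w
  have hPinv : ∀ (α : MulAut G) (y : G), α y ∈ P ↔ y ∈ P := by
    intro α y
    rw [hPmem, hPmem, ← map_pow, EmbeddingLike.map_eq_one_iff]
  have hc : P.IsComplement' (Subgroup.zpowers xs) :=
    Subgroup.isComplement'_of_coprime (by rw [hPcard, Nat.card_zpowers, hxs, hcard])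
      (by
        rw [hPcard, Nat.card_zpowers, hxs]
        exact Nat.Coprime.pow_left a ((Nat.coprime_primes hr.out hs.out).mpr hrs))
  have hfac : (Nat.card G).factorization s = 1 := by
    rw [hcard, Nat.factorization_mul (pow_ne_zero _ hr.out.ne_zero) hs.out.ne_zero,
      Nat.Prime.factorization_pow hr.out, Nat.Prime.factorization hs.out]
    simp [hrs]
  have key : ∀ (α : MulAut G) (i : ℕ), α xs = xs ^ i →
      ∀ w : P, restrictAut P α (hPinv α) (T w) = (T ^ i) (restrictAut P α (hPinv α) w) := by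
    intro α i hα w
    apply Subtype.ext
    rw [restrictAut_coe, hT1, hTpow, restrictAut_coe, map_mul, map_mul, map_inv, hα]
  refine orderOf_eq_of_transitive hrs T hTq hTfpf ?_ ?_
  · intro u v hu hv
    have hu1 : (u : G) ≠ 1 := fun h => hu (Subtype.ext h)
    have hv1 : (v : G) ≠ 1 := fun h => hv (Subtype.ext h)
    obtain ⟨α₀, hα₀⟩ := O2 u v ((hPord u u.2 hu1).trans (hPord v v.2 hv1).symm)
    have hx' : orderOf (α₀ xs) = s := by rw [MulEquiv.orderOf_eq, hxs]
    let Q1 : Sylow s G := Sylow.ofCard (Subgroup.zpowers (α₀ xs))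
      (by rw [Nat.card_zpowers, hx', hfac, pow_one])
    let Q2 : Sylow s G := Sylow.ofCard (Subgroup.zpowers xs)
      (by rw [Nat.card_zpowers, hxs, hfac, pow_one])
    obtain ⟨g, hg⟩ := MulAction.exists_smul_eq G Q1 Q2
    have hg1 : g * α₀ xs * g⁻¹ ∈ Subgroup.zpowers xs := by
      have h1 : MulAut.conj g • (α₀ xs) ∈ MulAut.conj g • (Q1 : Subgroup G) :=
        Subgroup.smul_mem_pointwise_smul _ _ _ (Subgroup.mem_zpowers (α₀ xs))
      rw [← Sylow.coe_subgroup_smul, hg] at h1
      exact h1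
    obtain ⟨⟨k, w⟩, hkw⟩ := hc.symm.2 g
    simp only at hkw
    have hw1 : (w : G) * α₀ xs * (w : G)⁻¹ ∈ Subgroup.zpowers xs := by
      have h2 : (w : G) * α₀ xs * (w : G)⁻¹ = (k : G)⁻¹ * (g * α₀ xs * g⁻¹) * k := by
        rw [← hkw]; group
      rw [h2]
      exact Subgroup.mul_mem _ (Subgroup.mul_mem _ (Subgroup.inv_mem _ k.2) hg1) k.2
    obtain ⟨i, hi⟩ := (mem_powers_iff_mem_zpowers (x := xs)).mpr hw1
    simp only at hi
    let β : MulAut G := MulAut.conj (w : G) * α₀
    have hβx : β xs = xs ^ i := by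
      show MulAut.conj (w : G) (α₀ xs) = _
      rw [MulAut.conj_apply, hi]
    have hβu : β u = v := by
      show MulAut.conj (w : G) (α₀ u) = _
      rw [MulAut.conj_apply, hα₀]
      have hcomm : (w : G) * v = v * w := by
        have := mul_comm' w v
        exact congrArg Subtype.val this
      rw [hcomm]; group
    refine ⟨restrictAut P β (hPinv β), i, key β i hβx, ?_⟩
    apply Subtype.ext
    rw [restrictAut_coe, hβu]
  · intro i hi0 his
    have hcop : (orderOf xs).Coprime i := by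
      rw [hxs]; exact Nat.coprime_of_lt_prime hi0.ne' his hs.out
    have hord : orderOf (xs ^ i) = s := by rw [hcop.orderOf_pow, hxs]
    obtain ⟨α, hα⟩ := O2 xs (xs ^ i) (by rw [hord, hxs])
    exact ⟨restrictAut P α (hPinv α), key α i hα⟩

end Forward

end Cfsg.Agent.Helper20.AutOrb
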