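import Mathlib
import Cfsg.Agent.Lib.Helper20.AutOrb7
import Cfsg.Agent.Lib.Helper20.AutOrb9

/-!
The forward direction of the "three orbits" theorem: assembling the structure.
-/

namespace Cfsg.Agent.Helper20.AutOrb

section Forward

variable {G : Type*} [Group G] [Finite G] {r s : ℕ} [hr : Fact r.Prime] [hs : Fact s.Prime]
  (hrs : r ≠ s)
  (O1 : ∀ g : G, orderOf g = 1 ∨ orderOf g = r ∨ orderOf g = s)
  (O2 : ∀ g h : G, orderOf g = orderOf h → ∃ α : MulAut G, α g = h)

include hrs O1 O2 in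
theorem structure_aux (a b : ℕ) (hcard : Nat.card G = r ^ a * s ^ b)
    (xs : G) (hxs : orderOf xs = s)
    (D : Subgroup G) (hDchar : D.Characteristic) (hDab : ∀ u ∈ D, ∀ v ∈ D, u * v = v * u)
    (d : G) (hdD : d ∈ D) (hd : orderOf d = r)
    (h41 : ∀ (A V : Subgroup G) [IsMulCommutative V], V ≠ ⊥ →
      A ≤ Subgroup.normalizer (V : Set G) →
      (∀ a ∈ A, a ≠ 1 → V ⊓ Subgroup.centralizer {a} = ⊥) →
      (∃ p q : ℕ, p.Prime ∧ q.Prime ∧ Nat.card A = p * q) → IsCyclic A) :
    1 ≤ a ∧ b = 1 ∧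
      (∀ S : Sylow r G, (S : Subgroup G).Normal ∧ IsMulCommutative (S : Subgroup G) ∧
        ∀ y ∈ (S : Subgroup G), y ^ r = 1) ∧
      orderOf ((r : ℕ) : ZMod s) = s - 1 ∧
      ∀ x y : G, orderOf x = s → orderOf y = r → x * y * x⁻¹ ≠ y := by
  have hall := torsion_mem_of_characteristic O2 D hDchar d hdD hd
  have hPn : (torSub r D hDab hall).Normal := ⟨fun y hy g => by
    show (g * y * g⁻¹) ^ r = 1
    have hy' : y ^ r = 1 := hy
    rw [conj_pow, hy', mul_one, mul_inv_cancel]⟩
  have hPab : IsMulCommutative (torSub r D hDab hall) :=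
    ⟨⟨fun u v => Subtype.ext (hDab u (hall u u.2) v (hall v v.2))⟩⟩
  have hd1 : d ≠ 1 := by
    intro h; rw [h, orderOf_one] at hd; exact hr.out.one_lt.ne hd
  have hdP : d ∈ torSub r D hDab hall := by
    show d ^ r = 1
    rw [← hd, pow_orderOf_eq_one]
  have hPne : torSub r D hDab hall ≠ ⊥ := by
    intro h
    rw [h, Subgroup.mem_bot] at hdP
    exact hd1 hdP
  have hSyl := sylow_eq_torSub hrs O1 D hDab hall
  have ha : 1 ≤ a := by
    by_contra ha
    have ha0 : a = 0 := by omega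
    rw [ha0, pow_zero, one_mul] at hcard
    have h1 : r ∣ s ^ b := by rw [← hcard, ← hd]; exact orderOf_dvd_natCard d
    have h2 := hr.out.dvd_of_dvd_pow h1
    exact hrs ((Nat.prime_dvd_prime_iff_eq hr.out hs.out).mp h2)
  have hb := exponent_eq_one hrs O1 a b hcard xs hxs (torSub r D hDab hall) hPne
    (fun g => Iff.rfl) h41
  have hcard' : Nat.card G = r ^ a * s := by rw [hcard, hb, pow_one]
  have hPcard : Nat.card (torSub r D hDab hall) = r ^ a := by
    let S : Sylow r G := default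
    rw [← hSyl S, Sylow.card_eq_multiplicity, hcard']
    congr 1
    rw [Nat.factorization_mul (pow_ne_zero _ hr.out.ne_zero) hs.out.ne_zero,
      Nat.Prime.factorization_pow hr.out, Nat.Prime.factorization hs.out]
    simp [hrs]
  have hprim := orderOf_eq_of_orbits hrs O1 O2 a hcard' xs hxs (torSub r D hDab hall) hPne
    (fun g => Iff.rfl) hPcard
  refine ⟨ha, hb, ?_, hprim, fun x y hx hy => fpf_of_orders hrs O1 x y hx hy⟩
  intro S
  rw [hSyl S]
  exact ⟨hPn, hPab, fun y hy => hy⟩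

end Forward

end Cfsg.Agent.Helper20.AutOrb
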