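import Mathlib
import Cfsg.Agent.Lib.Helper20.AutOrb10

/-!
The forward direction of the "three orbits" theorem: from the number of orbits to the structure.
-/

namespace Cfsg.Agent.Helper20.AutOrb

theorem exists_two_primes {n : ℕ} (hnpp : ¬ IsPrimePow n) (hnt : n ≠ 1) :
    ∃ p q : ℕ, p.Prime ∧ q.Prime ∧ p ≠ q ∧ p ∣ n ∧ q ∣ n := by
  obtain ⟨p, hp, hpn⟩ := Nat.exists_prime_and_dvd hnt
  rw [isPrimePow_iff_unique_prime_dvd] at hnpp
  by_contra hcon
  apply hnpp
  refine ⟨p, ⟨hp, hpn⟩, ?_⟩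
  rintro q ⟨hq, hqn⟩
  by_contra hne
  exact hcon ⟨p, q, hp, hq, fun h => hne h.symm, hpn, hqn⟩

theorem eq_pow_mul_pow {n p q : ℕ} (hn : n ≠ 0) (hp : p.Prime) (hq : q.Prime)
    (h : ∀ l : ℕ, l.Prime → l ∣ n → l = p ∨ l = q) : ∃ a b : ℕ, n = p ^ a * q ^ b := by
  obtain ⟨a, m, hpm, hnm⟩ := Nat.exists_eq_pow_mul_and_not_dvd hn p hp.ne_one
  have hm0 : m ≠ 0 := by rintro rfl; simp at hnm; exact hn hnm
  obtain ⟨b, m', hqm', hmm'⟩ := Nat.exists_eq_pow_mul_and_not_dvd hm0 q hq.ne_one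
  refine ⟨a, b, ?_⟩
  have hm'1 : m' = 1 := by
    by_contra hne
    obtain ⟨l, hl, hlm'⟩ := Nat.exists_prime_and_dvd hne
    have hlm : l ∣ m := by rw [hmm']; exact dvd_mul_of_dvd_right hlm' _
    have hln : l ∣ n := by rw [hnm]; exact dvd_mul_of_dvd_right hlm _
    rcases h l hl hln with rfl | rfl
    · exact hpm hlm
    · exact hqm' hlm'
  rw [hnm, hmm', hm'1, mul_one]

section Forward

variable {G : Type*} [Group G] [Finite G]

theorem forward (hnpp : ¬ IsPrimePow (Nat.card G)) (hnt : Nat.card G ≠ 1)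
    (h3 : Nat.card (MulAction.orbitRel.Quotient (MulAut G) G) = 3)
    (hBurnside : ∀ (p q a b : ℕ), p.Prime → q.Prime → Nat.card G = p ^ a * q ^ b →
      Group.IsSolvable G)
    (h41 : ∀ (A V : Subgroup G) [IsMulCommutative V], V ≠ ⊥ →
      A ≤ Subgroup.normalizer (V : Set G) →
      (∀ a ∈ A, a ≠ 1 → V ⊓ Subgroup.centralizer {a} = ⊥) →
      (∃ p q : ℕ, p.Prime ∧ q.Prime ∧ Nat.card A = p * q) → IsCyclic A) :
    ∃ (p q n : ℕ) (_ : Fact p.Prime) (_ : Fact q.Prime), p ≠ q ∧ 1 ≤ n ∧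
      Nat.card G = p ^ n * q ∧
      (∀ P : Sylow p G, (P : Subgroup G).Normal ∧ IsMulCommutative (P : Subgroup G) ∧
        ∀ y ∈ (P : Subgroup G), y ^ p = 1) ∧
      orderOf ((p : ℕ) : ZMod q) = q - 1 ∧
      ∀ x y : G, orderOf x = q → orderOf y = p → x * y * x⁻¹ ≠ y := by
  obtain ⟨p, q, hp, hq, hpq, hpn, hqn⟩ := exists_two_primes hnpp hnt
  haveI : Fact p.Prime := ⟨hp⟩
  haveI : Fact q.Prime := ⟨hq⟩
  obtain ⟨a0, ha0⟩ := exists_prime_orderOf_dvd_card' p hpn
  obtain ⟨b0, hb0⟩ := exists_prime_orderOf_dvd_card' q hqn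
  have hp2 := hp.two_le
  have hq2 := hq.two_le
  -- orbits
  have hord_of_mk : ∀ g h : G,
      (Quotient.mk'' g : MulAction.orbitRel.Quotient (MulAut G) G) = Quotient.mk'' h →
      orderOf g = orderOf h := by
    intro g h hgh
    obtain ⟨α, hα⟩ := (orbit_mk_eq_iff g h).mp hgh
    rw [← hα, MulEquiv.orderOf_eq]
  have cov : ∀ g : G, (∃ α : MulAut G, α 1 = g) ∨ (∃ α : MulAut G, α a0 = g) ∨
      (∃ α : MulAut G, α b0 = g) := by
    classical
    letI := Fintype.ofFinite (MulAction.orbitRel.Quotient (MulAut G) G)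
    rw [Nat.card_eq_fintype_card] at h3
    let c1 : MulAction.orbitRel.Quotient (MulAut G) G := Quotient.mk'' 1
    let ca : MulAction.orbitRel.Quotient (MulAut G) G := Quotient.mk'' a0
    let cb : MulAction.orbitRel.Quotient (MulAut G) G := Quotient.mk'' b0
    have h1a : c1 ≠ ca := by
      intro h
      have := hord_of_mk 1 a0 h
      rw [orderOf_one, ha0] at this; omega
    have h1b : c1 ≠ cb := by
      intro h
      have := hord_of_mk 1 b0 h
      rw [orderOf_one, hb0] at this; omega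
    have hab : ca ≠ cb := by
      intro h
      have := hord_of_mk a0 b0 h
      rw [ha0, hb0] at this; exact hpq this
    have hcard : ({c1, ca, cb} : Finset _).card = 3 := by
      rw [Finset.card_insert_of_notMem, Finset.card_insert_of_notMem, Finset.card_singleton]
      · simpa using hab
      · simp [h1a, h1b]
    have huniv := Finset.eq_univ_of_card _ (hcard.trans h3.symm)
    intro g
    have hg : (Quotient.mk'' g : MulAction.orbitRel.Quotient (MulAut G) G) ∈
        ({c1, ca, cb} : Finset _) := by rw [huniv]; exact Finset.mem_univ _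
    simp only [Finset.mem_insert, Finset.mem_singleton] at hg
    rcases hg with h | h | h
    · left; exact (orbit_mk_eq_iff g 1).mp h
    · right; left; exact (orbit_mk_eq_iff g a0).mp h
    · right; right; exact (orbit_mk_eq_iff g b0).mp h
  have O1 : ∀ g : G, orderOf g = 1 ∨ orderOf g = p ∨ orderOf g = q := by
    intro g
    rcases cov g with ⟨α, hα⟩ | ⟨α, hα⟩ | ⟨α, hα⟩
    · left; rw [← hα, MulEquiv.orderOf_eq, orderOf_one]
    · right; left; rw [← hα, MulEquiv.orderOf_eq, ha0]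
    · right; right; rw [← hα, MulEquiv.orderOf_eq, hb0]
  have cov1 : ∀ g : G, orderOf g = 1 → ∃ α : MulAut G, α 1 = g := by
    intro g hg
    exact ⟨1, by rw [orderOf_eq_one_iff.mp hg]; rfl⟩
  have covp : ∀ g : G, orderOf g = p → ∃ α : MulAut G, α a0 = g := by
    intro g hg
    rcases cov g with ⟨α, hα⟩ | ⟨α, hα⟩ | ⟨α, hα⟩
    · exfalso; rw [← hα, MulEquiv.orderOf_eq, orderOf_one] at hg; omega
    · exact ⟨α, hα⟩
    · exfalso; rw [← hα, MulEquiv.orderOf_eq, hb0] at hg; exact hpq hg.symm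
  have covq : ∀ g : G, orderOf g = q → ∃ α : MulAut G, α b0 = g := by
    intro g hg
    rcases cov g with ⟨α, hα⟩ | ⟨α, hα⟩ | ⟨α, hα⟩
    · exfalso; rw [← hα, MulEquiv.orderOf_eq, orderOf_one] at hg; omega
    · exfalso; rw [← hα, MulEquiv.orderOf_eq, ha0] at hg; exact hpq hg
    · exact ⟨α, hα⟩
  have O2 : ∀ g h : G, orderOf g = orderOf h → ∃ α : MulAut G, α g = h := by
    intro g h hgh
    have combine : ∀ c : G, (∃ α : MulAut G, α c = g) → (∃ α : MulAut G, α c = h) →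
        ∃ α : MulAut G, α g = h := by
      rintro c ⟨α, hα⟩ ⟨β, hβ⟩
      refine ⟨β * α⁻¹, ?_⟩
      rw [MulAut.mul_apply, ← hα, MulAut.inv_apply_self, hβ]
    rcases O1 g with hg | hg | hg
    · exact combine 1 (cov1 g hg) (cov1 h (hgh ▸ hg))
    · exact combine a0 (covp g hg) (covp h (hgh ▸ hg))
    · exact combine b0 (covq g hg) (covq h (hgh ▸ hg))
  have O1' : ∀ g : G, orderOf g = 1 ∨ orderOf g = q ∨ orderOf g = p := by
    intro g; rcases O1 g with h | h | h
    · exact Or.inl h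
    · exact Or.inr (Or.inr h)
    · exact Or.inr (Or.inl h)
  -- the order
  have hn0 : Nat.card G ≠ 0 := Nat.card_pos.ne'
  have hprimes : ∀ l : ℕ, l.Prime → l ∣ Nat.card G → l = p ∨ l = q := by
    intro l hl hln
    haveI : Fact l.Prime := ⟨hl⟩
    obtain ⟨c, hc⟩ := exists_prime_orderOf_dvd_card' l hln
    rcases O1 c with h | h | h
    · exfalso; rw [hc] at h; exact hl.one_lt.ne' h
    · left; rw [← hc, h]
    · right; rw [← hc, h]
  obtain ⟨a, b, hcard⟩ := eq_pow_mul_pow hn0 hp hq hprimes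
  have hsolv : Group.IsSolvable G := hBurnside p q a b hp hq hcard
  -- the last nontrivial term of the derived series
  obtain ⟨k, hk⟩ := (Group.isSolvable_def G).mp hsolv
  haveI : Nontrivial G := by
    rw [← Finite.one_lt_card_iff_nontrivial]
    have := Nat.card_pos (α := G)
    omega
  classical
  let k0 := Nat.find (⟨k, hk⟩ : ∃ n, derivedSeries G n = ⊥)
  have hk0 : derivedSeries G k0 = ⊥ := Nat.find_spec (⟨k, hk⟩ : ∃ n, derivedSeries G n = ⊥)
  have hk0pos : k0 ≠ 0 := by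
    intro h
    rw [h, derivedSeries_zero] at hk0
    exact top_ne_bot hk0
  obtain ⟨j, hj⟩ := Nat.exists_eq_succ_of_ne_zero hk0pos
  have hDne : derivedSeries G j ≠ ⊥ := by
    intro h
    have := Nat.find_min' (⟨k, hk⟩ : ∃ n, derivedSeries G n = ⊥) h
    change k0 ≤ j at this
    omega
  have hDab : ∀ u ∈ derivedSeries G j, ∀ v ∈ derivedSeries G j, u * v = v * u := by
    intro u hu v hv
    have h1 : ⁅derivedSeries G j, derivedSeries G j⁆ = ⊥ := by
      rw [← derivedSeries_succ, ← Nat.succ_eq_add_one, ← hj]; exact hk0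
    rw [Subgroup.commutator_eq_bot_iff_le_centralizer] at h1
    exact ((Subgroup.mem_centralizer_iff.mp (h1 hu)) v hv).symm
  obtain ⟨⟨d, hdD⟩, hd1⟩ := Subgroup.ne_bot_iff_exists_ne_one.mp hDne
  have hd1' : d ≠ 1 := fun h => hd1 (Subtype.ext h)
  have hDchar := derivedSeries_characteristic G j
  rcases O1 d with h | h | h
  · exact absurd (orderOf_eq_one_iff.mp h) hd1'
  · obtain ⟨ha, hb, hS, hprim, hf⟩ := structure_aux hpq O1 O2 a b hcard b0 hb0
      (derivedSeries G j) hDchar hDab d hdD h h41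
    refine ⟨p, q, a, ⟨hp⟩, ⟨hq⟩, hpq, ha, ?_, hS, hprim, hf⟩
    rw [hcard, hb, pow_one]
  · have hcard2 : Nat.card G = q ^ b * p ^ a := by rw [hcard, mul_comm]
    obtain ⟨hb', ha', hS, hprim, hf⟩ := structure_aux (Ne.symm hpq) O1' O2 b a hcard2 a0 ha0
      (derivedSeries G j) hDchar hDab d hdD h h41
    refine ⟨q, p, b, ⟨hq⟩, ⟨hp⟩, Ne.symm hpq, hb', ?_, hS, hprim, hf⟩
    rw [hcard2, ha', pow_one]

end Forward

end Cfsg.Agent.Helper20.AutOrb
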