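import Mathlib

set_option autoImplicit false

namespace Cfsg.Agent.Helper20

variable {G : Type*} [Group G]

/-- `|N_G(H) : C_G(H)|` is the order of the group of automorphisms of `H` induced by `G`. -/
theorem relIndex_centralizer_normalizer (H : Subgroup G) :
    (Subgroup.centralizer (H : Set G)).relIndex (Subgroup.normalizer (H : Set G)) =
      Nat.card H.normalizerMonoidHom.range := by
  rw [← Subgroup.index_ker, Subgroup.normalizerMonoidHom_ker]
  rfl

/-- `2` divides `|N_G(H) : C_G(H)|` iff some element of `N_G(H) ∖ C_G(H)` has its square in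
`C_G(H)`. -/
theorem two_dvd_relIndex_iff [Finite G] (H : Subgroup G) :
    2 ∣ (Subgroup.centralizer (H : Set G)).relIndex (Subgroup.normalizer (H : Set G)) ↔
      ∃ g ∈ Subgroup.normalizer (H : Set G), g ∉ Subgroup.centralizer (H : Set G) ∧
        g * g ∈ Subgroup.centralizer (H : Set G) := by
  have hp2 : Fact (Nat.Prime 2) := ⟨Nat.prime_two⟩
  rw [relIndex_centralizer_normalizer]
  have hker : ∀ g : Subgroup.normalizer (H : Set G),
      H.normalizerMonoidHom g = 1 ↔ (g : G) ∈ Subgroup.centralizer (H : Set G) := by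
    intro g
    rw [← MonoidHom.mem_ker, Subgroup.normalizerMonoidHom_ker]
    rfl
  constructor
  · intro h2
    obtain ⟨α, hα⟩ := exists_prime_orderOf_dvd_card' 2 h2
    obtain ⟨g, hg⟩ := α.2
    have hα' : orderOf (α : MulAut H) = 2 := by rw [Subgroup.orderOf_coe]; exact hα
    refine ⟨(g : G), g.2, ?_, ?_⟩
    · rw [← hker, hg]
      intro h1
      rw [h1, orderOf_one] at hα'
      omega
    · have : H.normalizerMonoidHom (g * g) = 1 := by
        rw [map_mul, hg, ← pow_two, ← hα']
        exact pow_orderOf_eq_one _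
      exact (hker (g * g)).mp this
  · rintro ⟨g, hgN, hgC, hggC⟩
    set α := H.normalizerMonoidHom ⟨g, hgN⟩ with hα
    have h1 : α ≠ 1 := fun h => hgC ((hker ⟨g, hgN⟩).mp h)
    have h2 : α ^ 2 = 1 := by
      rw [pow_two, hα, ← map_mul]
      exact (hker (⟨g, hgN⟩ * ⟨g, hgN⟩)).mpr hggC
    have h3 : orderOf α = 2 := orderOf_eq_prime h2 h1
    have h4 : orderOf (⟨α, ⟨⟨g, hgN⟩, rfl⟩⟩ : H.normalizerMonoidHom.range) = 2 := by
      rw [← Subgroup.orderOf_coe]
      exact h3
    rw [← h4]
    exact orderOf_dvd_natCard _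

end Cfsg.Agent.Helper20
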