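import Mathlib
import Cfsg.Prelude.Def_OddOrderLocal
import Cfsg.Agent.Lib.Helper20.BG12C

/-!
# BG Corollary 12.10 / Lemma 12.12 type facts (helper20)

`main`: the statement of S1420, assuming (for the fixed group `G`) the Uniqueness Theorem (S1403)
and the statements S1350, S1404, S1415, S1416, S1417, S1418.
-/

set_option autoImplicit false

namespace Cfsg.Agent.Helper20.BG12

open Cfsg
open scoped commutatorElement

universe u

variable {G : Type u} [Group G] [Finite G]

theorem main (hG : IsMinSimpleOddOrder G) (hU : Cfsg.Agent.Helper23.BG10.UniqThm G)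
    (h1350 : H1350 G) (h1404 : H1404 G) (h1415 : H1415 G) (h1416 : H1416 G) (h1417 : H1417 G)
    (h1418 : H1418 G)
    (M : Subgroup G) (hM : IsCoatom M) (E : Subgroup G) (hE : IsComplIn E (sigmaCore M) M) :
    (∀ N : Subgroup G, N ≤ M → Group.IsNilpotent N →
        (∀ p : ℕ, p.Prime → p ∣ Nat.card N → p ∉ sigma M) → IsMulCommutative N) ∧
      IsMulCommutative ↥⁅E, E⁆ ∧
      (∀ (p : ℕ) (P : Subgroup G), p ∈ sigma M → IsPGroup p P → P ≤ M → ¬ IsCyclic P →
        Subgroup.normalizer (P : Set G) ≤ M) ∧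
      ∀ x ∈ M, x ≠ 1 → (∀ p : ℕ, p.Prime → p ∣ orderOf x → p ∈ tau2 M) → x ∈ sigmaHat M →
        Subgroup.centralizer ({x} : Set G) ≤ M ∧
          ∀ L : Subgroup G, IsCoatom L → Subgroup.centralizer ({x} : Set G) ≤ L → L = M := by
  have hασ : alpha M ⊆ sigma M := Cfsg.Agent.Helper23.BG10.alpha_subset_sigma hG hU hM
  refine ⟨?_, ?_, ?_, ?_⟩
  · intro N hNM hnil hp
    exact partA hG hM hασ h1417 hNM hnil hp
  · exact partB hG hM hασ h1350 h1415 h1417 hE
  · intro p P hp hP hPM hnc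
    exact partC hG hM h1404 h1416 hp hP hPM hnc
  · intro x hxM hx1 hτ hxσ
    exact partD hG hM hασ h1350 h1417 h1418 hE hxM hx1 hτ hxσ

end Cfsg.Agent.Helper20.BG12
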