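import Mathlib
import Cfsg.Agent.Lib.Helper19.PGroupBasic

set_option autoImplicit false

namespace Cfsg.Agent.Helper20

open Finset

/-- class two power formula -/
theorem mul_pow_of_comm {G : Type*} [Group G] (x e c : G) (hex : e * x = x * e * c)
    (hcx : Commute c x) (hce : Commute c e) (n : ℕ) :
    (x * e) ^ n = x ^ n * e ^ n * c ^ (∑ i ∈ range n, i) := by
  have h1 : ∀ k : ℕ, e ^ k * x = x * e ^ k * c ^ k := by
    intro k
    induction k with
    | zero => simp
    | succ k ih =>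
      calc e ^ (k + 1) * x = e ^ k * (e * x) := by rw [pow_succ, mul_assoc]
        _ = e ^ k * (x * e * c) := by rw [hex]
        _ = (e ^ k * x) * (e * c) := by simp only [mul_assoc]
        _ = (x * e ^ k * c ^ k) * (e * c) := by rw [ih]
        _ = x * e ^ k * (c ^ k * e) * c := by simp only [mul_assoc]
        _ = x * e ^ k * (e * c ^ k) * c := by rw [(hce.pow_left k).eq]
        _ = x * (e ^ k * e) * (c ^ k * c) := by simp only [mul_assoc]
        _ = x * e ^ (k + 1) * c ^ (k + 1) := by rw [← pow_succ, ← pow_succ]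
  induction n with
  | zero => simp
  | succ n ih =>
    have hcx' : ∀ j : ℕ, c ^ j * x = x * c ^ j := fun j => (hcx.pow_left j).eq
    have hce' : ∀ j : ℕ, c ^ j * e = e * c ^ j := fun j => (hce.pow_left j).eq
    calc (x * e) ^ (n + 1) = (x * e) ^ n * (x * e) := pow_succ _ _
      _ = x ^ n * e ^ n * c ^ (∑ i ∈ range n, i) * (x * e) := by rw [ih]
      _ = x ^ n * e ^ n * (c ^ (∑ i ∈ range n, i) * x) * e := by simp only [mul_assoc]
      _ = x ^ n * e ^ n * (x * c ^ (∑ i ∈ range n, i)) * e := by rw [hcx']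
      _ = x ^ n * (e ^ n * x) * (c ^ (∑ i ∈ range n, i) * e) := by simp only [mul_assoc]
      _ = x ^ n * (x * e ^ n * c ^ n) * (e * c ^ (∑ i ∈ range n, i)) := by rw [h1, hce']
      _ = x ^ n * x * e ^ n * (c ^ n * e) * c ^ (∑ i ∈ range n, i) := by simp only [mul_assoc]
      _ = x ^ n * x * e ^ n * (e * c ^ n) * c ^ (∑ i ∈ range n, i) := by rw [hce']
      _ = (x ^ n * x) * (e ^ n * e) * (c ^ n * c ^ (∑ i ∈ range n, i)) := by
          simp only [mul_assoc]
      _ = x ^ (n + 1) * e ^ (n + 1) * c ^ (∑ i ∈ range (n + 1), i) := by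
          rw [← pow_succ, ← pow_succ, ← pow_add, Finset.sum_range_succ,
            Nat.add_comm n (∑ i ∈ range n, i)]

theorem prime_dvd_sum_range {p : ℕ} (hp : p.Prime) (hp2 : p ≠ 2) : p ∣ ∑ i ∈ range p, i := by
  have h := Finset.sum_range_id_mul_two p
  have h1 : p ∣ (∑ i ∈ range p, i) * 2 := by rw [h]; exact dvd_mul_right p (p - 1)
  have hcop : Nat.Coprime p 2 := (Nat.coprime_primes hp Nat.prime_two).mpr hp2
  exact hcop.dvd_of_dvd_mul_right h1

variable {P : Type*} [Group P] [Finite P] {p : ℕ} [Fact p.Prime]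

/-- in a `p`-group, commutators with a normal subgroup of order `p^2` are central -/
theorem comm_mem_center_of_card_sq (hP : IsPGroup p P) (E : Subgroup P) [E.Normal]
    (hE : Nat.card E = p ^ 2) {e : P} (he : e ∈ E) (x : P) :
    e⁻¹ * x⁻¹ * e * x ∈ Subgroup.center P := by
  have hp : p.Prime := Fact.out
  set Z0 : Subgroup P := E ⊓ Subgroup.center P with hZ0
  haveI : Z0.Normal := by rw [hZ0]; infer_instance
  have hEne : E ≠ ⊥ := by
    intro h
    rw [h, Subgroup.card_bot] at hE
    have := Nat.one_lt_pow (n := 2) (by norm_num) hp.one_lt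
    omega
  have hZ0ne : Z0 ≠ ⊥ := Cfsg.Agent.Helper19.normal_inf_center_ne_bot hP E hEne
  have hcE : e⁻¹ * x⁻¹ * e * x ∈ E := by
    have h1 : x⁻¹ * e * x ∈ E := by
      have := Subgroup.Normal.conj_mem (inferInstance : E.Normal) e he x⁻¹
      simpa using this
    have h2 := mul_mem (inv_mem he) h1
    have : e⁻¹ * (x⁻¹ * e * x) = e⁻¹ * x⁻¹ * e * x := by group
    rwa [this] at h2
  by_cases hZE : Z0 = E
  · have : E ≤ Subgroup.center P := by rw [← hZE, hZ0]; exact inf_le_right
    exact this hcE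
  -- card Z0 = p
  have hZ0le : Z0 ≤ E := inf_le_left
  have hZ0card : Nat.card Z0 = p := by
    have hd : Nat.card Z0 ∣ p ^ 2 := hE ▸ Subgroup.card_dvd_of_le hZ0le
    obtain ⟨k, hk, hkc⟩ := (Nat.dvd_prime_pow hp).mp hd
    interval_cases k
    · exfalso
      rw [pow_zero] at hkc
      exact hZ0ne (Subgroup.card_eq_one.mp hkc)
    · rw [hkc, pow_one]
    · exfalso
      apply hZE
      exact Subgroup.eq_of_le_of_card_ge hZ0le (by rw [hE, hkc])
  -- the image of E in P ⧸ Z0 has order p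
  set φ : E →* P ⧸ Z0 := (QuotientGroup.mk' Z0).comp E.subtype with hφ
  have hker : Nat.card φ.ker = p := by
    rw [← hZ0card]
    apply Nat.card_congr
    refine ⟨fun k => ⟨(k : E), ?_⟩, fun z => ⟨⟨(z : P), hZ0le z.2⟩, ?_⟩, ?_, ?_⟩
    · have h2 : (QuotientGroup.mk' Z0) ((k : E) : P) = 1 := k.2
      rw [QuotientGroup.mk'_apply, QuotientGroup.eq_one_iff] at h2
      exact h2
    · rw [MonoidHom.mem_ker]
      change (QuotientGroup.mk' Z0) (z : P) = 1
      rw [QuotientGroup.mk'_apply, QuotientGroup.eq_one_iff]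
      exact z.2
    · intro k; rfl
    · intro z; rfl
  have hrange : Nat.card φ.range = p := by
    have h1 : Nat.card (E ⧸ φ.ker) = Nat.card φ.range :=
      Nat.card_congr (QuotientGroup.quotientKerEquivRange φ).toEquiv
    have h2 := Subgroup.card_eq_card_quotient_mul_card_subgroup φ.ker
    rw [hE, hker, h1] at h2
    have : Nat.card φ.range * p = p * p := by rw [← h2, sq]
    exact Nat.eq_of_mul_eq_mul_right hp.pos this
  have hrange_eq : φ.range = E.map (QuotientGroup.mk' Z0) := by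
    rw [hφ, MonoidHom.range_comp, Subgroup.range_subtype]
  haveI : (E.map (QuotientGroup.mk' Z0)).Normal :=
    Subgroup.Normal.map inferInstance _ (QuotientGroup.mk'_surjective Z0)
  have hPq : IsPGroup p (P ⧸ Z0) := hP.to_quotient Z0
  have hcen : E.map (QuotientGroup.mk' Z0) ≤ Subgroup.center (P ⧸ Z0) :=
    Cfsg.Agent.Helper19.normal_card_prime_le_center hPq _ (by rw [← hrange_eq]; exact hrange)
  have hemem : (QuotientGroup.mk' Z0) e ∈ Subgroup.center (P ⧸ Z0) :=
    hcen (Subgroup.mem_map_of_mem _ he)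
  have hcomm := Subgroup.mem_center_iff.mp hemem ((QuotientGroup.mk' Z0) x)
  have h1 : (QuotientGroup.mk' Z0) (e⁻¹ * x⁻¹ * e * x) = 1 := by
    rw [map_mul, map_mul, map_mul, map_inv, map_inv]
    calc ((QuotientGroup.mk' Z0) e)⁻¹ * ((QuotientGroup.mk' Z0) x)⁻¹ * (QuotientGroup.mk' Z0) e *
          (QuotientGroup.mk' Z0) x
        = ((QuotientGroup.mk' Z0) e)⁻¹ * ((QuotientGroup.mk' Z0) x)⁻¹ *
          ((QuotientGroup.mk' Z0) e * (QuotientGroup.mk' Z0) x) := by simp only [mul_assoc]
      _ = ((QuotientGroup.mk' Z0) e)⁻¹ * ((QuotientGroup.mk' Z0) x)⁻¹ *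
          ((QuotientGroup.mk' Z0) x * (QuotientGroup.mk' Z0) e) := by rw [hcomm]
      _ = 1 := by group
  rw [QuotientGroup.mk'_apply, QuotientGroup.eq_one_iff] at h1
  exact (inf_le_right : Z0 ≤ Subgroup.center P) h1

/-- multiplying by an element of a normal elementary abelian subgroup of order `p^2` does not
change the `p`-th power (odd `p`) -/
theorem mul_pow_eq_pow (hp2 : p ≠ 2) (hP : IsPGroup p P) (E : Subgroup P) [E.Normal]
    (hE : Nat.card E = p ^ 2) (hEc : ∀ a ∈ E, ∀ b ∈ E, a * b = b * a) (hEp : ∀ a ∈ E, a ^ p = 1)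
    (x : P) {e : P} (he : e ∈ E) : (x * e) ^ p = x ^ p := by
  have hp : p.Prime := Fact.out
  set c : P := e⁻¹ * x⁻¹ * e * x with hc
  have hcen : c ∈ Subgroup.center P := comm_mem_center_of_card_sq hP E hE he x
  have hcE : c ∈ E := by
    have h1 : x⁻¹ * e * x ∈ E := by
      have := Subgroup.Normal.conj_mem (inferInstance : E.Normal) e he x⁻¹
      simpa using this
    have h2 := mul_mem (inv_mem he) h1
    have : e⁻¹ * (x⁻¹ * e * x) = e⁻¹ * x⁻¹ * e * x := by group
    rwa [this] at h2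
  have hex : e * x = x * e * c := by rw [hc]; group
  have hcx : Commute c x := (Subgroup.mem_center_iff.mp hcen x).symm
  have hce : Commute c e := (Subgroup.mem_center_iff.mp hcen e).symm
  rw [mul_pow_of_comm x e c hex hcx hce p, hEp e he, mul_one]
  obtain ⟨k, hk⟩ := prime_dvd_sum_range hp hp2
  rw [hk, pow_mul, hEp c hcE, one_pow, mul_one]

/-- the number of `p`-th roots of any element is divisible by `p^2` -/
theorem sq_dvd_card_roots (hp2 : p ≠ 2) (hP : IsPGroup p P) (E : Subgroup P) [E.Normal]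
    (hE : Nat.card E = p ^ 2) (hEc : ∀ a ∈ E, ∀ b ∈ E, a * b = b * a) (hEp : ∀ a ∈ E, a ^ p = 1)
    (z : P) : p ^ 2 ∣ Nat.card {x : P // x ^ p = z} := by
  classical
  haveI := Fintype.ofFinite P
  rw [Nat.card_eq_fintype_card, Fintype.card_subtype]
  set X : Finset P := univ.filter (fun x : P => x ^ p = z) with hX
  rw [Finset.card_eq_sum_card_image (fun x : P => (x : P ⧸ E)) X]
  apply Finset.dvd_sum
  intro q hq
  obtain ⟨x0, hx0, rfl⟩ := Finset.mem_image.mp hq
  have hx0z : x0 ^ p = z := (Finset.mem_filter.mp hx0).2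
  rw [← hE, Nat.card_eq_fintype_card, ← Finset.card_univ]
  apply dvd_of_eq
  apply Finset.card_bij (fun (e : E) _ => x0 * (e : P))
  · intro e _
    rw [Finset.mem_filter, hX, Finset.mem_filter]
    refine ⟨⟨Finset.mem_univ _, ?_⟩, ?_⟩
    · rw [mul_pow_eq_pow hp2 hP E hE hEc hEp x0 e.2, hx0z]
    · rw [QuotientGroup.eq]
      simp
  · intro a _ b _ hab
    exact Subtype.ext (mul_left_cancel hab)
  · intro x hx
    rw [Finset.mem_filter] at hx
    have hxe : x0⁻¹ * x ∈ E := by
      have := hx.2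
      rw [eq_comm, QuotientGroup.eq] at this
      exact this
    exact ⟨⟨x0⁻¹ * x, hxe⟩, Finset.mem_univ _, by simp⟩

end Cfsg.Agent.Helper20
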