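import Mathlib
import Cfsg.Agent.S0126
import Cfsg.Agent.Lib.Helper20.KulA

set_option autoImplicit false

namespace Cfsg.Agent.Helper20

open Finset

section general

variable {G : Type*} [Group G] [Fintype G] [DecidableEq G]

/-- the generators of a cyclic subgroup of order `d` -/
theorem card_filter_zpowers_eq (d : ℕ) (x₀ : G) (hox₀ : orderOf x₀ = d)
    [DecidablePred fun x : G => Subgroup.zpowers x = Subgroup.zpowers x₀] :
    ((univ.filter (fun x : G => orderOf x = d)).filter
      (fun x => Subgroup.zpowers x = Subgroup.zpowers x₀)).card = Nat.totient d := by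
  have hcardC : Fintype.card (Subgroup.zpowers x₀) = d := by
    rw [← Nat.card_eq_fintype_card, Nat.card_zpowers, hox₀]
  have hcyc : IsCyclic (Subgroup.zpowers x₀) := inferInstance
  have h1 : (univ.filter (fun g : Subgroup.zpowers x₀ => orderOf g = d)).card = d.totient :=
    IsCyclic.card_orderOf_eq_totient (by rw [hcardC])
  rw [← h1]
  symm
  apply Finset.card_bij (fun (g : Subgroup.zpowers x₀) _ => (g : G))
  · intro g hg
    have hog : orderOf g = d := (Finset.mem_filter.mp hg).2
    have hog' : orderOf (g : G) = d := by rw [Subgroup.orderOf_coe]; exact hog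
    rw [Finset.mem_filter, Finset.mem_filter]
    refine ⟨⟨Finset.mem_univ _, hog'⟩, ?_⟩
    apply Subgroup.eq_of_le_of_card_ge
    · rw [Subgroup.zpowers_le]
      exact g.2
    · rw [Nat.card_zpowers, Nat.card_zpowers, hog', hox₀]
  · intro a _ b _ hab
    exact Subtype.ext hab
  · intro x hx
    rw [Finset.mem_filter, Finset.mem_filter] at hx
    obtain ⟨⟨-, hox⟩, hzx⟩ := hx
    have hxC : x ∈ Subgroup.zpowers x₀ := by rw [← hzx]; exact Subgroup.mem_zpowers x
    refine ⟨⟨x, hxC⟩, ?_, rfl⟩
    rw [Finset.mem_filter]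
    refine ⟨Finset.mem_univ _, ?_⟩
    rw [← Subgroup.orderOf_coe]
    exact hox

/-- weighted version of `φ(d) ∣ #{x : orderOf x = d}` -/
theorem totient_mul_dvd_sum (d c : ℕ) (f : G → ℕ)
    (hinv : ∀ x y : G, orderOf x = d → orderOf y = d →
      Subgroup.zpowers x = Subgroup.zpowers y → f x = f y)
    (hc : ∀ x : G, orderOf x = d → c ∣ f x) :
    Nat.totient d * c ∣ ∑ x ∈ univ.filter (fun x : G => orderOf x = d), f x := by
  classical
  set X : Finset G := univ.filter (fun x : G => orderOf x = d) with hX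
  rw [← Finset.sum_fiberwise_of_maps_to (s := X) (t := X.image (fun x => Subgroup.zpowers x))
    (g := fun x => Subgroup.zpowers x) (fun x hx => Finset.mem_image_of_mem _ hx)]
  apply Finset.dvd_sum
  intro C hC
  obtain ⟨x₀, hx₀, rfl⟩ := Finset.mem_image.mp hC
  have hox₀ : orderOf x₀ = d := (Finset.mem_filter.mp hx₀).2
  have h1 : ∑ x ∈ X.filter (fun x => Subgroup.zpowers x = Subgroup.zpowers x₀), f x
      = ∑ x ∈ X.filter (fun x => Subgroup.zpowers x = Subgroup.zpowers x₀), f x₀ := by
    apply Finset.sum_congr rfl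
    intro x hx
    rw [Finset.mem_filter] at hx
    exact hinv x x₀ (Finset.mem_filter.mp hx.1).2 hox₀ hx.2
  rw [h1, Finset.sum_const, smul_eq_mul, hX, card_filter_zpowers_eq d x₀ hox₀]
  exact Nat.mul_dvd_mul_left _ (hc x₀ hox₀)

end general

section pgroup

variable {P : Type*} [Group P] [Finite P] {p : ℕ} [Fact p.Prime]

theorem orderOf_pow_prime_iff (hP : IsPGroup p P) (x : P) (s : ℕ) (hs : 2 ≤ s) :
    orderOf x = p ^ s ↔ orderOf (x ^ p) = p ^ (s - 1) := by
  have hp : p.Prime := Fact.out
  obtain ⟨j, hj⟩ := (IsPGroup.iff_orderOf.mp hP) x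
  have hpow : orderOf (x ^ p) = orderOf x / Nat.gcd (orderOf x) p := orderOf_pow' x hp.ne_zero
  constructor
  · intro h
    rw [hpow, h]
    have hgcd : Nat.gcd (p ^ s) p = p := Nat.gcd_eq_right (dvd_pow_self p (by omega))
    rw [hgcd]
    have : p ^ s = p ^ (s - 1) * p := by rw [← pow_succ]; congr 1; omega
    rw [this, Nat.mul_div_cancel _ hp.pos]
  · intro h
    rw [hpow, hj] at h
    rcases Nat.eq_zero_or_pos j with hj0 | hj0
    · exfalso
      rw [hj0, pow_zero, Nat.gcd_one_left, Nat.div_one] at h
      have : 1 < p ^ (s - 1) := Nat.one_lt_pow (by omega) hp.one_lt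
      omega
    · have hgcd : Nat.gcd (p ^ j) p = p := Nat.gcd_eq_right (dvd_pow_self p (by omega))
      rw [hgcd] at h
      have h2 : p ^ j = p ^ (j - 1) * p := by rw [← pow_succ]; congr 1; omega
      rw [h2, Nat.mul_div_cancel _ hp.pos] at h
      have h3 : j - 1 = s - 1 := Nat.pow_right_injective hp.two_le h
      rw [hj]
      congr 1
      omega

theorem card_roots_pow_coprime [Fintype P] [DecidableEq P] (z : P) (k : ℕ)
    (hk : (Nat.card P).Coprime k) :
    (univ.filter (fun x : P => x ^ p = z ^ k)).card = (univ.filter (fun x : P => x ^ p = z)).card := by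
  symm
  apply Finset.card_bij (fun x _ => x ^ k)
  · intro x hx
    rw [Finset.mem_filter] at hx ⊢
    refine ⟨Finset.mem_univ _, ?_⟩
    rw [← pow_mul, mul_comm, pow_mul, hx.2]
  · intro a _ b _ hab
    exact (powCoprime hk).injective hab
  · intro w hw
    rw [Finset.mem_filter] at hw
    refine ⟨(powCoprime hk).symm w, ?_, ?_⟩
    · rw [Finset.mem_filter]
      refine ⟨Finset.mem_univ _, ?_⟩
      apply (powCoprime hk).injective
      change (((powCoprime hk).symm w) ^ p) ^ k = z ^ k
      rw [← pow_mul, mul_comm, pow_mul]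
      have : ((powCoprime hk).symm w) ^ k = w := (powCoprime hk).apply_symm_apply w
      rw [this, hw.2]
    · exact (powCoprime hk).apply_symm_apply w

/-- Kulakoff-type: in a noncyclic `p`-group of odd order the number of elements of order `p^s`,
`s ≥ 2`, is divisible by `p^s`. -/
theorem pow_dvd_card_orderOf_of_isPGroup (hp2 : p ≠ 2) (hP : IsPGroup p P) (hnc : ¬ IsCyclic P)
    (s : ℕ) (hs : 2 ≤ s) : p ^ s ∣ Nat.card {x : P // orderOf x = p ^ s} := by
  classical
  haveI := Fintype.ofFinite P
  have hp : p.Prime := Fact.out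
  obtain ⟨E, hEn, ⟨hEc, hEp⟩, hEcard⟩ := Cfsg.Agent.S0126.result hp2 hP hnc
  haveI := hEn
  have hEc' : ∀ a ∈ E, ∀ b ∈ E, a * b = b * a := by
    intro a ha b hb
    have := hEc.is_comm.comm (⟨a, ha⟩ : E) ⟨b, hb⟩
    exact congrArg Subtype.val this
  rw [Nat.card_eq_fintype_card, Fintype.card_subtype]
  set Xs : Finset P := univ.filter (fun x : P => orderOf x = p ^ s) with hXs
  set Xt : Finset P := univ.filter (fun x : P => orderOf x = p ^ (s - 1)) with hXt
  have hmaps : ∀ x ∈ Xs, x ^ p ∈ Xt := by
    intro x hx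
    rw [hXs, Finset.mem_filter] at hx
    rw [hXt, Finset.mem_filter]
    exact ⟨Finset.mem_univ _, (orderOf_pow_prime_iff hP x s hs).mp hx.2⟩
  rw [Finset.card_eq_sum_card_fiberwise hmaps]
  have hfiber : ∀ z ∈ Xt, (Xs.filter (fun x => x ^ p = z)).card
      = (univ.filter (fun x : P => x ^ p = z)).card := by
    intro z hz
    rw [hXt, Finset.mem_filter] at hz
    congr 1
    ext x
    simp only [hXs, Finset.mem_filter, Finset.mem_univ, true_and]
    constructor
    · intro h; exact h.2
    · intro h
      refine ⟨?_, h⟩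
      rw [orderOf_pow_prime_iff hP x s hs, h]
      exact hz.2
  rw [Finset.sum_congr rfl hfiber]
  -- apply the weighted totient lemma
  have hW := totient_mul_dvd_sum (G := P) (p ^ (s - 1)) (p ^ 2)
    (fun z => (univ.filter (fun x : P => x ^ p = z)).card) ?_ ?_
  · have htot : Nat.totient (p ^ (s - 1)) * p ^ 2 = p ^ s * (p - 1) := by
      rw [Nat.totient_prime_pow hp (by omega)]
      have : s = (s - 1 - 1) + 2 := by omega
      conv_rhs => rw [this, pow_add]
      ring
    rw [htot] at hW
    exact dvd_trans (dvd_mul_right _ _) hW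
  · -- invariance
    intro z z' hz hz' hzz'
    have hz'mem : z' ∈ Subgroup.zpowers z := by rw [hzz']; exact Subgroup.mem_zpowers z'
    have hz'mem2 : z' ∈ Submonoid.powers z := (mem_powers_iff_mem_zpowers).mpr hz'mem
    obtain ⟨k, hk⟩ := (Submonoid.mem_powers_iff z' z).mp hz'mem2
    have hk0 : k ≠ 0 := by
      rintro rfl
      rw [pow_zero] at hk
      rw [← hk, orderOf_one] at hz'
      have : 1 < p ^ (s - 1) := Nat.one_lt_pow (by omega) hp.one_lt
      omega
    have hord : orderOf (z ^ k) = orderOf z / Nat.gcd (orderOf z) k := orderOf_pow' z hk0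
    rw [hk, hz', hz] at hord
    have hgcd : Nat.gcd (p ^ (s - 1)) k = 1 := by
      have hpos : 0 < p ^ (s - 1) := pow_pos hp.pos _
      rcases Nat.div_eq_self.mp hord.symm with h0 | h0
      · omega
      · exact h0
    have hcop : Nat.Coprime p k := by
      have : Nat.Coprime (p ^ (s - 1)) k := hgcd
      exact Nat.Coprime.coprime_dvd_left (dvd_pow_self p (by omega)) this
    obtain ⟨n, hn⟩ := IsPGroup.iff_card.mp hP
    have hcopP : (Nat.card P).Coprime k := by
      rw [hn]; exact Nat.Coprime.pow_left _ hcop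
    show (univ.filter (fun x : P => x ^ p = z)).card = (univ.filter (fun x : P => x ^ p = z')).card
    rw [← hk]
    exact (card_roots_pow_coprime z k hcopP).symm
  · intro z _
    have := sq_dvd_card_roots hp2 hP E hEcard hEc' hEp z
    rw [Nat.card_eq_fintype_card, Fintype.card_subtype] at this
    convert this

end pgroup

end Cfsg.Agent.Helper20
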