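import Mathlib

set_option autoImplicit false

/-! Counting subgroups of a given order: basic tools. -/

namespace Cfsg.Agent.Helper20.SubCount

open Finset

/-- number of subgroups of order `k` -/
noncomputable def cnt (X : Type*) [Group X] (k : ℕ) : ℕ :=
  Nat.card {H : Subgroup X // Nat.card H = k}

/-- number of subgroups of order `k` contained in `M` -/
noncomputable def cntIn {X : Type*} [Group X] (M : Subgroup X) (k : ℕ) : ℕ :=
  Nat.card {H : Subgroup X // H ≤ M ∧ Nat.card H = k}

theorem cntIn_eq_cnt {X : Type*} [Group X] (M : Subgroup X) (k : ℕ) :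
    cntIn M k = cnt ↥M k := by
  unfold cntIn cnt
  apply Nat.card_congr
  refine ⟨fun H => ⟨H.1.subgroupOf M, ?_⟩,
    fun H => ⟨H.1.map M.subtype, Subgroup.map_subtype_le H.1, ?_⟩, ?_, ?_⟩
  · rw [Nat.card_congr (Subgroup.subgroupOfEquivOfLe H.2.1).toEquiv]
    exact H.2.2
  · rw [Subgroup.card_map_of_injective M.subtype_injective]
    exact H.2
  · intro H
    apply Subtype.ext
    exact Subgroup.map_subgroupOf_eq_of_le H.2.1
  · intro H
    apply Subtype.ext
    exact Subgroup.comap_map_eq_self_of_injective M.subtype_injective H.1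

theorem cntIn_top {X : Type*} [Group X] (k : ℕ) : cntIn (⊤ : Subgroup X) k = cnt X k := by
  unfold cntIn cnt
  apply Nat.card_congr
  exact ⟨fun H => ⟨H.1, H.2.2⟩, fun H => ⟨H.1, le_top, H.2⟩, fun _ => rfl, fun _ => rfl⟩

/-- the only subgroup of full order is the whole group -/
theorem cnt_card_self (X : Type*) [Group X] [Finite X] : cnt X (Nat.card X) = 1 := by
  unfold cnt
  rw [Nat.card_eq_one_iff_unique]
  refine ⟨⟨fun H K => ?_⟩, ⟨⟨⊤, Subgroup.card_top⟩⟩⟩
  apply Subtype.ext
  rw [(Subgroup.card_eq_iff_eq_top H.1).mp H.2, (Subgroup.card_eq_iff_eq_top K.1).mp K.2]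

/-- the only subgroup of order one is the trivial group -/
theorem cnt_one (X : Type*) [Group X] : cnt X 1 = 1 := by
  unfold cnt
  rw [Nat.card_eq_one_iff_unique]
  refine ⟨⟨fun H K => ?_⟩, ⟨⟨⊥, Subgroup.card_bot⟩⟩⟩
  apply Subtype.ext
  rw [Subgroup.card_eq_one.mp H.2, Subgroup.card_eq_one.mp K.2]

theorem cnt_eq_zero_of_not_dvd (X : Type*) [Group X] [Finite X] (k : ℕ) (hk : ¬ k ∣ Nat.card X) :
    cnt X k = 0 := by
  unfold cnt
  haveI : IsEmpty {H : Subgroup X // Nat.card H = k} := by
    constructor
    rintro ⟨H, hH⟩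
    apply hk
    rw [← hH]
    exact Subgroup.card_subgroup_dvd_card H
  exact Nat.card_of_isEmpty

/-- double counting for a relation between two finite types -/
theorem double_count {α β : Type*} [Fintype α] [Fintype β] (r : α → β → Prop) :
    ∑ a, Nat.card {b : β // r a b} = ∑ b, Nat.card {a : α // r a b} := by
  classical
  have := Finset.sum_card_bipartiteAbove_eq_sum_card_bipartiteBelow
    (s := (univ : Finset α)) (t := (univ : Finset β)) r
  simp only [Finset.bipartiteAbove, Finset.bipartiteBelow] at this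
  simp only [Nat.card_eq_fintype_card, Fintype.card_subtype]
  exact this

/-- weighted orbit counting -/
theorem dvd_sum_of_orbit {Γ Y : Type*} [Group Γ] [Fintype Y] [MulAction Γ Y] (f : Y → ℕ) (m : ℕ)
    (hinv : ∀ (γ : Γ) (y : Y), f (γ • y) = f y)
    (h : ∀ y, m ∣ Nat.card (MulAction.orbit Γ y) * f y) : m ∣ ∑ y, f y := by
  classical
  haveI : Fintype (MulAction.orbitRel.Quotient Γ Y) := Fintype.ofFinite _
  rw [← Finset.sum_fiberwise (s := univ)
    (g := fun y => (Quotient.mk'' y : MulAction.orbitRel.Quotient Γ Y)) (f := f)]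
  apply Finset.dvd_sum
  intro q _
  obtain ⟨y₀, rfl⟩ := Quotient.exists_rep q
  have hfib : ∀ y, y ∈ univ.filter (fun y =>
      (Quotient.mk'' y : MulAction.orbitRel.Quotient Γ Y) = Quotient.mk'' y₀) ↔
      y ∈ MulAction.orbit Γ y₀ := by
    intro y
    rw [Finset.mem_filter]
    simp only [Finset.mem_univ, true_and]
    rw [Quotient.eq'', MulAction.orbitRel_apply]
  have hconst : ∑ y ∈ univ.filter (fun y =>
      (Quotient.mk'' y : MulAction.orbitRel.Quotient Γ Y) = Quotient.mk'' y₀), f y
      = ∑ y ∈ univ.filter (fun y =>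
      (Quotient.mk'' y : MulAction.orbitRel.Quotient Γ Y) = Quotient.mk'' y₀), f y₀ := by
    apply Finset.sum_congr rfl
    intro y hy
    rw [hfib] at hy
    obtain ⟨γ, rfl⟩ := hy
    exact hinv γ y₀
  have hcard : (univ.filter (fun y =>
      (Quotient.mk'' y : MulAction.orbitRel.Quotient Γ Y) = Quotient.mk'' y₀)).card
      = Nat.card (MulAction.orbit Γ y₀) := by
    rw [Nat.card_eq_fintype_card, ← Set.toFinset_card]
    congr 1
    ext y
    rw [hfib, Set.mem_toFinset]
  have hq : (⟦y₀⟧ : MulAction.orbitRel.Quotient Γ Y) = Quotient.mk'' y₀ := rfl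
  rw [hq, hconst, Finset.sum_const, smul_eq_mul, hcard]
  exact h y₀

/-- In a finite group of exponent `p`, the nonidentity elements are partitioned by the subgroups
of order `p`. -/
theorem card_eq_of_exponent {E : Type*} [Group E] [Finite E] {p : ℕ} (hp : p.Prime)
    (hE : ∀ x : E, x ^ p = 1) : (p - 1) * cnt E p + 1 = Nat.card E := by
  classical
  haveI := Fintype.ofFinite E
  haveI : Fintype (Subgroup E) := Fintype.ofFinite _
  have hord : ∀ x : E, x ≠ 1 → orderOf x = p := by
    intro x hx
    have h1 : orderOf x ∣ p := orderOf_dvd_of_pow_eq_one (hE x)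
    rcases (Nat.dvd_prime hp).mp h1 with h | h
    · exact absurd (orderOf_eq_one_iff.mp h) hx
    · exact h
  let S := {H : Subgroup E // Nat.card H = p}
  let f : {x : E // x ≠ 1} → S := fun x =>
    ⟨Subgroup.zpowers x.1, by rw [Nat.card_zpowers]; exact hord x.1 x.2⟩
  have hfib : ∀ H : S, Fintype.card {x : {x : E // x ≠ 1} // f x = H} = p - 1 := by
    intro H
    have e : {x : {x : E // x ≠ 1} // f x = H} ≃ {y : H.1 // y ≠ 1} := by
      refine ⟨fun x => ⟨⟨x.1.1, ?_⟩, ?_⟩, fun y => ⟨⟨y.1.1, ?_⟩, ?_⟩, ?_, ?_⟩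
      · have := x.2
        have h2 : Subgroup.zpowers x.1.1 = H.1 := congrArg Subtype.val this
        rw [← h2]
        exact Subgroup.mem_zpowers _
      · intro h
        apply x.1.2
        exact congrArg Subtype.val h
      · intro h
        apply y.2
        exact Subtype.ext h
      · apply Subtype.ext
        show Subgroup.zpowers y.1.1 = H.1
        have hy1 : (y.1 : E) ≠ 1 := by
          intro h
          apply y.2
          exact Subtype.ext h
        apply Subgroup.eq_of_le_of_card_ge
        · rw [Subgroup.zpowers_le]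
          exact y.1.2
        · rw [Nat.card_zpowers, hord _ hy1, H.2]
      · intro x
        rfl
      · intro y
        rfl
    rw [Fintype.card_congr e, Fintype.card_subtype_compl, Fintype.card_subtype_eq]
    have : Fintype.card H.1 = p := by rw [← Nat.card_eq_fintype_card]; exact H.2
    rw [this]
  have h1 : Fintype.card {x : E // x ≠ 1} = (p - 1) * Fintype.card S := by
    rw [Fintype.card_congr (Equiv.sigmaFiberEquiv f).symm, Fintype.card_sigma]
    rw [Finset.sum_congr rfl (fun H _ => hfib H), Finset.sum_const, smul_eq_mul, mul_comm]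
    rfl
  have h2 : Fintype.card {x : E // x ≠ 1} = Fintype.card E - 1 := by
    rw [Fintype.card_subtype_compl, Fintype.card_subtype_eq]
  unfold cnt
  rw [Nat.card_eq_fintype_card, Nat.card_eq_fintype_card]
  have h3 : 0 < Fintype.card E := Fintype.card_pos
  change (p - 1) * Fintype.card S + 1 = Fintype.card E
  omega

end Cfsg.Agent.Helper20.SubCount
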