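import Mathlib
import Cfsg.Agent.Lib.Helper1.PGroupCoatom
import Cfsg.Agent.Lib.Helper20.SubCountA

set_option autoImplicit false

/-! The group of homomorphisms from a finite `p`-group into the cyclic group of order `p`. -/

namespace Cfsg.Agent.Helper20.SubCount

open Finset

/-- the cyclic group of order `p` -/
abbrev Cp (p : ℕ) := Multiplicative (ZMod p)

/-- the dual group `Hom(P, C_p)` -/
abbrev Dual (P : Type*) [Group P] (p : ℕ) := P →* Multiplicative (ZMod p)

variable {P : Type*} [Group P] {p : ℕ}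

instance dual_finite [Finite P] [Fact p.Prime] : Finite (Dual P p) := by
  haveI : NeZero p := ⟨(Fact.out : p.Prime).ne_zero⟩
  exact Finite.of_injective (fun f : Dual P p => (f : P → Multiplicative (ZMod p)))
    DFunLike.coe_injective

theorem cp_pow (c : Cp p) : c ^ p = 1 := by
  rw [← ofAdd_toAdd c, ← ofAdd_nsmul, nsmul_eq_mul, ZMod.natCast_self, zero_mul, ofAdd_zero]

theorem card_cp [Fact p.Prime] : Nat.card (Cp p) = p := by
  haveI : NeZero p := ⟨(Fact.out : p.Prime).ne_zero⟩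
  rw [Nat.card_eq_fintype_card]
  show Fintype.card (Multiplicative (ZMod p)) = p
  rw [Fintype.card_multiplicative, ZMod.card]

theorem cp_gen (c : Cp p) [Fact p.Prime] :
    ∃ i : ℕ, c = (Multiplicative.ofAdd (1 : ZMod p)) ^ i := by
  haveI : NeZero p := ⟨(Fact.out : p.Prime).ne_zero⟩
  refine ⟨(Multiplicative.toAdd c).val, ?_⟩
  rw [← ofAdd_nsmul, nsmul_eq_mul, mul_one, ZMod.natCast_zmod_val, ofAdd_toAdd]

theorem dual_pow (φ : Dual P p) : φ ^ p = 1 := by
  ext x
  rw [MonoidHom.pow_apply, MonoidHom.one_apply]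
  exact congrArg _ (cp_pow (φ x))

theorem dual_orderOf [Fact p.Prime] (φ : Dual P p) (hφ : φ ≠ 1) : orderOf φ = p := by
  have hp : p.Prime := Fact.out
  have h1 : orderOf φ ∣ p := orderOf_dvd_of_pow_eq_one (dual_pow φ)
  rcases (Nat.dvd_prime hp).mp h1 with h | h
  · exact absurd (orderOf_eq_one_iff.mp h) hφ
  · exact h

theorem range_eq_top [Fact p.Prime] (φ : Dual P p) (hφ : φ ≠ 1) : φ.range = ⊤ := by
  haveI : Fact (Nat.card (Cp p)).Prime := by rw [card_cp]; infer_instance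
  rcases Subgroup.eq_bot_or_eq_top_of_prime_card φ.range with h | h
  · exfalso
    apply hφ
    ext x
    have : φ x ∈ φ.range := ⟨x, rfl⟩
    rw [h, Subgroup.mem_bot] at this
    rw [this]
    rfl
  · exact h

theorem index_ker [Fact p.Prime] (φ : Dual P p) (hφ : φ ≠ 1) : φ.ker.index = p := by
  rw [Subgroup.index_ker, range_eq_top φ hφ, Subgroup.card_top, card_cp]

theorem mem_zpowers_of_ker_le [Fact p.Prime] (φ ψ : Dual P p) (hφ : φ ≠ 1)
    (h : φ.ker ≤ ψ.ker) : ψ ∈ Subgroup.zpowers φ := by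
  set ζ : Cp p := Multiplicative.ofAdd (1 : ZMod p) with hζ
  have hsurj : ∃ g, φ g = ζ := by
    have : ζ ∈ φ.range := by rw [range_eq_top φ hφ]; exact Subgroup.mem_top _
    exact this
  obtain ⟨g, hg⟩ := hsurj
  obtain ⟨j, hj⟩ := cp_gen (ψ g)
  have : ψ = φ ^ j := by
    ext x
    obtain ⟨i, hi⟩ := cp_gen (φ x)
    have hy : x * (g ^ i)⁻¹ ∈ φ.ker := by
      rw [MonoidHom.mem_ker, map_mul, map_inv, map_pow, hg, hi]
      exact mul_inv_cancel _
    have hy2 := h hy
    rw [MonoidHom.mem_ker, map_mul, map_inv, map_pow, hj, mul_inv_eq_one] at hy2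
    rw [MonoidHom.pow_apply]
    change ψ x = (φ x) ^ j
    rw [hy2, hi, ← pow_mul, ← pow_mul, mul_comm]
  rw [this]
  exact Subgroup.pow_mem _ (Subgroup.mem_zpowers φ) j

theorem exists_ker_eq [Finite P] [Fact p.Prime] (hP : IsPGroup p P) (M : Subgroup P)
    (hM : M.index = p) : ∃ φ : Dual P p, φ ≠ 1 ∧ φ.ker = M := by
  have hp : p.Prime := Fact.out
  obtain ⟨n, hn⟩ := hP.exists_card_eq
  have hn0 : n ≠ 0 := by
    rintro rfl
    rw [pow_zero] at hn
    have : M.index ∣ Nat.card P := Subgroup.index_dvd_card M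
    rw [hM, hn] at this
    exact hp.one_lt.ne' (Nat.dvd_one.mp this)
  haveI : M.Normal := by
    apply Subgroup.normal_of_index_eq_minFac_card
    rw [hM, hn, hp.pow_minFac hn0]
  have hc : Nat.card (P ⧸ M) = p := hM
  let e : (P ⧸ M) ≃* Cp p := mulEquivOfPrimeCardEq hc card_cp
  let φ : Dual P p := e.toMonoidHom.comp (QuotientGroup.mk' M)
  have hker : φ.ker = M := by
    ext x
    rw [MonoidHom.mem_ker]
    change e (QuotientGroup.mk' M x) = 1 ↔ x ∈ M
    rw [MulEquiv.map_eq_one_iff, QuotientGroup.mk'_apply, QuotientGroup.eq_one_iff]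
  refine ⟨φ, ?_, hker⟩
  intro h1
  have : φ.ker = ⊤ := by rw [h1]; exact MonoidHom.ker_one
  rw [hker] at this
  rw [this, Subgroup.index_top] at hM
  exact hp.one_lt.ne hM

theorem exists_ne_one_le_ker [Finite P] [Fact p.Prime] (hP : IsPGroup p P) (H : Subgroup P)
    (hH : H ≠ ⊤) : ∃ φ : Dual P p, φ ≠ 1 ∧ H ≤ φ.ker := by
  obtain ⟨M, hM, hHM⟩ := (eq_top_or_exists_le_coatom H).resolve_left hH
  obtain ⟨_, hidx⟩ := Cfsg.Agent.Helper1.coatom_normal_index_of_isPGroup hP M hM
  obtain ⟨φ, hφ, hk⟩ := exists_ker_eq hP M hidx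
  exact ⟨φ, hφ, by rw [hk]; exact hHM⟩

/-- common kernel of a subgroup of the dual -/
def kerInf (B : Subgroup (Dual P p)) : Subgroup P := ⨅ φ : B, (φ : Dual P p).ker

theorem mem_kerInf (B : Subgroup (Dual P p)) (x : P) :
    x ∈ kerInf B ↔ ∀ φ ∈ B, φ x = 1 := by
  unfold kerInf
  rw [Subgroup.mem_iInf]
  constructor
  · intro h φ hφ
    exact h ⟨φ, hφ⟩
  · intro h φ
    exact h φ.1 φ.2

/-- annihilator of a subgroup -/
def ann (H : Subgroup P) : Subgroup (Dual P p) where
  carrier := {φ | ∀ x ∈ H, φ x = 1}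
  one_mem' := fun _ _ => rfl
  mul_mem' := by
    intro a b ha hb x hx
    rw [MonoidHom.mul_apply, ha x hx, hb x hx, mul_one]
  inv_mem' := by
    intro a ha x hx
    rw [MonoidHom.inv_apply, ha x hx, inv_one]

theorem mem_ann (H : Subgroup P) (φ : Dual P p) : φ ∈ ann H ↔ ∀ x ∈ H, φ x = 1 := Iff.rfl

theorem le_kerInf_iff (H : Subgroup P) (B : Subgroup (Dual P p)) :
    H ≤ kerInf B ↔ B ≤ ann H := by
  constructor
  · intro h φ hφ x hx
    exact (mem_kerInf B x).mp (h hx) φ hφ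
  · intro h x hx
    rw [mem_kerInf]
    intro φ hφ
    exact h hφ x hx

theorem ann_ne_bot [Finite P] [Fact p.Prime] (hP : IsPGroup p P) (H : Subgroup P) (hH : H ≠ ⊤) :
    (ann H : Subgroup (Dual P p)) ≠ ⊥ := by
  obtain ⟨φ, hφ, hle⟩ := exists_ne_one_le_ker hP H hH
  intro h
  apply hφ
  have : φ ∈ (ann H : Subgroup (Dual P p)) := fun x hx => hle hx
  rw [h, Subgroup.mem_bot] at this
  exact this

/-- a subgroup of order `p` of the dual is generated by any of its nonidentity elements -/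
theorem eq_zpowers_of_card [Fact p.Prime] (B : Subgroup (Dual P p)) (hB : Nat.card B = p)
    (φ : Dual P p) (hφB : φ ∈ B) (hφ : φ ≠ 1) : B = Subgroup.zpowers φ := by
  haveI : Finite B :=
    Nat.finite_of_card_ne_zero (by rw [hB]; exact (Fact.out : p.Prime).ne_zero)
  symm
  apply Subgroup.eq_of_le_of_card_ge
  · rw [Subgroup.zpowers_le]; exact hφB
  · rw [Nat.card_zpowers, dual_orderOf φ hφ, hB]

theorem exists_ne_one_of_card [Fact p.Prime] (B : Subgroup (Dual P p)) (k : ℕ) (hk : k ≠ 0)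
    (hB : Nat.card B = p ^ k) : ∃ φ ∈ B, φ ≠ 1 := by
  have hp : p.Prime := Fact.out
  by_contra hcon
  push Not at hcon
  have : B = ⊥ := by
    rw [Subgroup.eq_bot_iff_forall]
    exact hcon
  rw [this, Subgroup.card_bot] at hB
  have : 1 < p ^ k := Nat.one_lt_pow hk hp.one_lt
  omega

theorem kerInf_zpowers (φ : Dual P p) : kerInf (Subgroup.zpowers φ) = φ.ker := by
  ext x
  rw [mem_kerInf, MonoidHom.mem_ker]
  constructor
  · intro h
    exact h φ (Subgroup.mem_zpowers φ)
  · intro h ψ hψ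
    obtain ⟨k, rfl⟩ := Subgroup.mem_zpowers_iff.mp hψ
    rw [MonoidHom.zpow_apply, h, one_zpow]

theorem kerInf_index_of_card [Fact p.Prime] (B : Subgroup (Dual P p)) (hB : Nat.card B = p) :
    (kerInf B).index = p := by
  obtain ⟨φ, hφB, hφ⟩ := exists_ne_one_of_card B 1 one_ne_zero (by rw [pow_one]; exact hB)
  rw [eq_zpowers_of_card B hB φ hφB hφ, kerInf_zpowers, index_ker φ hφ]

/-- the subgroups of order `p` of the dual correspond to the subgroups of index `p` -/
noncomputable def equivIndex [Finite P] [Fact p.Prime] (hP : IsPGroup p P) :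
    {B : Subgroup (Dual P p) // Nat.card B = p} ≃ {M : Subgroup P // M.index = p} := by
  refine Equiv.ofBijective (fun B => ⟨kerInf B.1, kerInf_index_of_card B.1 B.2⟩) ⟨?_, ?_⟩
  · intro B B' h
    have h' : kerInf B.1 = kerInf B'.1 := congrArg Subtype.val h
    obtain ⟨φ, hφB, hφ⟩ := exists_ne_one_of_card B.1 1 one_ne_zero (by rw [pow_one]; exact B.2)
    obtain ⟨φ', hφB', hφ'⟩ := exists_ne_one_of_card B'.1 1 one_ne_zero (by rw [pow_one]; exact B'.2)
    have e1 := eq_zpowers_of_card B.1 B.2 φ hφB hφ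
    have e2 := eq_zpowers_of_card B'.1 B'.2 φ' hφB' hφ'
    rw [e1, e2, kerInf_zpowers, kerInf_zpowers] at h'
    have hmem : φ' ∈ Subgroup.zpowers φ := mem_zpowers_of_ker_le φ φ' hφ (le_of_eq h')
    apply Subtype.ext
    symm
    apply Subgroup.eq_of_le_of_card_ge
    · rw [e2, Subgroup.zpowers_le, e1]
      exact hmem
    · rw [B.2, B'.2]
  · intro M
    obtain ⟨φ, hφ, hk⟩ := exists_ker_eq hP M.1 M.2
    refine ⟨⟨Subgroup.zpowers φ, by rw [Nat.card_zpowers, dual_orderOf φ hφ]⟩, ?_⟩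
    apply Subtype.ext
    show kerInf (Subgroup.zpowers φ) = M.1
    rw [kerInf_zpowers, hk]

theorem equivIndex_apply [Finite P] [Fact p.Prime] (hP : IsPGroup p P)
    (B : {B : Subgroup (Dual P p) // Nat.card B = p}) :
    ((equivIndex hP B).1 : Subgroup P) = kerInf B.1 := rfl

/-- the common kernel of a subgroup of order `p^2` has index at most `p^2` -/
theorem kerInf_index_le_of_card_sq [Fact p.Prime] (B : Subgroup (Dual P p))
    (hB : Nat.card B = p ^ 2) : (kerInf B).index ≤ p ^ 2 ∧ (kerInf B).index ≠ 0 := by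
  have hp : p.Prime := Fact.out
  haveI : Finite B := Nat.finite_of_card_ne_zero (by rw [hB]; exact pow_ne_zero _ hp.ne_zero)
  obtain ⟨φ, hφB, hφ⟩ := exists_ne_one_of_card B 2 two_ne_zero hB
  -- an element outside `zpowers φ`
  have hex : ∃ ψ ∈ B, ψ ∉ Subgroup.zpowers φ := by
    by_contra hcon
    push Not at hcon
    have hle : B ≤ Subgroup.zpowers φ := hcon
    have h1 : Nat.card B ∣ Nat.card (Subgroup.zpowers φ) := Subgroup.card_dvd_of_le hle
    rw [hB, Nat.card_zpowers, dual_orderOf φ hφ] at h1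
    have h2 : p ^ 2 ≤ p := Nat.le_of_dvd hp.pos h1
    have h3 : p < p ^ 2 := by
      calc p = p ^ 1 := (pow_one p).symm
        _ < p ^ 2 := Nat.pow_lt_pow_right hp.one_lt (by norm_num)
    omega
  obtain ⟨ψ, hψB, hψ⟩ := hex
  have hψ1 : ψ ≠ 1 := by
    rintro rfl
    exact hψ (Subgroup.one_mem _)
  -- `B` is generated by `φ` and `ψ`
  have hsup : Subgroup.zpowers φ ⊔ Subgroup.zpowers ψ = B := by
    apply Subgroup.eq_of_le_of_card_ge
    · rw [sup_le_iff, Subgroup.zpowers_le, Subgroup.zpowers_le]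
      exact ⟨hφB, hψB⟩
    · have hlt : Subgroup.zpowers φ < Subgroup.zpowers φ ⊔ Subgroup.zpowers ψ := by
        rw [lt_iff_le_and_ne]
        refine ⟨le_sup_left, ?_⟩
        intro h
        apply hψ
        rw [h]
        exact (le_sup_right : Subgroup.zpowers ψ ≤ _) (Subgroup.mem_zpowers ψ)
      have hle : Subgroup.zpowers φ ⊔ Subgroup.zpowers ψ ≤ B := by
        rw [sup_le_iff, Subgroup.zpowers_le, Subgroup.zpowers_le]
        exact ⟨hφB, hψB⟩
      have hd1 : Nat.card (Subgroup.zpowers φ) ∣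
          Nat.card (Subgroup.zpowers φ ⊔ Subgroup.zpowers ψ : Subgroup (Dual P p)) :=
        Subgroup.card_dvd_of_le le_sup_left
      have hd2 : Nat.card (Subgroup.zpowers φ ⊔ Subgroup.zpowers ψ : Subgroup (Dual P p)) ∣
          Nat.card B := Subgroup.card_dvd_of_le hle
      rw [Nat.card_zpowers, dual_orderOf φ hφ] at hd1
      rw [hB] at hd2 ⊢
      obtain ⟨k, hk2, hk⟩ := (Nat.dvd_prime_pow hp).mp hd2
      rw [hk] at hd1 ⊢
      have hk1 : k ≠ 0 := by
        rintro rfl
        rw [pow_zero] at hd1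
        exact hp.one_lt.ne' (Nat.dvd_one.mp hd1)
      -- strictness
      haveI : Finite (Subgroup.zpowers φ ⊔ Subgroup.zpowers ψ : Subgroup (Dual P p)) :=
        Finite.of_injective _ (Subgroup.inclusion_injective hle)
      have hc : Nat.card (Subgroup.zpowers φ) <
          Nat.card (Subgroup.zpowers φ ⊔ Subgroup.zpowers ψ : Subgroup (Dual P p)) := by
        by_contra hcon
        push Not at hcon
        exact hlt.ne (Subgroup.eq_of_le_of_card_ge le_sup_left hcon)
      rw [Nat.card_zpowers, dual_orderOf φ hφ, hk] at hc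
      have : k ≠ 1 := by
        rintro rfl
        rw [pow_one] at hc
        exact lt_irrefl _ hc
      have : k = 2 := by omega
      rw [this]
  have hker : φ.ker ⊓ ψ.ker ≤ kerInf B := by
    intro x hx
    rw [Subgroup.mem_inf, MonoidHom.mem_ker, MonoidHom.mem_ker] at hx
    rw [mem_kerInf]
    intro χ hχ
    rw [← hsup, Subgroup.mem_sup] at hχ
    obtain ⟨a, ha, b, hb, rfl⟩ := hχ
    obtain ⟨i, rfl⟩ := Subgroup.mem_zpowers_iff.mp ha
    obtain ⟨j, rfl⟩ := Subgroup.mem_zpowers_iff.mp hb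
    rw [MonoidHom.mul_apply, MonoidHom.zpow_apply, MonoidHom.zpow_apply, hx.1, hx.2, one_zpow,
      one_zpow, mul_one]
  have h1 : (φ.ker ⊓ ψ.ker).index ≤ p * p := by
    have := Subgroup.index_inf_le (H := φ.ker) (K := ψ.ker)
    rw [index_ker φ hφ, index_ker ψ hψ1] at this
    exact this
  have h0 : (φ.ker ⊓ ψ.ker).index ≠ 0 := by
    apply Subgroup.index_inf_ne_zero
    · rw [index_ker φ hφ]; exact hp.ne_zero
    · rw [index_ker ψ hψ1]; exact hp.ne_zero
  have h2 : (kerInf B).index ∣ (φ.ker ⊓ ψ.ker).index := Subgroup.index_dvd_of_le hker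
  constructor
  · calc (kerInf B).index ≤ (φ.ker ⊓ ψ.ker).index := Nat.le_of_dvd (Nat.pos_of_ne_zero h0) h2
      _ ≤ p * p := h1
      _ = p ^ 2 := (sq p).symm
  · intro h
    rw [h] at h2
    exact h0 (Nat.eq_zero_of_zero_dvd h2)

end Cfsg.Agent.Helper20.SubCount
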