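import Mathlib
import Cfsg.Agent.Lib.Helper20.SubCountB

set_option autoImplicit false

/-! Frobenius' theorem for `p`-groups and the enumeration principle modulo `p^2`. -/

namespace Cfsg.Agent.Helper20.SubCount

open Finset

universe u

/-- a finite group of exponent `p` has order a power of `p` -/
theorem exists_card_eq_of_exponent {E : Type*} [Group E] [Finite E] {p : ℕ} [Fact p.Prime]
    (hE : ∀ x : E, x ^ p = 1) : ∃ d : ℕ, Nat.card E = p ^ d := by
  have hPG : IsPGroup p E := fun x => ⟨1, by rw [pow_one]; exact hE x⟩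
  exact hPG.exists_card_eq

/-- in a nontrivial group of exponent `p`, the number of subgroups of order `p` is `1` mod `p` -/
theorem cnt_modEq_one_of_exponent {E : Type*} [Group E] [Finite E] {p : ℕ} [Fact p.Prime]
    (hE : ∀ x : E, x ^ p = 1) (hne : Nontrivial E) : cnt E p ≡ 1 [MOD p] := by
  have hp : p.Prime := Fact.out
  obtain ⟨d, hd⟩ := exists_card_eq_of_exponent hE
  have hd0 : d ≠ 0 := by
    rintro rfl
    rw [pow_zero] at hd
    have := Finite.one_lt_card_iff_nontrivial.mpr hne
    omega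
  have h1 := card_eq_of_exponent hp hE
  rw [hd] at h1
  rw [Nat.modEq_iff_dvd]
  have hp1 : 1 ≤ p := hp.one_lt.le
  have h2 : ((p : ℤ) - 1) * (cnt E p : ℤ) + 1 = (p : ℤ) ^ d := by
    have := congrArg (fun n : ℕ => (n : ℤ)) h1
    simp only [Nat.cast_add, Nat.cast_mul, Nat.cast_one, Nat.cast_pow] at this
    rw [Nat.cast_sub hp1] at this
    simpa using this
  obtain ⟨e, rfl⟩ : ∃ e, d = e + 1 := ⟨d - 1, by omega⟩
  refine ⟨(p : ℤ) ^ e - (cnt E p : ℤ), ?_⟩
  rw [pow_succ] at h2
  push_cast
  linarith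

/-- in a group of exponent `p` and order at least `p^2`, the number of subgroups of order `p` is
`1 + p` mod `p^2` -/
theorem cnt_modEq_of_exponent_sq {E : Type*} [Group E] [Finite E] {p : ℕ} [Fact p.Prime]
    (hE : ∀ x : E, x ^ p = 1) (d : ℕ) (hd : Nat.card E = p ^ d) (hd2 : 2 ≤ d) :
    cnt E p ≡ 1 + p [MOD p ^ 2] := by
  have hp : p.Prime := Fact.out
  have h1 := card_eq_of_exponent hp hE
  rw [hd] at h1
  have hp1 : 1 ≤ p := hp.one_lt.le
  have h2 : ((p : ℤ) - 1) * (cnt E p : ℤ) + 1 = (p : ℤ) ^ d := by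
    have := congrArg (fun n : ℕ => (n : ℤ)) h1
    simp only [Nat.cast_add, Nat.cast_mul, Nat.cast_one, Nat.cast_pow] at this
    rw [Nat.cast_sub hp1] at this
    simpa using this
  obtain ⟨e, rfl⟩ : ∃ e, d = e + 2 := ⟨d - 2, by omega⟩
  rw [Nat.modEq_iff_dvd]
  have hcop : IsCoprime ((p : ℤ) ^ 2) ((p : ℤ) - 1) := ⟨1, -((p : ℤ) + 1), by ring⟩
  have hdvd : ((p : ℤ) ^ 2) ∣ ((p : ℤ) - 1) * ((1 + p : ℤ) - (cnt E p : ℤ)) := by
    refine ⟨1 - (p : ℤ) ^ e, ?_⟩
    rw [pow_add] at h2
    linear_combination (-1 : ℤ) * h2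
  have := hcop.dvd_of_dvd_mul_left hdvd
  push_cast
  exact this

/-- Frobenius: in a group of order `p^n` the number of subgroups of order `p^a` is `1` mod `p` -/
theorem cnt_modEq_one : ∀ (n : ℕ) (P : Type u) [Group P] [Finite P] (p : ℕ) [Fact p.Prime],
    Nat.card P = p ^ n → ∀ a ≤ n, cnt P (p ^ a) ≡ 1 [MOD p] := by
  intro n
  induction n with
  | zero =>
    intro P _ _ p _ hn a ha
    have : a = 0 := by omega
    rw [this, pow_zero, cnt_one]
  | succ n ih =>
    intro P _ _ p _ hn a ha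
    have hp : p.Prime := Fact.out
    rcases Nat.eq_or_lt_of_le ha with rfl | hlt
    · rw [← hn, cnt_card_self]
    have han : a ≤ n := by omega
    classical
    have hP : IsPGroup p P := IsPGroup.of_card hn
    haveI : Fintype {B : Subgroup (Dual P p) // Nat.card B = p} := Fintype.ofFinite _
    haveI : Fintype {H : Subgroup P // Nat.card H = p ^ a} := Fintype.ofFinite _
    have hdc := double_count
      (fun (B : {B : Subgroup (Dual P p) // Nat.card B = p})
        (H : {H : Subgroup P // Nat.card H = p ^ a}) => H.1 ≤ kerInf B.1)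
    -- left side
    have hL : ∀ B : {B : Subgroup (Dual P p) // Nat.card B = p},
        Nat.card {H : {H : Subgroup P // Nat.card H = p ^ a} // H.1 ≤ kerInf B.1} ≡ 1 [MOD p] := by
      intro B
      have e1 : Nat.card {H : {H : Subgroup P // Nat.card H = p ^ a} // H.1 ≤ kerInf B.1}
          = cntIn (kerInf B.1) (p ^ a) := by
        unfold cntIn
        apply Nat.card_congr
        exact ⟨fun H => ⟨H.1.1, H.2, H.1.2⟩, fun H => ⟨⟨H.1, H.2.2⟩, H.2.1⟩, fun _ => rfl,
          fun _ => rfl⟩
      rw [e1, cntIn_eq_cnt]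
      apply ih
      · have hidx := kerInf_index_of_card B.1 B.2
        have := Subgroup.card_mul_index (kerInf B.1)
        rw [hidx, hn, pow_succ] at this
        exact Nat.eq_of_mul_eq_mul_right hp.pos this
      · exact han
    -- right side
    have hR : ∀ H : {H : Subgroup P // Nat.card H = p ^ a},
        Nat.card {B : {B : Subgroup (Dual P p) // Nat.card B = p} // H.1 ≤ kerInf B.1}
          ≡ 1 [MOD p] := by
      intro H
      have e1 : Nat.card {B : {B : Subgroup (Dual P p) // Nat.card B = p} // H.1 ≤ kerInf B.1}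
          = cntIn (ann H.1 : Subgroup (Dual P p)) p := by
        unfold cntIn
        apply Nat.card_congr
        exact ⟨fun B => ⟨B.1.1, (le_kerInf_iff _ _).mp B.2, B.1.2⟩,
          fun B => ⟨⟨B.1, B.2.2⟩, (le_kerInf_iff _ _).mpr B.2.1⟩, fun _ => rfl, fun _ => rfl⟩
      rw [e1, cntIn_eq_cnt]
      apply cnt_modEq_one_of_exponent
      · intro x
        apply Subtype.ext
        exact dual_pow x.1
      · have hHtop : H.1 ≠ ⊤ := by
          intro h
          have := H.2
          rw [h, Subgroup.card_top, hn] at this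
          exact (Nat.pow_lt_pow_right hp.one_lt hlt).ne' this
        have := ann_ne_bot hP H.1 hHtop
        exact (Subgroup.nontrivial_iff_ne_bot _).mpr this
    -- the number of subgroups of order `p` of the dual
    have hΛ : Nat.card {B : Subgroup (Dual P p) // Nat.card B = p} ≡ 1 [MOD p] := by
      apply cnt_modEq_one_of_exponent (E := Dual P p) dual_pow
      have hbt : (⊥ : Subgroup P) ≠ ⊤ := by
        intro h
        have h1 : Nat.card (⊥ : Subgroup P) = Nat.card (⊤ : Subgroup P) := by rw [h]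
        rw [Subgroup.card_bot, Subgroup.card_top, hn] at h1
        have : 1 < p ^ (n + 1) := Nat.one_lt_pow (by omega) hp.one_lt
        omega
      obtain ⟨φ, hφ, -⟩ := exists_ne_one_le_ker hP ⊥ hbt
      exact ⟨⟨φ, 1, hφ⟩⟩
    have h1 : ∑ B : {B : Subgroup (Dual P p) // Nat.card B = p},
        Nat.card {H : {H : Subgroup P // Nat.card H = p ^ a} // H.1 ≤ kerInf B.1}
        ≡ ∑ _B : {B : Subgroup (Dual P p) // Nat.card B = p}, 1 [MOD p] := by
      unfold Nat.ModEq
      rw [Finset.sum_nat_mod, Finset.sum_congr rfl (fun B _ => hL B), ← Finset.sum_nat_mod]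
    have h2 : ∑ H : {H : Subgroup P // Nat.card H = p ^ a},
        Nat.card {B : {B : Subgroup (Dual P p) // Nat.card B = p} // H.1 ≤ kerInf B.1}
        ≡ ∑ _H : {H : Subgroup P // Nat.card H = p ^ a}, 1 [MOD p] := by
      unfold Nat.ModEq
      rw [Finset.sum_nat_mod, Finset.sum_congr rfl (fun H _ => hR H), ← Finset.sum_nat_mod]
    rw [hdc] at h1
    simp only [Finset.sum_const, Finset.card_univ, smul_eq_mul, mul_one] at h1 h2
    rw [← Nat.card_eq_fintype_card] at h1 h2
    unfold cnt
    exact (h2.symm.trans h1).trans hΛ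

/-- in a nontrivial group of exponent `p`:
`#(order p) ≡ 1 + p * #(order p^2)` mod `p^2` -/
theorem cnt_exponent_modEq_sq {E : Type u} [Group E] [Finite E] {p : ℕ} [Fact p.Prime]
    (hE : ∀ x : E, x ^ p = 1) (hne : Nontrivial E) :
    cnt E p ≡ 1 + p * cnt E (p ^ 2) [MOD p ^ 2] := by
  have hp : p.Prime := Fact.out
  obtain ⟨d, hd⟩ := exists_card_eq_of_exponent hE
  have hd0 : d ≠ 0 := by
    rintro rfl
    rw [pow_zero] at hd
    have := Finite.one_lt_card_iff_nontrivial.mpr hne
    omega
  by_cases hd1 : d = 1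
  · subst hd1
    rw [pow_one] at hd
    have h1 : cnt E p = 1 := by
      have := cnt_card_self E
      rwa [hd] at this
    have h2 : cnt E (p ^ 2) = 0 := by
      apply cnt_eq_zero_of_not_dvd
      rw [hd]
      intro h
      have h3 : p ^ 2 ≤ p := Nat.le_of_dvd hp.pos h
      have h4 : p < p ^ 2 := by
        calc p = p ^ 1 := (pow_one p).symm
          _ < p ^ 2 := Nat.pow_lt_pow_right hp.one_lt (by norm_num)
      omega
    rw [h1, h2, mul_zero, add_zero]
  · have hd2 : 2 ≤ d := by omega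
    have h1 := cnt_modEq_of_exponent_sq hE d hd hd2
    have h2 : cnt E (p ^ 2) ≡ 1 [MOD p] := cnt_modEq_one d E p hd 2 hd2
    have h3 : p * cnt E (p ^ 2) ≡ p * 1 [MOD p * p] := Nat.ModEq.mul_left' p h2
    rw [mul_one, ← sq] at h3
    exact h1.trans (Nat.ModEq.add_left 1 h3.symm)

/-- the enumeration principle modulo `p^2` -/
theorem enum_modEq_sq (n : ℕ) (P : Type u) [Group P] [Finite P] (p : ℕ) [Fact p.Prime]
    (hn : Nat.card P = p ^ n) (a : ℕ) (ha : a < n)
    [Fintype {B : Subgroup (Dual P p) // Nat.card B = p}]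
    [Fintype {B : Subgroup (Dual P p) // Nat.card B = p ^ 2}] :
    cnt P (p ^ a) + p * ∑ B : {B : Subgroup (Dual P p) // Nat.card B = p ^ 2},
        cntIn (kerInf B.1) (p ^ a)
      ≡ ∑ B : {B : Subgroup (Dual P p) // Nat.card B = p}, cntIn (kerInf B.1) (p ^ a)
        [MOD p ^ 2] := by
  classical
  have hp : p.Prime := Fact.out
  have hP : IsPGroup p P := IsPGroup.of_card hn
  haveI : Fintype {H : Subgroup P // Nat.card H = p ^ a} := Fintype.ofFinite _
  -- rewriting the two sums
  have key : ∀ (k : ℕ) [Fintype {B : Subgroup (Dual P p) // Nat.card B = k}],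
      ∑ B : {B : Subgroup (Dual P p) // Nat.card B = k}, cntIn (kerInf B.1) (p ^ a)
      = ∑ H : {H : Subgroup P // Nat.card H = p ^ a}, cnt ↥(ann H.1 : Subgroup (Dual P p)) k := by
    intro k _
    have hdc := double_count
      (fun (B : {B : Subgroup (Dual P p) // Nat.card B = k})
        (H : {H : Subgroup P // Nat.card H = p ^ a}) => H.1 ≤ kerInf B.1)
    have e1 : ∀ B : {B : Subgroup (Dual P p) // Nat.card B = k},
        Nat.card {H : {H : Subgroup P // Nat.card H = p ^ a} // H.1 ≤ kerInf B.1}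
          = cntIn (kerInf B.1) (p ^ a) := by
      intro B
      unfold cntIn
      apply Nat.card_congr
      exact ⟨fun H => ⟨H.1.1, H.2, H.1.2⟩, fun H => ⟨⟨H.1, H.2.2⟩, H.2.1⟩, fun _ => rfl,
        fun _ => rfl⟩
    have e2 : ∀ H : {H : Subgroup P // Nat.card H = p ^ a},
        Nat.card {B : {B : Subgroup (Dual P p) // Nat.card B = k} // H.1 ≤ kerInf B.1}
          = cnt ↥(ann H.1 : Subgroup (Dual P p)) k := by
      intro H
      rw [← cntIn_eq_cnt]
      unfold cntIn
      apply Nat.card_congr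
      exact ⟨fun B => ⟨B.1.1, (le_kerInf_iff _ _).mp B.2, B.1.2⟩,
        fun B => ⟨⟨B.1, B.2.2⟩, (le_kerInf_iff _ _).mpr B.2.1⟩, fun _ => rfl, fun _ => rfl⟩
    rw [← Finset.sum_congr rfl (fun B _ => e1 B), hdc, Finset.sum_congr rfl (fun H _ => e2 H)]
  rw [key p, key (p ^ 2)]
  have hH : ∀ H : {H : Subgroup P // Nat.card H = p ^ a},
      cnt ↥(ann H.1 : Subgroup (Dual P p)) p
        ≡ 1 + p * cnt ↥(ann H.1 : Subgroup (Dual P p)) (p ^ 2) [MOD p ^ 2] := by
    intro H
    apply cnt_exponent_modEq_sq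
    · intro x
      apply Subtype.ext
      exact dual_pow x.1
    · have hHtop : H.1 ≠ ⊤ := by
        intro h
        have := H.2
        rw [h, Subgroup.card_top, hn] at this
        exact (Nat.pow_lt_pow_right hp.one_lt ha).ne' this
      have := ann_ne_bot hP H.1 hHtop
      exact (Subgroup.nontrivial_iff_ne_bot _).mpr this
  have hsum : ∑ H : {H : Subgroup P // Nat.card H = p ^ a}, cnt ↥(ann H.1 : Subgroup (Dual P p)) p
      ≡ ∑ H : {H : Subgroup P // Nat.card H = p ^ a},
        (1 + p * cnt ↥(ann H.1 : Subgroup (Dual P p)) (p ^ 2)) [MOD p ^ 2] := by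
    unfold Nat.ModEq
    rw [Finset.sum_nat_mod, Finset.sum_congr rfl (fun H _ => hH H), ← Finset.sum_nat_mod]
  rw [Finset.sum_add_distrib, ← Finset.mul_sum] at hsum
  simp only [Finset.sum_const, Finset.card_univ, smul_eq_mul, mul_one] at hsum
  rw [← Nat.card_eq_fintype_card] at hsum
  unfold cnt at hsum ⊢
  exact hsum.symm

end Cfsg.Agent.Helper20.SubCount
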