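import Mathlib
import Cfsg.Agent.Lib.Helper20.CyclicBasic

set_option autoImplicit false

namespace Cfsg.Agent.Helper20

open scoped Pointwise

/-- In a finite cyclic group, subgroups of the same order are equal. -/
theorem subgroup_eq_of_card_eq_of_isCyclic {C : Type*} [Group C] [Finite C] [IsCyclic C]
    (X Y : Subgroup C) (h : Nat.card X = Nat.card Y) : X = Y := by
  have key : ∀ X Y : Subgroup C, Nat.card X = Nat.card Y → X ≤ Y := by
    intro X Y h
    obtain ⟨x, hx⟩ := IsCyclic.exists_generator (α := X)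
    obtain ⟨y, hy⟩ := IsCyclic.exists_generator (α := Y)
    have hxo : orderOf (x : C) = Nat.card X := by
      rw [Subgroup.orderOf_coe, orderOf_eq_card_of_forall_mem_zpowers hx]
    have hyo : orderOf (y : C) = Nat.card Y := by
      rw [Subgroup.orderOf_coe, orderOf_eq_card_of_forall_mem_zpowers hy]
    have hxy : (x : C) ∈ Subgroup.zpowers (y : C) :=
      mem_zpowers_of_orderOf_dvd _ _ (by rw [hxo, hyo, h])
    intro a ha
    obtain ⟨k, hk⟩ := Subgroup.mem_zpowers_iff.mp (hx ⟨a, ha⟩)
    have hak : a = (x : C) ^ k := by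
      have := congrArg Subtype.val hk
      simpa using this.symm
    rw [hak]
    have hyY : Subgroup.zpowers (y : C) ≤ Y := Subgroup.zpowers_le.mpr y.2
    exact Y.zpow_mem (hyY hxy) k
  exact le_antisymm (key X Y h) (key Y X h.symm)

/-- If the Sylow `p`-subgroups are cyclic, `p`-subgroups of the same order are conjugate. -/
theorem conj_of_sylow_cyclic {G : Type*} [Group G] [Finite G] {p : ℕ} [Fact p.Prime]
    (hcyc : ∀ P : Sylow p G, IsCyclic P) (X Y : Subgroup G) (hX : IsPGroup p X)
    (hY : IsPGroup p Y) (h : Nat.card X = Nat.card Y) : ∃ g : G, MulAut.conj g • X = Y := by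
  obtain ⟨P₁, hP₁⟩ := hX.exists_le_sylow
  obtain ⟨P₂, hP₂⟩ := hY.exists_le_sylow
  obtain ⟨g, hg⟩ := MulAction.exists_smul_eq G P₁ P₂
  have h1 : (P₂ : Subgroup G) = MulAut.conj g • (P₁ : Subgroup G) := by
    rw [← hg]; rfl
  have hX' : MulAut.conj g • X ≤ (P₂ : Subgroup G) := by
    rw [h1]
    exact Subgroup.pointwise_smul_le_pointwise_smul_iff.mpr hP₁
  refine ⟨g, ?_⟩
  haveI := hcyc P₂
  have hcard : Nat.card ((MulAut.conj g • X).subgroupOf (P₂ : Subgroup G)) =
      Nat.card (Y.subgroupOf (P₂ : Subgroup G)) := by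
    rw [Nat.card_congr (Subgroup.subgroupOfEquivOfLe hX').toEquiv,
      Nat.card_congr (Subgroup.subgroupOfEquivOfLe hP₂).toEquiv, ← h]
    exact (Nat.card_congr (Subgroup.equivSMul (MulAut.conj g) X).toEquiv).symm
  have heq := subgroup_eq_of_card_eq_of_isCyclic _ _ hcard
  have := congrArg (Subgroup.map (P₂ : Subgroup G).subtype) heq
  rwa [Subgroup.map_subgroupOf_eq_of_le hX', Subgroup.map_subgroupOf_eq_of_le hP₂] at this

end Cfsg.Agent.Helper20
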