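import Mathlib
import Cfsg.Agent.Lib.Helper20.SubCountC
import Cfsg.Agent.Lib.Helper20.ZConj
import Cfsg.Agent.Lib.Helper20.KulB

set_option autoImplicit false

/-! Kulakoff's theorem: in a noncyclic group of order `p^n`, `p` odd, the number of subgroups
of order `p^a`, `0 < a < n`, is `1 + p` modulo `p^2`. -/

namespace Cfsg.Agent.Helper20.SubCount

open Finset

universe u

/-- a cyclic group has exactly one subgroup of each prime power order dividing its order -/
theorem cnt_pow_of_isCyclic (C : Type*) [Group C] [Finite C] [IsCyclic C] (p : ℕ) [Fact p.Prime]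
    (a : ℕ) (h : p ^ a ∣ Nat.card C) : cnt C (p ^ a) = 1 := by
  unfold cnt
  rw [Nat.card_eq_one_iff_unique]
  obtain ⟨K, hK⟩ := Sylow.exists_subgroup_card_pow_prime p h
  refine ⟨⟨fun H K => ?_⟩, ⟨⟨K, hK⟩⟩⟩
  apply Subtype.ext
  exact Cfsg.Agent.Helper20.subgroup_eq_of_card_eq_of_isCyclic H.1 K.1 (by rw [H.2, K.2])

/-- the dual of a noncyclic `p`-group has order at least `p^2` -/
theorem exists_dual_card {P : Type*} [Group P] [Finite P] {p : ℕ} [Fact p.Prime]
    (hP : IsPGroup p P) (hnc : ¬ IsCyclic P) :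
    ∃ d, 2 ≤ d ∧ Nat.card (Dual P p) = p ^ d := by
  have hp : p.Prime := Fact.out
  obtain ⟨d, hd⟩ := exists_card_eq_of_exponent (E := Dual P p) dual_pow
  refine ⟨d, ?_, hd⟩
  have hbt : (⊥ : Subgroup P) ≠ ⊤ := by
    intro h
    apply hnc
    haveI : Subsingleton P := by
      constructor
      intro x y
      have hx : x ∈ (⊥ : Subgroup P) := by rw [h]; exact Subgroup.mem_top x
      have hy : y ∈ (⊥ : Subgroup P) := by rw [h]; exact Subgroup.mem_top y
      rw [Subgroup.mem_bot] at hx hy
      rw [hx, hy]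
    exact isCyclic_of_subsingleton
  obtain ⟨φ, hφ, -⟩ := exists_ne_one_le_ker hP ⊥ hbt
  by_contra hlt
  have hd1 : d = 0 ∨ d = 1 := by omega
  rcases hd1 with rfl | rfl
  · rw [pow_zero] at hd
    haveI : Subsingleton (Dual P p) := (Nat.card_eq_one_iff_unique.mp hd).1
    exact hφ (Subsingleton.elim _ _)
  · rw [pow_one] at hd
    have huniq : ∀ M : Subgroup P, M.index = p → M = φ.ker := by
      intro M hM
      have h1 : ∀ B : {B : Subgroup (Dual P p) // Nat.card B = p}, B.1 = ⊤ := fun B =>
        (Subgroup.card_eq_iff_eq_top B.1).mp (by rw [B.2, hd])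
      have h2 : (equivIndex hP).symm ⟨M, hM⟩ = (equivIndex hP).symm ⟨φ.ker, index_ker φ hφ⟩ := by
        apply Subtype.ext
        rw [h1, h1]
      have := (equivIndex hP).symm.injective h2
      exact congrArg Subtype.val this
    have hne : φ.ker ≠ ⊤ := by
      intro h
      have := index_ker φ hφ
      rw [h, Subgroup.index_top] at this
      exact hp.one_lt.ne this
    obtain ⟨x, hx⟩ : ∃ x, x ∉ φ.ker := by
      by_contra hcon
      push Not at hcon
      exact hne (eq_top_iff.mpr (fun x _ => hcon x))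
    apply hnc
    rw [isCyclic_iff_exists_zpowers_eq_top]
    refine ⟨x, ?_⟩
    by_contra hxt
    obtain ⟨ψ, hψ, hle⟩ := exists_ne_one_le_ker hP (Subgroup.zpowers x) hxt
    have := huniq ψ.ker (index_ker ψ hψ)
    apply hx
    rw [← this]
    exact hle (Subgroup.mem_zpowers x)

/-- the maximal subgroups of a `p`-group are counted by the dual -/
theorem cnt_pred_eq (n : ℕ) (P : Type*) [Group P] [Finite P] (p : ℕ) [Fact p.Prime]
    (hn : Nat.card P = p ^ (n + 1)) : cnt P (p ^ n) = cnt (Dual P p) p := by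
  have hp : p.Prime := Fact.out
  have hP : IsPGroup p P := IsPGroup.of_card hn
  unfold cnt
  rw [Nat.card_congr (equivIndex hP)]
  apply Nat.card_congr
  apply Equiv.subtypeEquivRight
  intro H
  have := Subgroup.card_mul_index H
  rw [hn, pow_succ] at this
  constructor
  · intro h
    rw [h] at this
    exact Nat.eq_of_mul_eq_mul_left (pow_pos hp.pos n) this
  · intro h
    rw [h] at this
    exact Nat.eq_of_mul_eq_mul_right hp.pos this

/-- the elements of order `d` are distributed over the cyclic subgroups of order `d` -/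
theorem card_orderOf_eq_totient_mul {G : Type*} [Group G] [Finite G] (d : ℕ) :
    Nat.card {x : G // orderOf x = d}
      = Nat.totient d * Nat.card {C : Subgroup G // IsCyclic C ∧ Nat.card C = d} := by
  classical
  haveI := Fintype.ofFinite G
  haveI : Fintype {C : Subgroup G // IsCyclic C ∧ Nat.card C = d} := Fintype.ofFinite _
  let f : {x : G // orderOf x = d} → {C : Subgroup G // IsCyclic C ∧ Nat.card C = d} :=
    fun x => ⟨Subgroup.zpowers x.1, inferInstance, by rw [Nat.card_zpowers]; exact x.2⟩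
  have hfib : ∀ C : {C : Subgroup G // IsCyclic C ∧ Nat.card C = d},
      Nat.card {x : {x : G // orderOf x = d} // f x = C} = Nat.totient d := by
    intro C
    have e : {x : {x : G // orderOf x = d} // f x = C} ≃ {g : C.1 // orderOf g = d} := by
      refine ⟨fun x => ⟨⟨x.1.1, ?_⟩, ?_⟩, fun g => ⟨⟨g.1.1, ?_⟩, ?_⟩, ?_, ?_⟩
      · have h2 : Subgroup.zpowers x.1.1 = C.1 := congrArg Subtype.val x.2
        rw [← h2]
        exact Subgroup.mem_zpowers _
      · rw [Subgroup.orderOf_mk]
        exact x.1.2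
      · rw [Subgroup.orderOf_coe]
        exact g.2
      · apply Subtype.ext
        show Subgroup.zpowers g.1.1 = C.1
        apply Subgroup.eq_of_le_of_card_ge
        · rw [Subgroup.zpowers_le]
          exact g.1.2
        · rw [Nat.card_zpowers, Subgroup.orderOf_coe, g.2, C.2.2]
      · intro x
        rfl
      · intro g
        rfl
    rw [Nat.card_congr e]
    haveI := C.2.1
    rw [Nat.card_eq_fintype_card, Fintype.card_subtype]
    apply IsCyclic.card_orderOf_eq_totient
    rw [← Nat.card_eq_fintype_card, C.2.2]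
  rw [Nat.card_congr (Equiv.sigmaFiberEquiv f).symm, Nat.card_sigma,
    Finset.sum_congr rfl (fun C _ => hfib C), Finset.sum_const, Finset.card_univ, smul_eq_mul,
    Nat.card_eq_fintype_card, mul_comm]

/-- in a noncyclic `p`-group, `p` odd, the number of cyclic subgroups of order `p^s`, `s ≥ 2`,
is divisible by `p` -/
theorem prime_dvd_cyclic_count {P : Type*} [Group P] [Finite P] {p : ℕ} [Fact p.Prime]
    (hp2 : p ≠ 2) (hP : IsPGroup p P) (hnc : ¬ IsCyclic P) (s : ℕ) (hs : 2 ≤ s) :
    p ∣ Nat.card {C : Subgroup P // IsCyclic C ∧ Nat.card C = p ^ s} := by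
  have hp : p.Prime := Fact.out
  have h1 := Cfsg.Agent.Helper20.pow_dvd_card_orderOf_of_isPGroup hp2 hP hnc s hs
  rw [card_orderOf_eq_totient_mul] at h1
  obtain ⟨t, rfl⟩ : ∃ t, s = t + 1 := ⟨s - 1, by omega⟩
  rw [Nat.totient_prime_pow_succ hp, pow_succ, mul_assoc] at h1
  have h2 : p ∣ (p - 1) * Nat.card {C : Subgroup P // IsCyclic C ∧ Nat.card C = p ^ (t + 1)} :=
    Nat.dvd_of_mul_dvd_mul_left (pow_pos hp.pos t) h1
  have h3 : Nat.Coprime p (p - 1) := by
    rw [Nat.Prime.coprime_iff_not_dvd hp]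
    intro h
    have := Nat.le_of_dvd (by have := hp.two_le; omega) h
    have := hp.two_le
    omega
  exact h3.dvd_of_dvd_mul_left h2

/-- **Kulakoff's theorem** -/
theorem kulakoff : ∀ (n : ℕ) (P : Type u) [Group P] [Finite P] (p : ℕ) [Fact p.Prime],
    p ≠ 2 → Nat.card P = p ^ n → ¬ IsCyclic P → ∀ a, 0 < a → a < n →
    cnt P (p ^ a) ≡ 1 + p [MOD p ^ 2] := by
  intro n
  induction n using Nat.strong_induction_on with
  | _ n ih =>
    intro P _ _ p _ hp2 hn hnc a ha0 han
    classical
    have hp : p.Prime := Fact.out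
    have hP : IsPGroup p P := IsPGroup.of_card hn
    obtain ⟨d, hd2, hd⟩ := exists_dual_card hP hnc
    have hΛ1 : cnt (Dual P p) p ≡ 1 + p [MOD p ^ 2] :=
      cnt_modEq_of_exponent_sq dual_pow d hd hd2
    have hΛ2 : cnt (Dual P p) (p ^ 2) ≡ 1 [MOD p] := cnt_modEq_one d (Dual P p) p hd 2 hd2
    obtain ⟨m, rfl⟩ : ∃ m, n = m + 1 := ⟨n - 1, by omega⟩
    rcases Nat.eq_or_lt_of_le (Nat.lt_succ_iff.mp han) with rfl | ham
    · rw [cnt_pred_eq a P p hn]
      exact hΛ1
    haveI : Fintype {B : Subgroup (Dual P p) // Nat.card B = p} := Fintype.ofFinite _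
    haveI : Fintype {B : Subgroup (Dual P p) // Nat.card B = p ^ 2} := Fintype.ofFinite _
    have henum := enum_modEq_sq (m + 1) P p hn a han
    -- the subgroups of order `p^2` of the dual
    have hS2 : ∀ B : {B : Subgroup (Dual P p) // Nat.card B = p ^ 2},
        cntIn (kerInf B.1) (p ^ a) ≡ 1 [MOD p] := by
      intro B
      rw [cntIn_eq_cnt]
      obtain ⟨hle, hne⟩ := kerInf_index_le_of_card_sq B.1 B.2
      have hmul := Subgroup.card_mul_index (kerInf B.1)
      rw [hn] at hmul
      have hdvd : (kerInf B.1).index ∣ p ^ (m + 1) := Dvd.intro_left _ hmul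
      obtain ⟨j, hj, hjeq⟩ := (Nat.dvd_prime_pow hp).mp hdvd
      have hj2 : j ≤ 2 := by
        rw [hjeq] at hle
        exact (Nat.pow_le_pow_iff_right hp.one_lt).mp hle
      have hcard : Nat.card (kerInf B.1) = p ^ (m + 1 - j) := by
        rw [hjeq] at hmul
        have : p ^ (m + 1) = p ^ (m + 1 - j) * p ^ j := by
          rw [← pow_add]
          congr 1
          omega
        rw [this] at hmul
        exact Nat.eq_of_mul_eq_mul_right (pow_pos hp.pos j) hmul
      exact cnt_modEq_one (m + 1 - j) _ p hcard a (by omega)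
    have hS : ∑ B : {B : Subgroup (Dual P p) // Nat.card B = p ^ 2}, cntIn (kerInf B.1) (p ^ a)
        ≡ 1 [MOD p] := by
      have h1 : ∑ B : {B : Subgroup (Dual P p) // Nat.card B = p ^ 2}, cntIn (kerInf B.1) (p ^ a)
          ≡ ∑ _B : {B : Subgroup (Dual P p) // Nat.card B = p ^ 2}, 1 [MOD p] := by
        unfold Nat.ModEq
        rw [Finset.sum_nat_mod, Finset.sum_congr rfl (fun B _ => hS2 B), ← Finset.sum_nat_mod]
      simp only [Finset.sum_const, Finset.card_univ, smul_eq_mul, mul_one] at h1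
      rw [← Nat.card_eq_fintype_card] at h1
      exact h1.trans hΛ2
    -- the subgroups of order `p` of the dual
    have hcardM : ∀ B : {B : Subgroup (Dual P p) // Nat.card B = p},
        Nat.card (kerInf B.1) = p ^ m := by
      intro B
      have hidx := kerInf_index_of_card B.1 B.2
      have := Subgroup.card_mul_index (kerInf B.1)
      rw [hidx, hn, pow_succ] at this
      exact Nat.eq_of_mul_eq_mul_right hp.pos this
    have hB1 : ∀ B : {B : Subgroup (Dual P p) // Nat.card B = p},
        cntIn (kerInf B.1) (p ^ a) + p * (if IsCyclic ↥(kerInf B.1) then 1 else 0)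
          ≡ 1 + p [MOD p ^ 2] := by
      intro B
      rw [cntIn_eq_cnt]
      by_cases hcyc : IsCyclic ↥(kerInf B.1)
      · rw [if_pos hcyc, mul_one]
        haveI := hcyc
        rw [cnt_pow_of_isCyclic _ p a (by rw [hcardM B]; exact pow_dvd_pow p ham.le)]
      · rw [if_neg hcyc, mul_zero, add_zero]
        exact ih m (Nat.lt_succ_self m) _ p hp2 (hcardM B) hcyc a ha0 ham
    have hT : ∑ B : {B : Subgroup (Dual P p) // Nat.card B = p},
        (cntIn (kerInf B.1) (p ^ a) + p * (if IsCyclic ↥(kerInf B.1) then 1 else 0))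
        ≡ ∑ _B : {B : Subgroup (Dual P p) // Nat.card B = p}, (1 + p) [MOD p ^ 2] := by
      unfold Nat.ModEq
      rw [Finset.sum_nat_mod, Finset.sum_congr rfl (fun B _ => hB1 B), ← Finset.sum_nat_mod]
    rw [Finset.sum_add_distrib, ← Finset.mul_sum, Finset.sum_const, Finset.card_univ, smul_eq_mul,
      Finset.sum_boole, ← Fintype.card_subtype, ← Nat.card_eq_fintype_card,
      ← Nat.card_eq_fintype_card] at hT
    -- the number of cyclic maximal subgroups
    have hc : Nat.card {B : {B : Subgroup (Dual P p) // Nat.card B = p} // IsCyclic ↥(kerInf B.1)}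
        = Nat.card {C : Subgroup P // IsCyclic C ∧ Nat.card C = p ^ m} := by
      apply Nat.card_congr
      refine ((equivIndex hP).subtypeEquiv (q := fun M : {M : Subgroup P // M.index = p} => IsCyclic ↥M.1) (fun B => Iff.rfl)).trans ?_
      refine ⟨fun M => ⟨M.1.1, M.2, ?_⟩, fun C => ⟨⟨C.1, ?_⟩, C.2.1⟩, fun _ => rfl, fun _ => rfl⟩
      · have := Subgroup.card_mul_index M.1.1
        rw [M.1.2, hn, pow_succ] at this
        exact Nat.eq_of_mul_eq_mul_right hp.pos this
      · have := Subgroup.card_mul_index C.1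
        rw [C.2.2, hn, pow_succ] at this
        exact Nat.eq_of_mul_eq_mul_left (pow_pos hp.pos m) this
    have hpc : p ∣ Nat.card {C : Subgroup P // IsCyclic C ∧ Nat.card C = p ^ m} :=
      prime_dvd_cyclic_count hp2 hP hnc m (by omega)
    rw [← hc] at hpc
    obtain ⟨c', hc'⟩ := hpc
    -- final arithmetic in `ZMod (p^2)`
    have e1 := (ZMod.natCast_eq_natCast_iff _ _ _).mpr henum
    have e2 := (ZMod.natCast_eq_natCast_iff _ _ _).mpr (Nat.ModEq.mul_left' p hS)
    have e3 := (ZMod.natCast_eq_natCast_iff _ _ _).mpr hT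
    have e4 := (ZMod.natCast_eq_natCast_iff _ _ _).mpr hΛ1
    have e6 : ((p ^ 2 : ℕ) : ZMod (p ^ 2)) = 0 := ZMod.natCast_self _
    rw [← sq] at e2
    rw [hc'] at e3
    unfold cnt at e4
    rw [← ZMod.natCast_eq_natCast_iff]
    push_cast at e1 e2 e3 e4 e6 ⊢
    linear_combination e1 + e3 - (c' : ZMod (p ^ 2)) * e6 +
      (1 + (p : ZMod (p ^ 2))) * e4 - e2 + e6

end Cfsg.Agent.Helper20.SubCount
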