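import Mathlib
import Cfsg.Agent.Lib.Helper16.DSQRecog
import Cfsg.Agent.Lib.Helper16.DSQAb
import Cfsg.Agent.Lib.Helper20.ClassTwoPow
import Cfsg.Agent.Lib.Helper20.SubCountD

set_option autoImplicit false

/-! Cyclic maximal subgroups of a `2`-group which is neither cyclic nor of maximal class. -/

namespace Cfsg.Agent.Helper20.Berk

open Cfsg.Agent.Helper16 Cfsg.Agent.Helper20.SubCount
open scoped commutatorElement

universe u

section

variable {P : Type u} [Group P] [Finite P] {m : ℕ}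

/-- a group of order `2^(m+1)` with an element `b` of order `2^m` which is not of maximal class
has its commutators in the central subgroup `⟨b^(2^(m-1))⟩` -/
theorem cyc_facts (hm : 2 ≤ m) (hP : Nat.card P = 2 ^ (m + 1))
    (hcl : Group.nilpotencyClass P ≠ m) (b : P) (hb : orderOf b = 2 ^ m) :
    b ^ 2 ^ (m - 1) ∈ Subgroup.center P ∧
      (∀ g h : P, ⁅g, h⁆ ∈ Subgroup.zpowers (b ^ 2 ^ (m - 1))) ∧
      ((∀ g h : P, ⁅g, h⁆ = 1) ∨ 3 ≤ m) := by
  rcases isDSQ_or (k := m) hm hP hb with h1 | ⟨h3, hzc, hcomm⟩ | ⟨x, hx⟩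
  · have hc : ∀ g h : P, g * h = h * g := fun g h => h1.is_comm.comm g h
    have h0 : ∀ g h : P, ⁅g, h⁆ = 1 := by
      intro g h
      rw [commutatorElement_def, hc g h, mul_inv_cancel_right, mul_inv_cancel]
    refine ⟨?_, ?_, Or.inl h0⟩
    · rw [Subgroup.mem_center_iff]
      intro g
      exact hc _ _
    · intro g h
      rw [h0]
      exact Subgroup.one_mem _
  · refine ⟨hzc, fun g h => hcomm ?_, Or.inr h3⟩
    rw [commutator_def]
    exact Subgroup.commutator_mem_commutator (Subgroup.mem_top g) (Subgroup.mem_top h)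
  · exact absurd (IsDSQ.nilpotencyClass_eq m hm P b x hx) hcl

theorem even_choose_two_pow (hm : 3 ≤ m) : Even ((2 ^ (m - 1)).choose 2) := by
  obtain ⟨t, rfl⟩ : ∃ t, m = t + 3 := ⟨m - 3, by omega⟩
  have h1 : 2 ^ (t + 3 - 1) = 4 * 2 ^ t := by
    have : t + 3 - 1 = t + 2 := by omega
    rw [this, pow_add]
    ring
  rw [Nat.choose_two_right, h1]
  have h2 : 4 * 2 ^ t * (4 * 2 ^ t - 1) = 2 * (2 * (2 ^ t * (4 * 2 ^ t - 1))) := by ring
  rw [h2, Nat.mul_div_cancel_left _ (by norm_num : 0 < 2)]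
  exact even_two_mul _

/-- the power map `g ↦ g^(2^(m-1))` is multiplicative -/
theorem pow_half_mul (hm : 2 ≤ m) (hP : Nat.card P = 2 ^ (m + 1))
    (hcl : Group.nilpotencyClass P ≠ m) (b : P) (hb : orderOf b = 2 ^ m) (g h : P) :
    (g * h) ^ 2 ^ (m - 1) = g ^ 2 ^ (m - 1) * h ^ 2 ^ (m - 1) := by
  obtain ⟨hzc, hcomm, hor⟩ := cyc_facts hm hP hcl b hb
  have hz2 : (b ^ 2 ^ (m - 1)) ^ 2 = 1 := pow_half_sq (by omega) hb
  have hcmem := hcomm h⁻¹ g⁻¹
  have hcdef : ⁅h⁻¹, g⁻¹⁆ = h⁻¹ * g⁻¹ * h * g := by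
    rw [commutatorElement_def, inv_inv, inv_inv]
  have hccen : ⁅h⁻¹, g⁻¹⁆ ∈ Subgroup.center P := (Subgroup.zpowers_le.2 hzc) hcmem
  have hc : h * g = g * h * ⁅h⁻¹, g⁻¹⁆ := by
    rw [hcdef]
    group
  rw [mul_pow_central g h _ hccen hc]
  have hone : ⁅h⁻¹, g⁻¹⁆ ^ (2 ^ (m - 1)).choose 2 = 1 := by
    rcases hor with h0 | h3
    · rw [h0, one_pow]
    · obtain ⟨i, hi⟩ := Subgroup.mem_zpowers_iff.mp hcmem
      have hsq : ⁅h⁻¹, g⁻¹⁆ ^ 2 = 1 := by
        rw [← hi, ← zpow_natCast, ← zpow_mul, mul_comm, zpow_mul, zpow_natCast, hz2, one_zpow]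
      exact sq_eq_one_pow_even hsq (even_choose_two_pow h3)
  rw [hone, mul_one]

theorem index_zpowers_of_orderOf (hP : Nat.card P = 2 ^ (m + 1)) (b : P)
    (hb : orderOf b = 2 ^ m) : (Subgroup.zpowers b).index = 2 := by
  have h1 := Subgroup.card_mul_index (Subgroup.zpowers b)
  rw [Nat.card_zpowers, hb, hP, pow_succ] at h1
  exact Nat.eq_of_mul_eq_mul_left (pow_pos two_pos _) h1

/-- in a noncyclic group all `2^(m-1)`-th powers lie in `⟨b^(2^(m-1))⟩` -/
theorem pow_half_mem (hm : 2 ≤ m) (hP : Nat.card P = 2 ^ (m + 1)) (hnc : ¬ IsCyclic P)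
    (b : P) (hb : orderOf b = 2 ^ m) (g : P) :
    g ^ 2 ^ (m - 1) ∈ Subgroup.zpowers (b ^ 2 ^ (m - 1)) := by
  have hidx := index_zpowers_of_orderOf hP b hb
  have hg2 : g ^ 2 ∈ Subgroup.zpowers b := Subgroup.sq_mem_of_index_two hidx g
  obtain ⟨j, -, hj⟩ := mem_zpowers_exists_nat (by positivity) hb hg2
  have hz2 : (b ^ 2 ^ (m - 1)) ^ 2 = 1 := pow_half_sq (by omega) hb
  have hz1 : b ^ 2 ^ (m - 1) ≠ 1 := pow_half_ne_one (by omega) hb
  have hm1 : 2 ^ (m - 1) = 2 * 2 ^ (m - 2) := by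
    rw [← pow_succ']
    congr 1
    omega
  rcases Nat.even_or_odd' j with ⟨i, hi | hi⟩
  · have h1 : g ^ 2 ^ (m - 1) = (b ^ 2 ^ (m - 1)) ^ i := by
      calc g ^ 2 ^ (m - 1) = (g ^ 2) ^ 2 ^ (m - 2) := by rw [hm1, pow_mul]
        _ = (b ^ (2 * i)) ^ 2 ^ (m - 2) := by rw [hj, hi]
        _ = b ^ (2 * 2 ^ (m - 2) * i) := by
            rw [← pow_mul]
            congr 1
            ring
        _ = (b ^ 2 ^ (m - 1)) ^ i := by rw [← hm1, pow_mul]
    rw [h1]
    exact Subgroup.pow_mem _ (Subgroup.mem_zpowers _) _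
  · exfalso
    apply hnc
    have hgm : g ^ 2 ^ m = b ^ 2 ^ (m - 1) := by
      have hmm : 2 ^ m = 2 * 2 ^ (m - 1) := by
        rw [← pow_succ']
        congr 1
        omega
      rw [hmm, pow_mul, hj, ← pow_mul, mul_comm, pow_mul]
      exact sq_eq_one_pow_odd hz2 ⟨i, hi⟩
    have ho : orderOf g = 2 ^ (m + 1) := by
      haveI : Fact (Nat.Prime 2) := ⟨Nat.prime_two⟩
      apply orderOf_eq_prime_pow
      · rw [hgm]
        exact hz1
      · rw [← hP]
        exact pow_card_eq_one'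
    exact isCyclic_of_orderOf_eq_card g (by rw [ho, hP])

/-- the number of elements of order `2^m` -/
theorem card_orderOf_top (hm : 2 ≤ m) (hP : Nat.card P = 2 ^ (m + 1)) (hnc : ¬ IsCyclic P)
    (hcl : Group.nilpotencyClass P ≠ m) (b : P) (hb : orderOf b = 2 ^ m) :
    Nat.card {g : P // orderOf g = 2 ^ m} = 2 ^ m := by
  classical
  haveI : Fact (Nat.Prime 2) := ⟨Nat.prime_two⟩
  let θ : P →* P :=
    { toFun := fun g => g ^ 2 ^ (m - 1)
      map_one' := one_pow _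
      map_mul' := pow_half_mul hm hP hcl b hb }
  have hθ : ∀ g, θ g = g ^ 2 ^ (m - 1) := fun _ => rfl
  have hz2 : (b ^ 2 ^ (m - 1)) ^ 2 = 1 := pow_half_sq (by omega) hb
  have hz1 : b ^ 2 ^ (m - 1) ≠ 1 := pow_half_ne_one (by omega) hb
  have hrange : θ.range = Subgroup.zpowers (b ^ 2 ^ (m - 1)) := by
    apply le_antisymm
    · rintro _ ⟨g, rfl⟩
      exact pow_half_mem hm hP hnc b hb g
    · rw [Subgroup.zpowers_le]
      exact ⟨b, rfl⟩
  have hidx : θ.ker.index = 2 := by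
    rw [Subgroup.index_ker, hrange, Nat.card_zpowers]
    exact orderOf_eq_prime hz2 hz1
  have hker : Nat.card θ.ker = 2 ^ m := by
    have h1 := Subgroup.card_mul_index θ.ker
    rw [hidx, hP, pow_succ] at h1
    exact Nat.eq_of_mul_eq_mul_right two_pos h1
  have hiff : ∀ g : P, orderOf g = 2 ^ m ↔ g ∉ θ.ker := by
    intro g
    rw [MonoidHom.mem_ker, hθ]
    constructor
    · intro ho h1
      have h2 := orderOf_dvd_of_pow_eq_one h1
      rw [ho] at h2
      have h3 := Nat.le_of_dvd (by positivity) h2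
      have h4 : 2 ^ (m - 1) < 2 ^ m := Nat.pow_lt_pow_right (by norm_num) (by omega)
      omega
    · intro h1
      have h2 : g ^ 2 ^ (m - 1 + 1) = 1 := by
        rw [pow_succ, pow_mul]
        obtain ⟨i, hi⟩ := Subgroup.mem_zpowers_iff.mp (pow_half_mem hm hP hnc b hb g)
        rw [← hi, ← zpow_natCast, ← zpow_mul, mul_comm, zpow_mul, zpow_natCast, hz2, one_zpow]
      have h3 := orderOf_eq_prime_pow h1 h2
      rw [h3]
      congr 1
      omega
  rw [Nat.card_congr (Equiv.subtypeEquivRight hiff)]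
  have h1 : Nat.card {g : P // g ∈ θ.ker} + Nat.card {g : P // g ∉ θ.ker} = Nat.card P := by
    haveI := Fintype.ofFinite P
    simp only [Nat.card_eq_fintype_card]
    rw [Fintype.card_subtype_compl, ← Nat.add_sub_assoc (Fintype.card_subtype_le _),
      Nat.add_sub_cancel_left]
  have h2 : Nat.card {g : P // g ∈ θ.ker} = 2 ^ m := hker
  rw [h2, hP, pow_succ] at h1
  omega

/-- there are exactly two cyclic maximal subgroups, if there is one -/
theorem card_cyclic_max (hm : 2 ≤ m) (hP : Nat.card P = 2 ^ (m + 1)) (hnc : ¬ IsCyclic P)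
    (hcl : Group.nilpotencyClass P ≠ m) (b : P) (hb : orderOf b = 2 ^ m) :
    Nat.card {C : Subgroup P // IsCyclic C ∧ Nat.card C = 2 ^ m} = 2 := by
  have h1 := card_orderOf_top hm hP hnc hcl b hb
  rw [card_orderOf_eq_totient_mul] at h1
  have htot : Nat.totient (2 ^ m) = 2 ^ (m - 1) := by
    have : m = (m - 1) + 1 := by omega
    rw [this, Nat.totient_prime_pow_succ Nat.prime_two, Nat.add_sub_cancel]
    norm_num
  have hmm : 2 ^ m = 2 ^ (m - 1) * 2 := by
    rw [← pow_succ]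
    congr 1
    omega
  rw [htot] at h1
  have h2 : 2 ^ (m - 1) * Nat.card {C : Subgroup P // IsCyclic C ∧ Nat.card C = 2 ^ m}
      = 2 ^ (m - 1) * 2 := by
    rw [h1, ← hmm]
  exact Nat.eq_of_mul_eq_mul_left (pow_pos two_pos _) h2

/-- the number of cyclic maximal subgroups is even -/
theorem even_card_cyclic_max (hm : 2 ≤ m) (hP : Nat.card P = 2 ^ (m + 1)) (hnc : ¬ IsCyclic P)
    (hcl : Group.nilpotencyClass P ≠ m) :
    Even (Nat.card {C : Subgroup P // IsCyclic C ∧ Nat.card C = 2 ^ m}) := by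
  by_cases hne : Nonempty {C : Subgroup P // IsCyclic C ∧ Nat.card C = 2 ^ m}
  · obtain ⟨⟨C, hC, hcard⟩⟩ := hne
    obtain ⟨c, hc⟩ := IsCyclic.exists_generator (α := C)
    have hb : orderOf (c : P) = 2 ^ m := by
      rw [Subgroup.orderOf_coe, orderOf_eq_card_of_forall_mem_zpowers hc, hcard]
    rw [card_cyclic_max hm hP hnc hcl (c : P) hb]
    exact even_two
  · rw [not_nonempty_iff] at hne
    rw [Nat.card_of_isEmpty]
    exact Even.zero

/-- squares of the generator are central -/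
theorem sq_mem_center (hm : 2 ≤ m) (hP : Nat.card P = 2 ^ (m + 1))
    (hcl : Group.nilpotencyClass P ≠ m) (b : P) (hb : orderOf b = 2 ^ m) :
    b ^ 2 ∈ Subgroup.center P := by
  obtain ⟨hzc, hcomm, -⟩ := cyc_facts hm hP hcl b hb
  have hz2 : (b ^ 2 ^ (m - 1)) ^ 2 = 1 := pow_half_sq (by omega) hb
  rw [Subgroup.mem_center_iff]
  intro g
  have hcmem := hcomm g b
  have hccen : ⁅g, b⁆ ∈ Subgroup.center P := (Subgroup.zpowers_le.2 hzc) hcmem
  obtain ⟨i, hi⟩ := Subgroup.mem_zpowers_iff.mp hcmem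
  have hsq : ⁅g, b⁆ ^ 2 = 1 := by
    rw [← hi, ← zpow_natCast, ← zpow_mul, mul_comm, zpow_mul, zpow_natCast, hz2, one_zpow]
  have hcc : ∀ y : P, y * ⁅g, b⁆ = ⁅g, b⁆ * y := Subgroup.mem_center_iff.mp hccen
  have h1 : g * b = ⁅g, b⁆ * b * g := by
    rw [commutatorElement_def]
    group
  calc g * b ^ 2 = g * b * b := by rw [pow_two, mul_assoc]
    _ = ⁅g, b⁆ * b * g * b := by rw [h1]
    _ = ⁅g, b⁆ * b * (g * b) := by group
    _ = ⁅g, b⁆ * b * (⁅g, b⁆ * b * g) := by rw [h1]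
    _ = ⁅g, b⁆ * (b * ⁅g, b⁆) * b * g := by group
    _ = ⁅g, b⁆ * (⁅g, b⁆ * b) * b * g := by rw [hcc b]
    _ = ⁅g, b⁆ ^ 2 * b ^ 2 * g := by
        rw [pow_two, pow_two]
        group
    _ = b ^ 2 * g := by rw [hsq, one_mul]

/-- with a cyclic maximal subgroup, no maximal subgroup is of maximal class -/
theorem not_maxClass_of_cyclic_max (hm : 3 ≤ m) (hP : Nat.card P = 2 ^ (m + 1))
    (hcl : Group.nilpotencyClass P ≠ m) (b : P) (hb : orderOf b = 2 ^ m)
    (M : Subgroup P) (hM : M.index = 2) : Group.nilpotencyClass M ≠ m - 1 := by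
  intro hc
  have hMcard : Nat.card M = 2 ^ m := by
    have h1 := Subgroup.card_mul_index M
    rw [hM, hP, pow_succ] at h1
    exact Nat.eq_of_mul_eq_mul_right two_pos h1
  obtain ⟨a, x, hax⟩ := exists_isDSQ_of_maximal_class m hm M hMcard hc
  have hcen := hax.card_center
  have hbM : b ^ 2 ∈ M := Subgroup.sq_mem_of_index_two hM b
  have hbc := sq_mem_center (by omega) hP hcl b hb
  have hw : (⟨b ^ 2, hbM⟩ : M) ∈ Subgroup.center M := by
    rw [Subgroup.mem_center_iff]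
    intro y
    apply Subtype.ext
    exact Subgroup.mem_center_iff.mp hbc y
  have ho : orderOf (⟨b ^ 2, hbM⟩ : M) = 2 ^ (m - 1) := by
    rw [Subgroup.orderOf_mk, orderOf_pow' b (by norm_num : 2 ≠ 0), hb]
    have hg : Nat.gcd (2 ^ m) 2 = 2 := by
      apply Nat.gcd_eq_right
      exact dvd_pow_self 2 (by omega)
    rw [hg]
    have : 2 ^ m = 2 ^ (m - 1) * 2 := by
      rw [← pow_succ]
      congr 1
      omega
    rw [this, Nat.mul_div_cancel _ two_pos]
  have h1 : orderOf (⟨⟨b ^ 2, hbM⟩, hw⟩ : Subgroup.center M) ∣ Nat.card (Subgroup.center M) :=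
    orderOf_dvd_natCard _
  rw [Subgroup.orderOf_mk, ho, hcen] at h1
  have h2 := Nat.le_of_dvd two_pos h1
  have h3 : 2 ^ 2 ≤ 2 ^ (m - 1) := Nat.pow_le_pow_right (by norm_num) (by omega)
  omega

end

end Cfsg.Agent.Helper20.Berk
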