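import Mathlib
import Cfsg.Agent.Lib.Helper20.KulA
import Cfsg.Agent.Lib.Helper20.KulB

set_option autoImplicit false

namespace Cfsg.Agent.Helper20

open Finset

/-- In a finite group with noncyclic Sylow `p`-subgroups (`p` odd), the number of elements of
order `p^s`, `s ≥ 2`, is divisible by `p^s`. -/
theorem pow_dvd_card_orderOf {K : Type*} [Group K] [Finite K] {p : ℕ} [Fact p.Prime]
    (hp2 : p ≠ 2) (P : Sylow p K) (hnc : ¬ IsCyclic (P : Subgroup K)) (s : ℕ) (hs : 2 ≤ s) :
    p ^ s ∣ Nat.card {x : K // orderOf x = p ^ s} := by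
  classical
  haveI := Fintype.ofFinite K
  haveI : Fintype (Sylow p K) := Fintype.ofFinite _
  have hp : p.Prime := Fact.out
  rw [Nat.card_eq_fintype_card, Fintype.card_subtype]
  set X : Finset K := univ.filter (fun x : K => orderOf x = p ^ s) with hX
  set lam : K → ℕ := fun x => (univ.filter (fun Q : Sylow p K => x ∈ (Q : Subgroup K))).card
    with hlam
  -- (a) double counting
  have hdc : ∑ x ∈ X, lam x = ∑ Q : Sylow p K, (X.filter (fun x => x ∈ (Q : Subgroup K))).card := by
    have := Finset.sum_card_bipartiteAbove_eq_sum_card_bipartiteBelow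
      (s := X) (t := (univ : Finset (Sylow p K))) (fun (x : K) (Q : Sylow p K) => x ∈ (Q : Subgroup K))
    simpa [Finset.bipartiteAbove, Finset.bipartiteBelow, hlam] using this
  -- (b) each term on the right is divisible by p^s
  have hb : ∀ Q : Sylow p K, p ^ s ∣ (X.filter (fun x => x ∈ (Q : Subgroup K))).card := by
    intro Q
    have hQnc : ¬ IsCyclic (Q : Subgroup K) := by
      intro hc
      apply hnc
      exact isCyclic_of_surjective (Sylow.equiv Q P).toMonoidHom (Sylow.equiv Q P).surjective
    have h1 := pow_dvd_card_orderOf_of_isPGroup hp2 Q.isPGroup' hQnc s hs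
    rw [Nat.card_eq_fintype_card, Fintype.card_subtype] at h1
    have h2 : (univ.filter (fun y : (Q : Subgroup K) => orderOf y = p ^ s)).card
        = (X.filter (fun x => x ∈ (Q : Subgroup K))).card := by
      apply Finset.card_bij (fun (y : (Q : Subgroup K)) _ => (y : K))
      · intro y hy
        rw [Finset.mem_filter] at hy
        rw [Finset.mem_filter, hX, Finset.mem_filter]
        refine ⟨⟨Finset.mem_univ _, ?_⟩, y.2⟩
        rw [Subgroup.orderOf_coe]; exact hy.2
      · intro a _ b _ hab
        exact Subtype.ext hab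
      · intro x hx
        rw [Finset.mem_filter, hX, Finset.mem_filter] at hx
        refine ⟨⟨x, hx.2⟩, ?_, rfl⟩
        rw [Finset.mem_filter]
        refine ⟨Finset.mem_univ _, ?_⟩
        rw [← Subgroup.orderOf_coe]
        exact hx.1.2
    rw [← h2]
    exact h1
  have hsum_lam : p ^ s ∣ ∑ x ∈ X, lam x := by
    rw [hdc]
    exact Finset.dvd_sum (fun Q _ => hb Q)
  -- (c) lam x ≡ 1 mod p
  have hc : ∀ x : K, orderOf x = p ^ s → lam x ≡ 1 [MOD p] := by
    intro x hx
    have hZ : IsPGroup p (Subgroup.zpowers x) := by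
      apply IsPGroup.of_card (n := s)
      rw [Nat.card_zpowers, hx]
    have h1 : Nat.card (Sylow p K) ≡
        Nat.card (MulAction.fixedPoints (Subgroup.zpowers x) (Sylow p K)) [MOD p] :=
      hZ.card_modEq_card_fixedPoints (Sylow p K)
    have h2 : Nat.card (MulAction.fixedPoints (Subgroup.zpowers x) (Sylow p K)) = lam x := by
      rw [hlam, Nat.card_eq_fintype_card, ← Set.toFinset_card]
      congr 1
      ext Q
      simp only [Set.mem_toFinset, Finset.mem_filter, Finset.mem_univ, true_and]
      rw [hZ.sylow_mem_fixedPoints_iff, Subgroup.zpowers_le]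
    rw [h2] at h1
    exact h1.symm.trans (card_sylow_modEq_one p K)
  have hlam_pos : ∀ x : K, orderOf x = p ^ s → 1 ≤ lam x := by
    intro x hx
    by_contra h0
    have h00 : lam x = 0 := by omega
    have := hc x hx
    rw [h00] at this
    have h3 : (0 : ℕ) % p = 1 % p := this
    rw [Nat.zero_mod, Nat.mod_eq_of_lt hp.one_lt] at h3
    omega
  -- (d) weighted lemma
  have hW := totient_mul_dvd_sum (G := K) (p ^ s) p (fun x => lam x - 1) ?_ ?_
  · have htot : Nat.totient (p ^ s) * p = p ^ s * (p - 1) := by
      rw [Nat.totient_prime_pow hp (by omega)]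
      have : s = (s - 1) + 1 := by omega
      conv_rhs => rw [this, pow_succ]
      ring
    rw [htot] at hW
    have hW' : p ^ s ∣ ∑ x ∈ X, (lam x - 1) := dvd_trans (dvd_mul_right _ _) hW
    -- (e)
    have hsplit : ∑ x ∈ X, lam x = ∑ x ∈ X, (lam x - 1) + X.card := by
      rw [Finset.card_eq_sum_ones, ← Finset.sum_add_distrib]
      apply Finset.sum_congr rfl
      intro x hx
      have := hlam_pos x (by rw [hX, Finset.mem_filter] at hx; exact hx.2)
      omega
    rw [hsplit] at hsum_lam
    exact (Nat.dvd_add_right hW').mp hsum_lam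
  · intro x y _ _ hxy
    show lam x - 1 = lam y - 1
    congr 1
    rw [hlam]
    show (univ.filter (fun Q : Sylow p K => x ∈ (Q : Subgroup K))).card
      = (univ.filter (fun Q : Sylow p K => y ∈ (Q : Subgroup K))).card
    congr 1
    ext Q
    simp only [Finset.mem_filter, Finset.mem_univ, true_and]
    rw [← Subgroup.zpowers_le, ← Subgroup.zpowers_le (g := y), hxy]
  · intro x hx
    have h1 := hc x hx
    have h2 := hlam_pos x hx
    exact (Nat.modEq_iff_dvd' h2).mp h1.symm

end Cfsg.Agent.Helper20
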