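import Mathlib
import Cfsg.Agent.Lib.Helper20.SylowBasic
import Cfsg.Agent.Lib.Helper20.PrimaryParts
import Cfsg.Agent.Lib.Helper20.OrderCount
import Cfsg.Agent.Lib.Helper20.KulC

set_option autoImplicit false

namespace Cfsg.Agent.Helper20

open Finset

/-- orbit counting with weights for a `p`-group action -/
theorem pow_dvd_sum_of_pgroup_action {Γ Y : Type*} [Group Γ] [Finite Γ] {p : ℕ} [Fact p.Prime]
    (hΓ : IsPGroup p Γ) [Fintype Y] [MulAction Γ Y] (f : Y → ℕ) (s : ℕ) (hs : 1 ≤ s)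
    (hinv : ∀ (γ : Γ) (y : Y), f (γ • y) = f y)
    (h1 : ∀ y, p ^ (s - 1) ∣ f y)
    (h2 : ∀ y, (∀ γ : Γ, γ • y = y) → p ^ s ∣ f y) : p ^ s ∣ ∑ y, f y := by
  classical
  have hp : p.Prime := Fact.out
  haveI : Fintype (MulAction.orbitRel.Quotient Γ Y) := Fintype.ofFinite _
  rw [← Finset.sum_fiberwise (s := univ)
    (g := fun y => (Quotient.mk'' y : MulAction.orbitRel.Quotient Γ Y)) (f := f)]
  apply Finset.dvd_sum
  intro q _
  obtain ⟨y₀, rfl⟩ := Quotient.exists_rep q
  have hfib : ∀ y, y ∈ univ.filter (fun y =>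
      (Quotient.mk'' y : MulAction.orbitRel.Quotient Γ Y) = Quotient.mk'' y₀) ↔
      y ∈ MulAction.orbit Γ y₀ := by
    intro y
    rw [Finset.mem_filter]
    simp only [Finset.mem_univ, true_and]
    rw [Quotient.eq'', MulAction.orbitRel_apply]
  have hconst : ∑ y ∈ univ.filter (fun y =>
      (Quotient.mk'' y : MulAction.orbitRel.Quotient Γ Y) = Quotient.mk'' y₀), f y
      = ∑ y ∈ univ.filter (fun y =>
      (Quotient.mk'' y : MulAction.orbitRel.Quotient Γ Y) = Quotient.mk'' y₀), f y₀ := by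
    apply Finset.sum_congr rfl
    intro y hy
    rw [hfib] at hy
    obtain ⟨γ, rfl⟩ := hy
    exact hinv γ y₀
  have hcard : (univ.filter (fun y =>
      (Quotient.mk'' y : MulAction.orbitRel.Quotient Γ Y) = Quotient.mk'' y₀)).card
      = Nat.card (MulAction.orbit Γ y₀) := by
    rw [Nat.card_eq_fintype_card, ← Set.toFinset_card]
    congr 1
    ext y
    rw [hfib, Set.mem_toFinset]
  have hq : (⟦y₀⟧ : MulAction.orbitRel.Quotient Γ Y) = Quotient.mk'' y₀ := rfl
  rw [hq, hconst, Finset.sum_const, smul_eq_mul, hcard]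
  obtain ⟨n, hn⟩ := hΓ.card_orbit y₀
  rw [hn]
  rcases Nat.eq_zero_or_pos n with hn0 | hn0
  · -- fixed point
    rw [hn0, pow_zero, one_mul]
    apply h2
    intro γ
    rw [hn0, pow_zero] at hn
    have hsub := (Nat.card_eq_one_iff_unique.mp hn).1
    have h3 : (⟨γ • y₀, MulAction.mem_orbit y₀ γ⟩ : MulAction.orbit Γ y₀)
        = ⟨y₀, MulAction.mem_orbit_self y₀⟩ := Subsingleton.elim _ _
    exact congrArg Subtype.val h3
  · have h3 : p ^ s = p * p ^ (s - 1) := by
      rw [← pow_succ']; congr 1; omega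
    rw [h3]
    exact Nat.mul_dvd_mul (dvd_pow_self p (by omega)) (h1 y₀)

variable {G : Type*} [Group G]

/-- conjugation action of a subgroup on the elements of a given order -/
@[instance_reducible]
def conjOrderAction (H : Subgroup G) (m : ℕ) : MulAction H {y : G // orderOf y = m} where
  smul γ y := ⟨(γ : G) * (y : G) * (γ : G)⁻¹, by rw [orderOf_conj]; exact y.2⟩
  one_smul y := by
    apply Subtype.ext
    show ((1 : H) : G) * (y : G) * ((1 : H) : G)⁻¹ = y
    simp
  mul_smul a b y := by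
    apply Subtype.ext
    show ((a * b : H) : G) * (y : G) * ((a * b : H) : G)⁻¹
      = (a : G) * ((b : G) * (y : G) * (b : G)⁻¹) * (a : G)⁻¹
    simp [mul_assoc]

theorem conjOrderAction_smul_coe (H : Subgroup G) (m : ℕ) (γ : H) (y : {y : G // orderOf y = m}) :
    (((conjOrderAction H m).smul γ y : {y : G // orderOf y = m}) : G)
      = (γ : G) * (y : G) * (γ : G)⁻¹ := rfl

/-- decomposition of the elements of order `a * b` (`a`, `b` coprime) -/
theorem card_orderOf_mul_eq_sum [Finite G] (a b : ℕ) (hab : Nat.Coprime a b) (ha : 0 < a)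
    (hb : 0 < b) [Fintype {y : G // orderOf y = b}] :
    Nat.card {g : G // orderOf g = a * b}
      = ∑ y : {y : G // orderOf y = b}, Nat.card {x : G // Commute x (y : G) ∧ orderOf x = a} := by
  classical
  rw [← Nat.card_sigma]
  symm
  apply Nat.card_congr
  refine Equiv.ofBijective
    (fun z => ⟨(z.2 : G) * (z.1 : G), ?_⟩) ⟨?_, ?_⟩
  · have hc : Commute (z.2 : G) (z.1 : G) := z.2.2.1
    rw [hc.orderOf_mul_eq_mul_orderOf_of_coprime (by rw [z.2.2.2, z.1.2]; exact hab),
      z.2.2.2, z.1.2]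
  · -- injective
    rintro ⟨⟨y, hy⟩, ⟨x, hxc, hx⟩⟩ ⟨⟨y', hy'⟩, ⟨x', hxc', hx'⟩⟩ h
    have h' : x * y = x' * y' := congrArg Subtype.val h
    obtain ⟨α, β, hαβ⟩ : IsCoprime ((a : ℕ) : ℤ) (b : ℤ) := Nat.isCoprime_iff_coprime.mpr hab
    have key : ∀ (x y : G), Commute x y → orderOf x = a → orderOf y = b →
        (x * y) ^ (β * (b : ℤ)) = x ∧ (x * y) ^ (α * (a : ℤ)) = y := by
      intro x y hc hx hy
      have hxa : x ^ (a : ℤ) = 1 := by rw [zpow_natCast, ← hx, pow_orderOf_eq_one]
      have hyb : y ^ (b : ℤ) = 1 := by rw [zpow_natCast, ← hy, pow_orderOf_eq_one]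
      have e1 : y ^ (β * (b : ℤ)) = 1 := by rw [zpow_mul', hyb, one_zpow]
      have e2 : x ^ (β * (b : ℤ)) = x := by
        have : β * (b : ℤ) = 1 - α * (a : ℤ) := by linarith
        rw [this, zpow_sub, zpow_one, zpow_mul', hxa, one_zpow, inv_one, mul_one]
      have e3 : x ^ (α * (a : ℤ)) = 1 := by rw [zpow_mul', hxa, one_zpow]
      have e4 : y ^ (α * (a : ℤ)) = y := by
        have : α * (a : ℤ) = 1 - β * (b : ℤ) := by linarith
        rw [this, zpow_sub, zpow_one, zpow_mul', hyb, one_zpow, inv_one, mul_one]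
      constructor
      · rw [hc.mul_zpow, e1, e2, mul_one]
      · rw [hc.mul_zpow, e3, e4, one_mul]
    have k1 := key x y hxc hx hy
    have k2 := key x' y' hxc' hx' hy'
    have hxx : x = x' := by rw [← k1.1, ← k2.1, h']
    have hyy : y = y' := by rw [← k1.2, ← k2.2, h']
    subst hxx
    subst hyy
    rfl
  · -- surjective
    rintro ⟨g, hg⟩
    obtain ⟨α, β, hαβ⟩ : IsCoprime ((a : ℕ) : ℤ) (b : ℤ) := Nat.isCoprime_iff_coprime.mpr hab
    set x : G := g ^ (β * (b : ℤ)) with hxdef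
    set y : G := g ^ (α * (a : ℤ)) with hydef
    have hxy : x * y = g := by
      rw [hxdef, hydef, ← zpow_add, add_comm, hαβ, zpow_one]
    have hc : Commute x y := by
      rw [hxdef, hydef]
      exact (Commute.refl g).zpow_zpow _ _
    have hgab : g ^ ((a : ℤ) * (b : ℤ)) = 1 := by
      rw [← Int.natCast_mul, zpow_natCast, ← hg, pow_orderOf_eq_one]
    have hxa : x ^ a = 1 := by
      rw [hxdef, ← zpow_natCast, ← zpow_mul]
      have : β * (b : ℤ) * (a : ℤ) = (a : ℤ) * (b : ℤ) * β := by ring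
      rw [this, zpow_mul, hgab, one_zpow]
    have hyb : y ^ b = 1 := by
      rw [hydef, ← zpow_natCast, ← zpow_mul]
      have : α * (a : ℤ) * (b : ℤ) = (a : ℤ) * (b : ℤ) * α := by ring
      rw [this, zpow_mul, hgab, one_zpow]
    have hox : orderOf x ∣ a := orderOf_dvd_of_pow_eq_one hxa
    have hoy : orderOf y ∣ b := orderOf_dvd_of_pow_eq_one hyb
    have hcop : (orderOf x).Coprime (orderOf y) :=
      Nat.Coprime.coprime_dvd_left hox (Nat.Coprime.coprime_dvd_right hoy hab)
    have hprod : orderOf x * orderOf y = a * b := by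
      rw [← hc.orderOf_mul_eq_mul_orderOf_of_coprime hcop, hxy, hg]
    have hxpos : 0 < orderOf x := Nat.pos_of_dvd_of_pos hox ha
    have hypos : 0 < orderOf y := Nat.pos_of_dvd_of_pos hoy hb
    have hxle : orderOf x ≤ a := Nat.le_of_dvd ha hox
    have hyle : orderOf y ≤ b := Nat.le_of_dvd hb hoy
    have hxeq : orderOf x = a := by
      by_contra hne
      have hlt : orderOf x < a := lt_of_le_of_ne hxle hne
      have : orderOf x * orderOf y < a * b := by
        calc orderOf x * orderOf y < a * orderOf y := Nat.mul_lt_mul_of_pos_right hlt hypos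
          _ ≤ a * b := Nat.mul_le_mul_left a hyle
      omega
    have hyeq : orderOf y = b := by
      rw [hxeq] at hprod
      exact Nat.eq_of_mul_eq_mul_left ha hprod
    refine ⟨⟨⟨y, hyeq⟩, ⟨x, hc, hxeq⟩⟩, ?_⟩
    apply Subtype.ext
    exact hxy

end Cfsg.Agent.Helper20
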