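import Mathlib
import Cfsg.Agent.Lib.Helper20.SubCountA
import Cfsg.Agent.Lib.Helper20.KulD

set_option autoImplicit false

/-! Conjugation action of a subgroup on the lattice of subgroups: basic tools. -/

namespace Cfsg.Agent.Helper20.SubCount

open scoped Pointwise

universe u

variable {G : Type u} [Group G]

theorem mem_conj_smul {H : Subgroup G} {g x : G} :
    x ∈ MulAut.conj g • H ↔ g⁻¹ * x * g ∈ H := by
  rw [Subgroup.mem_pointwise_smul_iff_inv_smul_mem]
  simp [MulAut.smul_def]

theorem conj_smul_eq_iff {H : Subgroup G} {g : G} :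
    MulAut.conj g • H = H ↔ g ∈ Subgroup.normalizer (H : Set G) := by
  constructor
  · intro h
    rw [Subgroup.mem_normalizer_iff]
    intro x
    constructor
    · intro hx
      have := Subgroup.smul_mem_pointwise_smul x (MulAut.conj g) H hx
      rw [h, MulAut.smul_def, MulAut.conj_apply] at this
      exact this
    · intro hx
      rw [← h, mem_conj_smul] at hx
      simpa [mul_assoc] using hx
  · intro hg
    ext z
    rw [mem_conj_smul]
    have h1 := (Subgroup.mem_normalizer_iff.mp hg) (g⁻¹ * z * g)
    rw [h1]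
    have : g * (g⁻¹ * z * g) * g⁻¹ = z := by group
    rw [this]

theorem card_conj_smul (g : G) (H : Subgroup G) :
    Nat.card ↥(MulAut.conj g • H : Subgroup G) = Nat.card H :=
  (Nat.card_congr (Subgroup.equivSMul (MulAut.conj g) H).toEquiv).symm

theorem normalizer_conj_smul (g : G) (H : Subgroup G) :
    Subgroup.normalizer ((MulAut.conj g • H : Subgroup G) : Set G)
      = MulAut.conj g • Subgroup.normalizer (H : Set G) := by
  ext x
  rw [mem_conj_smul, ← conj_smul_eq_iff, ← conj_smul_eq_iff]
  constructor
  · intro h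
    have h1 : MulAut.conj (g⁻¹ * x * g) = (MulAut.conj g)⁻¹ * MulAut.conj x * MulAut.conj g := by
      rw [map_mul, map_mul, map_inv]
    rw [h1, mul_smul, mul_smul, h, inv_smul_smul]
  · intro h
    have h1 : MulAut.conj x * MulAut.conj g = MulAut.conj g * MulAut.conj (g⁻¹ * x * g) := by
      rw [← map_mul, ← map_mul]
      congr 1
      group
    rw [← mul_smul, h1, mul_smul, h]

theorem conj_smul_le_normalizer_iff (g : G) (Q H : Subgroup G) :
    MulAut.conj g • Q ≤ Subgroup.normalizer ((MulAut.conj g • H : Subgroup G) : Set G)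
      ↔ Q ≤ Subgroup.normalizer (H : Set G) := by
  rw [normalizer_conj_smul, Subgroup.pointwise_smul_le_pointwise_smul_iff]

theorem conj_smul_le_iff_of_mem {M : Subgroup G} {g : G}
    (hg : g ∈ Subgroup.normalizer (M : Set G)) (H : Subgroup G) :
    MulAut.conj g • H ≤ M ↔ H ≤ M := by
  have h1 : MulAut.conj g • M = M := conj_smul_eq_iff.mpr hg
  conv_lhs => rw [← h1]
  exact Subgroup.pointwise_smul_le_pointwise_smul_iff

/-- conjugation action of a subgroup on the set of all subgroups -/
@[instance_reducible]
def conjSubAct (Γ : Subgroup G) : MulAction Γ (Subgroup G) :=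
  MulAction.compHom (Subgroup G) ((MulAut.conj : G →* MulAut G).comp Γ.subtype)

theorem conjSubAct_smul (Γ : Subgroup G) (γ : Γ) (H : Subgroup G) :
    (conjSubAct Γ).toSMul.smul γ H = MulAut.conj (γ : G) • H := rfl

/-- orbit-stabilizer for the conjugation action on subgroups -/
theorem card_orbit_mul [Finite G] (Γ H : Subgroup G) :
    Nat.card (@MulAction.orbit Γ (Subgroup G) (conjSubAct Γ).toSMul H)
      * Nat.card ↥(Subgroup.normalizer (H : Set G) ⊓ Γ : Subgroup G) = Nat.card Γ := by
  letI := conjSubAct Γ
  have h1 : Nat.card (MulAction.orbit Γ H) = (MulAction.stabilizer Γ H).index :=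
    Nat.card_congr (MulAction.orbitEquivQuotientStabilizer Γ H)
  have h2 : MulAction.stabilizer Γ H = (Subgroup.normalizer (H : Set G)).subgroupOf Γ := by
    ext γ
    rw [MulAction.mem_stabilizer_iff, Subgroup.mem_subgroupOf]
    exact conj_smul_eq_iff
  have h3 : Nat.card ↥((Subgroup.normalizer (H : Set G)).subgroupOf Γ)
      = Nat.card ↥(Subgroup.normalizer (H : Set G) ⊓ Γ : Subgroup G) := by
    rw [← Subgroup.inf_subgroupOf_right]
    exact Nat.card_congr (Subgroup.subgroupOfEquivOfLe inf_le_right).toEquiv
  rw [h1, h2, ← h3, mul_comm]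
  exact Subgroup.card_mul_index _

/-- a subgroup between two subgroups of relative index `p` -/
theorem eq_or_eq_of_card_mul {p : ℕ} (hp : p.Prime) {A B C : Subgroup G} [Finite C]
    (hAB : A ≤ B) (hBC : B ≤ C) (h : p * Nat.card A = Nat.card C) : B = A ∨ B = C := by
  haveI : Finite B := Finite.of_injective _ (Subgroup.inclusion_injective hBC)
  haveI : Finite A := Finite.of_injective _ (Subgroup.inclusion_injective hAB)
  obtain ⟨m, hm⟩ := Subgroup.card_dvd_of_le hAB
  obtain ⟨l, hl⟩ := Subgroup.card_dvd_of_le hBC
  have hA : 0 < Nat.card A := Nat.card_pos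
  have h1 : m * l = p := by
    rw [hl, hm] at h
    have : Nat.card A * p = Nat.card A * (m * l) := by rw [mul_comm, h, mul_assoc]
    exact (Nat.eq_of_mul_eq_mul_left hA this).symm
  have h2 : m ∣ p := Dvd.intro _ h1
  rcases (Nat.dvd_prime hp).mp h2 with rfl | rfl
  · left
    symm
    apply Subgroup.eq_of_le_of_card_ge hAB
    rw [hm, mul_one]
  · right
    have hl1 : l = 1 := by
      have : m * l = m * 1 := by rw [h1, mul_one]
      exact Nat.eq_of_mul_eq_mul_left hp.pos this
    apply Subgroup.eq_of_le_of_card_ge hBC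
    rw [hl, hl1, mul_one]

/-- splitting a counted set according to a second predicate -/
theorem card_subtype_split {α : Type*} [Finite α] (r q : α → Prop) :
    Nat.card {x // r x} = Nat.card {x // r x ∧ q x} + Nat.card {x // r x ∧ ¬ q x} := by
  classical
  haveI := Fintype.ofFinite α
  simp only [Nat.card_eq_fintype_card, Fintype.card_subtype]
  rw [← Finset.card_filter_add_card_filter_not (s := Finset.univ.filter r) q,
    Finset.filter_filter, Finset.filter_filter]

/-- counting with an indicator function -/
theorem card_subtype_eq_sum {α : Type*} [Fintype α] (r : α → Prop) [DecidablePred r] :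
    Nat.card {x // r x} = ∑ x, (if r x then 1 else 0) := by
  rw [Nat.card_eq_fintype_card, Fintype.card_subtype, Finset.sum_boole]
  simp

/-- a `p`-subgroup normalized by a Sylow `p`-subgroup is contained in it -/
theorem le_sylow_of_le_normalizer {p : ℕ} [Fact p.Prime] (P : Sylow p G) (H : Subgroup G)
    (hH : IsPGroup p H) (h : (P : Subgroup G) ≤ Subgroup.normalizer (H : Set G)) :
    H ≤ (P : Subgroup G) := by
  have h1 : IsPGroup p (H ⊔ (P : Subgroup G) : Subgroup G) :=
    IsPGroup.to_sup_of_normal_left' hH P.isPGroup' h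
  have h2 := P.is_maximal' h1 le_sup_right
  rw [← h2]
  exact le_sup_left

/-- every `p`-subgroup lies in a subgroup of the order of a Sylow `p`-subgroup -/
theorem exists_le_card_eq [Finite G] {p : ℕ} [Fact p.Prime] (P : Sylow p G) (K : Subgroup G)
    (hK : IsPGroup p K) : ∃ Q : Subgroup G, K ≤ Q ∧ Nat.card Q = Nat.card (P : Subgroup G) := by
  obtain ⟨Q, hQ⟩ := hK.exists_le_sylow
  refine ⟨Q, hQ, ?_⟩
  rw [Sylow.card_eq_multiplicity, Sylow.card_eq_multiplicity]

end Cfsg.Agent.Helper20.SubCount
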