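import Mathlib
import Cfsg.Agent.Lib.Helper16.DSQRecog
import Cfsg.Agent.Lib.Helper16.DSQAb
import Cfsg.Agent.Lib.Helper16.InvCent
import Cfsg.Agent.Lib.Helper22.MaxClass
import Cfsg.Agent.Lib.Helper20.SubCountD
import Cfsg.Agent.Lib.Helper20.SubCountE

set_option autoImplicit false

/-! Counting subgroups in dihedral, semidihedral and quaternion groups modulo `4`. -/

namespace Cfsg.Agent.Helper20.Berk

open Cfsg.Agent.Helper16 Cfsg.Agent.Helper20.SubCount

universe u

/-- a subset closed under right multiplication by a subgroup is a union of cosets -/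
theorem card_dvd_of_mul_mem {X : Type*} [Group X] [Finite X] (Γ : Subgroup X) (S : Set X)
    (h : ∀ s ∈ S, ∀ c ∈ Γ, s * c ∈ S) : Nat.card Γ ∣ Nat.card S := by
  classical
  let act : MulAction Γ S :=
    { smul := fun γ s => ⟨s.1 * (γ.1)⁻¹, h s.1 s.2 _ (Γ.inv_mem γ.2)⟩
      one_smul := fun s => by
        apply Subtype.ext
        show s.1 * ((1 : Γ) : X)⁻¹ = s.1
        rw [Subgroup.coe_one, inv_one, mul_one]
      mul_smul := fun γ δ s => by
        apply Subtype.ext
        show s.1 * ((γ * δ : Γ) : X)⁻¹ = s.1 * (δ : X)⁻¹ * (γ : X)⁻¹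
        rw [Subgroup.coe_mul, mul_inv_rev, mul_assoc] }
  have hsmul : ∀ (γ : Γ) (s : S), ((γ • s : S) : X) = s.1 * (γ.1)⁻¹ := fun _ _ => rfl
  have hfree : ∀ s : S, MulAction.stabilizer Γ s = ⊥ := by
    intro s
    rw [eq_bot_iff]
    intro γ hγ
    rw [MulAction.mem_stabilizer_iff] at hγ
    have h1 : s.1 * (γ.1)⁻¹ = s.1 := by
      rw [← hsmul, hγ]
    rw [Subgroup.mem_bot]
    apply Subtype.ext
    rw [mul_eq_left, inv_eq_one] at h1
    exact h1
  have e := MulAction.selfEquivOrbitsQuotientProd hfree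
  rw [Nat.card_congr e, Nat.card_prod]
  exact dvd_mul_left _ _

/-- passing to a quotient by a normal subgroup contained in all subgroups of the relevant order -/
theorem cnt_quotient_eq {X : Type*} [Group X] [Finite X] (N : Subgroup X) [N.Normal] (n : ℕ)
    (h : ∀ H : Subgroup X, Nat.card H = n * Nat.card N → N ≤ H) :
    cnt X (n * Nat.card N) = cnt (X ⧸ N) n := by
  unfold cnt
  apply Nat.card_congr
  have hcm : ∀ H : Subgroup X, Nat.card H = n * Nat.card N →
      (H.map (QuotientGroup.mk' N)).comap (QuotientGroup.mk' N) = H := by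
    intro H hH
    rw [Subgroup.comap_map_eq, QuotientGroup.ker_mk', sup_eq_left.mpr (h H hH)]
  refine ⟨fun H => ⟨H.1.map (QuotientGroup.mk' N), ?_⟩,
    fun K => ⟨K.1.comap (QuotientGroup.mk' N), ?_⟩, ?_, ?_⟩
  · have h1 := Cfsg.Agent.Helper22.card_comap_mk' N (H.1.map (QuotientGroup.mk' N))
    rw [hcm H.1 H.2, H.2] at h1
    exact (Nat.eq_of_mul_eq_mul_right Nat.card_pos h1).symm
  · rw [Cfsg.Agent.Helper22.card_comap_mk', K.2]
  · intro H
    apply Subtype.ext
    exact hcm H.1 H.2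
  · intro K
    apply Subtype.ext
    exact Subgroup.map_comap_eq_self_of_surjective (QuotientGroup.mk'_surjective N) K.1

section

variable {X : Type u} [Group X] {k : ℕ} {b x : X}

/-- a subgroup of `⟨b⟩` of order divisible by `4` which is inverted by `x` -/
theorem exists_inverted (h : IsDSQ k b x) : ∃ Γ : Subgroup X, Γ ≤ Subgroup.zpowers b ∧
    4 ∣ Nat.card Γ ∧ ∀ c ∈ Γ, x * c * x⁻¹ = c⁻¹ := by
  have hk := h.hk
  rcases h.hconj with h1 | ⟨h3, -⟩
  · refine ⟨Subgroup.zpowers b, le_refl _, ?_, ?_⟩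
    · rw [Nat.card_zpowers, h.hao]
      exact pow_dvd_pow 2 hk
    · intro c hc
      obtain ⟨i, rfl⟩ := Subgroup.mem_zpowers_iff.mp hc
      rw [← conj_zpow, h1, inv_zpow]
  · refine ⟨Subgroup.zpowers (b ^ 2), ?_, ?_, ?_⟩
    · rw [Subgroup.zpowers_le]
      exact Subgroup.pow_mem _ (Subgroup.mem_zpowers b) 2
    · rw [Nat.card_zpowers, h.orderOf_sq]
      exact pow_dvd_pow 2 (by omega : 2 ≤ k - 1)
    · intro c hc
      obtain ⟨i, rfl⟩ := Subgroup.mem_zpowers_iff.mp hc
      rw [← conj_zpow, h.conj_sq, inv_zpow]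

theorem comm_of_mem_zpowers {c d : X} (hc : c ∈ Subgroup.zpowers b) (hd : d ∈ Subgroup.zpowers b) :
    c * d = d * c := by
  obtain ⟨i, rfl⟩ := Subgroup.mem_zpowers_iff.mp hc
  obtain ⟨j, rfl⟩ := Subgroup.mem_zpowers_iff.mp hd
  rw [← zpow_add, ← zpow_add, add_comm]

/-- the number of involutions outside `⟨b⟩` is divisible by `4` -/
theorem four_dvd_card_outer (h : IsDSQ k b x) :
    4 ∣ Nat.card {y : X | y ∉ Subgroup.zpowers b ∧ y ^ 2 = 1} := by
  haveI := h.finite
  obtain ⟨Γ, hΓ, h4, hinv⟩ := exists_inverted h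
  refine h4.trans (card_dvd_of_mul_mem Γ _ ?_)
  rintro y ⟨hy, hy2⟩ c hc
  have hcb := hΓ hc
  constructor
  · intro hyc
    apply hy
    have := Subgroup.mul_mem _ hyc (Subgroup.inv_mem _ hcb)
    rwa [mul_inv_cancel_right] at this
  · -- `y = x * b^i`
    obtain ⟨i, hi | hi⟩ := h.gen y
    · exfalso
      apply hy
      rw [hi]
      exact Subgroup.pow_mem _ (Subgroup.mem_zpowers b) i
    · have hbi : b ^ i ∈ Subgroup.zpowers b := Subgroup.pow_mem _ (Subgroup.mem_zpowers b) i
      have h1 : y * c * y⁻¹ = c⁻¹ := by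
        rw [hi]
        calc x * b ^ i * c * (x * b ^ i)⁻¹ = x * (b ^ i * c) * (b ^ i)⁻¹ * x⁻¹ := by group
          _ = x * (c * b ^ i) * (b ^ i)⁻¹ * x⁻¹ := by rw [comm_of_mem_zpowers hbi hcb]
          _ = x * c * x⁻¹ := by group
          _ = c⁻¹ := hinv c hc
      calc (y * c) ^ 2 = (y * c * y⁻¹) * (y ^ 2) * c := by
            rw [pow_two, pow_two]
            group
        _ = 1 := by rw [h1, hy2, mul_one, inv_mul_cancel]

/-- the elements of order two -/
theorem card_orderOf_two (h : IsDSQ k b x) :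
    Nat.card {y : X // orderOf y = 2} =
      1 + Nat.card {y : X | y ∉ Subgroup.zpowers b ∧ y ^ 2 = 1} := by
  haveI := h.finite
  have hk := h.hk
  rw [card_subtype_split (fun y : X => orderOf y = 2) (fun y => y ∈ Subgroup.zpowers b)]
  congr 1
  · rw [Nat.card_eq_one_iff_unique]
    have hz : ∀ y : X, orderOf y = 2 ∧ y ∈ Subgroup.zpowers b → y = b ^ 2 ^ (k - 1) := by
      rintro y ⟨hy2, hyb⟩
      obtain ⟨s, -, rfl⟩ := mem_zpowers_exists_nat (by positivity) h.hao hyb
      have h1 : b ^ (2 * s) = 1 := by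
        rw [mul_comm, pow_mul, ← hy2, pow_orderOf_eq_one]
      rcases pow_eq_one_or_half (by omega) h.hao h1 with h2 | h2
      · rw [h2, orderOf_one] at hy2
        norm_num at hy2
      · exact h2
    refine ⟨⟨fun y y' => ?_⟩, ⟨⟨b ^ 2 ^ (k - 1), h.orderOf_z, ?_⟩⟩⟩
    · apply Subtype.ext
      rw [hz y.1 y.2, hz y'.1 y'.2]
    · exact Subgroup.pow_mem _ (Subgroup.mem_zpowers b) _
  · apply Nat.card_congr
    apply Equiv.subtypeEquivRight
    intro y
    haveI : Fact (Nat.Prime 2) := ⟨Nat.prime_two⟩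
    rw [Set.mem_setOf_eq, orderOf_eq_prime_iff]
    constructor
    · rintro ⟨⟨h1, -⟩, h2⟩
      exact ⟨h2, h1⟩
    · rintro ⟨h2, h1⟩
      refine ⟨⟨h1, ?_⟩, h2⟩
      rintro rfl
      exact h2 (Subgroup.one_mem _)

/-- subgroups of order two and involutions -/
theorem cnt_two_eq {Y : Type*} [Group Y] [Finite Y] :
    cnt Y 2 = Nat.card {y : Y // orderOf y = 2} := by
  rw [card_orderOf_eq_totient_mul, Nat.totient_two, one_mul]
  unfold cnt
  apply Nat.card_congr
  apply Equiv.subtypeEquivRight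
  intro C
  constructor
  · intro hC
    haveI : Fact (Nat.Prime 2) := ⟨Nat.prime_two⟩
    exact ⟨isCyclic_of_prime_card hC, hC⟩
  · intro hC
    exact hC.2

/-- the number of subgroups of order two is `1` modulo `4` -/
theorem dsq_cnt_two (h : IsDSQ k b x) : cnt X 2 ≡ 1 [MOD 4] := by
  haveI := h.finite
  rw [cnt_two_eq, card_orderOf_two h]
  obtain ⟨t, ht⟩ := four_dvd_card_outer h
  rw [ht]
  unfold Nat.ModEq
  omega

/-- every subgroup of order at least four contains the centre -/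
theorem center_le_of_card (h : IsDSQ k b x) (H : Subgroup X) (j : ℕ) (hj : 2 ≤ j)
    (hH : Nat.card H = 2 ^ j) : Subgroup.center X ≤ H := by
  haveI := h.finite
  haveI : Fact (Nat.Prime 2) := ⟨Nat.prime_two⟩
  have hk := h.hk
  have hXp : IsPGroup 2 X := IsPGroup.of_card h.card
  haveI : (Subgroup.zpowers b).Normal := Subgroup.normal_of_index_eq_two h.index
  have h1 : (Subgroup.zpowers b).relIndex H ∣ 2 := by
    have := Subgroup.relIndex_dvd_index_of_normal (Subgroup.zpowers b) H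
    rwa [h.index] at this
  have h2 : (⊥ : Subgroup X).relIndex (H ⊓ Subgroup.zpowers b) *
      (H ⊓ Subgroup.zpowers b).relIndex H = (⊥ : Subgroup X).relIndex H :=
    Subgroup.relIndex_mul_relIndex _ _ _ bot_le inf_le_left
  rw [Subgroup.relIndex_bot_left, Subgroup.relIndex_bot_left, Subgroup.inf_relIndex_left, hH]
    at h2
  have h3 : (Subgroup.zpowers b).relIndex H ≤ 2 := Nat.le_of_dvd two_pos h1
  have h4 : 1 < Nat.card (H ⊓ Subgroup.zpowers b : Subgroup X) := by
    by_contra hcon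
    have h5 : Nat.card (H ⊓ Subgroup.zpowers b : Subgroup X) ≤ 1 := by omega
    have h6 : 2 ^ 2 ≤ 2 ^ j := Nat.pow_le_pow_right (by norm_num) hj
    have h7 : Nat.card (H ⊓ Subgroup.zpowers b : Subgroup X) *
        (Subgroup.zpowers b).relIndex H ≤ 1 * 2 := Nat.mul_le_mul h5 h3
    omega
  rw [Subgroup.one_lt_card_iff_ne_bot] at h4
  obtain ⟨c, hc, hc1⟩ := (Subgroup.bot_or_exists_ne_one _).resolve_left h4
  obtain ⟨i, hi⟩ := exists_involution_zpowers ((IsPGroup.iff_orderOf.1 hXp) c) hc1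
  have hcH : c ^ i ∈ H := Subgroup.pow_mem _ (Subgroup.mem_inf.mp hc).1 i
  have hcb : c ^ i ∈ Subgroup.zpowers b := Subgroup.pow_mem _ (Subgroup.mem_inf.mp hc).2 i
  obtain ⟨s, -, hs⟩ := mem_zpowers_exists_nat (by positivity) h.hao hcb
  have h5 : b ^ (2 * s) = 1 := by
    rw [mul_comm, pow_mul, ← hs, ← hi, pow_orderOf_eq_one]
  have h6 : c ^ i = b ^ 2 ^ (k - 1) := by
    rcases pow_eq_one_or_half (by omega) h.hao h5 with h7 | h7
    · rw [← hs] at h7
      rw [h7, orderOf_one] at hi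
      norm_num at hi
    · rw [hs, h7]
  rw [h.center_eq, Subgroup.zpowers_le, ← h6]
  exact hcH

end

/-- in a dihedral, semidihedral or quaternion group of order `2^(k+1)` the number of subgroups of
order `2^j`, `1 ≤ j ≤ k - 1`, is `1` modulo `4` -/
theorem dsq_cnt : ∀ k, 2 ≤ k → ∀ (X : Type u) [Group X] (b x : X), IsDSQ k b x →
    ∀ j, 1 ≤ j → j + 1 ≤ k → cnt X (2 ^ j) ≡ 1 [MOD 4] := by
  intro k hk
  induction k, hk using Nat.le_induction with
  | base =>
    intro X _ b x h j hj1 hj2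
    have : j = 1 := by omega
    subst this
    rw [pow_one]
    exact dsq_cnt_two h
  | succ k hk ih =>
    intro X _ b x h j hj1 hj2
    rcases Nat.eq_or_lt_of_le hj1 with rfl | hj
    · rw [pow_one]
      exact dsq_cnt_two h
    · haveI := h.finite
      have hq := h.quotient_isDSQ hk
      have hcen := h.card_center
      have h1 := cnt_quotient_eq (Subgroup.center X) (2 ^ (j - 1)) (by
        intro H hH
        rw [hcen, ← pow_succ] at hH
        exact center_le_of_card h H (j - 1 + 1) (by omega) hH)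
      rw [hcen, ← pow_succ] at h1
      have hjj : j - 1 + 1 = j := by omega
      rw [hjj] at h1
      rw [h1]
      exact ih (X ⧸ Subgroup.center X) _ _ hq (j - 1) (by omega) (by omega)

end Cfsg.Agent.Helper20.Berk
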