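import Mathlib
import Cfsg.Agent.Lib.Helper16.Taussky
import Cfsg.Agent.Lib.Helper16.DSQAb
import Cfsg.Agent.Lib.Helper20.SubCountD
import Cfsg.Agent.Lib.Helper20.SubCountE

set_option autoImplicit false

/-! Auxiliary results: Taussky's theorem in index form, groups of order `16` with derived
subgroup of order `2`, and a parity count for maximal subgroups. -/

namespace Cfsg.Agent.Helper20.Berk

open Cfsg.Agent.Helper16 Cfsg.Agent.Helper20.SubCount
open scoped commutatorElement

universe u

/-- **Taussky**: a group of order `2^n` whose derived subgroup has index `4` is of maximal class -/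
theorem class_of_index_commutator (n : ℕ) (hn : 3 ≤ n) (X : Type u) [Group X] [Finite X]
    (hX : Nat.card X = 2 ^ n) (hidx : (commutator X).index = 4) :
    Group.nilpotencyClass X = n - 1 := by
  obtain ⟨a, ha⟩ := exists_orderOf_of_index_commutator n hn X hX hidx
  have hcard : Nat.card X = 2 ^ (n - 1 + 1) := by rw [hX]; congr 1; omega
  have h8 : 2 ^ 3 ≤ 2 ^ n := Nat.pow_le_pow_right (by norm_num) hn
  rcases isDSQ_or (k := n - 1) (by omega) hcard ha with h1 | ⟨h3, hzc, hcomm⟩ | ⟨x, hx⟩
  · exfalso
    rw [commutator_eq_bot, Subgroup.index_bot, hX] at hidx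
    omega
  · exfalso
    have hz2 : (a ^ 2 ^ (n - 1 - 1)) ^ 2 = 1 := pow_half_sq (by omega) ha
    have h1 : Nat.card (commutator X) ≤ 2 := by
      calc Nat.card (commutator X) ≤ Nat.card (Subgroup.zpowers (a ^ 2 ^ (n - 1 - 1))) :=
            Subgroup.card_le_of_le hcomm
        _ = orderOf (a ^ 2 ^ (n - 1 - 1)) := Nat.card_zpowers _
        _ ≤ 2 := Nat.le_of_dvd two_pos (orderOf_dvd_of_pow_eq_one hz2)
    have h2 := Subgroup.card_mul_index (commutator X)
    rw [hidx, hX] at h2
    have h16 : 2 ^ 4 ≤ 2 ^ n := Nat.pow_le_pow_right (by norm_num) (by omega)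
    omega
  · exact IsDSQ.nilpotencyClass_eq (n - 1) (by omega) X a x hx

/-- proper subgroups of a cyclic `2`-group lie in the subgroup of squares -/
theorem le_zpowers_sq_of_ne {X : Type*} [Group X] [Finite X] (t : X) (s : ℕ)
    (ht : orderOf t = 2 ^ s) (K : Subgroup X) (hK : K ≤ Subgroup.zpowers t)
    (hne : K ≠ Subgroup.zpowers t) : K ≤ Subgroup.zpowers (t ^ 2) := by
  intro y hy
  obtain ⟨i, -, rfl⟩ := mem_zpowers_exists_nat (by positivity) ht (hK hy)
  rcases Nat.even_or_odd' i with ⟨j, hj | hj⟩
  · rw [hj, pow_mul]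
    exact Subgroup.pow_mem _ (Subgroup.mem_zpowers _) _
  · exfalso
    apply hne
    apply le_antisymm hK
    have hcop : Nat.Coprime (orderOf t) i := by
      rw [ht, hj]
      apply Nat.Coprime.pow_left
      rw [Nat.coprime_comm]
      exact (Nat.coprime_mul_left_add_left 1 2 j).mpr (Nat.coprime_one_left 2)
    have ho : orderOf (t ^ i) = orderOf t := Nat.Coprime.orderOf_pow hcop
    have heq : Subgroup.zpowers (t ^ i) = Subgroup.zpowers t := by
      apply Subgroup.eq_of_le_of_card_ge
      · rw [Subgroup.zpowers_le]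
        exact Subgroup.pow_mem _ (Subgroup.mem_zpowers t) i
      · rw [Nat.card_zpowers, Nat.card_zpowers, ho]
    rw [← heq, Subgroup.zpowers_le]
    exact hy

section order16

variable {T : Type*} [Group T]

/-- the commutator with `u` as a homomorphism, when the commutators are central -/
def commHom (u : T) (hcen : ∀ g : T, ⁅g, u⁆ ∈ Subgroup.center T) : T →* T where
  toFun g := ⁅g, u⁆
  map_one' := commutatorElement_one_left u
  map_mul' g h := by
    have h1 : ∀ y : T, y * ⁅h, u⁆ = ⁅h, u⁆ * y := Subgroup.mem_center_iff.mp (hcen h)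
    calc ⁅g * h, u⁆ = g * (⁅h, u⁆ * u) * g⁻¹ * u⁻¹ := by
          rw [commutatorElement_def, commutatorElement_def]
          group
      _ = g * (u * ⁅h, u⁆) * g⁻¹ * u⁻¹ := by rw [h1 u]
      _ = g * u * (⁅h, u⁆ * g⁻¹) * u⁻¹ := by group
      _ = g * u * (g⁻¹ * ⁅h, u⁆) * u⁻¹ := by rw [h1 g⁻¹]
      _ = g * u * g⁻¹ * (⁅h, u⁆ * u⁻¹) := by group
      _ = g * u * g⁻¹ * (u⁻¹ * ⁅h, u⁆) := by rw [h1 u⁻¹]
      _ = ⁅g, u⁆ * ⁅h, u⁆ := by
          rw [commutatorElement_def g u]
          group

theorem commHom_apply (u : T) (hcen : ∀ g : T, ⁅g, u⁆ ∈ Subgroup.center T) (g : T) :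
    commHom u hcen g = ⁅g, u⁆ := rfl

theorem commHom_ker (u : T) (hcen : ∀ g : T, ⁅g, u⁆ ∈ Subgroup.center T) :
    (commHom u hcen).ker = Subgroup.centralizer {u} := by
  ext g
  rw [MonoidHom.mem_ker, commHom_apply, commutatorElement_eq_one_iff_mul_comm,
    Subgroup.mem_centralizer_iff]
  constructor
  · intro h y hy
    rw [Set.mem_singleton_iff] at hy
    rw [hy, h]
  · intro h
    exact (h u rfl).symm

variable [Finite T]

/-- a normal subgroup of order two is central -/
theorem le_center_of_card_two (N : Subgroup T) [N.Normal] (hN : Nat.card N = 2) :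
    N ≤ Subgroup.center T := by
  obtain ⟨t, ht, htu⟩ := (Nat.card_eq_two_iff' (1 : N)).mp hN
  intro y hy
  rw [Subgroup.mem_center_iff]
  intro g
  by_cases hy1 : y = 1
  · rw [hy1, mul_one, one_mul]
  · have h1 : (⟨y, hy⟩ : N) = t := htu _ (by
      intro h
      exact hy1 (congrArg Subtype.val h))
    have hc : g * y * g⁻¹ ∈ N := ‹N.Normal›.conj_mem y hy g
    have h2 : (⟨g * y * g⁻¹, hc⟩ : N) = t := htu _ (by
      intro h
      have h3 : g * y * g⁻¹ = 1 := congrArg Subtype.val h
      apply hy1
      have : y = g⁻¹ * (g * y * g⁻¹) * g := by group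
      rw [this, h3]
      group)
    have h3 : g * y * g⁻¹ = y := by
      have := h2.trans h1.symm
      exact congrArg Subtype.val this
    calc g * y = (g * y * g⁻¹) * g := by group
      _ = y * g := by rw [h3]

/-- groups of order `16` with derived subgroup of order `2` -/
theorem order16_facts (hT : Nat.card T = 16) (hc : Nat.card (commutator T) = 2) :
    Subgroup.center T ≠ ⊤ ∧ ∀ K : Subgroup T, K.index = 2 →
      (K ≤ Subgroup.centralizer (K : Set T) ↔ Subgroup.center T ≤ K) := by
  haveI : Fact (Nat.Prime 2) := ⟨Nat.prime_two⟩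
  have hcen : commutator T ≤ Subgroup.center T := le_center_of_card_two _ hc
  have hcomm : ∀ g h : T, ⁅g, h⁆ ∈ commutator T := by
    intro g h
    rw [commutator_def]
    exact Subgroup.commutator_mem_commutator (Subgroup.mem_top g) (Subgroup.mem_top h)
  have hcc : ∀ u g : T, ⁅g, u⁆ ∈ Subgroup.center T := fun u g => hcen (hcomm g u)
  -- a pair of noncommuting elements
  obtain ⟨u, v, huv⟩ : ∃ u v : T, u * v ≠ v * u := by
    by_contra hcon
    push Not at hcon
    have h1 : commutator T = ⊥ := by
      rw [commutator_def, Subgroup.commutator_eq_bot_iff_le_centralizer]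
      intro g _
      rw [Subgroup.mem_centralizer_iff]
      intro h _
      exact hcon h g
    rw [h1, Subgroup.card_bot] at hc
    norm_num at hc
  have hZtop : Subgroup.center T ≠ ⊤ := by
    intro h
    have : u ∈ Subgroup.center T := by rw [h]; exact Subgroup.mem_top u
    exact huv ((Subgroup.mem_center_iff.mp this v).symm)
  -- centralizers have index at most two
  have hidx : ∀ w : T, (Subgroup.centralizer {w}).index ≤ 2 := by
    intro w
    rw [← commHom_ker w (hcc w), Subgroup.index_ker, ← hc]
    apply Subgroup.card_le_of_le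
    rintro _ ⟨g, rfl⟩
    exact hcomm g w
  -- the common centralizer of `u` and `v`
  set C : Subgroup T := Subgroup.centralizer {u} ⊓ Subgroup.centralizer {v} with hC
  have hCidx : C.index ≤ 4 := by
    calc C.index ≤ (Subgroup.centralizer {u}).index * (Subgroup.centralizer {v}).index :=
          Subgroup.index_inf_le
      _ ≤ 2 * 2 := Nat.mul_le_mul (hidx u) (hidx v)
  have hCcard4 : 4 ≤ Nat.card C := by
    have h1 := Subgroup.card_mul_index C
    rw [hT] at h1
    by_contra hcon
    have h2 : Nat.card C ≤ 3 := by omega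
    have : Nat.card C * C.index ≤ 3 * 4 := Nat.mul_le_mul h2 hCidx
    omega
  have hdvd16 : ∀ W : Subgroup T, Nat.card W ∣ 16 := by
    intro W
    rw [← hT]
    exact Subgroup.card_subgroup_dvd_card W
  have hstrict : ∀ W W' : Subgroup T, W ≤ W' → W ≠ W' → 2 * Nat.card W ≤ Nat.card W' := by
    intro W W' hle hne
    obtain ⟨q, hq⟩ := Subgroup.card_dvd_of_le hle
    have hq1 : q ≠ 1 := by
      rintro rfl
      rw [mul_one] at hq
      exact hne (Subgroup.eq_of_le_of_card_ge hle (le_of_eq hq))
    have hq0 : q ≠ 0 := by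
      rintro rfl
      rw [mul_zero] at hq
      have := Nat.card_pos (α := W')
      omega
    rw [hq, mul_comm]
    exact Nat.mul_le_mul_left _ (by omega)
  have hCu : C ≤ Subgroup.centralizer {u} := inf_le_left
  have hCv : C ≤ Subgroup.centralizer {v} := inf_le_right
  have huu : u ∈ Subgroup.centralizer {u} := by
    rw [Subgroup.mem_centralizer_iff]
    intro y hy
    rw [Set.mem_singleton_iff] at hy
    rw [hy]
  have hvu : v ∉ Subgroup.centralizer {u} := by
    rw [Subgroup.mem_centralizer_iff]
    intro h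
    exact huv (h u rfl)
  have huv' : u ∉ Subgroup.centralizer {v} := by
    rw [Subgroup.mem_centralizer_iff]
    intro h
    exact huv (h v rfl).symm
  have huC : u ∉ C := fun h => huv' (hCv h)
  set W₁ : Subgroup T := C ⊔ Subgroup.zpowers u with hW₁
  set W₂ : Subgroup T := W₁ ⊔ Subgroup.zpowers v with hW₂
  have hW₁le : W₁ ≤ Subgroup.centralizer {u} := by
    rw [hW₁, sup_le_iff, Subgroup.zpowers_le]
    exact ⟨hCu, huu⟩
  have h1 : 2 * Nat.card C ≤ Nat.card W₁ := by
    apply hstrict C W₁ le_sup_left
    intro h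
    apply huC
    rw [h]
    exact (le_sup_right : Subgroup.zpowers u ≤ W₁) (Subgroup.mem_zpowers u)
  have h2 : 2 * Nat.card W₁ ≤ Nat.card W₂ := by
    apply hstrict W₁ W₂ le_sup_left
    intro h
    apply hvu
    apply hW₁le
    rw [h]
    exact (le_sup_right : Subgroup.zpowers v ≤ W₂) (Subgroup.mem_zpowers v)
  have h3 : Nat.card W₂ ≤ 16 := Nat.le_of_dvd (by norm_num) (hdvd16 W₂)
  have hCcard : Nat.card C = 4 := by omega
  have hW₂top : W₂ = ⊤ := by
    rw [← Subgroup.card_eq_iff_eq_top, hT]
    omega
  -- `C` is central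
  have hCcomm : ∀ c c' : C, c * c' = c' * c := by
    have := IsPGroup.isMulCommutative_of_card_eq_prime_sq (G := C) (p := 2)
      (by rw [hCcard]; norm_num)
    exact fun c c' => this.is_comm.comm c c'
  have hCZ : C ≤ Subgroup.center T := by
    intro c hcC
    have hle : W₂ ≤ Subgroup.centralizer {c} := by
      rw [hW₂, hW₁, sup_le_iff, sup_le_iff, Subgroup.zpowers_le, Subgroup.zpowers_le]
      refine ⟨⟨?_, ?_⟩, ?_⟩
      · intro c' hc'
        rw [Subgroup.mem_centralizer_iff]
        intro y hy
        rw [Set.mem_singleton_iff] at hy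
        rw [hy]
        exact congrArg Subtype.val (hCcomm ⟨c, hcC⟩ ⟨c', hc'⟩)
      · rw [Subgroup.mem_centralizer_iff]
        intro y hy
        rw [Set.mem_singleton_iff] at hy
        rw [hy]
        have := Subgroup.mem_centralizer_iff.mp (hCu hcC) u rfl
        exact this.symm
      · rw [Subgroup.mem_centralizer_iff]
        intro y hy
        rw [Set.mem_singleton_iff] at hy
        rw [hy]
        have := Subgroup.mem_centralizer_iff.mp (hCv hcC) v rfl
        exact this.symm
    rw [hW₂top] at hle
    rw [Subgroup.mem_center_iff]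
    intro g
    have := Subgroup.mem_centralizer_iff.mp (hle (Subgroup.mem_top g)) c rfl
    exact this.symm
  have hZcard : 4 ≤ Nat.card (Subgroup.center T) := by
    calc 4 = Nat.card C := hCcard.symm
      _ ≤ Nat.card (Subgroup.center T) := Subgroup.card_le_of_le hCZ
  refine ⟨hZtop, ?_⟩
  intro K hK
  have hKcard : Nat.card K = 8 := by
    have h1 := Subgroup.card_mul_index K
    rw [hK, hT] at h1
    omega
  constructor
  · -- an abelian maximal subgroup contains the centre
    intro hab
    by_contra hcon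
    obtain ⟨c, hcZ, hcK⟩ := SetLike.not_le_iff_exists.mp hcon
    have htop : K ⊔ Subgroup.zpowers c = ⊤ := by
      rw [← Subgroup.card_eq_iff_eq_top, hT]
      have h1 : 2 * Nat.card K ≤ Nat.card (K ⊔ Subgroup.zpowers c : Subgroup T) := by
        apply hstrict K _ le_sup_left
        intro h
        apply hcK
        rw [h]
        exact (le_sup_right : Subgroup.zpowers c ≤ _) (Subgroup.mem_zpowers c)
      have h2 := Nat.le_of_dvd (by norm_num) (hdvd16 (K ⊔ Subgroup.zpowers c))
      omega
    apply hZtop
    rw [eq_top_iff, ← htop, sup_le_iff, Subgroup.zpowers_le]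
    refine ⟨?_, hcZ⟩
    intro k hk
    have hle : K ⊔ Subgroup.zpowers c ≤ Subgroup.centralizer {k} := by
      rw [sup_le_iff, Subgroup.zpowers_le]
      constructor
      · intro k' hk'
        rw [Subgroup.mem_centralizer_iff]
        intro y hy
        rw [Set.mem_singleton_iff] at hy
        rw [hy]
        exact Subgroup.mem_centralizer_iff.mp (hab hk') k hk
      · rw [Subgroup.mem_centralizer_iff]
        intro y hy
        rw [Set.mem_singleton_iff] at hy
        rw [hy]
        exact Subgroup.mem_center_iff.mp hcZ k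
    rw [htop] at hle
    rw [Subgroup.mem_center_iff]
    intro g
    have := Subgroup.mem_centralizer_iff.mp (hle (Subgroup.mem_top g)) k rfl
    exact this.symm
  · -- a maximal subgroup containing the centre is abelian
    intro hZK g hg
    rw [Subgroup.mem_centralizer_iff]
    intro h hh
    by_cases hgZ : g ∈ Subgroup.center T
    · exact Subgroup.mem_center_iff.mp hgZ h
    · have hW : Subgroup.center T ⊔ Subgroup.zpowers g = K := by
        apply Subgroup.eq_of_le_of_card_ge
        · rw [sup_le_iff, Subgroup.zpowers_le]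
          exact ⟨hZK, hg⟩
        · have h1 : 2 * Nat.card (Subgroup.center T) ≤
              Nat.card (Subgroup.center T ⊔ Subgroup.zpowers g : Subgroup T) := by
            apply hstrict _ _ le_sup_left
            intro h'
            apply hgZ
            rw [h']
            exact (le_sup_right : Subgroup.zpowers g ≤ _) (Subgroup.mem_zpowers g)
          omega
      have hle : Subgroup.center T ⊔ Subgroup.zpowers g ≤ Subgroup.centralizer {g} := by
        rw [sup_le_iff, Subgroup.zpowers_le]
        constructor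
        · intro c hcZ
          rw [Subgroup.mem_centralizer_iff]
          intro y hy
          rw [Set.mem_singleton_iff] at hy
          rw [hy]
          exact (Subgroup.mem_center_iff.mp hcZ g)
        · rw [Subgroup.mem_centralizer_iff]
          intro y hy
          rw [Set.mem_singleton_iff] at hy
          rw [hy]
      rw [hW] at hle
      have := Subgroup.mem_centralizer_iff.mp (hle hh) g rfl
      exact this.symm

end order16

/-- in a `2`-group, the number of maximal subgroups not containing a given proper subgroup is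
even -/
theorem even_card_not_le {P : Type u} [Group P] [Finite P] (n : ℕ) (hP : Nat.card P = 2 ^ n)
    (Z : Subgroup P) (hZ : Z ≠ ⊤) :
    Even (Nat.card {H : Subgroup P // H.index = 2 ∧ ¬ Z ≤ H}) := by
  classical
  haveI : Fact (Nat.Prime 2) := ⟨Nat.prime_two⟩
  have hPp : IsPGroup 2 P := IsPGroup.of_card hP
  have hsplit := card_subtype_split (fun H : Subgroup P => H.index = 2) (fun H => Z ≤ H)
  -- all maximal subgroups
  have h1 : Nat.card {H : Subgroup P // H.index = 2} ≡ 1 [MOD 2] := by
    rw [← Nat.card_congr (equivIndex hPp)]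
    apply cnt_modEq_one_of_exponent (E := Dual P 2) dual_pow
    obtain ⟨φ, hφ, -⟩ := exists_ne_one_le_ker hPp Z hZ
    exact ⟨⟨φ, 1, hφ⟩⟩
  -- those containing `Z`
  have h2 : Nat.card {H : Subgroup P // H.index = 2 ∧ Z ≤ H} ≡ 1 [MOD 2] := by
    have e1 : Nat.card {H : Subgroup P // H.index = 2 ∧ Z ≤ H}
        = cntIn (ann Z : Subgroup (Dual P 2)) 2 := by
      unfold cntIn
      apply Nat.card_congr
      refine Equiv.symm ?_
      refine ⟨fun B => ⟨kerInf B.1, kerInf_index_of_card B.1 B.2.2, (le_kerInf_iff _ _).mpr B.2.1⟩,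
        fun H => ⟨((equivIndex hPp).symm ⟨H.1, H.2.1⟩).1, ?_, ((equivIndex hPp).symm ⟨H.1, H.2.1⟩).2⟩,
        ?_, ?_⟩
      · rw [← le_kerInf_iff, ← equivIndex_apply hPp, Equiv.apply_symm_apply]
        exact H.2.2
      · intro B
        apply Subtype.ext
        have : (equivIndex hPp) ⟨B.1, B.2.2⟩ = ⟨kerInf B.1, kerInf_index_of_card B.1 B.2.2⟩ := rfl
        show ((equivIndex hPp).symm ⟨kerInf B.1, kerInf_index_of_card B.1 B.2.2⟩).1 = B.1
        rw [← this, Equiv.symm_apply_apply]
      · intro H
        apply Subtype.ext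
        show kerInf ((equivIndex hPp).symm ⟨H.1, H.2.1⟩).1 = H.1
        rw [← equivIndex_apply hPp, Equiv.apply_symm_apply]
    rw [e1, cntIn_eq_cnt]
    apply cnt_modEq_one_of_exponent
    · intro x
      apply Subtype.ext
      exact dual_pow x.1
    · exact (Subgroup.nontrivial_iff_ne_bot _).mpr (ann_ne_bot hPp Z hZ)
  rw [hsplit] at h1
  rw [Nat.even_iff]
  unfold Nat.ModEq at h1 h2
  omega

/-- the derived subgroup of a noncyclic `2`-group has index at least `4` -/
theorem four_mul_card_commutator_le {P : Type u} [Group P] [Finite P] (n : ℕ)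
    (hP : Nat.card P = 2 ^ n) (hnc : ¬ IsCyclic P) :
    4 * Nat.card (commutator P) ≤ Nat.card P := by
  haveI : Fact (Nat.Prime 2) := ⟨Nat.prime_two⟩
  have hPp : IsPGroup 2 P := IsPGroup.of_card hP
  obtain ⟨d, hd2, hd⟩ := exists_dual_card hPp hnc
  have h3 : cnt (Dual P 2) 2 ≡ 1 + 2 [MOD 2 ^ 2] := cnt_modEq_of_exponent_sq dual_pow d hd hd2
  have hcard : 1 < Nat.card {H : Subgroup P // H.index = 2} := by
    rw [← Nat.card_congr (equivIndex hPp)]
    unfold cnt at h3
    unfold Nat.ModEq at h3
    omega
  haveI : Nontrivial {H : Subgroup P // H.index = 2} := Finite.one_lt_card_iff_nontrivial.mp hcard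
  obtain ⟨H₁, H₂, hne⟩ := exists_pair_ne {H : Subgroup P // H.index = 2}
  have hle : ∀ H : {H : Subgroup P // H.index = 2}, commutator P ≤ H.1 := by
    intro H
    obtain ⟨φ, -, hk⟩ := exists_ker_eq hPp H.1 H.2
    rw [← hk]
    exact Abelianization.commutator_subset_ker φ
  have hHcard : ∀ H : {H : Subgroup P // H.index = 2}, 2 * Nat.card H.1 = Nat.card P := by
    intro H
    have := Subgroup.card_mul_index H.1
    rw [H.2] at this
    omega
  have hinf : commutator P ≤ H₁.1 ⊓ H₂.1 := le_inf (hle H₁) (hle H₂)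
  have hne' : H₁.1 ⊓ H₂.1 ≠ H₁.1 := by
    intro h
    apply hne
    apply Subtype.ext
    apply Subgroup.eq_of_le_of_card_ge (inf_eq_left.mp h)
    have := hHcard H₁
    have := hHcard H₂
    omega
  obtain ⟨q, hq⟩ := Subgroup.card_dvd_of_le (inf_le_left : H₁.1 ⊓ H₂.1 ≤ H₁.1)
  have hq1 : q ≠ 1 := by
    rintro rfl
    rw [mul_one] at hq
    exact hne' (Subgroup.eq_of_le_of_card_ge inf_le_left (le_of_eq hq))
  have hq0 : q ≠ 0 := by
    rintro rfl
    rw [mul_zero] at hq
    have := Nat.card_pos (α := H₁.1)
    omega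
  have h5 : Nat.card (commutator P) ≤ Nat.card (H₁.1 ⊓ H₂.1 : Subgroup P) :=
    Subgroup.card_le_of_le hinf
  have h6 : 2 * Nat.card (H₁.1 ⊓ H₂.1 : Subgroup P) ≤ Nat.card H₁.1 := by
    rw [hq, mul_comm]
    exact Nat.mul_le_mul_left _ (by omega)
  have := hHcard H₁
  omega

end Cfsg.Agent.Helper20.Berk
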