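import Mathlib
import Cfsg.Agent.Lib.Helper20.BerkC
import Cfsg.Agent.Lib.Helper22.MaxClass

set_option autoImplicit false

/-! Maximal subgroups of maximal class in a `2`-group which is not of maximal class. -/

namespace Cfsg.Agent.Helper20.Berk

open Cfsg.Agent.Helper16 Cfsg.Agent.Helper20.SubCount
open scoped commutatorElement

universe u

theorem pow_two_eq_of_mul {a b c : ℕ} (hab : a = b + c) : 2 ^ a = 2 ^ b * 2 ^ c := by
  rw [hab, pow_add]

/-- a subgroup detecting the maximal subgroups of maximal class -/
theorem exists_detector {P : Type u} [Group P] [Finite P] (m : ℕ) (hm : 3 ≤ m)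
    (hP : Nat.card P = 2 ^ (m + 1)) (hnc : ¬ IsCyclic P) (hcl : Group.nilpotencyClass P ≠ m)
    (M : Subgroup P) (hM : M.index = 2) (hMc : Group.nilpotencyClass M = m - 1) :
    ∃ Z : Subgroup P, Z ≠ ⊤ ∧ ∀ H : Subgroup P, H.index = 2 →
      (Group.nilpotencyClass H = m - 1 ↔ ¬ Z ≤ H) := by
  haveI : Fact (Nat.Prime 2) := ⟨Nat.prime_two⟩
  have hPp : IsPGroup 2 P := IsPGroup.of_card hP
  have hcardH : ∀ H : Subgroup P, H.index = 2 → Nat.card H = 2 ^ m := by
    intro H hH
    have h1 := Subgroup.card_mul_index H
    rw [hH, hP, pow_succ] at h1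
    exact Nat.eq_of_mul_eq_mul_right two_pos h1
  have hMcard := hcardH M hM
  obtain ⟨b, x, hbx⟩ := exists_isDSQ_of_maximal_class m hm M hMcard hMc
  -- the derived subgroup of `M`
  set t : P := (b : P) ^ 2 with ht
  have hto : orderOf t = 2 ^ (m - 2) := by
    have h1 := hbx.orderOf_sq
    rw [← Subgroup.orderOf_coe, Subgroup.coe_pow] at h1
    rw [ht, h1]
    congr 1
  set D : Subgroup P := Subgroup.zpowers t with hD
  have hDcard : Nat.card D = 2 ^ (m - 2) := by rw [hD, Nat.card_zpowers, hto]
  have hMD : ⁅M, M⁆ = D := by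
    rw [← Subgroup.map_subtype_commutator, hbx.commutator_eq, MonoidHom.map_zpowers]
    rfl
  -- the derived subgroup of `P`
  have hDle : D ≤ commutator P := by
    rw [← hMD, commutator_def]
    exact Subgroup.commutator_mono le_top le_top
  have hPD : commutator P = D := by
    symm
    apply Subgroup.eq_of_le_of_card_ge hDle
    have h4 := four_mul_card_commutator_le (m + 1) hP hnc
    have hdvd : Nat.card D ∣ Nat.card (commutator P) := Subgroup.card_dvd_of_le hDle
    have hdvd2 : Nat.card (commutator P) ∣ 2 ^ (m + 1) := by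
      rw [← hP]
      exact Subgroup.card_subgroup_dvd_card _
    obtain ⟨e, he1, he⟩ := (Nat.dvd_prime_pow Nat.prime_two).mp hdvd2
    rw [he, hDcard] at hdvd
    have he2 : m - 2 ≤ e := (Nat.pow_dvd_pow_iff_le_right (by norm_num)).mp hdvd
    rw [he, hP] at h4
    have he3 : e + 2 ≤ m + 1 := by
      have : 2 ^ (e + 2) ≤ 2 ^ (m + 1) := by
        rw [pow_add]
        omega
      exact (Nat.pow_le_pow_iff_right (by norm_num)).mp this
    rw [he, hDcard]
    apply Nat.pow_le_pow_right (by norm_num)
    by_contra hcon
    have he4 : e = m - 1 := by omega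
    apply hcl
    have hidx : (commutator P).index = 4 := by
      have h5 := Subgroup.card_mul_index (commutator P)
      rw [he, hP, he4, pow_two_eq_of_mul (show m + 1 = (m - 1) + 2 by omega)] at h5
      have := Nat.eq_of_mul_eq_mul_left (pow_pos two_pos _) h5
      rw [this]
      norm_num
    have := class_of_index_commutator (m + 1) (by omega) P hP hidx
    rw [this]
    omega
  haveI hDn : D.Normal := by
    rw [← hPD]
    infer_instance
  -- the subgroup `E` of index two in `D`
  set E : Subgroup P := Subgroup.zpowers (t ^ 2) with hE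
  have hED : E ≤ D := by
    rw [hE, Subgroup.zpowers_le]
    exact Subgroup.pow_mem _ (Subgroup.mem_zpowers t) 2
  have hEcard : Nat.card E = 2 ^ (m - 3) := by
    rw [hE, Nat.card_zpowers, orderOf_pow' t two_ne_zero, hto]
    have h1 : 2 ^ (m - 2) = 2 ^ (m - 3) * 2 := by
      rw [← pow_succ]
      congr 1
      omega
    rw [h1, Nat.gcd_mul_left_left]
    exact Nat.mul_div_cancel _ two_pos
  haveI hEn : E.Normal := by
    have hconj : ∀ g : P, g * t ^ 2 * g⁻¹ ∈ E := by
      intro g
      have h1 : g * t * g⁻¹ ∈ D := hDn.conj_mem t (Subgroup.mem_zpowers t) g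
      obtain ⟨i, hi⟩ := Subgroup.mem_zpowers_iff.mp h1
      have h2 : g * t ^ 2 * g⁻¹ = (t ^ 2) ^ i := by
        rw [← conj_pow, ← hi, ← zpow_natCast, ← zpow_mul, mul_comm, zpow_mul, zpow_natCast]
      rw [h2]
      exact Subgroup.zpow_mem _ (Subgroup.mem_zpowers _) i
    refine ⟨fun n hn g => ?_⟩
    obtain ⟨j, rfl⟩ := Subgroup.mem_zpowers_iff.mp hn
    rw [← conj_zpow]
    exact Subgroup.zpow_mem _ (hconj g) j
  -- the quotient of order `16`
  have hT : Nat.card (P ⧸ E) = 16 := by
    have h1 := Subgroup.card_eq_card_quotient_mul_card_subgroup E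
    rw [hP, hEcard, pow_two_eq_of_mul (show m + 1 = 4 + (m - 3) by omega)] at h1
    have := Nat.eq_of_mul_eq_mul_right (pow_pos two_pos _) h1
    rw [← this]
    norm_num
  have hmapD : commutator (P ⧸ E) = D.map (QuotientGroup.mk' E) := by
    rw [← hPD, commutator_def, commutator_def, Subgroup.map_commutator,
      ← MonoidHom.range_eq_map, MonoidHom.range_eq_top.2 (QuotientGroup.mk'_surjective E)]
  have hcT : Nat.card (commutator (P ⧸ E)) = 2 := by
    rw [hmapD]
    have h1 := Cfsg.Agent.Helper22.card_comap_mk' E (D.map (QuotientGroup.mk' E))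
    rw [Subgroup.comap_map_eq, QuotientGroup.ker_mk', sup_eq_left.mpr hED, hDcard, hEcard,
      pow_two_eq_of_mul (show m - 2 = 1 + (m - 3) by omega)] at h1
    have := Nat.eq_of_mul_eq_mul_right (pow_pos two_pos _) h1
    rw [← this]
    norm_num
  obtain ⟨hZne, hK⟩ := order16_facts hT hcT
  refine ⟨(Subgroup.center (P ⧸ E)).comap (QuotientGroup.mk' E), ?_, ?_⟩
  · intro h
    apply hZne
    rw [← Subgroup.map_comap_eq_self_of_surjective (QuotientGroup.mk'_surjective E)
      (Subgroup.center (P ⧸ E)), h, ← MonoidHom.range_eq_map,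
      MonoidHom.range_eq_top.2 (QuotientGroup.mk'_surjective E)]
  · intro H hH
    have hHcard := hcardH H hH
    have hPH : commutator P ≤ H := by
      obtain ⟨φ, -, hk⟩ := exists_ker_eq hPp H hH
      rw [← hk]
      exact Abelianization.commutator_subset_ker φ
    have hEH : E ≤ H := hED.trans (hPD ▸ hPH)
    have hker : (QuotientGroup.mk' E).ker ≤ H := by
      rw [QuotientGroup.ker_mk']
      exact hEH
    have hKidx : (H.map (QuotientGroup.mk' E)).index = 2 := by
      rw [Subgroup.index_map_eq H (QuotientGroup.mk'_surjective E) hker, hH]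
    have hHD : ⁅H, H⁆ ≤ D := by
      rw [← hPD, commutator_def]
      exact Subgroup.commutator_mono le_top le_top
    have hcardc : Nat.card (commutator H) = Nat.card (⁅H, H⁆ : Subgroup P) := by
      rw [← Subgroup.map_subtype_commutator,
        Subgroup.card_map_of_injective (Subgroup.subtype_injective H)]
    -- step 1: maximal class iff the derived subgroup is `D`
    have hstep1 : Group.nilpotencyClass H = m - 1 ↔ ⁅H, H⁆ = D := by
      constructor
      · intro hc
        have h1 := (Cfsg.Agent.Helper22.maxClass_facts 2 m (by omega) H hHcard hc).1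
        have h2 := Subgroup.card_mul_index (commutator H)
        rw [h1, hHcard, pow_two_eq_of_mul (show m = (m - 2) + 2 by omega)] at h2
        have h3 := Nat.eq_of_mul_eq_mul_right (by norm_num) h2
        apply Subgroup.eq_of_le_of_card_ge hHD
        rw [hDcard, ← hcardc, h3]
      · intro hc
        apply class_of_index_commutator m hm H hHcard
        have h2 := Subgroup.card_mul_index (commutator H)
        rw [hcardc, hc, hDcard, hHcard, pow_two_eq_of_mul (show m = (m - 2) + 2 by omega)] at h2
        have := Nat.eq_of_mul_eq_mul_left (pow_pos two_pos _) h2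
        rw [this]
        norm_num
    -- step 2: the derived subgroup is `D` iff it is not contained in `E`
    have hstep2 : ⁅H, H⁆ = D ↔ ¬ ⁅H, H⁆ ≤ E := by
      constructor
      · intro h hle
        rw [h] at hle
        have := Subgroup.card_le_of_le hle
        rw [hDcard, hEcard] at this
        have h2 : 2 ^ (m - 3) < 2 ^ (m - 2) := Nat.pow_lt_pow_right (by norm_num) (by omega)
        omega
      · intro h
        by_contra hne
        exact h (le_zpowers_sq_of_ne t (m - 2) hto _ hHD hne)
    -- step 3: passing to the quotient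
    have hstep3 : ⁅H, H⁆ ≤ E ↔
        H.map (QuotientGroup.mk' E) ≤ Subgroup.centralizer (H.map (QuotientGroup.mk' E) : Set (P ⧸ E)) := by
      rw [← Subgroup.commutator_eq_bot_iff_le_centralizer, ← Subgroup.map_commutator,
        Subgroup.map_eq_bot_iff, QuotientGroup.ker_mk']
    have hstep4 : Subgroup.center (P ⧸ E) ≤ H.map (QuotientGroup.mk' E) ↔
        (Subgroup.center (P ⧸ E)).comap (QuotientGroup.mk' E) ≤ H := by
      constructor
      · intro h
        have := Subgroup.comap_mono (f := QuotientGroup.mk' E) h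
        rwa [Subgroup.comap_map_eq, QuotientGroup.ker_mk', sup_eq_left.mpr hEH] at this
      · intro h
        have := Subgroup.map_mono (f := QuotientGroup.mk' E) h
        rwa [Subgroup.map_comap_eq_self_of_surjective (QuotientGroup.mk'_surjective E)] at this
    rw [hstep1, hstep2, hstep3, hK _ hKidx, hstep4]

/-- the number of maximal subgroups of maximal class is even -/
theorem even_card_maxClass {P : Type u} [Group P] [Finite P] (m : ℕ) (hm : 3 ≤ m)
    (hP : Nat.card P = 2 ^ (m + 1)) (hnc : ¬ IsCyclic P) (hcl : Group.nilpotencyClass P ≠ m) :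
    Even (Nat.card {M : Subgroup P // M.index = 2 ∧ Group.nilpotencyClass M = m - 1}) := by
  by_cases hne : Nonempty {M : Subgroup P // M.index = 2 ∧ Group.nilpotencyClass M = m - 1}
  · obtain ⟨⟨M, hM, hMc⟩⟩ := hne
    obtain ⟨Z, hZ, hdet⟩ := exists_detector m hm hP hnc hcl M hM hMc
    have e : {M : Subgroup P // M.index = 2 ∧ Group.nilpotencyClass M = m - 1} ≃
        {H : Subgroup P // H.index = 2 ∧ ¬ Z ≤ H} := by
      apply Equiv.subtypeEquivRight
      intro H
      constructor
      · rintro ⟨h1, h2⟩
        exact ⟨h1, (hdet H h1).mp h2⟩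
      · rintro ⟨h1, h2⟩
        exact ⟨h1, (hdet H h1).mpr h2⟩
    rw [Nat.card_congr e]
    exact even_card_not_le (m + 1) hP Z hZ
  · rw [not_nonempty_iff] at hne
    rw [Nat.card_of_isEmpty]
    exact Even.zero

end Cfsg.Agent.Helper20.Berk
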