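import Mathlib
import Cfsg.Agent.Lib.Helper20.BerkA
import Cfsg.Agent.Lib.Helper20.BerkB
import Cfsg.Agent.Lib.Helper20.BerkD

set_option autoImplicit false

/-! The theorem of Kulakoff for `p = 2` (Berkovich): in a `2`-group of order `2^n` which is neither
cyclic nor of maximal class, the number of subgroups of order `2^a`, `0 < a < n`, is `3` modulo
`4`. -/

namespace Cfsg.Agent.Helper20.Berk

open Cfsg.Agent.Helper16 Cfsg.Agent.Helper20.SubCount
open Finset

universe u

/-- the exceptional maximal subgroups -/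
def Bad {P : Type*} [Group P] (m a : ℕ) (M : Subgroup P) : Prop :=
  IsCyclic M ∨ (Group.nilpotencyClass M = m - 1 ∧ a + 2 ≤ m)

/-- the number of exceptional maximal subgroups is even -/
theorem even_card_bad {P : Type u} [Group P] [Finite P] (m a : ℕ) (hm : 2 ≤ m) (ha : 0 < a)
    (hP : Nat.card P = 2 ^ (m + 1)) (hnc : ¬ IsCyclic P) (hcl : Group.nilpotencyClass P ≠ m) :
    Even (Nat.card {M : Subgroup P // M.index = 2 ∧ Bad m a M}) := by
  have hidx_card : ∀ M : Subgroup P, M.index = 2 ↔ Nat.card M = 2 ^ m := by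
    intro M
    have h1 := Subgroup.card_mul_index M
    rw [hP, pow_succ] at h1
    constructor
    · intro h
      rw [h] at h1
      exact Nat.eq_of_mul_eq_mul_right two_pos h1
    · intro h
      rw [h] at h1
      exact Nat.eq_of_mul_eq_mul_left (pow_pos two_pos m) h1
  have hcycEven := even_card_cyclic_max hm hP hnc hcl
  have eC : {M : Subgroup P // M.index = 2 ∧ IsCyclic M} ≃
      {C : Subgroup P // IsCyclic C ∧ Nat.card C = 2 ^ m} := by
    apply Equiv.subtypeEquivRight
    intro M
    rw [hidx_card]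
    exact and_comm
  by_cases hcase : a + 2 ≤ m ∧ ¬ ∃ C : Subgroup P, C.index = 2 ∧ IsCyclic C
  · have e : {M : Subgroup P // M.index = 2 ∧ Bad m a M} ≃
        {M : Subgroup P // M.index = 2 ∧ Group.nilpotencyClass M = m - 1} := by
      apply Equiv.subtypeEquivRight
      intro M
      constructor
      · rintro ⟨h1, h2⟩
        refine ⟨h1, ?_⟩
        rcases h2 with hc | ⟨hc, -⟩
        · exact absurd ⟨M, h1, hc⟩ hcase.2
        · exact hc
      · rintro ⟨h1, h2⟩
        exact ⟨h1, Or.inr ⟨h2, hcase.1⟩⟩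
    rw [Nat.card_congr e]
    exact even_card_maxClass m (by omega) hP hnc hcl
  · have e : {M : Subgroup P // M.index = 2 ∧ Bad m a M} ≃
        {M : Subgroup P // M.index = 2 ∧ IsCyclic M} := by
      apply Equiv.subtypeEquivRight
      intro M
      constructor
      · rintro ⟨h1, h2⟩
        refine ⟨h1, ?_⟩
        rcases h2 with hc | ⟨hc, ha2⟩
        · exact hc
        · exfalso
          have hex : ∃ C : Subgroup P, C.index = 2 ∧ IsCyclic C := by
            by_contra hcon
            exact hcase ⟨ha2, hcon⟩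
          obtain ⟨C, hC, hCc⟩ := hex
          obtain ⟨c, hc'⟩ := IsCyclic.exists_generator (α := C)
          have hb : orderOf (c : P) = 2 ^ m := by
            rw [Subgroup.orderOf_coe, orderOf_eq_card_of_forall_mem_zpowers hc',
              (hidx_card C).mp hC]
          exact not_maxClass_of_cyclic_max (by omega) hP hcl (c : P) hb M h1 hc
      · rintro ⟨h1, h2⟩
        exact ⟨h1, Or.inl h2⟩
    rw [Nat.card_congr (e.trans eC)]
    exact hcycEven

/-- **Kulakoff's theorem for `p = 2`** -/
theorem berk2 : ∀ (n : ℕ) (P : Type u) [Group P] [Finite P],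
    Nat.card P = 2 ^ n → ¬ IsCyclic P → Group.nilpotencyClass P ≠ n - 1 → ∀ a, 0 < a → a < n →
    cnt P (2 ^ a) ≡ 1 + 2 [MOD 2 ^ 2] := by
  intro n
  induction n using Nat.strong_induction_on with
  | _ n ih =>
    intro P _ _ hn hnc hcl a ha0 han
    classical
    haveI : Fact (Nat.Prime 2) := ⟨Nat.prime_two⟩
    have hp : Nat.Prime 2 := Nat.prime_two
    have hP : IsPGroup 2 P := IsPGroup.of_card hn
    obtain ⟨d, hd2, hd⟩ := exists_dual_card hP hnc
    have hΛ1 : cnt (Dual P 2) 2 ≡ 1 + 2 [MOD 2 ^ 2] :=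
      cnt_modEq_of_exponent_sq dual_pow d hd hd2
    have hΛ2 : cnt (Dual P 2) (2 ^ 2) ≡ 1 [MOD 2] := cnt_modEq_one d (Dual P 2) 2 hd 2 hd2
    obtain ⟨m, rfl⟩ : ∃ m, n = m + 1 := ⟨n - 1, by omega⟩
    rw [Nat.add_sub_cancel] at hcl
    rcases Nat.eq_or_lt_of_le (Nat.lt_succ_iff.mp han) with rfl | ham
    · rw [cnt_pred_eq a P 2 hn]
      exact hΛ1
    have hm2 : 2 ≤ m := by omega
    haveI : Fintype {B : Subgroup (Dual P 2) // Nat.card B = 2} := Fintype.ofFinite _
    haveI : Fintype {B : Subgroup (Dual P 2) // Nat.card B = 2 ^ 2} := Fintype.ofFinite _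
    have henum := enum_modEq_sq (m + 1) P 2 hn a han
    -- the subgroups of order `4` of the dual
    have hS2 : ∀ B : {B : Subgroup (Dual P 2) // Nat.card B = 2 ^ 2},
        cntIn (kerInf B.1) (2 ^ a) ≡ 1 [MOD 2] := by
      intro B
      rw [cntIn_eq_cnt]
      obtain ⟨hle, hne⟩ := kerInf_index_le_of_card_sq B.1 B.2
      have hmul := Subgroup.card_mul_index (kerInf B.1)
      rw [hn] at hmul
      have hdvd : (kerInf B.1).index ∣ 2 ^ (m + 1) := Dvd.intro_left _ hmul
      obtain ⟨j, hj, hjeq⟩ := (Nat.dvd_prime_pow hp).mp hdvd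
      have hj2 : j ≤ 2 := by
        rw [hjeq] at hle
        exact (Nat.pow_le_pow_iff_right hp.one_lt).mp hle
      have hcard : Nat.card (kerInf B.1) = 2 ^ (m + 1 - j) := by
        rw [hjeq] at hmul
        have : 2 ^ (m + 1) = 2 ^ (m + 1 - j) * 2 ^ j := by
          rw [← pow_add]
          congr 1
          omega
        rw [this] at hmul
        exact Nat.eq_of_mul_eq_mul_right (pow_pos hp.pos j) hmul
      exact cnt_modEq_one (m + 1 - j) _ 2 hcard a (by omega)
    have hS : ∑ B : {B : Subgroup (Dual P 2) // Nat.card B = 2 ^ 2}, cntIn (kerInf B.1) (2 ^ a)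
        ≡ 1 [MOD 2] := by
      have h1 : ∑ B : {B : Subgroup (Dual P 2) // Nat.card B = 2 ^ 2}, cntIn (kerInf B.1) (2 ^ a)
          ≡ ∑ _B : {B : Subgroup (Dual P 2) // Nat.card B = 2 ^ 2}, 1 [MOD 2] := by
        unfold Nat.ModEq
        rw [Finset.sum_nat_mod, Finset.sum_congr rfl (fun B _ => hS2 B), ← Finset.sum_nat_mod]
      simp only [Finset.sum_const, Finset.card_univ, smul_eq_mul, mul_one] at h1
      rw [← Nat.card_eq_fintype_card] at h1
      exact h1.trans hΛ2
    -- the subgroups of order `2` of the dual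
    have hcardM : ∀ B : {B : Subgroup (Dual P 2) // Nat.card B = 2},
        Nat.card (kerInf B.1) = 2 ^ m := by
      intro B
      have hidx := kerInf_index_of_card B.1 B.2
      have := Subgroup.card_mul_index (kerInf B.1)
      rw [hidx, hn, pow_succ] at this
      exact Nat.eq_of_mul_eq_mul_right hp.pos this
    have hB1 : ∀ B : {B : Subgroup (Dual P 2) // Nat.card B = 2},
        cntIn (kerInf B.1) (2 ^ a) + 2 * (if Bad m a (kerInf B.1) then 1 else 0)
          ≡ 1 + 2 [MOD 2 ^ 2] := by
      intro B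
      rw [cntIn_eq_cnt]
      have hM := hcardM B
      by_cases hcyc : IsCyclic ↥(kerInf B.1)
      · rw [if_pos (show Bad m a (kerInf B.1) from Or.inl hcyc), mul_one]
        haveI := hcyc
        rw [cnt_pow_of_isCyclic _ 2 a (by rw [hM]; exact pow_dvd_pow 2 ham.le)]
      · by_cases hclM : Group.nilpotencyClass ↥(kerInf B.1) = m - 1
        · by_cases ha2 : a + 2 ≤ m
          · rw [if_pos (show Bad m a (kerInf B.1) from Or.inr ⟨hclM, ha2⟩), mul_one]
            obtain ⟨b, x, hbx⟩ := exists_isDSQ_of_maximal_class m (by omega) _ hM hclM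
            have h1 := dsq_cnt (m - 1) (by omega) _ b x hbx a (by omega) (by omega)
            unfold Nat.ModEq at h1 ⊢
            norm_num at h1 ⊢
            omega
          · have hbad : ¬ Bad m a (kerInf B.1) := by
              rintro (h | ⟨-, h⟩)
              · exact hcyc h
              · exact ha2 h
            rw [if_neg hbad, mul_zero, add_zero]
            have ham1 : a = m - 1 := by omega
            have hM' : Nat.card ↥(kerInf B.1) = 2 ^ (a + 1) := by
              rw [hM]
              congr 1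
              omega
            rw [cnt_pred_eq a _ 2 hM']
            obtain ⟨d', hd2', hd'⟩ := exists_dual_card (IsPGroup.of_card hM) hcyc
            exact cnt_modEq_of_exponent_sq dual_pow d' hd' hd2'
        · have hbad : ¬ Bad m a (kerInf B.1) := by
            rintro (h | ⟨h, -⟩)
            · exact hcyc h
            · exact hclM h
          rw [if_neg hbad, mul_zero, add_zero]
          exact ih m (Nat.lt_succ_self m) _ hM hcyc hclM a ha0 ham
    have hT : ∑ B : {B : Subgroup (Dual P 2) // Nat.card B = 2},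
        (cntIn (kerInf B.1) (2 ^ a) + 2 * (if Bad m a (kerInf B.1) then 1 else 0))
        ≡ ∑ _B : {B : Subgroup (Dual P 2) // Nat.card B = 2}, (1 + 2) [MOD 2 ^ 2] := by
      unfold Nat.ModEq
      rw [Finset.sum_nat_mod, Finset.sum_congr rfl (fun B _ => hB1 B), ← Finset.sum_nat_mod]
    rw [Finset.sum_add_distrib, ← Finset.mul_sum, Finset.sum_const, Finset.card_univ, smul_eq_mul,
      Finset.sum_boole, ← Fintype.card_subtype, ← Nat.card_eq_fintype_card,
      ← Nat.card_eq_fintype_card] at hT
    -- the number of exceptional maximal subgroups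
    have hc : Nat.card {B : {B : Subgroup (Dual P 2) // Nat.card B = 2} // Bad m a (kerInf B.1)}
        = Nat.card {M : Subgroup P // M.index = 2 ∧ Bad m a M} := by
      apply Nat.card_congr
      refine ((equivIndex hP).subtypeEquiv
        (q := fun M : {M : Subgroup P // M.index = 2} => Bad m a M.1) (fun B => Iff.rfl)).trans ?_
      exact ⟨fun M => ⟨M.1.1, M.1.2, M.2⟩, fun M => ⟨⟨M.1, M.2.1⟩, M.2.2⟩, fun _ => rfl,
        fun _ => rfl⟩
    have hev := even_card_bad m a hm2 ha0 hn hnc hcl
    rw [← hc] at hev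
    obtain ⟨c', hc'⟩ := hev
    rw [hc'] at hT
    unfold cnt at hΛ1
    unfold Nat.ModEq at henum hS hT hΛ1 ⊢
    norm_num at henum hS hT hΛ1 ⊢
    omega

end Cfsg.Agent.Helper20.Berk
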