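import Mathlib
import Cfsg.Agent.Lib.Helper14.BhsDefs

/-!
# S2999 piece BHS-IDEAL (G7): the ideal configuration
-/

set_option autoImplicit false

namespace Cfsg.Agent.Helper14.Bhs

open Pointwise

universe u v

section grp

variable {P : Type u} [Group P] [Finite P] {W : Type v} [AddCommGroup W] [Finite W]
  [DistribMulAction P W] {p : ℕ} [Fact p.Prime] {T : Sylow p P} {M A : Subgroup P}

omit [Finite P] [Finite W] in
theorem bhs_ideal_cm_inv {A : Subgroup P} (hq : Quad W A) {c : P} (hc : c ∈ A) (w : W) :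
    cm w c⁻¹ = - cm w c := by
  have h1 := hq.cm_mul hc (A.inv_mem hc) w
  rw [mul_inv_cancel, cm_one] at h1
  exact eq_neg_of_add_eq_zero_right h1.symm

omit [Finite P] in
theorem bhs_ideal_card_smul (x : P) (D : AddSubgroup W) :
    Nat.card ↥(x • D) = Nat.card ↥D := by
  symm
  refine Nat.card_congr ⟨fun w => ⟨x • (w : W), AddSubgroup.smul_mem_pointwise_smul _ _ _ w.2⟩,
    fun w => ⟨x⁻¹ • (w : W), ?_⟩, ?_, ?_⟩
  · have := w.2
    rwa [AddSubgroup.mem_pointwise_smul_iff_inv_smul_mem] at this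
  · intro w
    ext
    simp
  · intro w
    ext
    simp

omit [Finite P] [Finite W] in
/-- the shear map `(a, z) ↦ [e, a] + z` is injective for `e ∈ E \ Z`. -/
theorem bhs_ideal_inj (hq : Quad W A) {x : P}
    (hinter : fix W A ⊓ x • fix W A = fix W (⊤ : Subgroup P))
    (hkey : Key W M A x) (hcore : A ⊓ M.normalCore = ⊥)
    {e : W} (he : e ∈ x • fix W A) (heZ : e ∉ fix W (⊤ : Subgroup P))
    {a c : P} (ha : a ∈ A) (hc : c ∈ A)
    (hz : cm e a - cm e c ∈ fix W (⊤ : Subgroup P)) : a = c := by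
  by_contra hne
  have hac : a * c⁻¹ ∈ A := A.mul_mem ha (A.inv_mem hc)
  have hne1 : a * c⁻¹ ≠ 1 := by
    intro h1
    exact hne (mul_inv_eq_one.1 h1)
  have hncore : a * c⁻¹ ∉ M.normalCore := by
    intro hmem
    have : a * c⁻¹ ∈ A ⊓ M.normalCore := ⟨hac, hmem⟩
    rw [hcore, Subgroup.mem_bot] at this
    exact hne1 this
  have hcm : cm e (a * c⁻¹) ∈ fix W (⊤ : Subgroup P) := by
    rw [hq.cm_mul ha (A.inv_mem hc), bhs_ideal_cm_inv hq hc, ← sub_eq_add_neg]
    exact hz
  have heV : e ∈ fix W A ⊔ x • fix W A := AddSubgroup.mem_sup_right he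
  have heD : e ∈ fix W A := hkey _ hac hncore e heV hcm
  have : e ∈ fix W A ⊓ x • fix W A := ⟨heD, he⟩
  rw [hinter] at this
  exact heZ this

/-! ### BHS-IDEAL -/

theorem ideal (h : Hyp W p T M A) (hq : Quad W A) (hic : InterConj W M A) {x : P} (hx : x ∉ M)
    (hkey : Key W M A x) (hcore : A ⊓ M.normalCore = ⊥)
    (hcard : Nat.card (fix W A) ≤ Nat.card A * Nat.card (fix W (⊤ : Subgroup P)))
    (hne : ¬ fix W A ≤ fix W (⊤ : Subgroup P)) : Ideal W A x := by
  have hinter : fix W A ⊓ x • fix W A = fix W (⊤ : Subgroup P) := hic x hx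
  have hZD : fix W (⊤ : Subgroup P) ≤ fix W A := fix_top_le A
  -- the shear map for `e ∈ E \ Z`
  have hshear : ∀ e ∈ x • fix W A, e ∉ fix W (⊤ : Subgroup P) →
      ∃ f : ↥A × ↥(fix W (⊤ : Subgroup P)) → ↥(fix W A), Function.Injective f ∧
        ∀ q, ((f q : ↥(fix W A)) : W) = cm e (q.1 : P) + (q.2 : W) := by
    intro e he heZ
    refine ⟨fun q => ⟨cm e (q.1 : P) + (q.2 : W),
      (fix W A).add_mem (hq _ q.1.2 e) (hZD q.2.2)⟩, ?_, fun q => rfl⟩
    rintro ⟨a, z⟩ ⟨c, z'⟩ hqq
    have hval : cm e (a : P) + (z : W) = cm e (c : P) + (z' : W) := congrArg Subtype.val hqq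
    have hz : cm e (a : P) - cm e (c : P) ∈ fix W (⊤ : Subgroup P) := by
      have : cm e (a : P) - cm e (c : P) = (z' : W) - (z : W) := by
        rw [sub_eq_sub_iff_add_eq_add, hval, add_comm]
      rw [this]
      exact (fix W (⊤ : Subgroup P)).sub_mem z'.2 z.2
    have hac : (a : P) = (c : P) := bhs_ideal_inj hq hinter hkey hcore he heZ a.2 c.2 hz
    have hac' : a = c := Subtype.ext hac
    subst hac'
    have hzz : (z : W) = (z' : W) := add_left_cancel hval
    have hzz' : z = z' := Subtype.ext hzz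
    rw [hzz']
  -- an element of `E \ Z`
  obtain ⟨d₀, hd₀, hd₀Z⟩ : ∃ d₀ ∈ fix W A, d₀ ∉ fix W (⊤ : Subgroup P) := by
    by_contra hcon
    push Not at hcon
    exact hne hcon
  have he₀ : x • d₀ ∈ x • fix W A := AddSubgroup.smul_mem_pointwise_smul _ _ _ hd₀
  have he₀Z : x • d₀ ∉ fix W (⊤ : Subgroup P) := by
    intro hmem
    apply hd₀Z
    have h2 : x • d₀ ∈ x • fix W (⊤ : Subgroup P) := by rw [smul_fix_top]; exact hmem
    rw [AddSubgroup.mem_pointwise_smul_iff_inv_smul_mem, inv_smul_smul] at h2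
    exact h2
  -- cardinalities
  have hcardeq : Nat.card (fix W A) = Nat.card A * Nat.card (fix W (⊤ : Subgroup P)) := by
    apply le_antisymm hcard
    obtain ⟨f, hf, -⟩ := hshear _ he₀ he₀Z
    have := Nat.card_le_card_of_injective f hf
    rwa [Nat.card_prod] at this
  have hZpos : 0 < Nat.card (fix W (⊤ : Subgroup P)) := Nat.card_pos
  have htop : fix W A ⊔ x • fix W A = ⊤ := by
    apply AddSubgroup.eq_top_of_le_card
    have h1 := card_sup_mul_card_inf (fix W A) (x • fix W A)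
    rw [hinter, bhs_ideal_card_smul] at h1
    have h2 : Nat.card ↥(fix W A ⊔ x • fix W A) = Nat.card A * Nat.card (fix W A) := by
      apply Nat.eq_of_mul_eq_mul_right hZpos
      rw [h1]
      nth_rewrite 1 [hcardeq]
      ring
    rw [h2]
    exact h.hi1
  refine ⟨htop, hinter, hcardeq, hne, ?_, ?_⟩
  · intro a ha ha1 w hw
    have hncore : a ∉ M.normalCore := by
      intro hmem
      have : a ∈ A ⊓ M.normalCore := ⟨ha, hmem⟩
      rw [hcore, Subgroup.mem_bot] at this
      exact ha1 this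
    exact hkey a ha hncore w (by rw [htop]; exact AddSubgroup.mem_top w) hw
  · intro e he heZ d hd
    obtain ⟨f, hf, hfval⟩ := hshear e he heZ
    have hbij : Function.Bijective f := by
      apply hf.bijective_of_nat_card_le
      rw [Nat.card_prod, hcardeq]
    obtain ⟨⟨a, z⟩, hq'⟩ := hbij.2 ⟨d, hd⟩
    refine ⟨a, a.2, ?_⟩
    have hval : cm e (a : P) + (z : W) = d := by
      rw [← hfval ⟨a, z⟩, hq']
    have : cm e (a : P) - d = - (z : W) := by
      rw [← hval]; abel
    rw [this]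
    exact (fix W (⊤ : Subgroup P)).neg_mem z.2

end grp

end Cfsg.Agent.Helper14.Bhs
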