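import Mathlib
import Cfsg.Agent.S0041

set_option autoImplicit false

namespace Cfsg.Agent.Helper20

/-- every nonidentity element has prime power order -/
def CP (G : Type*) [Group G] : Prop := ∀ g : G, g ≠ 1 → IsPrimePow (orderOf g)

namespace CP

variable {G : Type*} [Group G]

theorem subgroup (h : CP G) (H : Subgroup G) : CP H := by
  intro g hg
  rw [← Subgroup.orderOf_coe]
  exact h g (fun h1 => hg (Subtype.ext h1))

theorem of_injective {H : Type*} [Group H] (h : CP G) (f : H →* G)
    (hf : Function.Injective f) : CP H := by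
  intro g hg
  rw [← orderOf_injective f hf]
  exact h _ (fun h1 => hg (hf (by rw [h1, map_one])))

theorem quotient (h : CP G) (N : Subgroup G) [N.Normal] : CP (G ⧸ N) := by
  intro g hg
  obtain ⟨x, rfl⟩ := QuotientGroup.mk_surjective g
  have hx : x ≠ 1 := by rintro rfl; exact hg rfl
  have hd : orderOf (x : G ⧸ N) ∣ orderOf x := orderOf_map_dvd (QuotientGroup.mk' N) x
  exact (h x hx).dvd hd (by rw [Ne, orderOf_eq_one_iff]; exact hg)

theorem eq_one_of_commute_of_coprime [Finite G] (h : CP G) {a b : G} (hab : Commute a b)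
    (hc : (orderOf a).Coprime (orderOf b)) : a = 1 ∨ b = 1 := by
  by_contra hne
  push Not at hne
  obtain ⟨ha, hb⟩ := hne
  have hord : orderOf (a * b) = orderOf a * orderOf b :=
    hab.orderOf_mul_eq_mul_orderOf_of_coprime hc
  have hapos : 0 < orderOf a := orderOf_pos a
  have hbpos : 0 < orderOf b := orderOf_pos b
  have ha1 : orderOf a ≠ 1 := by rw [Ne, orderOf_eq_one_iff]; exact ha
  have hb1 : orderOf b ≠ 1 := by rw [Ne, orderOf_eq_one_iff]; exact hb
  have hab1 : a * b ≠ 1 := by
    intro h1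
    rw [← orderOf_eq_one_iff, hord] at h1
    exact ha1 (Nat.eq_one_of_mul_eq_one_right h1)
  have hpp := h (a * b) hab1
  rw [hord] at hpp
  rcases (Nat.Coprime.isPrimePow_dvd_mul hc hpp).mp (dvd_refl _) with h2 | h2
  · have h3 : orderOf a * orderOf b ∣ orderOf a * 1 := by rwa [mul_one]
    have h4 := Nat.dvd_of_mul_dvd_mul_left hapos h3
    exact hb1 (Nat.dvd_one.mp h4)
  · have h3 : orderOf a * orderOf b ∣ 1 * orderOf b := by rwa [one_mul]
    have h4 := Nat.dvd_of_mul_dvd_mul_right hbpos h3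
    exact ha1 (Nat.dvd_one.mp h4)

theorem pow_of_commute [Finite G] (h : CP G) {q : ℕ} (hq : q.Prime) {z g : G}
    (hz : orderOf z = q) (hc : Commute z g) : ∃ k, orderOf g = q ^ k := by
  by_cases hg : g = 1
  · exact ⟨0, by rw [hg, orderOf_one, pow_zero]⟩
  obtain ⟨p, k, hp, hk, hpk⟩ := (isPrimePow_nat_iff _).mp (h g hg)
  by_cases hpq : p = q
  · exact ⟨k, by rw [← hpk, hpq]⟩
  exfalso
  have hcop : (orderOf z).Coprime (orderOf g) := by
    rw [hz, ← hpk]
    exact Nat.Coprime.pow_right _ ((Nat.coprime_primes hq hp).mpr (Ne.symm hpq))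
  rcases h.eq_one_of_commute_of_coprime hc hcop with h1 | h1
  · rw [h1, orderOf_one] at hz
    exact hq.one_lt.ne hz
  · exact hg h1

theorem exists_prime_isPGroup_of_comm [Finite G] [Nontrivial G] (h : CP G)
    (hc : ∀ a b : G, a * b = b * a) : ∃ p, p.Prime ∧ IsPGroup p G ∧ p ∣ Nat.card G := by
  have hcard : Nat.card G ≠ 1 := by
    intro h1
    have := Nat.card_eq_one_iff_unique.mp h1
    exact not_subsingleton G this.1
  obtain ⟨p, hp, hpG⟩ := Nat.exists_prime_and_dvd hcard
  haveI : Fact p.Prime := ⟨hp⟩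
  obtain ⟨z, hz⟩ := exists_prime_orderOf_dvd_card' (G := G) p hpG
  refine ⟨p, hp, ?_, hpG⟩
  rw [IsPGroup.iff_orderOf]
  intro g
  exact h.pow_of_commute hp hz (hc z g)

end CP

theorem isSolvable_of_sup_eq_top {G : Type*} [Group G] (N K : Subgroup G) [N.Normal]
    (hN : Group.IsSolvable N) (hK : Group.IsSolvable K) (h : K ⊔ N = ⊤) : Group.IsSolvable G := by
  have hsurj : Function.Surjective ((QuotientGroup.mk' N).comp K.subtype) := by
    intro x
    obtain ⟨g, rfl⟩ := QuotientGroup.mk_surjective x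
    have hg : g ∈ (↑(K ⊔ N) : Set G) := by rw [h]; trivial
    rw [Subgroup.mul_normal] at hg
    obtain ⟨k, hk, n, hn, rfl⟩ := hg
    refine ⟨⟨k, hk⟩, ?_⟩
    simp only [MonoidHom.coe_comp, Function.comp_apply, Subgroup.coe_subtype,
      QuotientGroup.mk'_apply]
    rw [QuotientGroup.eq]
    simpa using hn
  haveI := hN
  haveI := hK
  haveI : Group.IsSolvable (G ⧸ N) := Group.isSolvable_of_surjective hsurj
  exact Group.isSolvable_of_ker_le_range N.subtype (QuotientGroup.mk' N) (by simp)

end Cfsg.Agent.Helper20
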