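import Mathlib
import Cfsg.Agent.Lib.Helper9.PCoreSub
import Cfsg.Agent.Lib.Helper20.CPBasic

set_option autoImplicit false

namespace Cfsg.Agent.Helper20

open scoped Pointwise

namespace CP

variable {X : Type*} [Group X] [Finite X]

theorem false_of_commute_subgroups (h : CP X) (T U : Subgroup X)
    (hT : ∀ r : ℕ, r.Prime → ¬ IsPGroup r T) (hU : U ≠ ⊥)
    (hc : ∀ t ∈ T, ∀ u ∈ U, Commute t u) : False := by
  have hcard : Nat.card U ≠ 1 := fun h1 => hU (Subgroup.card_eq_one.mp h1)
  obtain ⟨q, hq, hqU⟩ := Nat.exists_prime_and_dvd hcard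
  haveI : Fact q.Prime := ⟨hq⟩
  obtain ⟨y, hy⟩ := exists_prime_orderOf_dvd_card' (G := U) q hqU
  apply hT q hq
  rw [IsPGroup.iff_orderOf]
  intro x
  have hy' : orderOf (y : X) = q := by rw [Subgroup.orderOf_coe, hy]
  obtain ⟨k, hk⟩ := h.pow_of_commute hq hy' (hc x x.2 y y.2).symm
  exact ⟨k, by rw [← Subgroup.orderOf_coe, hk]⟩

theorem not_isPGroup_of_normal (hrad : ∀ N : Subgroup X, N.Normal → Group.IsSolvable N → N = ⊥)
    (M : Subgroup X) [M.Normal] (T : Subgroup X) (hTM : T ≤ M)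
    (hMT : M ≤ Subgroup.normalizer (T : Set X)) (hT1 : T ≠ ⊥) (r : ℕ) (hr : r.Prime) :
    ¬ IsPGroup r T := by
  intro hTr
  haveI : Fact r.Prime := ⟨hr⟩
  have hn : (T.subgroupOf M).Normal :=
    (Subgroup.normal_subgroupOf_iff_le_normalizer hTM).mpr hMT
  have hp : IsPGroup r (T.subgroupOf M) := hTr.comap_subtype
  have h1 : T.subgroupOf M ≤ Cfsg.pCore r M := Cfsg.Agent.Helper9.le_pCore' hn hp
  have h2 : (T.subgroupOf M).map M.subtype ≤ Cfsg.pCore r X :=
    le_trans (Subgroup.map_mono h1) (Cfsg.Agent.Helper9.map_subtype_pCore_le r M)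
  rw [Subgroup.map_subgroupOf_eq_of_le hTM] at h2
  have hchar : (Cfsg.pCore r X).Characteristic := Cfsg.Agent.Helper9.pCore_characteristic r
  haveI : (Cfsg.pCore r X).Normal := inferInstance
  have hsolv : Group.IsSolvable (Cfsg.pCore r X) := by
    haveI : Group.IsNilpotent (Cfsg.pCore r X) :=
      (Cfsg.Agent.Helper9.pCore_isPGroup' r X).isNilpotent
    infer_instance
  have h3 := hrad _ inferInstance hsolv
  rw [h3] at h2
  exact hT1 (le_bot_iff.mp h2)

theorem exists_min_normal [Nontrivial X] (hcp : CP X)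
    (hrad : ∀ N : Subgroup X, N.Normal → Group.IsSolvable N → N = ⊥) :
    ∃ M : Subgroup X, M.Normal ∧ IsSimpleGroup M ∧ ¬ IsMulCommutative M ∧
      ∀ N : Subgroup X, N.Normal → N ≠ ⊥ → M ≤ N := by
  classical
  -- step 1: minimal normal subgroup
  set S : Set (Subgroup X) := {N | N.Normal ∧ N ≠ ⊥} with hS
  have hSne : S.Nonempty := ⟨⊤, inferInstance, top_ne_bot⟩
  obtain ⟨M, ⟨hMn, hM1⟩, hMmin⟩ := Set.exists_min_image S (fun N => Nat.card N)
    (Set.toFinite S) hSne
  haveI := hMn
  have hnpM : ∀ r : ℕ, r.Prime → ¬ IsPGroup r M := fun r hr =>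
    not_isPGroup_of_normal hrad M M le_rfl Subgroup.le_normalizer hM1 r hr
  -- step 2
  have hMle : ∀ N : Subgroup X, N.Normal → N ≠ ⊥ → M ≤ N := by
    intro N hNn hN1
    haveI := hNn
    by_cases hMN : M ⊓ N = ⊥
    · exfalso
      apply hcp.false_of_commute_subgroups M N hnpM hN1
      intro t ht u hu
      exact Subgroup.commute_of_normal_of_disjoint M N hMn hNn (disjoint_iff.mpr hMN) t u ht hu
    · have h1 : Nat.card M ≤ Nat.card (M ⊓ N : Subgroup X) :=
        hMmin (M ⊓ N) ⟨inferInstance, hMN⟩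
      have h2 : M ⊓ N = M := Subgroup.eq_of_le_of_card_ge inf_le_left h1
      exact inf_eq_left.mp h2
  -- step 3
  set S2 : Set (Subgroup X) :=
    {T | T ≤ M ∧ M ≤ Subgroup.normalizer (T : Set X) ∧ T ≠ ⊥} with hS2
  have hS2ne : S2.Nonempty := ⟨M, le_rfl, Subgroup.le_normalizer, hM1⟩
  obtain ⟨T, ⟨hTM, hMT, hT1⟩, hTmin⟩ := Set.exists_min_image S2 (fun N => Nat.card N)
    (Set.toFinite S2) hS2ne
  have hnpT : ∀ r : ℕ, r.Prime → ¬ IsPGroup r T := fun r hr =>
    not_isPGroup_of_normal hrad M T hTM hMT hT1 r hr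
  have hconj : ∀ g : X, T.map (MulAut.conj g).toMonoidHom = T := by
    intro g
    set Tg : Subgroup X := T.map (MulAut.conj g).toMonoidHom with hTg
    have hmem : ∀ x : X, x ∈ Tg ↔ g⁻¹ * x * g ∈ T := by
      intro x
      rw [hTg, Subgroup.mem_map_equiv]
      simp [MulAut.conj_symm_apply]
    have hTgM : Tg ≤ M := by
      intro x hx
      rw [hmem] at hx
      have h1 := hMn.conj_mem _ (hTM hx) g
      simpa [mul_assoc] using h1
    have hMTg : M ≤ Subgroup.normalizer (Tg : Set X) := by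
      intro m hm
      rw [Subgroup.mem_normalizer_iff]
      intro x
      rw [hmem, hmem]
      have hm' : g⁻¹ * m * g ∈ M := by
        have := hMn.conj_mem m hm g⁻¹
        simpa using this
      have h1 := Subgroup.mem_normalizer_iff.mp (hMT hm') (g⁻¹ * x * g)
      rw [h1]
      have : g⁻¹ * m * g * (g⁻¹ * x * g) * (g⁻¹ * m * g)⁻¹ = g⁻¹ * (m * x * m⁻¹) * g := by
        group
      rw [this]
    have hTg1 : Tg ≠ ⊥ := by
      intro hb
      rw [hTg, Subgroup.map_eq_bot_iff_of_injective _ (MulAut.conj g).injective] at hb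
      exact hT1 hb
    have hcardTg : Nat.card Tg = Nat.card T :=
      (Nat.card_congr (T.equivMapOfInjective _ (MulAut.conj g).injective).toEquiv).symm
    by_cases hTT : T ⊓ Tg = ⊥
    · exfalso
      apply hcp.false_of_commute_subgroups T Tg hnpT hTg1
      intro t ht u hu
      have h1 : t * u * t⁻¹ * u⁻¹ ∈ T ⊓ Tg := by
        rw [Subgroup.mem_inf]
        constructor
        · have h2 : u * t⁻¹ * u⁻¹ ∈ T :=
            (Subgroup.mem_normalizer_iff.mp (hMT (hTgM hu)) t⁻¹).mp (inv_mem ht)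
          have h3 := mul_mem ht h2
          have : t * (u * t⁻¹ * u⁻¹) = t * u * t⁻¹ * u⁻¹ := by group
          rwa [this] at h3
        · have h2 : t * u * t⁻¹ ∈ Tg :=
            (Subgroup.mem_normalizer_iff.mp (hMTg (hTM ht)) u).mp hu
          exact mul_mem h2 (inv_mem hu)
      rw [hTT, Subgroup.mem_bot] at h1
      have h2 : t * u = u * t := by
        calc t * u = (t * u * t⁻¹ * u⁻¹) * (u * t) := by group
          _ = u * t := by rw [h1, one_mul]
      exact h2
    · have hin : (T ⊓ Tg) ∈ S2 := by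
        refine ⟨le_trans inf_le_left hTM, ?_, hTT⟩
        intro m hm
        rw [Subgroup.mem_normalizer_iff]
        intro x
        rw [Subgroup.mem_inf, Subgroup.mem_inf,
          ← Subgroup.mem_normalizer_iff.mp (hMT hm) x, ← Subgroup.mem_normalizer_iff.mp (hMTg hm) x]
      have h1 : Nat.card T ≤ Nat.card (T ⊓ Tg : Subgroup X) := hTmin _ hin
      have h2 : T ⊓ Tg = T := Subgroup.eq_of_le_of_card_ge inf_le_left h1
      have h3 : T ≤ Tg := inf_eq_left.mp h2
      exact (Subgroup.eq_of_le_of_card_ge h3 (le_of_eq hcardTg)).symm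
  have hTn : T.Normal := by
    constructor
    intro t ht g
    have : g * t * g⁻¹ ∈ T.map (MulAut.conj g).toMonoidHom :=
      Subgroup.mem_map.mpr ⟨t, ht, by simp [MulAut.conj_apply]⟩
    rwa [hconj g] at this
  have hTeq : T = M := le_antisymm hTM (hMle T hTn hT1)
  have hS2M : ∀ T2 ∈ S2, T2 = M := by
    intro T2 hT2
    have h1 : Nat.card T ≤ Nat.card T2 := hTmin T2 hT2
    rw [hTeq] at h1
    exact Subgroup.eq_of_le_of_card_ge hT2.1 h1
  -- step 4
  haveI : Nontrivial M := (Subgroup.nontrivial_iff_ne_bot M).mpr hM1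
  have hsimple : IsSimpleGroup M := by
    refine ⟨?_⟩
    intro T2 hT2n
    by_cases hT2 : T2 = ⊥
    · exact Or.inl hT2
    right
    have hin : T2.map M.subtype ∈ S2 := by
      refine ⟨Subgroup.map_subtype_le T2, ?_, ?_⟩
      · have h1 := Subgroup.le_normalizer_map (H := T2) M.subtype
        rw [Subgroup.normalizer_eq_top] at h1
        have h2 : (⊤ : Subgroup M).map M.subtype = M := by
          rw [← MonoidHom.range_eq_map, Subgroup.range_subtype]
        rw [h2] at h1
        exact h1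
      · intro hb
        rw [Subgroup.map_eq_bot_iff_of_injective _ M.subtype_injective] at hb
        exact hT2 hb
    have h3 := hS2M _ hin
    apply Subgroup.map_injective M.subtype_injective
    rw [h3, ← MonoidHom.range_eq_map, Subgroup.range_subtype]
  refine ⟨M, hMn, hsimple, ?_, hMle⟩
  intro hcomm
  have hsolv : Group.IsSolvable M := by
    apply Group.isSolvable_of_comm
    intro a b
    exact hcomm.is_comm.comm a b
  exact hM1 (hrad M hMn hsolv)

end CP

end Cfsg.Agent.Helper20
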