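import Mathlib
import Cfsg.Agent.S0041
import Cfsg.Agent.Lib.Helper1.SolvableBasic
import Cfsg.Agent.Lib.Helper20.CPBasic

set_option autoImplicit false

namespace Cfsg.Agent.Helper20

namespace CP

variable {G : Type*} [Group G] [Finite G]

/-- fixed-point-freeness of p'-elements on a `p`-subgroup in a CP group -/
theorem fpf_of_coprime (h : CP G) {p : ℕ} (hp : p.Prime) (V : Subgroup G) (hV : IsPGroup p V)
    {a : G} (ha : a ≠ 1) (hc : (orderOf a).Coprime p) : V ⊓ Subgroup.centralizer {a} = ⊥ := by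
  haveI : Fact p.Prime := ⟨hp⟩
  rw [eq_bot_iff]
  intro v hv
  rw [Subgroup.mem_inf] at hv
  rw [Subgroup.mem_bot]
  obtain ⟨k, hk⟩ := (IsPGroup.iff_orderOf.mp hV) ⟨v, hv.1⟩
  rw [Subgroup.orderOf_mk] at hk
  have hcomm : Commute a v := (Subgroup.mem_centralizer_iff.mp hv.2 a rfl)
  have hcop : (orderOf a).Coprime (orderOf v) := by
    rw [hk]; exact Nat.Coprime.pow_right _ hc
  rcases h.eq_one_of_commute_of_coprime hcomm hcop with h1 | h1
  · exact absurd h1 ha
  · exact h1

theorem normalizer_solvable (h : CP G) {p q : ℕ} (hp : p.Prime) (hq : q.Prime) (hpq : p ≠ q)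
    (V : Subgroup G) [V.Normal] (hVc : IsMulCommutative V) (hV1 : V ≠ ⊥) (hV : IsPGroup p V)
    (Q : Subgroup G) (hQ : IsPGroup q Q) (hQ1 : Q ≠ ⊥) :
    Group.IsSolvable (Subgroup.normalizer (Q : Set G)) := by
  haveI : Fact p.Prime := ⟨hp⟩
  haveI : Fact q.Prime := ⟨hq⟩
  set Z : Subgroup G := Q ⊓ Subgroup.centralizer (Q : Set G) with hZ
  -- Z nontrivial
  haveI : Nontrivial Q := (Subgroup.nontrivial_iff_ne_bot Q).mpr hQ1
  haveI : Nontrivial (Subgroup.center Q) := hQ.center_nontrivial
  obtain ⟨z, hz1⟩ := exists_ne (1 : Subgroup.center Q)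
  have hzZ : ((z : Q) : G) ∈ Z := by
    rw [hZ, Subgroup.mem_inf]
    refine ⟨(z : Q).2, ?_⟩
    rw [Subgroup.mem_centralizer_iff]
    intro y hy
    have := (Subgroup.mem_center_iff.mp z.2) ⟨y, hy⟩
    exact congrArg Subtype.val this
  have hzne : ((z : Q) : G) ≠ 1 := by
    intro h1
    apply hz1
    apply Subtype.ext
    apply Subtype.ext
    exact h1
  have hZ1 : Z ≠ ⊥ := by
    intro hb
    rw [hb, Subgroup.mem_bot] at hzZ
    exact hzne hzZ
  have hZq : IsPGroup q Z := hQ.to_le inf_le_left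
  -- Z commutative
  have hZc : ∀ a b : Z, a * b = b * a := by
    intro a b
    apply Subtype.ext
    have ha := (Subgroup.mem_inf.mp a.2).2
    have hb := (Subgroup.mem_inf.mp b.2).1
    exact (Subgroup.mem_centralizer_iff.mp ha b hb).symm
  -- fpf
  have hfpf : ∀ a ∈ Z, a ≠ 1 → V ⊓ Subgroup.centralizer {a} = ⊥ := by
    intro a ha ha1
    obtain ⟨k, hk⟩ := (IsPGroup.iff_orderOf.mp hZq) ⟨a, ha⟩
    rw [Subgroup.orderOf_mk] at hk
    apply h.fpf_of_coprime hp V hV ha1
    rw [hk]
    exact Nat.Coprime.pow_left _ ((Nat.coprime_primes hq hp).mpr (Ne.symm hpq))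
  have hZV : Z ≤ Subgroup.normalizer (V : Set G) := by
    rw [Subgroup.normalizer_eq_top]; exact le_top
  have hcyc : IsCyclic Z := Cfsg.Agent.S0041.cyclic_of_comm Z V hV1 hZV hfpf hZc
  -- normalizer Q ≤ normalizer Z
  have hNN : Subgroup.normalizer (Q : Set G) ≤ Subgroup.normalizer (Z : Set G) := by
    intro g hg
    have key : ∀ g : G, g ∈ Subgroup.normalizer (Q : Set G) → ∀ x ∈ Z, g * x * g⁻¹ ∈ Z := by
      intro g hg x hx
      rw [hZ, Subgroup.mem_inf] at hx ⊢
      refine ⟨(Subgroup.mem_normalizer_iff.mp hg x).mp hx.1, ?_⟩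
      rw [Subgroup.mem_centralizer_iff]
      intro y hy
      have hy' : g⁻¹ * y * g ∈ Q := by
        have := (Subgroup.mem_normalizer_iff.mp (inv_mem hg) y).mp hy
        simpa using this
      have hc := Subgroup.mem_centralizer_iff.mp hx.2 _ hy'
      calc y * (g * x * g⁻¹) = g * ((g⁻¹ * y * g) * x) * g⁻¹ := by group
        _ = g * (x * (g⁻¹ * y * g)) * g⁻¹ := by rw [hc]
        _ = g * x * g⁻¹ * y := by group
    rw [Subgroup.mem_normalizer_iff]
    intro x
    constructor
    · exact key g hg x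
    · intro hx
      have := key g⁻¹ (inv_mem hg) _ hx
      simpa [mul_assoc] using this
  -- normalizer Z solvable
  have hsolZ : Group.IsSolvable (Subgroup.normalizer (Z : Set G)) := by
    let φ : Subgroup.normalizer (Z : Set G) →* MulAut Z := Z.normalizerMonoidHom
    have hφ : ∀ (n : Subgroup.normalizer (Z : Set G)) (w : Z),
        ((φ n w : Z) : G) = n * w * (n : G)⁻¹ := fun n w => rfl
    -- an element of order q in Z
    have hqZ : q ∣ Nat.card Z := by
      obtain ⟨k, hk⟩ := IsPGroup.iff_card.mp hZq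
      have hk0 : k ≠ 0 := by
        rintro rfl
        rw [pow_zero] at hk
        exact hZ1 (Subgroup.card_eq_one.mp hk)
      rw [hk]
      exact dvd_pow_self q hk0
    obtain ⟨z0, hz0⟩ := exists_prime_orderOf_dvd_card' (G := Z) q hqZ
    have hkerq : IsPGroup q φ.ker := by
      rw [IsPGroup.iff_orderOf]
      intro n
      have hn : φ (n : Subgroup.normalizer (Z : Set G)) = 1 := n.2
      have h1 : ((φ (n : Subgroup.normalizer (Z : Set G)) z0 : Z) : G) = z0 := by rw [hn]; rfl
      rw [hφ] at h1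
      have hcomm : Commute ((z0 : Z) : G) ((n : Subgroup.normalizer (Z : Set G)) : G) := by
        have : ((n : Subgroup.normalizer (Z : Set G)) : G) * z0
            = z0 * ((n : Subgroup.normalizer (Z : Set G)) : G) := by
          calc ((n : Subgroup.normalizer (Z : Set G)) : G) * z0
              = (((n : Subgroup.normalizer (Z : Set G)) : G) * z0 *
                  ((n : Subgroup.normalizer (Z : Set G)) : G)⁻¹) *
                  ((n : Subgroup.normalizer (Z : Set G)) : G) := by group
            _ = z0 * ((n : Subgroup.normalizer (Z : Set G)) : G) := by rw [h1]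
        exact this.symm
      have hz0' : orderOf ((z0 : Z) : G) = q := by rw [Subgroup.orderOf_coe, hz0]
      obtain ⟨k, hk⟩ := h.pow_of_commute hq hz0' hcomm
      refine ⟨k, ?_⟩
      rw [← Subgroup.orderOf_coe, ← Subgroup.orderOf_coe]
      exact hk
    haveI : Group.IsSolvable φ.ker := by
      haveI : Group.IsNilpotent φ.ker := hkerq.isNilpotent
      infer_instance
    haveI : Group.IsSolvable (MulAut Z) := by
      apply Group.isSolvable_of_comm
      intro a b
      apply (hcyc.mulAutMulEquiv Z).injective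
      rw [map_mul, map_mul, mul_comm]
    exact Group.isSolvable_of_ker_le_range φ.ker.subtype φ (by simp)
  haveI := hsolZ
  exact Group.isSolvable_of_isSolvable_injective (Subgroup.inclusion_injective hNN)

/-- the largest normal solvable subgroup of a nonsolvable CP-group is a `p`-group -/
theorem radical_isPGroup (h : CP G) (hns : ¬ Group.IsSolvable G)
    (R : Subgroup G) [R.Normal] (hRs : Group.IsSolvable R) :
    ∃ p : ℕ, p.Prime ∧ IsPGroup p R := by
  by_cases hR1 : R = ⊥
  · refine ⟨2, Nat.prime_two, ?_⟩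
    rw [hR1]
    exact IsPGroup.of_bot
  haveI : Nontrivial R := (Subgroup.nontrivial_iff_ne_bot R).mpr hR1
  obtain ⟨A, hAchar, hAne, hAc⟩ := Cfsg.Agent.Helper1.exists_normal_abelian_of_solvable R
  set V : Subgroup G := A.map R.subtype with hV
  haveI : V.Normal := ConjAct.normal_of_characteristic_of_normal
  have hVne : V ≠ ⊥ := by
    intro hb
    apply hAne
    rw [hV, Subgroup.map_eq_bot_iff_of_injective _ R.subtype_injective] at hb
    exact hb
  haveI : Nontrivial A := (Subgroup.nontrivial_iff_ne_bot A).mpr hAne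
  obtain ⟨p, hp, hpA, -⟩ := ((h.subgroup R).subgroup A).exists_prime_isPGroup_of_comm
    (fun a b => hAc.is_comm.comm a b)
  have hVp : IsPGroup p V := hpA.map R.subtype
  have hVc : IsMulCommutative V := by
    rw [hV]
    exact Subgroup.map_isMulCommutative A R.subtype
  refine ⟨p, hp, ?_⟩
  by_contra hnp
  -- a prime q ≠ p dividing |R|
  have hex : ∃ q : ℕ, q.Prime ∧ q ∣ Nat.card R ∧ q ≠ p := by
    by_contra hno
    push Not at hno
    apply hnp
    have hcard : Nat.card R ≠ 0 := Nat.card_pos.ne'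
    have hpow := Nat.eq_prime_pow_of_unique_prime_dvd hcard (p := p)
      (fun {d} hd hdv => hno d hd hdv)
    haveI : Fact p.Prime := ⟨hp⟩
    exact IsPGroup.of_card hpow
  obtain ⟨q, hq, hqR, hqp⟩ := hex
  haveI : Fact q.Prime := ⟨hq⟩
  obtain ⟨Q0⟩ : Nonempty (Sylow q R) := inferInstance
  have hfr := Sylow.normalizer_sup_eq_top Q0
  set Q : Subgroup G := (Q0 : Subgroup R).map R.subtype with hQdef
  have hQq : IsPGroup q Q := Q0.2.map R.subtype
  have hQ1 : Q ≠ ⊥ := by
    intro hb
    rw [hQdef, Subgroup.map_eq_bot_iff_of_injective _ R.subtype_injective] at hb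
    exact Sylow.ne_bot_of_dvd_card Q0 hqR hb
  have hsolN := h.normalizer_solvable hp hq (Ne.symm hqp) V hVc hVne hVp Q hQq hQ1
  exact hns (isSolvable_of_sup_eq_top R _ hRs hsolN hfr)

end CP

end Cfsg.Agent.Helper20
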