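import Mathlib
import Cfsg.Agent.S0041
import Cfsg.Agent.Lib.Helper1.SolvableBasic
import Cfsg.Agent.Lib.Helper20.CPBasic
import Cfsg.Agent.Lib.Helper20.CPNorm

set_option autoImplicit false

namespace Cfsg.Agent.Helper20

open scoped Pointwise

universe u

namespace CP

/-- the elements of `E` killed by `s`, for `E` abelian -/
def omegaSub {L : Type*} [Group L] (E : Subgroup L) (hE : ∀ a b : E, a * b = b * a) (s : ℕ) :
    Subgroup L where
  carrier := {e | e ∈ E ∧ e ^ s = 1}
  one_mem' := ⟨one_mem E, one_pow s⟩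
  mul_mem' := by
    rintro a b ⟨ha, ha1⟩ ⟨hb, hb1⟩
    refine ⟨mul_mem ha hb, ?_⟩
    have hc : Commute a b := congrArg Subtype.val (hE ⟨a, ha⟩ ⟨b, hb⟩)
    rw [hc.mul_pow, ha1, hb1, one_mul]
  inv_mem' := by
    rintro a ⟨ha, ha1⟩
    exact ⟨inv_mem ha, by rw [inv_pow, ha1, inv_one]⟩

theorem mem_omegaSub {L : Type*} [Group L] (E : Subgroup L) (hE : ∀ a b : E, a * b = b * a)
    (s : ℕ) (e : L) : e ∈ omegaSub E hE s ↔ e ∈ E ∧ e ^ s = 1 := Iff.rfl

theorem omegaSub_normal {L : Type*} [Group L] (E : Subgroup L) [E.Normal]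
    (hE : ∀ a b : E, a * b = b * a) (s : ℕ) : (omegaSub E hE s).Normal := by
  constructor
  rintro e ⟨he, he1⟩ g
  refine ⟨Subgroup.Normal.conj_mem inferInstance e he g, ?_⟩
  rw [conj_pow, he1, mul_one, mul_inv_cancel]

/-- In a CP group, a solvable subgroup of order prime to `p` normalising (automatically) a
nontrivial normal abelian `p`-subgroup has prime power order. -/
theorem complement_primeFactors_le_one {H : Type*} [Group H] [Finite H] (h : CP H) {p : ℕ}
    (hp : p.Prime) (V : Subgroup H) [V.Normal] (hVc : IsMulCommutative V) (hV1 : V ≠ ⊥)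
    (hV : IsPGroup p V) (L : Subgroup H) (hLs : Group.IsSolvable L)
    (hLp : (Nat.card L).Coprime p) {q r : ℕ} (hq : q.Prime) (hr : r.Prime) (hqr : q ≠ r)
    (hqL : q ∣ Nat.card L) (hrL : r ∣ Nat.card L) : False := by
  haveI := hLs
  haveI := hVc
  -- fpf for all of L
  have hfpf : ∀ a ∈ L, a ≠ 1 → V ⊓ Subgroup.centralizer {a} = ⊥ := by
    intro a ha ha1
    apply h.fpf_of_coprime hp V hV ha1
    have hd : orderOf a ∣ Nat.card L := by
      have := orderOf_dvd_natCard (⟨a, ha⟩ : L)
      rwa [Subgroup.orderOf_mk] at this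
    exact Nat.Coprime.coprime_dvd_left hd hLp
  have hnorm : ∀ B : Subgroup H, B ≤ Subgroup.normalizer (V : Set H) := by
    intro B
    rw [Subgroup.normalizer_eq_top]; exact le_top
  haveI : Nontrivial L := by
    rw [← Finite.one_lt_card_iff_nontrivial]
    exact lt_of_lt_of_le hq.one_lt (Nat.le_of_dvd Nat.card_pos hqL)
  obtain ⟨E, hEchar, hEne, hEc⟩ := Cfsg.Agent.Helper1.exists_normal_abelian_of_solvable L
  haveI : E.Normal := inferInstance
  haveI : Nontrivial E := (Subgroup.nontrivial_iff_ne_bot E).mpr hEne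
  have hEcomm : ∀ a b : E, a * b = b * a := fun a b => hEc.is_comm.comm a b
  obtain ⟨s, hs, hsE, hsdvd⟩ := ((h.subgroup L).subgroup E).exists_prime_isPGroup_of_comm hEcomm
  haveI : Fact s.Prime := ⟨hs⟩
  have hsL : s ∣ Nat.card L := dvd_trans hsdvd (Subgroup.card_subgroup_dvd_card E)
  -- the other prime
  obtain ⟨t, ht, hts, htL⟩ : ∃ t : ℕ, t.Prime ∧ t ≠ s ∧ t ∣ Nat.card L := by
    by_cases hqs : q = s
    · exact ⟨r, hr, fun h1 => hqr (hqs.trans h1.symm), hrL⟩
    · exact ⟨q, hq, hqs, hqL⟩
  haveI : Fact t.Prime := ⟨ht⟩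
  set E1 : Subgroup L := omegaSub E hEcomm s with hE1
  haveI : E1.Normal := omegaSub_normal E hEcomm s
  -- E1 nontrivial
  obtain ⟨e0, he0⟩ := exists_prime_orderOf_dvd_card' (G := E) s hsdvd
  have he0E1 : (e0 : L) ∈ E1 := by
    rw [hE1, mem_omegaSub]
    refine ⟨e0.2, ?_⟩
    rw [← Subgroup.orderOf_coe] at he0
    rw [← he0]; exact pow_orderOf_eq_one _
  have he0ne : (e0 : L) ≠ 1 := by
    intro h1
    rw [← Subgroup.orderOf_coe, h1, orderOf_one] at he0
    exact hs.one_lt.ne he0
  -- images in H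
  set E1' : Subgroup H := E1.map L.subtype with hE1'
  have hE1'L : E1' ≤ L := by
    rw [hE1']; exact Subgroup.map_subtype_le E1
  have hE1'ne : E1' ≠ ⊥ := by
    intro hb
    rw [hE1', Subgroup.map_eq_bot_iff_of_injective _ L.subtype_injective] at hb
    rw [hb, Subgroup.mem_bot] at he0E1
    exact he0ne he0E1
  have hE1c : ∀ a b : E1, a * b = b * a := by
    intro a b
    apply Subtype.ext
    have := congrArg Subtype.val (hEcomm ⟨a, a.2.1⟩ ⟨b, b.2.1⟩)
    exact this
  have hE1'c : IsMulCommutative E1' := by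
    haveI : IsMulCommutative E1 := ⟨⟨hE1c⟩⟩
    rw [hE1']
    exact Subgroup.map_isMulCommutative E1 L.subtype
  have hcyc1 : IsCyclic E1' := Cfsg.Agent.S0041.result E1' V hV1 (hnorm _)
    (fun a ha => hfpf a (hE1'L ha)) (Or.inl hE1'c)
  have hcardE1' : Nat.card E1' = Nat.card E1 :=
    (Nat.card_congr (E1.equivMapOfInjective L.subtype L.subtype_injective).toEquiv).symm
  have hcardE1 : Nat.card E1 = s := by
    rw [← hcardE1']
    have hexp : Monoid.exponent E1' ∣ s := by
      apply Monoid.exponent_dvd_of_forall_pow_eq_one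
      rintro ⟨x, hx⟩
      rw [hE1', Subgroup.mem_map] at hx
      obtain ⟨y, hy, rfl⟩ := hx
      apply Subtype.ext
      have := hy.2
      simp only [Subgroup.coe_pow, Subgroup.coe_subtype, Subgroup.coe_one]
      rw [← Subgroup.coe_pow, this]; rfl
    rw [IsCyclic.exponent_eq_card] at hexp
    rcases (Nat.dvd_prime hs).mp hexp with h1 | h1
    · exact absurd (Subgroup.card_eq_one.mp h1) hE1'ne
    · exact h1
  -- y of order t
  obtain ⟨y, hy⟩ := exists_prime_orderOf_dvd_card' (G := L) t htL
  set B : Subgroup L := E1 ⊔ Subgroup.zpowers y with hB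
  have hcardB : Nat.card B = s * t := by
    apply Nat.dvd_antisymm
    · -- card B ≤ s*t and s*t ∣ card B gives equality; we show dvd via le
      have hle : Nat.card B ≤ s * t := by
        have hset : (↑B : Set L) = ↑E1 * ↑(Subgroup.zpowers y) := by
          rw [hB]; exact Subgroup.normal_mul E1 (Subgroup.zpowers y)
        have h1 : Nat.card B = Nat.card (↑B : Set L) := rfl
        rw [h1, hset]
        calc Nat.card (↑(↑E1 * ↑(Subgroup.zpowers y) : Set L))
            ≤ Nat.card (↑E1 : Set L) * Nat.card (↑(Subgroup.zpowers y) : Set L) :=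
              Set.natCard_mul_le
          _ = s * t := by
              have h2 : Nat.card (↑E1 : Set L) = Nat.card E1 := rfl
              have h3 : Nat.card (↑(Subgroup.zpowers y) : Set L) = Nat.card (Subgroup.zpowers y) :=
                rfl
              rw [h2, h3, hcardE1, Nat.card_zpowers, hy]
      have hdvd : s * t ∣ Nat.card B := by
        apply Nat.Coprime.mul_dvd_of_dvd_of_dvd ((Nat.coprime_primes hs ht).mpr (Ne.symm hts))
        · rw [← hcardE1]; exact Subgroup.card_dvd_of_le le_sup_left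
        · rw [← hy, ← Nat.card_zpowers]; exact Subgroup.card_dvd_of_le le_sup_right
      have hge : s * t ≤ Nat.card B := Nat.le_of_dvd Nat.card_pos hdvd
      rw [le_antisymm hle hge]
    · apply Nat.Coprime.mul_dvd_of_dvd_of_dvd ((Nat.coprime_primes hs ht).mpr (Ne.symm hts))
      · rw [← hcardE1]; exact Subgroup.card_dvd_of_le le_sup_left
      · rw [← hy, ← Nat.card_zpowers]; exact Subgroup.card_dvd_of_le le_sup_right
  set B' : Subgroup H := B.map L.subtype with hB'
  have hB'L : B' ≤ L := by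
    rw [hB']; exact Subgroup.map_subtype_le B
  have hcardB' : Nat.card B' = s * t := by
    rw [← hcardB]
    exact (Nat.card_congr (B.equivMapOfInjective L.subtype L.subtype_injective).toEquiv).symm
  have hcyc2 : IsCyclic B' := Cfsg.Agent.S0041.result B' V hV1 (hnorm _)
    (fun a ha => hfpf a (hB'L ha)) (Or.inr ⟨s, t, hs, ht, hcardB'⟩)
  obtain ⟨g, hg⟩ := hcyc2.exists_generator
  have hog : orderOf g = s * t := by
    rw [orderOf_eq_card_of_forall_mem_zpowers hg, hcardB']
  have hg1 : g ≠ 1 := by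
    intro h1
    rw [h1, orderOf_one] at hog
    have := hs.one_lt
    have := ht.one_lt
    nlinarith
  have hpp := (h.subgroup B') g hg1
  rw [hog] at hpp
  obtain ⟨p', k, hp', hk, hpk⟩ := (isPrimePow_nat_iff _).mp hpp
  have h1 : s ∣ p' ^ k := by rw [hpk]; exact dvd_mul_right s t
  have h2 : t ∣ p' ^ k := by rw [hpk]; exact dvd_mul_left t s
  have h3 := (Nat.prime_dvd_prime_iff_eq hs hp').mp (hs.dvd_of_dvd_pow h1)
  have h4 := (Nat.prime_dvd_prime_iff_eq ht hp').mp (ht.dvd_of_dvd_pow h2)
  exact hts (h4.trans h3.symm)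

theorem card_primeFactors_le_two_aux : ∀ (n : ℕ) (H : Type u) [Group H] [Finite H],
    Nat.card H = n → Group.IsSolvable H → CP H → (Nat.card H).primeFactors.card ≤ 2 := by
  intro n
  induction n using Nat.strong_induction_on with
  | _ n ih =>
  intro H _ _ hn hsol hcp
  haveI := hsol
  by_cases htriv : Subsingleton H
  · have : Nat.card H = 1 := Nat.card_eq_one_iff_unique.mpr ⟨htriv, ⟨1⟩⟩
    rw [this]; simp
  rw [not_subsingleton_iff_nontrivial] at htriv
  obtain ⟨A, hAchar, hAne, hAc⟩ := Cfsg.Agent.Helper1.exists_normal_abelian_of_solvable H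
  haveI : A.Normal := inferInstance
  haveI : Nontrivial A := (Subgroup.nontrivial_iff_ne_bot A).mpr hAne
  obtain ⟨p, hp, hpA, hpdvd⟩ := (hcp.subgroup A).exists_prime_isPGroup_of_comm
    (fun a b => hAc.is_comm.comm a b)
  haveI : Fact p.Prime := ⟨hp⟩
  obtain ⟨k, hk⟩ := IsPGroup.iff_card.mp hpA
  have hk0 : k ≠ 0 := by
    rintro rfl
    rw [pow_zero] at hk
    exact hAne (Subgroup.card_eq_one.mp hk)
  have hmul : Nat.card A * A.index = Nat.card H := Subgroup.card_mul_index A
  have hidx : A.index ≠ 0 := Subgroup.index_ne_zero_of_finite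
  have hlt : Nat.card (H ⧸ A) < n := by
    rw [← Subgroup.index_eq_card, ← hn, ← hmul]
    have h1 : 1 < Nat.card A := by
      rw [hk]; exact Nat.one_lt_pow hk0 hp.one_lt
    have : 0 < A.index := Nat.pos_of_ne_zero hidx
    nlinarith
  have hih := ih _ hlt (H ⧸ A) rfl inferInstance (hcp.quotient A)
  rw [← Subgroup.index_eq_card] at hih
  have hpf : (Nat.card H).primeFactors = {p} ∪ A.index.primeFactors := by
    rw [← hmul, Nat.primeFactors_mul Nat.card_pos.ne' hidx, hk,
      Nat.primeFactors_prime_pow hk0 hp]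
  rw [hpf]
  by_cases hpin : p ∈ A.index.primeFactors
  · rw [Finset.union_eq_right.mpr (Finset.singleton_subset_iff.mpr hpin)]
    exact hih
  by_cases hle1 : A.index.primeFactors.card ≤ 1
  · calc ({p} ∪ A.index.primeFactors).card ≤ ({p} : Finset ℕ).card + A.index.primeFactors.card :=
        Finset.card_union_le _ _
      _ ≤ 1 + 1 := by rw [Finset.card_singleton]; omega
  exfalso
  have h2 : A.index.primeFactors.card = 2 := by omega
  obtain ⟨q, r, hqr, hqrs⟩ := Finset.card_eq_two.mp h2
  have hqmem : q ∈ A.index.primeFactors := by rw [hqrs]; simp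
  have hrmem : r ∈ A.index.primeFactors := by rw [hqrs]; simp
  have hpnd : ¬ p ∣ A.index := by
    intro hd
    exact hpin (Nat.mem_primeFactors.mpr ⟨hp, hd, hidx⟩)
  have hcop : (Nat.card A).Coprime A.index := by
    rw [hk]
    exact Nat.Coprime.pow_left _ ((Nat.Prime.coprime_iff_not_dvd hp).mpr hpnd)
  obtain ⟨L, hL⟩ := Subgroup.exists_right_complement'_of_coprime hcop
  have hLcard : Nat.card L = A.index := (hL.symm.index_eq_card).symm
  have hLp : (Nat.card L).Coprime p := by
    rw [hLcard]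
    exact ((Nat.Prime.coprime_iff_not_dvd hp).mpr hpnd).symm
  exact hcp.complement_primeFactors_le_one hp A hAc hAne hpA L inferInstance hLp
    (Nat.prime_of_mem_primeFactors hqmem) (Nat.prime_of_mem_primeFactors hrmem) hqr
    (hLcard ▸ Nat.dvd_of_mem_primeFactors hqmem) (hLcard ▸ Nat.dvd_of_mem_primeFactors hrmem)

theorem card_primeFactors_le_two {H : Type u} [Group H] [Finite H] (hsol : Group.IsSolvable H)
    (h : CP H) : (Nat.card H).primeFactors.card ≤ 2 :=
  card_primeFactors_le_two_aux _ H rfl hsol h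

end CP

end Cfsg.Agent.Helper20
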