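import Mathlib
import Cfsg.Agent.Lib.Helper20.CSDefs
import Cfsg.Agent.Lib.Helper18.CSBSYL
import Cfsg.Agent.Lib.Helper19.CSBQ
import Cfsg.Agent.Lib.Helper19.CSBSQ
import Cfsg.Agent.Lib.Helper19.CSBCOUNT

set_option autoImplicit false

/-!
# S4016, case B: `C_L(P) ≠ 1` forces `p = 3` and `C_L(P)` a `2`-group
-/

universe u

namespace Cfsg.Agent.Helper20.CS

open Subgroup

variable {p : ℕ} [Fact p.Prime] {G : Type u} [Group G] [Finite G]

/-- For a prime `r ∣ |L0|`: `R` (BSYL), `w` (BQ), `Q = zpowers w`, `p ≤ |Q| ≤ r + 1` (BCOUNT) and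
`r ≤ |R₀| ≤ p - 1` (BSQ), so `p = r + 1`, `r = 2`, `p = 3`. -/
theorem caseB_three (c : Cfg p G) (h0 : c.L0 ≠ ⊥) :
    p = 3 ∧ ∀ r : ℕ, r.Prime → r ∣ Nat.card ↥c.L0 → r = 2 := by
  have hp : p.Prime := Fact.out
  have key : ∀ r : ℕ, r.Prime → r ∣ Nat.card ↥c.L0 → p = r + 1 := by
    intro r hr hrd
    have : Fact r.Prime := ⟨hr⟩
    obtain ⟨R, hRL⟩ := c.exists_sylow_le_L hrd
    obtain ⟨w, hwN, hw1, ⟨k, hk⟩, hwM⟩ := c.exists_Q hrd R hRL
    have hQ := c.card_Q_le hrd R hRL (zpowers w) (zpowers_le.mpr hwN) hwM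
    rw [Nat.card_zpowers, hk] at hQ
    have hk0 : k ≠ 0 := by
      rintro rfl
      rw [pow_zero, orderOf_eq_one_iff] at hk
      exact hw1 hk
    have h1 : p ≤ r + 1 := le_trans (Nat.le_self_pow hk0 p) hQ
    obtain ⟨hsq, hdvd, -⟩ := c.card_sq_le hrd R hRL
    have hr0 := c.dvd_card_inf hrd R hRL
    set a := Nat.card ↥((R : Subgroup G) ⊓ c.L0) with ha_def
    have ha0 : 0 < a := Nat.card_pos
    have ha : r ≤ a := Nat.le_of_dvd ha0 hr0
    have hp1 : 0 < p - 1 := Nat.sub_pos_of_lt hp.one_lt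
    have hR : Nat.card ↥(R : Subgroup G) ≤ a * (p - 1) :=
      Nat.le_of_dvd (Nat.mul_pos ha0 hp1) hdvd
    have h2 : a * a ≤ a * (p - 1) := le_trans hsq hR
    have h3 : a ≤ p - 1 := Nat.le_of_mul_le_mul_left h2 ha0
    omega
  have two_of : ∀ r : ℕ, r.Prime → r ∣ Nat.card ↥c.L0 → r = 2 := by
    intro r hr hrd
    have h1 := key r hr hrd
    rcases hr.eq_two_or_odd' with h2 | h2
    · exact h2
    · exfalso
      have h3 : Even p := by
        rw [h1]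
        exact h2.add_one
      have h4 : p = 2 := (Nat.Prime.even_iff hp).mp h3
      have := hr.two_le
      omega
  have hcard : Nat.card ↥c.L0 ≠ 1 := fun h1 => h0 (Subgroup.card_eq_one.mp h1)
  have hr := Nat.minFac_prime hcard
  have hrd := Nat.minFac_dvd (Nat.card ↥c.L0)
  have h2 := two_of _ hr hrd
  have h3 := key _ hr hrd
  rw [h2] at h3
  exact ⟨h3, two_of⟩

end Cfsg.Agent.Helper20.CS
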