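import Mathlib
import Cfsg.Agent.Lib.Helper20.CSDefs
import Cfsg.Agent.Lib.Helper20.CSB0
import Cfsg.Agent.Lib.Helper1.CSLOC
import Cfsg.Agent.Lib.Helper22.Burnside

set_option autoImplicit false

/-!
# S4016: a simple minimal counterexample yields a configuration `Cfg p G`
-/

universe u

namespace Cfsg.Agent.Helper20.CS

open Subgroup

variable {p : ℕ} [Fact p.Prime] {G : Type u} [Group G] [Finite G]

/-- `P` any Sylow `p`-subgroup; `P ≠ ⊥` (else `⊤` is a normal `p`-complement); `p_ne_two`; `L` from
`exists_complement`; `act` from Burnside; `norm_eq` from `normalizer_le_of_le_cyclic` and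
`eq_normalizer_of_ge` (`N(P₁) ≠ ⊤` by simplicity). -/
theorem exists_cfg (h : Hyp p G) (hs : IsSimpleGroup G)
    (hsub : ∀ H : Subgroup G, H ≠ ⊤ → Concl p ↥H) (hnot : ¬ Concl p G) :
    Nonempty (Cfg p G) := by
  have P : Sylow p G := default
  have hcyc : IsCyclic ↥(P : Subgroup G) := h.1 P
  have hP1 : (P : Subgroup G) ≠ ⊥ := by
    intro hbot
    apply hnot
    left
    refine ⟨P, ⊤, inferInstance, ?_⟩
    rw [hbot]
    exact Subgroup.isComplement'_top_bot
  have hPn : ¬ (P : Subgroup G).Normal := by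
    intro hn
    apply hnot
    right
    intro Q
    obtain ⟨g, rfl⟩ := MulAction.exists_smul_eq G P Q
    rw [Sylow.smul_eq_of_normal]
    exact hn
  have hact : ¬ normalizer ((P : Subgroup G) : Set G) ≤ centralizer ((P : Subgroup G) : Set G) := by
    intro hle
    exact hnot (Or.inl (Cfsg.Agent.Helper22.hasNormalPComplement_of_normalizer_le_centralizer P hle))
  obtain ⟨L, hL1, hL2⟩ := exists_complement P
  have hPc : ∀ u ∈ (P : Subgroup G), ∀ v ∈ (P : Subgroup G), u * v = v * u := by
    intro u hu v hv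
    have h0 := hcyc.isMulCommutative
    have h1 := h0.is_comm.comm (⟨u, hu⟩ : (P : Subgroup G)) ⟨v, hv⟩
    exact congrArg Subtype.val h1
  refine ⟨⟨P, L, h, hs, hsub, p_ne_two h hnot, hP1, hL1, hL2, ?_, ?_⟩⟩
  · by_contra hno
    push Not at hno
    apply hact
    rw [← hL2]
    refine sup_le ?_ ?_
    · intro v hv
      rw [Subgroup.mem_centralizer_iff]
      intro u hu
      exact hPc u hu v hv
    · intro x hx
      rw [Subgroup.mem_centralizer_iff]
      intro u hu
      exact (hno x hx u hu).symm
  · intro P₁ hle hne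
    have h1 : normalizer ((P : Subgroup G) : Set G) ≤ normalizer (P₁ : Set G) :=
      normalizer_le_of_le_cyclic (P : Subgroup G) hcyc P₁ hle
    have h2 : normalizer (P₁ : Set G) ≠ ⊤ := by
      intro htop
      have hn : P₁.Normal := Subgroup.normalizer_eq_top_iff.mp htop
      have h3 : P₁ = ⊤ := (hs.eq_bot_or_eq_top_of_normal P₁ hn).resolve_left hne
      apply hPn
      have h4 : (P : Subgroup G) = ⊤ := top_le_iff.mp (h3 ▸ hle)
      rw [h4]
      infer_instance
    exact eq_normalizer_of_ge h hsub P hact _ h1 h2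

end Cfsg.Agent.Helper20.CS
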