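import Mathlib
import Cfsg.Agent.Lib.Helper20.CSDefs
import Cfsg.Agent.Lib.Helper20.CSCfg
import Cfsg.Agent.Lib.Helper20.CSB3
import Cfsg.Agent.Lib.Helper1.CSHSUB
import Cfsg.Agent.Lib.Helper1.CSHQUOT
import Cfsg.Agent.Lib.Helper7.CSRED0
import Cfsg.Agent.Lib.Helper7.CSREDQ
import Cfsg.Agent.Lib.Helper7.CSREDP
import Cfsg.Agent.Lib.Helper6.CSASMA2
import Cfsg.Agent.Lib.Helper6.CSBV4
import Cfsg.Agent.Lib.Helper2.CSV4ASM

set_option autoImplicit false

/-!
# S4016: the main induction
-/

universe u

namespace Cfsg.Agent.Helper20.CS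

open Subgroup

variable {p : ℕ} [Fact p.Prime] {G : Type u} [Group G] [Finite G]

theorem simple_case (h : Hyp p G) (hs : IsSimpleGroup G)
    (hsub : ∀ H : Subgroup G, H ≠ ⊤ → Concl p ↥H) : Concl p G := by
  by_contra hnot
  obtain ⟨c⟩ := exists_cfg h hs hsub hnot
  by_cases h0 : c.L0 = ⊥
  · exact caseA c h0
  · obtain ⟨h3, h2⟩ := caseB_three c h0
    subst h3
    obtain ⟨v⟩ := caseB_v4 c h0 h2
    exact v4_false v


omit [Finite G] [Fact p.Prime] in
theorem concl_of_subsingleton [Subsingleton G] : Concl p G := by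
  right
  intro P
  have : (P : Subgroup G) = ⊤ := Subsingleton.elim _ _
  rw [this]
  infer_instance

theorem main_aux (p : ℕ) [Fact p.Prime] : ∀ (n : ℕ) (G : Type u) [Group G] [Finite G],
    Nat.card G = n → Hyp p G → Concl p G := by
  intro n
  induction n using Nat.strong_induction_on with
  | _ n ih =>
    intro G _ _ hn h
    have hsub : ∀ H : Subgroup G, H ≠ ⊤ → Concl p ↥H := by
      intro H hH
      refine ih (Nat.card ↥H) ?_ ↥H rfl (h.subgroup H)
      rw [← hn]
      refine lt_of_le_of_ne (Subgroup.card_le_card_group H) ?_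
      intro heq
      exact hH ((Subgroup.card_eq_iff_eq_top H).mp heq)
    have hquot : ∀ (N : Subgroup G) [N.Normal], N ≠ ⊥ → Concl p (G ⧸ N) := by
      intro N hN hN1
      refine ih (Nat.card (G ⧸ N)) ?_ (G ⧸ N) rfl (h.quotient N)
      rw [← hn, ← Subgroup.index_eq_card, ← Subgroup.card_mul_index N]
      have h1 : 1 < Nat.card ↥N := by
        rw [Nat.one_lt_iff_ne_zero_and_ne_one]
        exact ⟨Nat.card_pos.ne', fun h1 => hN1 (Subgroup.card_eq_one.mp h1)⟩
      have h2 : 0 < N.index := Nat.pos_of_ne_zero Subgroup.index_ne_zero_of_finite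
      nlinarith
    by_cases hs : IsSimpleGroup G
    · exact simple_case h hs hsub
    · by_cases htriv : Subsingleton G
      · exact concl_of_subsingleton
      · rw [not_subsingleton_iff_nontrivial] at htriv
        have hex : ∃ N : Subgroup G, N.Normal ∧ N ≠ ⊥ ∧ N ≠ ⊤ := by
          by_contra hno
          push Not at hno
          apply hs
          exact IsSimpleGroup.mk (fun N hN => by
            by_cases h1 : N = ⊥
            · exact Or.inl h1
            · exact Or.inr (hno N hN h1))
        obtain ⟨N, hN, hN1, hN2⟩ := hex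
        obtain ⟨N₀, hN₀n, hN₀1, hN₀⟩ := exists_normal_p_or_p' hsub N hN hN1 hN2
        have hp' : ∀ K : Subgroup G, K.Normal → K ≠ ⊥ → ¬ p ∣ Nat.card ↥K → Concl p G := by
          intro K hK hK1 hKp
          have := hK
          exact concl_of_normal_p' h K hKp (hquot K hK1)
        rcases hN₀ with hpg | hp'g
        · have := hN₀n
          exact concl_of_normal_p h N₀ hpg (hquot N₀ hN₀1) hp'
        · exact hp' N₀ hN₀n hN₀1 hp'g

end Cfsg.Agent.Helper20.CS
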