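import Mathlib

set_option autoImplicit false

namespace Cfsg.Agent.Helper20

/-- `C(p^β m - 1, p^β - 1) ≡ 1 mod p`. -/
theorem choose_pred_pow_modEq_one (p : ℕ) [Fact p.Prime] (β m : ℕ) (hm : 0 < m) :
    Nat.choose (p ^ β * m - 1) (p ^ β - 1) ≡ 1 [MOD p] := by
  have hp : p.Prime := Fact.out
  induction β with
  | zero => simp [Nat.ModEq.refl]
  | succ β ih =>
    have hpos : 0 < p ^ β * m := Nat.mul_pos (pow_pos hp.pos β) hm
    have hpos2 : 0 < p ^ β := pow_pos hp.pos β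
    have h1 : p ^ (β + 1) * m - 1 = p * (p ^ β * m - 1) + (p - 1) := by
      have : p ^ (β + 1) * m = p * (p ^ β * m) := by ring
      rw [this]
      obtain ⟨a, ha⟩ : ∃ a, p ^ β * m = a + 1 := ⟨p ^ β * m - 1, by omega⟩
      rw [ha]
      have hp1 : 1 ≤ p := hp.pos
      simp only [Nat.add_sub_cancel]
      rw [Nat.mul_add, mul_one]
      omega
    have h2 : p ^ (β + 1) - 1 = p * (p ^ β - 1) + (p - 1) := by
      have : p ^ (β + 1) = p * p ^ β := by ring
      rw [this]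
      obtain ⟨a, ha⟩ : ∃ a, p ^ β = a + 1 := ⟨p ^ β - 1, by omega⟩
      rw [ha]
      have hp1 : 1 ≤ p := hp.pos
      simp only [Nat.add_sub_cancel]
      rw [Nat.mul_add, mul_one]
      omega
    have hlt : p - 1 < p := Nat.sub_lt hp.pos one_pos
    refine (Choose.choose_modEq_choose_mod_mul_choose_div_nat (p := p)).trans ?_
    rw [h1, h2]
    have e1 : (p * (p ^ β * m - 1) + (p - 1)) % p = p - 1 := by
      rw [Nat.mul_add_mod]; exact Nat.mod_eq_of_lt hlt
    have e2 : (p * (p ^ β - 1) + (p - 1)) % p = p - 1 := by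
      rw [Nat.mul_add_mod]; exact Nat.mod_eq_of_lt hlt
    have e3 : (p * (p ^ β * m - 1) + (p - 1)) / p = p ^ β * m - 1 := by
      rw [Nat.mul_add_div hp.pos, Nat.div_eq_of_lt hlt, add_zero]
    have e4 : (p * (p ^ β - 1) + (p - 1)) / p = p ^ β - 1 := by
      rw [Nat.mul_add_div hp.pos, Nat.div_eq_of_lt hlt, add_zero]
    rw [e1, e2, e3, e4, Nat.choose_self, one_mul]
    exact ih

/-- `C(k m, k) = m * C(k m - 1, k - 1)` for `k > 0`. -/
theorem choose_mul_eq (k m : ℕ) (hk : 0 < k) (hm : 0 < m) :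
    Nat.choose (k * m) k = m * Nat.choose (k * m - 1) (k - 1) := by
  obtain ⟨a, ha⟩ : ∃ a, k * m = a + 1 := ⟨k * m - 1, by have := Nat.mul_pos hk hm; omega⟩
  obtain ⟨b, hb⟩ : ∃ b, k = b + 1 := ⟨k - 1, by omega⟩
  have h := Nat.add_one_mul_choose_eq a b
  rw [ha]
  simp only [Nat.add_sub_cancel]
  rw [hb] at ha ⊢
  simp only [Nat.add_sub_cancel]
  -- (a+1) * C(a,b) = C(a+1,b+1) * (b+1),  (b+1) * m = a+1
  have h' : (b + 1) * (m * Nat.choose a b) = (b + 1) * Nat.choose (a + 1) (b + 1) := by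
    rw [← mul_assoc, ha]
    rw [h, mul_comm]
  exact (Nat.eq_of_mul_eq_mul_left (Nat.succ_pos b) h').symm

end Cfsg.Agent.Helper20
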