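import Mathlib
import Cfsg.Agent.S0001

set_option autoImplicit false

namespace Cfsg.Agent.Helper20

open Pointwise

/-- Frattini-type argument with Schur–Zassenhaus: if `N` is a normal `p`-subgroup, `H` a
`p'`-subgroup and `g` conjugates `H` into `N ⊔ H`, then `g ∈ (N ⊔ H) * N_G(H)`. -/
theorem exists_mul_mem_normalizer_of_conj_le {G : Type*} [Group G] [Finite G] (p : ℕ)
    [hp : Fact p.Prime] (N : Subgroup G) [hNn : N.Normal] (hN : IsPGroup p N) (H : Subgroup G)
    (hH : ¬ p ∣ Nat.card H) (g : G) (hg : ∀ h ∈ H, g * h * g⁻¹ ∈ N ⊔ H) :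
    ∃ u ∈ N ⊔ H, ∃ w ∈ Subgroup.normalizer (H : Set G), g = u * w := by
  set L : Subgroup G := N ⊔ H with hL
  have hNL : N ≤ L := le_sup_left
  have hHL : H ≤ L := le_sup_right
  set K : Subgroup G := H.map (MulAut.conj g).toMonoidHom with hK
  have hKL : K ≤ L := by
    rintro _ ⟨h, hh, rfl⟩
    exact hg h hh
  have hcardK : Nat.card K = Nat.card H :=
    Subgroup.card_map_of_injective (MulAut.conj g).injective
  let N' : Subgroup L := N.subgroupOf L
  let H' : Subgroup L := H.subgroupOf L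
  let K' : Subgroup L := K.subgroupOf L
  have hcN : Nat.card N' = Nat.card N := Nat.card_congr (Subgroup.subgroupOfEquivOfLe hNL).toEquiv
  have hcH : Nat.card H' = Nat.card H := Nat.card_congr (Subgroup.subgroupOfEquivOfLe hHL).toEquiv
  have hcK : Nat.card K' = Nat.card H := by
    rw [← hcardK]
    exact Nat.card_congr (Subgroup.subgroupOfEquivOfLe hKL).toEquiv
  obtain ⟨k, hk⟩ := IsPGroup.iff_card.mp hN
  have hcop : Nat.Coprime (Nat.card N) (Nat.card H) := by
    rw [hk]
    exact Nat.Coprime.pow_left k ((Nat.Prime.coprime_iff_not_dvd hp.out).mpr hH)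
  have hcop' : Nat.Coprime (Nat.card N') (Nat.card H') := by rw [hcN, hcH]; exact hcop
  have hc1 : Subgroup.IsComplement' N' H' := by
    apply Subgroup.isComplement'_of_disjoint_and_mul_eq_univ
      (Subgroup.disjoint_of_coprime_natCard hcop')
    rw [← Subgroup.normal_mul N' H']
    have : N' ⊔ H' = ⊤ := by
      change N.subgroupOf L ⊔ H.subgroupOf L = ⊤
      rw [← Subgroup.subgroupOf_sup hNL hHL, ← hL, Subgroup.subgroupOf_self]
    rw [this]
    rfl
  have hcardL : Nat.card N' * Nat.card H' = Nat.card L := hc1.card_mul_card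
  have hc2 : Subgroup.IsComplement' N' K' := by
    apply Subgroup.isComplement'_of_coprime
    · rw [hcK, ← hcH]; exact hcardL
    · rw [hcK, ← hcH]; exact hcop'
  have hidx : N'.index = Nat.card H' := hc1.symm.index_eq_card
  have hNp' : IsPGroup p N' := hN.comap_subtype
  have hnil : Group.IsNilpotent N' := hNp'.isNilpotent
  have hsol : Group.IsSolvable N' := inferInstance
  obtain ⟨u, hu⟩ := Cfsg.Agent.S0001.result N' (by rw [hidx]; exact hcop') (Or.inl hsol) H' K' hc1 hc2
  refine ⟨(u : G), u.2, (u : G)⁻¹ * g, ?_, by group⟩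
  apply Subgroup.mem_normalizer_fintype
  intro h hh
  have h1 : (⟨g * h * g⁻¹, hg h hh⟩ : L) ∈ K' := by
    change g * h * g⁻¹ ∈ K
    exact ⟨h, hh, rfl⟩
  rw [← hu, Subgroup.mem_pointwise_smul_iff_inv_smul_mem] at h1
  have h2 : ((MulAut.conj u)⁻¹ • (⟨g * h * g⁻¹, hg h hh⟩ : L) : L) ∈ H' := h1
  have h3 : (((MulAut.conj u)⁻¹ • (⟨g * h * g⁻¹, hg h hh⟩ : L) : L) : G) ∈ H := h2
  have h4 : (((MulAut.conj u)⁻¹ • (⟨g * h * g⁻¹, hg h hh⟩ : L) : L) : G)
      = (u : G)⁻¹ * g * h * ((u : G)⁻¹ * g)⁻¹ := by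
    rw [MulAut.smul_def, MulAut.conj_inv_apply]
    simp only [Subgroup.coe_mul, Subgroup.coe_inv]
    group
  rw [← h4]
  exact h3

end Cfsg.Agent.Helper20
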