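import Mathlib

set_option autoImplicit false

namespace Cfsg.Agent.Helper20

theorem abelianization_of_surjective (E : Type*) [Group E] :
    Function.Surjective (Abelianization.of : E →* Abelianization E) := by
  intro x
  obtain ⟨e, he⟩ := QuotientGroup.mk_surjective (s := commutator E) x
  exact ⟨e, he⟩

/-- a subgroup meeting the commutator subgroup trivially embeds into the abelianization -/
theorem abelianization_of_subtype_injective {E : Type*} [Group E] (S : Subgroup E)
    (hS : S ⊓ commutator E = ⊥) :
    Function.Injective ((Abelianization.of : E →* Abelianization E).comp S.subtype) := by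
  rw [← MonoidHom.ker_eq_bot_iff, eq_bot_iff]
  intro s hs
  rw [MonoidHom.mem_ker, MonoidHom.comp_apply] at hs
  have h1 : (s : E) ∈ commutator E := by
    rw [← Abelianization.ker_of]
    exact hs
  have h2 : (s : E) ∈ S ⊓ commutator E := ⟨s.2, h1⟩
  rw [hS, Subgroup.mem_bot] at h2
  rw [Subgroup.mem_bot]
  exact Subtype.ext h2

/-- Extension of homomorphisms from a subgroup `S` with `S ∩ E' = 1` such that `E / S E'` has
exponent `d` prime to the order of the (finite abelian) target. -/
theorem exists_extension_of_coprime {E K : Type*} [Group E] [CommGroup K] [Finite K]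
    (S : Subgroup E) (hS : S ⊓ commutator E = ⊥) (d : ℕ)
    (hd : ∀ e : E, ∃ s ∈ S, ∃ c ∈ commutator E, e ^ d = s * c)
    (hcop : Nat.Coprime d (Nat.card K)) (f : S →* K) : ∃ ν : E →* K, ∀ s : S, ν s = f s := by
  by_cases hm : Nat.card K = 1
  · have : Subsingleton K := (Nat.card_eq_one_iff_unique.mp hm).1
    exact ⟨1, fun s => Subsingleton.elim _ _⟩
  have hm1 : 1 < Nat.card K := by
    have : 0 < Nat.card K := Nat.card_pos
    omega
  obtain ⟨d', -, hd'⟩ := Nat.exists_mul_mod_eq_one_of_coprime hcop hm1
  set j : S →* Abelianization E := (Abelianization.of : E →* Abelianization E).comp S.subtype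
    with hjdef
  have hj : Function.Injective j := abelianization_of_subtype_injective S hS
  have hrange : ∀ x : Abelianization E, (powMonoidHom d : Abelianization E →* Abelianization E) x
      ∈ j.range := by
    intro x
    obtain ⟨e, rfl⟩ := abelianization_of_surjective E x
    obtain ⟨s, hs, c, hc, hsc⟩ := hd e
    refine ⟨⟨s, hs⟩, ?_⟩
    rw [powMonoidHom_apply]
    change Abelianization.of s = (Abelianization.of e) ^ d
    rw [← map_pow, hsc, map_mul]
    have : Abelianization.of c = 1 := by
      rw [← MonoidHom.mem_ker, Abelianization.ker_of]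
      exact hc
    rw [this, mul_one]
  let pw : Abelianization E →* j.range :=
    (powMonoidHom d : Abelianization E →* Abelianization E).codRestrict j.range hrange
  let jinv : j.range ≃* S := (MonoidHom.ofInjective hj).symm
  refine ⟨(powMonoidHom d' : K →* K).comp
    (f.comp ((jinv.toMonoidHom.comp pw).comp Abelianization.of)), ?_⟩
  intro s
  have h1 : pw (Abelianization.of (s : E)) = MonoidHom.ofInjective hj (s ^ d) := by
    apply Subtype.ext
    change (Abelianization.of (s : E)) ^ d = j (s ^ d)
    rw [map_pow]
    rfl
  have h2 : jinv (pw (Abelianization.of (s : E))) = s ^ d := by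
    rw [h1]
    exact (MonoidHom.ofInjective hj).symm_apply_apply _
  change (f (jinv (pw (Abelianization.of (s : E))))) ^ d' = f s
  rw [h2, map_pow, ← pow_mul, ← pow_mod_natCard, hd', pow_one]

end Cfsg.Agent.Helper20
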