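import Mathlib

set_option autoImplicit false

namespace Cfsg.Agent.Helper20

/-- homomorphisms into a divisible commutative group extend from subgroups (of commutative
groups) -/
theorem exists_extension_of_divisible {A D : Type*} [CommGroup A] [CommGroup D]
    (hD : ∀ k : ℕ, k ≠ 0 → ∀ d : D, ∃ w : D, w ^ k = d) {B : Type*} [CommGroup B]
    (j : B →* A) (hj : Function.Injective j) (f : B →* D) :
    ∃ g : A →* D, g.comp j = f := by
  have hsurj : ∀ {n : ℤ}, n ≠ 0 → Function.Surjective (fun a : Additive D => n • a) := by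
    intro n hn a
    obtain ⟨w, hw⟩ := hD n.natAbs (Int.natAbs_ne_zero.mpr hn) (Additive.toMul a)
    rcases Int.natAbs_eq n with h | h
    · refine ⟨Additive.ofMul w, ?_⟩
      change n • Additive.ofMul w = a
      rw [h, natCast_zsmul, ← ofMul_pow, hw]
      rfl
    · refine ⟨Additive.ofMul w⁻¹, ?_⟩
      change n • Additive.ofMul w⁻¹ = a
      rw [h, neg_smul, natCast_zsmul, ← ofMul_pow, inv_pow, hw, ofMul_inv, neg_neg]
      rfl
  let _ : DivisibleBy (Additive D) ℤ := divisibleByOfSMulRightSurj (Additive D) ℤ hsurj
  have hB : Module.Baer ℤ (Additive D) := Module.Baer.of_divisible (Additive D)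
  obtain ⟨h, hh⟩ := Module.Baer.extension_property_addMonoidHom hB
    (MonoidHom.toAdditive j) (by
      intro x y hxy
      exact hj hxy) (MonoidHom.toAdditive f)
  refine ⟨MonoidHom.toAdditive.symm h, ?_⟩
  apply MonoidHom.ext
  intro b
  have := DFunLike.congr_fun hh (Additive.ofMul b)
  exact this

/-- extension of homomorphisms defined on a subgroup meeting the commutator subgroup trivially -/
theorem exists_hom_extension_of_disjoint_commutator {E D : Type*} [Group E] [CommGroup D]
    (hD : ∀ k : ℕ, k ≠ 0 → ∀ d : D, ∃ w : D, w ^ k = d) (S : Subgroup E)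
    (hS : S ⊓ commutator E = ⊥) (hcomm : ∀ a b : S, a * b = b * a) (f : S →* D) :
    ∃ μ : E →* D, ∀ s : S, μ s = f s := by
  let _ : CommGroup S := { (inferInstance : Group S) with mul_comm := hcomm }
  let j : S →* Abelianization E := Abelianization.of.comp S.subtype
  have hj : Function.Injective j := by
    rw [← MonoidHom.ker_eq_bot_iff, eq_bot_iff]
    intro s hs
    rw [MonoidHom.mem_ker, MonoidHom.comp_apply] at hs
    have h1 : (s : E) ∈ commutator E := by
      rw [← Abelianization.ker_of]
      exact hs
    have h2 : (s : E) ∈ S ⊓ commutator E := ⟨s.2, h1⟩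
    rw [hS, Subgroup.mem_bot] at h2
    rw [Subgroup.mem_bot]
    exact Subtype.ext h2
  obtain ⟨g, hg⟩ := exists_extension_of_divisible hD j hj f
  refine ⟨g.comp Abelianization.of, ?_⟩
  intro s
  exact DFunLike.congr_fun hg s

end Cfsg.Agent.Helper20
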