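import Mathlib
import Cfsg.Agent.Lib.Helper20.PerfectCover
import Cfsg.Agent.Lib.Helper20.DivisibleExt

set_option autoImplicit false

namespace Cfsg.Agent.Helper20

open scoped commutatorElement

/-- two homomorphisms that agree modulo the centre agree on the commutator subgroup -/
theorem hom_eq_on_commutator_of_eq_mod_center {E G : Type*} [Group E] [Group G]
    (φ₁ φ₂ : E →* G) (h : ∀ e, φ₁ e * (φ₂ e)⁻¹ ∈ Subgroup.center G) :
    ∀ m ∈ commutator E, φ₁ m = φ₂ m := by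
  have hle : commutator E ≤ MonoidHom.eqLocus φ₁ φ₂ := by
    rw [commutator_def, Subgroup.commutator_le]
    intro x _ y _
    change φ₁ ⁅x, y⁆ = φ₂ ⁅x, y⁆
    rw [map_commutatorElement, map_commutatorElement]
    have hx : φ₁ x = φ₂ x * (φ₁ x * (φ₂ x)⁻¹) := by
      rw [Subgroup.mem_center_iff.mp (h x) (φ₂ x)]
      group
    have hy : φ₁ y = φ₂ y * (φ₁ y * (φ₂ y)⁻¹) := by
      rw [Subgroup.mem_center_iff.mp (h y) (φ₂ y)]
      group
    rw [hx, hy]
    exact commutatorElement_mul_central _ _ _ _ (h x) (h y)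
  intro m hm
  exact hle hm

theorem mul_inv_mem_center_of_comp_eq {E G : Type*} [Group E] [Group G] (φ₁ φ₂ : E →* G)
    (h : (QuotientGroup.mk' (Subgroup.center G)).comp φ₁ =
      (QuotientGroup.mk' (Subgroup.center G)).comp φ₂) (e : E) :
    φ₁ e * (φ₂ e)⁻¹ ∈ Subgroup.center G := by
  have h1 := DFunLike.congr_fun h e
  rw [MonoidHom.comp_apply, MonoidHom.comp_apply] at h1
  rw [← QuotientGroup.eq_one_iff, QuotientGroup.mk_mul, QuotientGroup.mk_inv]
  change QuotientGroup.mk' _ (φ₁ e) * (QuotientGroup.mk' _ (φ₂ e))⁻¹ = 1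
  rw [h1, mul_inv_cancel]

/-- the centre of `GL n ℂ` is divisible -/
theorem center_GL_divisible (n : ℕ) (k : ℕ) (hk : k ≠ 0)
    (d : Subgroup.center (GL (Fin n) ℂ)) : ∃ w : Subgroup.center (GL (Fin n) ℂ), w ^ k = d := by
  have hd : (d : GL (Fin n) ℂ) ∈ (Matrix.GeneralLinearGroup.scalar (Fin n)).range := by
    rw [← Matrix.GeneralLinearGroup.center_eq_range_scalar]
    exact d.2
  obtain ⟨c, hc⟩ := hd
  obtain ⟨z, hz⟩ := IsAlgClosed.exists_pow_nat_eq (c : ℂ) (Nat.pos_of_ne_zero hk)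
  have hz0 : z ≠ 0 := by
    intro h0
    rw [h0, zero_pow hk] at hz
    exact c.ne_zero hz.symm
  have hw : Matrix.GeneralLinearGroup.scalar (Fin n) (Units.mk0 z hz0) ∈
      Subgroup.center (GL (Fin n) ℂ) := by
    rw [Matrix.GeneralLinearGroup.center_eq_range_scalar]
    exact ⟨_, rfl⟩
  refine ⟨⟨_, hw⟩, ?_⟩
  apply Subtype.ext
  rw [Subgroup.coe_pow]
  change (Matrix.GeneralLinearGroup.scalar (Fin n) (Units.mk0 z hz0)) ^ k = (d : GL (Fin n) ℂ)
  rw [← map_pow, ← hc]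
  congr 1
  apply Units.ext
  rw [Units.val_pow_eq_pow_val]
  exact hz

end Cfsg.Agent.Helper20
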