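import Mathlib
import Cfsg.Prelude.Def_KGroupFacts
import Cfsg.Agent.Lib.Helper20.SchurCover3

set_option autoImplicit false

namespace Cfsg.Agent.Helper20

universe u v w

section

variable {G : Type u} [Group G]

/-- a group with trivial Schur multiplier (in the sense of `HasCyclicSchurMultiplier _ 1`)
has `(R ∩ F') / [F, R] = 1` -/
theorem schurM_eq_bot_of_trivial [Finite G] (hG : Cfsg.HasCyclicSchurMultiplier G 1) :
    schurM G = ⊥ := by
  obtain ⟨e⟩ := nonempty_equiv_schurM hG
  rw [eq_bot_iff]
  intro m hm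
  have h1 : e ⟨m, hm⟩ = e 1 := Subsingleton.elim _ _
  have h2 := e.injective h1
  rw [Subgroup.mem_bot]
  exact congrArg Subtype.val h2

/-- every central extension of a group with trivial Schur multiplier has kernel meeting the
commutator subgroup trivially -/
theorem ker_inf_commutator_eq_bot_of_trivial [Finite G] (hG : Cfsg.HasCyclicSchurMultiplier G 1)
    {X : Type w} [Group X] (φ : X →* G) (hφ : Function.Surjective φ)
    (hc : φ.ker ≤ Subgroup.center X) : φ.ker ⊓ commutator X = ⊥ := by
  obtain ⟨η, hη⟩ := exists_uce_lift G φ hφ hc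
  rw [eq_bot_iff]
  rintro x ⟨hx1, hx2⟩
  obtain ⟨m, hm, rfl⟩ := exists_schurM_of_mem_ker_inf_commutator φ hc η hη hx1 hx2
  rw [schurM_eq_bot_of_trivial hG, Subgroup.mem_bot] at hm
  rw [hm, map_one]
  exact Subgroup.one_mem _

end

section FiberProd

variable {G : Type u} {X : Type v} {Q : Type w} [Group G] [Group X] [Group Q]

/-- the fibre product of two homomorphisms (universe polymorphic) -/
def fiberProd (π : G →* Q) (ξ : X →* Q) : Subgroup (G × X) :=
  (π.comp (MonoidHom.fst G X)).eqLocus (ξ.comp (MonoidHom.snd G X))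

theorem mem_fiberProd (π : G →* Q) (ξ : X →* Q) (p : G × X) :
    p ∈ fiberProd π ξ ↔ π p.1 = ξ p.2 := Iff.rfl

/-- first projection of the fibre product -/
def fiberProdFst (π : G →* Q) (ξ : X →* Q) : fiberProd π ξ →* G :=
  (MonoidHom.fst G X).comp (fiberProd π ξ).subtype

/-- second projection of the fibre product -/
def fiberProdSnd (π : G →* Q) (ξ : X →* Q) : fiberProd π ξ →* X :=
  (MonoidHom.snd G X).comp (fiberProd π ξ).subtype

theorem fiberProdFst_surjective (π : G →* Q) (ξ : X →* Q) (hξ : Function.Surjective ξ) :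
    Function.Surjective (fiberProdFst π ξ) := by
  intro g
  obtain ⟨x, hx⟩ := hξ (π g)
  exact ⟨⟨(g, x), hx.symm⟩, rfl⟩

theorem fiberProdFst_ker_le_center (π : G →* Q) (ξ : X →* Q)
    (hc : ξ.ker ≤ Subgroup.center X) :
    (fiberProdFst π ξ).ker ≤ Subgroup.center (fiberProd π ξ) := by
  rintro ⟨⟨g, x⟩, hp⟩ hk
  rw [MonoidHom.mem_ker] at hk
  have hg : g = 1 := hk
  subst hg
  have hx : x ∈ ξ.ker := by
    rw [MonoidHom.mem_ker]
    have : π 1 = ξ x := hp
    rw [← this, map_one]
  have hz := Subgroup.mem_center_iff.mp (hc hx)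
  rw [Subgroup.mem_center_iff]
  rintro ⟨⟨g', x'⟩, hp'⟩
  apply Subtype.ext
  change (g' * 1, x' * x) = (1 * g', x * x')
  rw [hz x', mul_one, one_mul]

/-- the map into the fibre product induced by a commuting pair of homomorphisms -/
def fiberProdLift {E : Type*} [Group E] (π : G →* Q) (ξ : X →* Q) (a : E →* G) (b : E →* X)
    (h : π.comp a = ξ.comp b) : E →* fiberProd π ξ where
  toFun e := ⟨(a e, b e), by
    rw [mem_fiberProd]
    exact DFunLike.congr_fun h e⟩
  map_one' := by
    apply Subtype.ext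
    simp
  map_mul' x y := by
    apply Subtype.ext
    simp

theorem fiberProdFst_lift {E : Type*} [Group E] (π : G →* Q) (ξ : X →* Q) (a : E →* G)
    (b : E →* X) (h : π.comp a = ξ.comp b) (e : E) :
    fiberProdFst π ξ (fiberProdLift π ξ a b h e) = a e := rfl

theorem fiberProdSnd_lift {E : Type*} [Group E] (π : G →* Q) (ξ : X →* Q) (a : E →* G)
    (b : E →* X) (h : π.comp a = ξ.comp b) (e : E) :
    fiberProdSnd π ξ (fiberProdLift π ξ a b h e) = b e := rfl

end FiberProd

end Cfsg.Agent.Helper20
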