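import Mathlib
import Cfsg.Prelude.Def_KGroupFacts
import Cfsg.Agent.Lib.Helper20.ProjLift
import Cfsg.Agent.Lib.Helper20.SchurCover4

set_option autoImplicit false

namespace Cfsg.Agent.Helper20

/-- multiplying a homomorphism by a central-valued homomorphism -/
def mulCentralHom {E G : Type*} [Group E] [Group G] (φ : E →* G)
    (ν : E →* Subgroup.center G) : E →* G :=
  MonoidHom.mk' (fun e => φ e * (ν e : G)) (by
    intro a b
    have h1 := Subgroup.mem_center_iff.mp (ν a).2 (φ b)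
    rw [map_mul, map_mul, Subgroup.coe_mul]
    calc φ a * φ b * ((ν a : G) * (ν b : G)) = φ a * (φ b * (ν a : G)) * (ν b : G) := by group
      _ = φ a * ((ν a : G) * φ b) * (ν b : G) := by rw [h1]
      _ = φ a * (ν a : G) * (φ b * (ν b : G)) := by group)

theorem mulCentralHom_apply {E G : Type*} [Group E] [Group G] (φ : E →* G)
    (ν : E →* Subgroup.center G) (e : E) : mulCentralHom φ ν e = φ e * (ν e : G) := rfl

universe u v w

open scoped IsMulCommutative

/-- Lifting projective representations to the universal central extension, and killing a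
subgroup that meets the commutator subgroup trivially. -/
theorem exists_lift_killing {Q : Type u} [Group Q] (n : ℕ)
    (γ : Q →* (GL (Fin n) ℂ ⧸ Subgroup.center (GL (Fin n) ℂ))) (S : Subgroup (UCE Q))
    (hS1 : S ≤ (uceMap Q).ker) (hS2 : S ⊓ commutator (UCE Q) = ⊥) :
    ∃ ρ : UCE Q →* GL (Fin n) ℂ, S ≤ ρ.ker ∧
      (QuotientGroup.mk' (Subgroup.center (GL (Fin n) ℂ))).comp ρ = γ.comp (uceMap Q) := by
  set π := QuotientGroup.mk' (Subgroup.center (GL (Fin n) ℂ)) with hπ
  have hπs : Function.Surjective π := QuotientGroup.mk'_surjective _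
  have hπk : π.ker ≤ Subgroup.center (GL (Fin n) ℂ) := le_of_eq (QuotientGroup.ker_mk' _)
  obtain ⟨η, hη⟩ := exists_uce_lift Q (fiberProdFst γ π) (fiberProdFst_surjective γ π hπs)
    (fiberProdFst_ker_le_center γ π hπk)
  set ρ₀ : UCE Q →* GL (Fin n) ℂ := (fiberProdSnd γ π).comp η with hρ₀
  have hρ₀π : ∀ e, π (ρ₀ e) = γ (uceMap Q e) := by
    intro e
    have h1 : γ ((η e : Q × GL (Fin n) ℂ)).1 = π ((η e : Q × GL (Fin n) ℂ)).2 := (η e).2
    have h2 : ((η e : Q × GL (Fin n) ℂ)).1 = uceMap Q e := by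
      rw [← hη]; rfl
    rw [← h2, h1]
    rfl
  have hS3 : ∀ s : S, ρ₀ (s : UCE Q) ∈ Subgroup.center (GL (Fin n) ℂ) := by
    intro s
    apply hπk
    rw [MonoidHom.mem_ker, hρ₀π, (hS1 s.2 : uceMap Q (s : UCE Q) = 1), map_one]
  let f : S →* Subgroup.center (GL (Fin n) ℂ) :=
    (ρ₀.comp S.subtype).codRestrict _ hS3
  have hcomm : ∀ a b : S, a * b = b * a := by
    intro a b
    apply Subtype.ext
    exact Subgroup.mem_center_iff.mp (uceMap_ker_le_center Q (hS1 b.2)) (a : UCE Q)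
  obtain ⟨μ, hμ⟩ := exists_hom_extension_of_disjoint_commutator
    (D := Subgroup.center (GL (Fin n) ℂ)) (center_GL_divisible n) S hS2 hcomm f
  refine ⟨mulCentralHom ρ₀ μ⁻¹, ?_, ?_⟩
  · intro s hs
    rw [MonoidHom.mem_ker, mulCentralHom_apply, MonoidHom.inv_apply, hμ ⟨s, hs⟩]
    change ρ₀ s * (((f ⟨s, hs⟩)⁻¹ : Subgroup.center (GL (Fin n) ℂ)) : GL (Fin n) ℂ) = 1
    rw [Subgroup.coe_inv]
    change ρ₀ s * (ρ₀ s)⁻¹ = 1
    rw [mul_inv_cancel]
  · apply MonoidHom.ext
    intro e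
    rw [MonoidHom.comp_apply, MonoidHom.comp_apply, mulCentralHom_apply, map_mul, hρ₀π]
    have h1 : π (((μ⁻¹) e : Subgroup.center (GL (Fin n) ℂ)) : GL (Fin n) ℂ) = 1 := by
      rw [hπ]
      exact (QuotientGroup.eq_one_iff _).mpr ((μ⁻¹) e).2
    rw [h1, mul_one]

end Cfsg.Agent.Helper20
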