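import Mathlib
import Cfsg.Prelude.Def_KGroupFacts
import Cfsg.Agent.Lib.Helper20.CoprimeExt
import Cfsg.Agent.Lib.Helper20.ProjLift2
import Cfsg.Agent.Lib.Helper20.ProdStem3

set_option autoImplicit false

namespace Cfsg.Agent.Helper20

universe u v w

section

variable {Q : Type u} [Group Q] [Finite Q]

/-- the kernel of a lift to a Schur cover meets the commutator subgroup trivially -/
theorem ker_lift_inf_commutator_eq_bot {Γ : Type v} [Group Γ] (σ : Γ →* Q)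
    (hσ : Cfsg.IsStemExtension σ) (η : UCE Q →* Γ) (hη : σ.comp η = uceMap Q)
    (hcard : Nat.card σ.ker = Nat.card (schurM Q)) : η.ker ⊓ commutator (UCE Q) = ⊥ := by
  have hker : η.ker ≤ (uceMap Q).ker := by
    intro s hs
    rw [MonoidHom.mem_ker] at hs ⊢
    rw [← hη, MonoidHom.comp_apply, hs, map_one]
  rw [eq_bot_iff]
  rintro s ⟨hs1, hs2⟩
  have hsM : s ∈ schurM Q := ⟨hker hs1, hs2⟩
  have hinj : Function.Injective (schurMToKer σ η hη) := by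
    have hsurj := schurMToKer_surjective σ hσ η hη
    exact ((Nat.bijective_iff_surjective_and_card _).mpr ⟨hsurj, hcard.symm⟩).1
  have h1 : schurMToKer σ η hη ⟨s, hsM⟩ = schurMToKer σ η hη 1 := by
    apply Subtype.ext
    rw [schurMToKer_coe, map_one]
    exact hs1
  have h2 := hinj h1
  rw [Subgroup.mem_bot]
  exact congrArg Subtype.val h2

/-- `e ^ |Qᵃᵇ|` lies in `ker η · E'` for a lift `η` to a stem extension -/
theorem exists_pow_card_abelianization_eq {Γ : Type v} [Group Γ] (σ : Γ →* Q)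
    (hσ : Cfsg.IsStemExtension σ) (η : UCE Q →* Γ) (hη : σ.comp η = uceMap Q) (e : UCE Q) :
    ∃ s ∈ η.ker, ∃ c ∈ commutator (UCE Q), e ^ Nat.card (Abelianization Q) = s * c := by
  have h1 := pow_card_abelianization_mem_commutator (uceMap Q e)
  rw [← map_commutator_of_surjective (uceMap Q) (uceMap_surjective Q)] at h1
  obtain ⟨c₁, hc₁, hc₁e⟩ := h1
  set r := e ^ Nat.card (Abelianization Q) * c₁⁻¹ with hr
  have hrk : r ∈ (uceMap Q).ker := by
    rw [MonoidHom.mem_ker, hr, map_mul, map_inv, map_pow, hc₁e, mul_inv_cancel]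
  obtain ⟨m, hm, hmr⟩ := exists_schurM_of_mem_ker σ hσ η hη (uce_lift_mem_ker σ η hη hrk)
  refine ⟨r * m⁻¹, ?_, m * c₁, ?_, ?_⟩
  · rw [MonoidHom.mem_ker, map_mul, map_inv, hmr, mul_inv_cancel]
  · exact Subgroup.mul_mem _ (schurM_le_commutator Q hm) hc₁
  · rw [hr]; group

omit [Finite Q] in
theorem card_eq_of_stem {Γ : Type v} [Group Γ] [Finite Γ] (σ : Γ →* Q)
    (hσ : Function.Surjective σ) : Nat.card Γ = Nat.card Q * Nat.card σ.ker := by
  rw [Subgroup.card_eq_card_quotient_mul_card_subgroup σ.ker,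
    Nat.card_congr (QuotientGroup.quotientKerEquivOfSurjective σ hσ).toEquiv]

/-- if `|Qᵃᵇ|` is prime to the order of the Schur multiplier, any two Schur covers are
isomorphic over `Q` -/
theorem exists_iso_over_of_coprime {Γ₁ : Type v} {Γ₂ : Type w} [Group Γ₁] [Finite Γ₁]
    [Group Γ₂] [Finite Γ₂] (σ₁ : Γ₁ →* Q) (σ₂ : Γ₂ →* Q) (h₁ : Cfsg.IsStemExtension σ₁)
    (h₂ : Cfsg.IsStemExtension σ₂) (hcard₁ : Nat.card σ₁.ker = Nat.card (schurM Q))
    (hcard₂ : Nat.card σ₂.ker = Nat.card (schurM Q))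
    (hcop : Nat.Coprime (Nat.card (Abelianization Q)) (Nat.card (schurM Q))) :
    ∃ e : Γ₁ ≃* Γ₂, σ₂.comp e.toMonoidHom = σ₁ := by
  obtain ⟨η₁, hη₁⟩ := exists_uce_lift Q σ₁ h₁.1 h₁.2.1
  obtain ⟨η₂, hη₂⟩ := exists_uce_lift Q σ₂ h₂.1 h₂.2.1
  have hη₁s := uce_lift_surjective σ₁ h₁ η₁ hη₁
  have hdisj := ker_lift_inf_commutator_eq_bot σ₁ h₁ η₁ hη₁ hcard₁
  have hker₁ : η₁.ker ≤ (uceMap Q).ker := by
    intro s hs
    rw [MonoidHom.mem_ker] at hs ⊢
    rw [← hη₁, MonoidHom.comp_apply, hs, map_one]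
  have hσ₂c : σ₂.ker ≤ Subgroup.center Γ₂ := h₂.2.1
  let _ : CommGroup σ₂.ker := kerCommGroup σ₂ hσ₂c
  let g : η₁.ker →* σ₂.ker := (η₂.comp η₁.ker.subtype).codRestrict σ₂.ker
    (fun s => uce_lift_mem_ker σ₂ η₂ hη₂ (hker₁ s.2))
  obtain ⟨ν, hν⟩ := exists_extension_of_coprime η₁.ker hdisj (Nat.card (Abelianization Q))
    (exists_pow_card_abelianization_eq σ₁ h₁ η₁ hη₁) (hcard₂ ▸ hcop) g⁻¹
  let ν' : UCE Q →* Subgroup.center Γ₂ := (Subgroup.inclusion hσ₂c).comp ν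
  let α : UCE Q →* Γ₂ := mulCentralHom η₂ ν'
  have hα : σ₂.comp α = uceMap Q := by
    apply MonoidHom.ext
    intro x
    have h4 : σ₂ ((ν' x : Subgroup.center Γ₂) : Γ₂) = 1 := (ν x).2
    rw [MonoidHom.comp_apply, mulCentralHom_apply, map_mul, h4, mul_one, ← hη₂,
      MonoidHom.comp_apply]
  have hαs := uce_lift_surjective σ₂ h₂ α hα
  have hkerα : η₁.ker ≤ α.ker := by
    intro s hs
    rw [MonoidHom.mem_ker, mulCentralHom_apply]
    have h3 : ((ν' s : Subgroup.center Γ₂) : Γ₂) = (η₂ s)⁻¹ := by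
      change ((ν s : σ₂.ker) : Γ₂) = (η₂ s)⁻¹
      rw [hν ⟨s, hs⟩]
      rfl
    rw [h3, mul_inv_cancel]
  let ebar : Γ₁ →* Γ₂ := MonoidHom.liftOfSurjective η₁ hη₁s ⟨α, hkerα⟩
  have hebar : ∀ x, ebar (η₁ x) = α x :=
    fun x => MonoidHom.liftOfRightInverse_comp_apply η₁ _ _ ⟨α, hkerα⟩ x
  have hsurj : Function.Surjective ebar := by
    intro y
    obtain ⟨x, rfl⟩ := hαs y
    exact ⟨η₁ x, hebar x⟩
  have hcard : Nat.card Γ₁ = Nat.card Γ₂ := by
    rw [card_eq_of_stem σ₁ h₁.1, card_eq_of_stem σ₂ h₂.1, hcard₁, hcard₂]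
  have hbij : Function.Bijective ebar :=
    (Nat.bijective_iff_surjective_and_card _).mpr ⟨hsurj, hcard⟩
  refine ⟨MulEquiv.ofBijective ebar hbij, ?_⟩
  apply MonoidHom.ext
  intro y
  obtain ⟨x, rfl⟩ := hη₁s y
  rw [MonoidHom.comp_apply]
  change σ₂ (ebar (η₁ x)) = σ₁ (η₁ x)
  rw [hebar, ← MonoidHom.comp_apply σ₂, hα, ← hη₁, MonoidHom.comp_apply]

end

end Cfsg.Agent.Helper20
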