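import Mathlib

set_option autoImplicit false

namespace Cfsg.Agent.Helper20

/-- homomorphisms from a subgroup of a free abelian group of finite rank lift along
surjections -/
theorem exists_lift_hom_of_injective_to_free {S M N : Type*} [CommGroup S] [CommGroup M]
    [AddCommGroup N] {X : Type*} [Finite X] (ψ : S →* Multiplicative (X →₀ ℤ))
    (hψ : Function.Injective ψ) (χ : M →* Multiplicative N) (hχ : Function.Surjective χ)
    (f : S →* Multiplicative N) : ∃ κ : S →* M, χ.comp κ = f := by
  let ψL : Additive S →ₗ[ℤ] (X →₀ ℤ) := (MonoidHom.toAdditiveLeft ψ).toIntLinearMap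
  have hψL : Function.Injective ψL := by
    intro a b hab
    have : ψ (Additive.toMul a) = ψ (Additive.toMul b) := hab
    exact hψ this
  let eL : Additive S ≃ₗ[ℤ] LinearMap.range ψL := LinearEquiv.ofInjective ψL hψL
  have hfree : Module.Free ℤ (LinearMap.range ψL) := inferInstance
  have hproj : Module.Projective ℤ (Additive S) := Module.Projective.of_equiv' eL.symm
  let χL : Additive M →ₗ[ℤ] N := (MonoidHom.toAdditiveLeft χ).toIntLinearMap
  let fL : Additive S →ₗ[ℤ] N := (MonoidHom.toAdditiveLeft f).toIntLinearMap
  have hχL : Function.Surjective χL := by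
    intro z
    obtain ⟨m, hm⟩ := hχ (Multiplicative.ofAdd z)
    refine ⟨Additive.ofMul m, ?_⟩
    change Multiplicative.toAdd (χ m) = z
    rw [hm]
    rfl
  obtain ⟨h, hh⟩ := Module.projective_lifting_property χL fL hχL
  refine ⟨MonoidHom.toAdditive.symm h.toAddMonoidHom, ?_⟩
  apply MonoidHom.ext
  intro s
  have h1 := LinearMap.congr_fun hh (Additive.ofMul s)
  have h2 : Multiplicative.toAdd (χ (Additive.toMul (h (Additive.ofMul s)))) =
      Multiplicative.toAdd (f s) := h1
  exact Multiplicative.toAdd.injective h2

end Cfsg.Agent.Helper20
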