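import Mathlib
import Cfsg.Prelude.Def_KGroupFacts
import Cfsg.Agent.Lib.Helper20.LiftFree
import Cfsg.Agent.Lib.Helper20.CoverUnique
import Cfsg.Agent.Lib.Helper20.AbelianNoncyclic

set_option autoImplicit false

namespace Cfsg.Agent.Helper20

universe u

section

variable {Q : Type u} [Group Q]

/-- elements of the kernel of the cover come from the Schur multiplier -/
theorem exists_schurM_of_mem_ker_coverMap {S : Subgroup (UCE Q)} [S.Normal]
    (hS : IsSchurCompl Q S) {z : UCE Q ⧸ S} (hz : z ∈ (coverMap S hS.le).ker) :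
    ∃ m ∈ schurM Q, ((m : UCE Q) : UCE Q ⧸ S) = z := by
  obtain ⟨x, rfl⟩ := QuotientGroup.mk_surjective z
  rw [MonoidHom.mem_ker, coverMap_mk] at hz
  obtain ⟨s, hs, m, hm, rfl⟩ := hS.sup x hz
  refine ⟨m, hm, ?_⟩
  rw [QuotientGroup.mk_mul, (QuotientGroup.eq_one_iff s).mpr hs, one_mul]

theorem pow_eq_one_imp_mem_commutator_uce (p : ℕ) (hp : p ≠ 0) (x : UCE Q)
    (hx : x ^ p ∈ commutator (UCE Q)) : x ∈ commutator (UCE Q) := by
  rw [← uceFin_eq_one_iff] at hx ⊢
  rw [map_pow] at hx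
  have h1 : p • Multiplicative.toAdd (uceFin Q x) = 0 := by
    have := congrArg Multiplicative.toAdd hx
    rwa [toAdd_pow] at this
  have h2 : Multiplicative.toAdd (uceFin Q x) = 0 := by
    rcases smul_eq_zero.mp h1 with h | h
    · exact absurd h hp
    · exact h
  exact Multiplicative.toAdd.injective h2

variable [Finite Q]

/-- Step A: a `p`-th root modulo `S E'` of an element of `S` which is not a `p`-th power -/
theorem exists_pow_eq_of_prime_dvd_card_abelianization (p : ℕ) [hp : Fact p.Prime]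
    (hpd : p ∣ Nat.card (Abelianization Q)) {S : Subgroup (UCE Q)} (hS : IsSchurCompl Q S) :
    ∃ (e₀ : UCE Q) (s₀ : S), ∃ c ∈ commutator (UCE Q), e₀ ^ p = (s₀ : UCE Q) * c ∧
      ∀ s : S, s ^ p ≠ s₀ := by
  obtain ⟨x, hx⟩ := exists_prime_orderOf_dvd_card' p hpd
  obtain ⟨q, rfl⟩ := abelianization_of_surjective Q x
  obtain ⟨e₀, rfl⟩ := uceMap_surjective Q q
  have hxp : uceMap Q (e₀ ^ p) ∈ commutator Q := by
    rw [← Abelianization.ker_of, MonoidHom.mem_ker, map_pow, map_pow, ← hx]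
    exact pow_orderOf_eq_one _
  have hx1 : uceMap Q e₀ ∉ commutator Q := by
    intro h
    rw [← Abelianization.ker_of, MonoidHom.mem_ker] at h
    rw [h, orderOf_one] at hx
    exact hp.out.ne_one hx.symm
  rw [← map_commutator_of_surjective (uceMap Q) (uceMap_surjective Q)] at hxp
  obtain ⟨c₁, hc₁, hc₁e⟩ := hxp
  have hr : e₀ ^ p * c₁⁻¹ ∈ (uceMap Q).ker := by
    rw [MonoidHom.mem_ker, map_mul, map_inv, hc₁e, mul_inv_cancel]
  obtain ⟨s, hs, m, hm, hrsm⟩ := hS.sup _ hr
  have hsz := Subgroup.mem_center_iff.mp (uceMap_ker_le_center Q (hS.le hs))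
  refine ⟨e₀, ⟨s, hs⟩, m * c₁, Subgroup.mul_mem _ (schurM_le_commutator Q hm) hc₁, ?_, ?_⟩
  · change e₀ ^ p = s * (m * c₁)
    rw [← mul_assoc, ← hrsm]
    group
  · intro t ht
    have htz := Subgroup.mem_center_iff.mp (uceMap_ker_le_center Q (hS.le t.2))
    have ht' : (t : UCE Q) ^ p = s := by
      have := congrArg Subtype.val ht
      rwa [Subgroup.coe_pow] at this
    have hcomm : Commute e₀ ((t : UCE Q)⁻¹) := by
      have h1 : Commute e₀ (t : UCE Q) := htz e₀
      exact h1.inv_right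
    have h1 : (e₀ * (t : UCE Q)⁻¹) ^ p = m * c₁ := by
      rw [hcomm.mul_pow, inv_pow, ht']
      have h2 : e₀ ^ p = s * (m * c₁) := by
        rw [← mul_assoc, ← hrsm]
        group
      rw [h2, ← hsz (m * c₁), mul_assoc, mul_inv_cancel, mul_one]
    have h3 : e₀ * (t : UCE Q)⁻¹ ∈ commutator (UCE Q) := by
      apply pow_eq_one_imp_mem_commutator_uce p hp.out.ne_zero
      rw [h1]
      exact Subgroup.mul_mem _ (schurM_le_commutator Q hm) hc₁
    apply hx1
    have h4 : uceMap Q (e₀ * (t : UCE Q)⁻¹) = uceMap Q e₀ := by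
      rw [map_mul, map_inv, (hS.le t.2 : uceMap Q (t : UCE Q) = 1), inv_one, mul_one]
    rw [← h4, ← map_commutator_of_surjective (uceMap Q) (uceMap_surjective Q)]
    exact ⟨_, h3, rfl⟩

end

end Cfsg.Agent.Helper20
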