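import Mathlib
import Cfsg.Prelude.Def_KGroupFacts
import Cfsg.Agent.Lib.Helper20.CoverNonUnique

set_option autoImplicit false

namespace Cfsg.Agent.Helper20

universe u

section

variable {Q : Type u} [Group Q] [Finite Q]

theorem zmod_hom_surjective_of_ne_one (p : ℕ) [hp : Fact p.Prime] {M : Type*} [Group M]
    (χ : M →* Multiplicative (ZMod p)) (m₀ : M) (hm₀ : χ m₀ ≠ 1) : Function.Surjective χ := by
  intro z
  set a : ZMod p := Multiplicative.toAdd (χ m₀) with ha
  have ha0 : a ≠ 0 := fun h => hm₀ (Multiplicative.toAdd.injective h)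
  refine ⟨m₀ ^ (Multiplicative.toAdd z * a⁻¹).val, ?_⟩
  apply Multiplicative.toAdd.injective
  rw [map_pow, toAdd_pow, nsmul_eq_mul, ZMod.natCast_zmod_val, ← ha, mul_assoc,
    inv_mul_cancel₀ ha0, mul_one]

theorem zmod_mul_pow_eq_one (p : ℕ) (x : Multiplicative (ZMod p)) : x ^ p = 1 := by
  apply Multiplicative.toAdd.injective
  rw [toAdd_pow, nsmul_eq_mul, ZMod.natCast_self, zero_mul]
  rfl

/-- If a prime divides both `|Qᵃᵇ|` and the order of the Schur multiplier, there are two Schur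
covers which are not isomorphic over `Q`. -/
theorem exists_not_iso_over (p : ℕ) [hp : Fact p.Prime]
    (hpd : p ∣ Nat.card (Abelianization Q)) (hpm : p ∣ Nat.card (schurM Q)) :
    ∃ (S₁ S₂ : Subgroup (UCE Q)) (_ : S₁.Normal) (_ : S₂.Normal) (h₁ : IsSchurCompl Q S₁)
      (h₂ : IsSchurCompl Q S₂), ¬ ∃ e : (UCE Q ⧸ S₁) ≃* (UCE Q ⧸ S₂),
        (coverMap S₂ h₂.le).comp e.toMonoidHom = coverMap S₁ h₁.le := by
  obtain ⟨S, hS⟩ := exists_isSchurCompl Q
  have hSn := hS.normal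
  obtain ⟨e₀, s₀, c, hc, he₀, hs₀⟩ := exists_pow_eq_of_prime_dvd_card_abelianization p hpd hS
  have hSc : ∀ s : S, (s : UCE Q) ∈ Subgroup.center (UCE Q) :=
    fun s => uceMap_ker_le_center Q (hS.le s.2)
  let _ : CommGroup S :=
    { (inferInstance : Group S) with
      mul_comm := fun a b => Subtype.ext (Subgroup.mem_center_iff.mp (hSc b) (a : UCE Q)) }
  have hs₀' : s₀ ∉ (powMonoidHom p : S →* S).range := by
    rintro ⟨t, ht⟩
    exact hs₀ t ht
  obtain ⟨f, hf⟩ := exists_hom_zmod_ne_one p s₀ hs₀'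
  -- a homomorphism from the multiplier onto `ZMod p`
  obtain ⟨m₀, hm₀⟩ : ∃ m₀ : schurM Q, m₀ ∉ (powMonoidHom p : schurM Q →* schurM Q).range := by
    obtain ⟨y, hy⟩ := exists_prime_orderOf_dvd_card' p hpm
    have hninj : ¬ Function.Injective (powMonoidHom p : schurM Q →* schurM Q) := by
      intro hinj
      have h1 : (powMonoidHom p : schurM Q →* schurM Q) y =
          (powMonoidHom p : schurM Q →* schurM Q) 1 := by
        rw [powMonoidHom_apply, powMonoidHom_apply, one_pow, ← hy]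
        exact pow_orderOf_eq_one y
      have h2 := hinj h1
      rw [h2, orderOf_one] at hy
      exact hp.out.ne_one hy.symm
    have hnsurj : ¬ Function.Surjective (powMonoidHom p : schurM Q →* schurM Q) :=
      fun h => hninj (Finite.injective_iff_surjective.mpr h)
    by_contra hcon
    apply hnsurj
    intro m
    by_contra hm
    exact hcon ⟨m, hm⟩
  obtain ⟨χ, hχ⟩ := exists_hom_zmod_ne_one p m₀ hm₀
  have hχs := zmod_hom_surjective_of_ne_one p χ m₀ hχ
  -- lifting `f` through `χ`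
  have hψ : Function.Injective ((uceFin Q).comp S.subtype) := by
    rw [← MonoidHom.ker_eq_bot_iff, eq_bot_iff]
    intro s hs
    rw [MonoidHom.mem_ker, MonoidHom.comp_apply, uceFin_eq_one_iff] at hs
    have h2 : (s : UCE Q) ∈ S ⊓ commutator (UCE Q) := ⟨s.2, hs⟩
    rw [hS.disj, Subgroup.mem_bot] at h2
    rw [Subgroup.mem_bot]
    exact Subtype.ext h2
  obtain ⟨κ, hκ⟩ := exists_lift_hom_of_injective_to_free _ hψ χ hχs f
  -- the twisted complement
  let twist : S →* UCE Q := MonoidHom.mk' (fun s => (s : UCE Q) * ((κ s : schurM Q) : UCE Q)) (by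
    intro a b
    have hz := Subgroup.mem_center_iff.mp (hSc b) ((κ a : schurM Q) : UCE Q)
    rw [map_mul, Subgroup.coe_mul, Subgroup.coe_mul]
    calc (a : UCE Q) * b * (((κ a : schurM Q) : UCE Q) * ((κ b : schurM Q) : UCE Q))
        = (a : UCE Q) * ((b : UCE Q) * ((κ a : schurM Q) : UCE Q)) * ((κ b : schurM Q) : UCE Q) := by
          group
      _ = (a : UCE Q) * (((κ a : schurM Q) : UCE Q) * (b : UCE Q)) * ((κ b : schurM Q) : UCE Q) := by
          rw [← hz]
      _ = (a : UCE Q) * ((κ a : schurM Q) : UCE Q) * ((b : UCE Q) * ((κ b : schurM Q) : UCE Q)) := by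
          group)
  have htwist : ∀ s : S, twist s = (s : UCE Q) * ((κ s : schurM Q) : UCE Q) := fun s => rfl
  have h₁ : IsSchurCompl Q twist.range := by
    refine ⟨?_, ?_, ?_⟩
    · rintro _ ⟨s, rfl⟩
      rw [htwist]
      exact Subgroup.mul_mem _ (hS.le s.2) (schurM_le_ker Q (κ s).2)
    · rw [eq_bot_iff]
      rintro _ ⟨⟨s, rfl⟩, hx2⟩
      rw [htwist] at hx2
      have h3 : (s : UCE Q) ∈ commutator (UCE Q) := by
        have := Subgroup.mul_mem _ hx2 (Subgroup.inv_mem _ (schurM_le_commutator Q (κ s).2))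
        rwa [mul_assoc, mul_inv_cancel, mul_one] at this
      have h4 : (s : UCE Q) ∈ S ⊓ commutator (UCE Q) := ⟨s.2, h3⟩
      rw [hS.disj, Subgroup.mem_bot] at h4
      have h5 : s = 1 := Subtype.ext h4
      rw [h5, map_one]
      exact Subgroup.one_mem _
    · intro x hx
      obtain ⟨s, hs, m, hm, rfl⟩ := hS.sup x hx
      refine ⟨twist ⟨s, hs⟩, ⟨_, rfl⟩, ((κ ⟨s, hs⟩ : schurM Q) : UCE Q)⁻¹ * m,
        Subgroup.mul_mem _ (Subgroup.inv_mem _ (κ ⟨s, hs⟩).2) hm, ?_⟩
      rw [htwist]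
      group
  have hn₁ := h₁.normal
  refine ⟨twist.range, S, hn₁, hSn, h₁, hS, ?_⟩
  rintro ⟨e, he⟩
  -- two lifts
  let α : UCE Q →* UCE Q ⧸ S := e.toMonoidHom.comp (QuotientGroup.mk' twist.range)
  let β : UCE Q →* UCE Q ⧸ S := QuotientGroup.mk' S
  have hα : ∀ x, coverMap S hS.le (α x) = uceMap Q x := by
    intro x
    have := DFunLike.congr_fun he (QuotientGroup.mk' twist.range x)
    rw [MonoidHom.comp_apply] at this
    exact this
  have hβ : ∀ x, coverMap S hS.le (β x) = uceMap Q x := fun x => rfl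
  have hstem := coverMap_isStem hS
  have hαβ : ∀ x, α x * (β x)⁻¹ ∈ Subgroup.center (UCE Q ⧸ S) := by
    intro x
    apply hstem.2.1
    rw [MonoidHom.mem_ker, map_mul, map_inv, hα, hβ, mul_inv_cancel]
  have hagree := hom_eq_on_commutator_of_eq_mod_center α β hαβ
  -- the defect at `e₀`
  set z := (β e₀)⁻¹ * α e₀ with hz
  have hzk : z ∈ (coverMap S hS.le).ker := by
    rw [MonoidHom.mem_ker, hz, map_mul, map_inv, hα, hβ, inv_mul_cancel]
  have hzc := Subgroup.mem_center_iff.mp (hstem.2.1 hzk)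
  have h1 : α e₀ = β e₀ * z := by rw [hz]; group
  have h2 : (α e₀) ^ p = (β e₀) ^ p * z ^ p := by
    rw [h1]
    exact (Commute.mul_pow (hzc (β e₀)) p)
  have hκM : ((κ s₀ : schurM Q) : UCE Q) ∈ commutator (UCE Q) :=
    schurM_le_commutator Q (κ s₀).2
  have h3 : α (s₀ : UCE Q) = (β ((κ s₀ : schurM Q) : UCE Q))⁻¹ := by
    have h4 : α (twist s₀) = 1 := by
      change e (QuotientGroup.mk' twist.range (twist s₀)) = 1
      have : QuotientGroup.mk' twist.range (twist s₀) = 1 :=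
        (QuotientGroup.eq_one_iff _).mpr ⟨s₀, rfl⟩
      rw [this, map_one]
    rw [htwist, map_mul, hagree _ hκM] at h4
    exact eq_inv_of_mul_eq_one_left h4
  have h5 : β (s₀ : UCE Q) = 1 := (QuotientGroup.eq_one_iff _).mpr s₀.2
  have h6 : (β e₀) ^ p = β c := by
    rw [← map_pow, he₀, map_mul, h5, one_mul]
  have h7 : (α e₀) ^ p = (β ((κ s₀ : schurM Q) : UCE Q))⁻¹ * β c := by
    rw [← map_pow, he₀, map_mul, h3, hagree c hc]
  have hwk : (β ((κ s₀ : schurM Q) : UCE Q))⁻¹ ∈ (coverMap S hS.le).ker := by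
    rw [MonoidHom.mem_ker, map_inv, hβ, (schurM_le_ker Q (κ s₀).2 : uceMap Q _ = 1), inv_one]
  have hwc := Subgroup.mem_center_iff.mp (hstem.2.1 hwk)
  have h8 : z ^ p = (β ((κ s₀ : schurM Q) : UCE Q))⁻¹ := by
    rw [h2, h6, ← hwc (β c)] at h7
    exact mul_left_cancel h7
  obtain ⟨mz, hmz, hmzz⟩ := exists_schurM_of_mem_ker_coverMap hS hzk
  have h9 : mz ^ p * ((κ s₀ : schurM Q) : UCE Q) ∈ S := by
    rw [← QuotientGroup.eq_one_iff, QuotientGroup.mk_mul, QuotientGroup.mk_pow, hmzz, h8]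
    exact inv_mul_cancel _
  have h10 : mz ^ p * ((κ s₀ : schurM Q) : UCE Q) ∈ S ⊓ commutator (UCE Q) :=
    ⟨h9, Subgroup.mul_mem _ (Subgroup.pow_mem _ (schurM_le_commutator Q hmz) p) hκM⟩
  rw [hS.disj, Subgroup.mem_bot] at h10
  have h11 : κ s₀ = ((⟨mz, hmz⟩ : schurM Q) ^ p)⁻¹ := by
    apply Subtype.ext
    rw [Subgroup.coe_inv, Subgroup.coe_pow]
    exact eq_inv_of_mul_eq_one_right h10
  apply hf
  have h12 : f s₀ = χ (κ s₀) := by rw [← hκ]; rfl
  rw [h12, h11, map_inv, map_pow, zmod_mul_pow_eq_one, inv_one]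

end

end Cfsg.Agent.Helper20
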