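import Mathlib

/-!
# Frobenius groups `K ⋊ ⟨ζ⟩` over a field (helper20)

`Fr ζ`: pairs `(v, g)`, `v : K`, `g ∈ zpowers ζ ≤ Kˣ`, with `(v,g)(w,h) = (v + g w, g h)`.
-/

set_option autoImplicit false

namespace Cfsg.Agent.Helper20.Crit

variable {K : Type*} [Field K]

/-- the affine group `K ⋊ ⟨ζ⟩` -/
@[ext] structure Fr (ζ : Kˣ) where
  v : K
  g : Subgroup.zpowers ζ

namespace Fr

variable {ζ : Kˣ}

instance : Mul (Fr ζ) := ⟨fun x y => ⟨x.v + ((x.g : Kˣ) : K) * y.v, x.g * y.g⟩⟩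
instance : One (Fr ζ) := ⟨⟨0, 1⟩⟩
instance : Inv (Fr ζ) := ⟨fun x => ⟨-(((x.g⁻¹ : Subgroup.zpowers ζ) : Kˣ) : K) * x.v, x.g⁻¹⟩⟩

@[simp] theorem mul_v (x y : Fr ζ) : (x * y).v = x.v + ((x.g : Kˣ) : K) * y.v := rfl
@[simp] theorem mul_g (x y : Fr ζ) : (x * y).g = x.g * y.g := rfl
@[simp] theorem one_v : (1 : Fr ζ).v = 0 := rfl
@[simp] theorem one_g : (1 : Fr ζ).g = 1 := rfl
@[simp] theorem inv_v (x : Fr ζ) :
    (x⁻¹).v = -(((x.g⁻¹ : Subgroup.zpowers ζ) : Kˣ) : K) * x.v := rfl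
@[simp] theorem inv_g (x : Fr ζ) : (x⁻¹).g = x.g⁻¹ := rfl

instance : Group (Fr ζ) :=
  Group.ofLeftAxioms
    (fun x y z => by
      ext
      · simp only [mul_v, mul_g, Subgroup.coe_mul, Units.val_mul]; ring
      · simp only [mul_g, mul_assoc])
    (fun x => by
      ext
      · simp
      · simp)
    (fun x => by
      ext
      · simp
      · simp)

theorem pow_g (x : Fr ζ) (n : ℕ) : (x ^ n).g = x.g ^ n := by
  induction n with
  | zero => simp
  | succ n ih => rw [pow_succ, mul_g, ih, pow_succ]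

theorem pow_v (x : Fr ζ) (n : ℕ) :
    (x ^ n).v = x.v * ∑ i ∈ Finset.range n, (((x.g : Kˣ) : K)) ^ i := by
  induction n with
  | zero => simp
  | succ n ih =>
    rw [pow_succ, mul_v, ih, Finset.sum_range_succ, pow_g]
    simp only [Subgroup.coe_pow, Units.val_pow_eq_pow_val]
    ring

/-- equivalence with the product -/
def equivProd (ζ : Kˣ) : Fr ζ ≃ K × Subgroup.zpowers ζ where
  toFun x := (x.v, x.g)
  invFun y := ⟨y.1, y.2⟩
  left_inv _ := rfl
  right_inv _ := rfl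

end Fr

end Cfsg.Agent.Helper20.Crit
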