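import Mathlib
import Cfsg.Agent.Lib.Helper20.CritA

/-!
# Frobenius groups `K ⋊ ⟨ζ⟩`: element orders and the critical property (helper20)
-/

set_option autoImplicit false

namespace Cfsg.Agent.Helper20.Crit

namespace Fr

variable {K : Type*} [Field K] {ζ : Kˣ}

theorem g_pow_eq_one {q : ℕ} (hζ : orderOf ζ = q) (g : Subgroup.zpowers ζ) : g ^ q = 1 := by
  obtain ⟨g, hg⟩ := g
  obtain ⟨k, rfl⟩ := Subgroup.mem_zpowers_iff.1 hg
  apply Subtype.ext
  simp only [Subgroup.coe_pow, Subgroup.coe_one]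
  rw [← zpow_natCast, ← zpow_mul, mul_comm, zpow_mul, zpow_natCast, ← hζ, pow_orderOf_eq_one,
    one_zpow]

theorem coe_ne_one {g : Subgroup.zpowers ζ} (hg : g ≠ 1) : (((g : Kˣ) : K)) ≠ 1 := by
  intro h
  apply hg
  apply Subtype.ext
  apply Units.ext
  simpa using h

/-- elements with nontrivial `g`-part have order `q` -/
theorem orderOf_of_g_ne {q : ℕ} (hq : q.Prime) (hζ : orderOf ζ = q) (x : Fr ζ) (hg : x.g ≠ 1) :
    orderOf x = q := by
  haveI : Fact q.Prime := ⟨hq⟩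
  apply orderOf_eq_prime
  · refine Fr.ext ?_ ?_
    · rw [pow_v, one_v]
      have h1 := geom_sum_mul (((x.g : Kˣ) : K)) q
      have h2 : (((x.g : Kˣ) : K)) ^ q = 1 := by
        have := g_pow_eq_one hζ x.g
        have h3 := congrArg (fun y : Subgroup.zpowers ζ => (((y : Kˣ) : K))) this
        simpa using h3
      rw [h2, sub_self] at h1
      rcases mul_eq_zero.1 h1 with h | h
      · rw [h, mul_zero]
      · exact absurd (sub_eq_zero.1 h) (coe_ne_one hg)
    · rw [pow_g, one_g]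
      exact g_pow_eq_one hζ x.g
  · intro h
    apply hg
    rw [h, one_g]

/-- translations have order `p` -/
theorem orderOf_of_g_eq {p : ℕ} (hp : p.Prime) [CharP K p] (x : Fr ζ) (hg : x.g = 1)
    (hv : x.v ≠ 0) : orderOf x = p := by
  haveI : Fact p.Prime := ⟨hp⟩
  apply orderOf_eq_prime
  · refine Fr.ext ?_ ?_
    · rw [pow_v, one_v, hg]
      simp
    · rw [pow_g, hg, one_pow, one_g]
  · intro h
    apply hv
    rw [h, one_v]

theorem eq_one_of (x : Fr ζ) (hg : x.g = 1) (hv : x.v = 0) : x = 1 := by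
  refine Fr.ext ?_ ?_
  · rw [hv, one_v]
  · rw [hg, one_g]

theorem zeta_ne_one {q : ℕ} (hq : q.Prime) (hζ : orderOf ζ = q) : ζ ≠ 1 := by
  rintro rfl
  rw [orderOf_one] at hζ
  exact hq.one_lt.ne hζ

/-- the spectrum -/
theorem range_orderOf {p q : ℕ} (hp : p.Prime) (hq : q.Prime) [CharP K p] (hζ : orderOf ζ = q) :
    Set.range (orderOf : Fr ζ → ℕ) = {1, p, q} := by
  ext m
  simp only [Set.mem_range, Set.mem_insert_iff, Set.mem_singleton_iff]
  constructor
  · rintro ⟨x, rfl⟩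
    by_cases hg : x.g = 1
    · by_cases hv : x.v = 0
      · left; rw [eq_one_of x hg hv, orderOf_one]
      · right; left; exact orderOf_of_g_eq hp x hg hv
    · right; right; exact orderOf_of_g_ne hq hζ x hg
  · rintro (rfl | rfl | rfl)
    · exact ⟨1, orderOf_one⟩
    · exact ⟨⟨1, 1⟩, orderOf_of_g_eq hp _ rfl one_ne_zero⟩
    · refine ⟨⟨0, ⟨ζ, Subgroup.mem_zpowers ζ⟩⟩, orderOf_of_g_ne hq hζ _ ?_⟩
      intro h
      apply zeta_ne_one hq hζ
      exact congrArg Subtype.val h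

theorem g_eq_of_orderOf {p q : ℕ} (hq : q.Prime) (hpq : p ≠ q) (hζ : orderOf ζ = q) (x : Fr ζ)
    (hx : orderOf x = p) : x.g = 1 := by
  by_contra hg
  exact hpq (hx.symm.trans (orderOf_of_g_ne hq hζ x hg))

theorem v_ne_of_orderOf {p : ℕ} (hp : p.Prime) (x : Fr ζ) (hx : orderOf x = p) (hg : x.g = 1) :
    x.v ≠ 0 := by
  intro hv
  rw [eq_one_of x hg hv, orderOf_one] at hx
  exact hp.one_lt.ne hx

theorem g_ne_of_orderOf {p q : ℕ} (hp : p.Prime) (hq : q.Prime) (hpq : p ≠ q) [CharP K p]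
    (x : Fr ζ) (hx : orderOf x = q) : x.g ≠ 1 := by
  intro hg
  by_cases hv : x.v = 0
  · rw [eq_one_of x hg hv, orderOf_one] at hx
    exact hq.one_lt.ne hx
  · exact hpq ((orderOf_of_g_eq hp x hg hv).symm.trans hx)

/-- the translation part of a subgroup -/
def trans (H : Subgroup (Fr ζ)) : AddSubgroup K where
  carrier := {w | (⟨w, 1⟩ : Fr ζ) ∈ H}
  zero_mem' := H.one_mem
  add_mem' := by
    intro a b ha hb
    have := H.mul_mem ha hb
    have e : (⟨a, 1⟩ : Fr ζ) * ⟨b, 1⟩ = ⟨a + b, 1⟩ := by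
      ext <;> simp
    rwa [e] at this
  neg_mem' := by
    intro a ha
    have := H.inv_mem ha
    have e : (⟨a, 1⟩ : Fr ζ)⁻¹ = ⟨-a, 1⟩ := by
      ext <;> simp
    rwa [e] at this

theorem mem_trans {H : Subgroup (Fr ζ)} {w : K} : w ∈ trans H ↔ (⟨w, 1⟩ : Fr ζ) ∈ H := Iff.rfl

theorem conj_trans (y : Fr ζ) (w : K) :
    y * ⟨w, 1⟩ * y⁻¹ = ⟨((y.g : Kˣ) : K) * w, 1⟩ := by
  ext
  · simp only [mul_v, mul_g, inv_v, mul_one, Subgroup.coe_inv, Units.val_inv_eq_inv_val]
    have : (((y.g : Kˣ) : K)) ≠ 0 := Units.ne_zero _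
    field_simp
    ring
  · simp

/-- a subgroup of prime order `q`: every nontrivial element generates -/
theorem exists_pow_eq {q : ℕ} (hq : q.Prime) (hζ : orderOf ζ = q) {g : Subgroup.zpowers ζ}
    (hg : g ≠ 1) (h : Subgroup.zpowers ζ) : ∃ n : ℕ, g ^ n = h := by
  haveI : Fact q.Prime := ⟨hq⟩
  have hcard : Nat.card (Subgroup.zpowers ζ) = q := by rw [Nat.card_zpowers, hζ]
  have htop := zpowers_eq_top_of_prime_card (G := Subgroup.zpowers ζ) hcard hg
  have hmem : h ∈ Subgroup.zpowers g := by rw [htop]; exact Subgroup.mem_top h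
  have hfin : IsOfFinOrder g := by
    rw [isOfFinOrder_iff_pow_eq_one]
    exact ⟨q, hq.pos, g_pow_eq_one hζ g⟩
  rw [← hfin.mem_powers_iff_mem_zpowers] at hmem
  exact hmem

theorem trans_invariant {q : ℕ} (hq : q.Prime) (hζ : orderOf ζ = q) (H : Subgroup (Fr ζ))
    {y : Fr ζ} (hy : y ∈ H) (hyg : y.g ≠ 1) (w : K) (hw : w ∈ trans H) :
    (ζ : K) * w ∈ trans H := by
  have hstep : ∀ n : ℕ, ∀ w ∈ trans H, (((y.g : Kˣ) : K)) ^ n * w ∈ trans H := by
    intro n
    induction n with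
    | zero => intro w hw; simpa using hw
    | succ n ih =>
      intro w hw
      have h1 := ih w hw
      have h2 : y * ⟨(((y.g : Kˣ) : K)) ^ n * w, 1⟩ * y⁻¹ ∈ H :=
        H.mul_mem (H.mul_mem hy h1) (H.inv_mem hy)
      rw [conj_trans] at h2
      rw [mem_trans, pow_succ]
      convert h2 using 2
      ring
  obtain ⟨n, hn⟩ := exists_pow_eq hq hζ hyg ⟨ζ, Subgroup.mem_zpowers ζ⟩
  have h3 := hstep n w hw
  have h4 : (((y.g : Kˣ) : K)) ^ n = (ζ : K) := by
    have := congrArg (fun z : Subgroup.zpowers ζ => (((z : Kˣ) : K))) hn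
    simpa using this
  rwa [h4] at h3

/-- **Critical property 1**: a subgroup containing elements of orders `p` and `q` is everything. -/
theorem eq_top_of_orders {p q : ℕ} (hp : p.Prime) (hq : q.Prime) (hpq : p ≠ q) [CharP K p]
    (hζ : orderOf ζ = q)
    (irr : ∀ W : AddSubgroup K, (∀ w ∈ W, (ζ : K) * w ∈ W) → W = ⊥ ∨ W = ⊤)
    (H : Subgroup (Fr ζ)) (hx : ∃ x ∈ H, orderOf x = p) (hy : ∃ y ∈ H, orderOf y = q) :
    H = ⊤ := by
  obtain ⟨x, hxH, hxo⟩ := hx
  obtain ⟨y, hyH, hyo⟩ := hy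
  have hxg := g_eq_of_orderOf hq hpq hζ x hxo
  have hxv := v_ne_of_orderOf hp x hxo hxg
  have hyg := g_ne_of_orderOf hp hq hpq y hyo
  have hW : trans H = ⊤ := by
    rcases irr (trans H) (fun w hw => trans_invariant hq hζ H hyH hyg w hw) with h | h
    · exfalso
      apply hxv
      have : x.v ∈ trans H := by
        rw [mem_trans]
        have e : (⟨x.v, 1⟩ : Fr ζ) = x := by ext <;> simp [hxg]
        rw [e]; exact hxH
      rw [h] at this
      exact (AddSubgroup.mem_bot).1 this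
    · exact h
  have hall : ∀ w : K, (⟨w, 1⟩ : Fr ζ) ∈ H := fun w => by
    rw [← mem_trans, hW]; exact AddSubgroup.mem_top w
  have hy0 : (⟨0, y.g⟩ : Fr ζ) ∈ H := by
    have := H.mul_mem (hall (-y.v)) hyH
    convert this using 1
    ext <;> simp
  rw [eq_top_iff]
  intro u _
  obtain ⟨n, hn⟩ := exists_pow_eq hq hζ hyg u.g
  have h1 : (⟨0, y.g⟩ : Fr ζ) ^ n ∈ H := H.pow_mem hy0 n
  have h2 := H.mul_mem (hall u.v) h1
  convert h2 using 1
  ext
  · simp [pow_v]
  · simp [pow_g, hn]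

/-- **Critical property 2**: a nontrivial normal subgroup contains all elements of order `p`. -/
theorem mem_of_normal {p q : ℕ} (hp : p.Prime) (hq : q.Prime) (hpq : p ≠ q) [CharP K p]
    (hζ : orderOf ζ = q)
    (irr : ∀ W : AddSubgroup K, (∀ w ∈ W, (ζ : K) * w ∈ W) → W = ⊥ ∨ W = ⊤)
    (N : Subgroup (Fr ζ)) (hN : N.Normal) (hne : N ≠ ⊥) (x : Fr ζ) (hxo : orderOf x = p) :
    x ∈ N := by
  have hxg := g_eq_of_orderOf hq hpq hζ x hxo
  have hinv : ∀ w ∈ trans N, (ζ : K) * w ∈ trans N := by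
    intro w hw
    have := hN.conj_mem _ hw ⟨0, ⟨ζ, Subgroup.mem_zpowers ζ⟩⟩
    rw [conj_trans] at this
    exact this
  have hW : trans N = ⊤ := by
    rcases irr (trans N) hinv with h | h
    · exfalso
      obtain ⟨⟨n, hnN⟩, hn1'⟩ := (Subgroup.ne_bot_iff_exists_ne_one).1 hne
      have hn1 : n ≠ 1 := fun h => hn1' (Subtype.ext h)
      have hng : n.g ≠ 1 := by
        intro hg
        apply hn1
        apply eq_one_of n hg
        have : n.v ∈ trans N := by
          rw [mem_trans]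
          have e : (⟨n.v, 1⟩ : Fr ζ) = n := by ext <;> simp [hg]
          rw [e]; exact hnN
        rw [h] at this
        exact (AddSubgroup.mem_bot).1 this
      -- commutator with the translation by 1
      have h1 : n * ⟨1, 1⟩ * n⁻¹ * (⟨1, 1⟩ : Fr ζ)⁻¹ ∈ N := by
        have h2 : (⟨1, 1⟩ : Fr ζ) * n⁻¹ * (⟨1, 1⟩ : Fr ζ)⁻¹ ∈ N :=
          hN.conj_mem _ (N.inv_mem hnN) _
        have h3 := N.mul_mem hnN h2
        convert h3 using 1
        group
      rw [conj_trans] at h1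
      have e : (⟨((n.g : Kˣ) : K) * 1, 1⟩ : Fr ζ) * (⟨1, 1⟩ : Fr ζ)⁻¹ =
          ⟨((n.g : Kˣ) : K) - 1, 1⟩ := by
        ext
        · simp; ring
        · simp
      rw [e] at h1
      have h4 : ((n.g : Kˣ) : K) - 1 ∈ trans N := h1
      rw [h] at h4
      exact coe_ne_one hng (sub_eq_zero.1 ((AddSubgroup.mem_bot).1 h4))
    · exact h
  have : x.v ∈ trans N := by rw [hW]; exact AddSubgroup.mem_top _
  rw [mem_trans] at this
  have e : (⟨x.v, 1⟩ : Fr ζ) = x := by ext <;> simp [hxg]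
  rwa [e] at this

end Fr

end Cfsg.Agent.Helper20.Crit
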