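import Mathlib
import Cfsg.Agent.Lib.Helper20.CritB

/-!
# A finite field of characteristic `P` generated by an element of prime order `Q` (helper20)
-/

set_option autoImplicit false

namespace Cfsg.Agent.Helper20.Crit

section Stab

variable {K : Type*} [Field K] [Finite K]

theorem exists_pow_eq_inv (x : K) : ∃ n : ℕ, x⁻¹ = x ^ n := by
  by_cases hx : x = 0
  · exact ⟨1, by rw [hx, inv_zero, pow_one]⟩
  · obtain ⟨n, hn, hxn⟩ := isOfFinOrder_iff_pow_eq_one.1 (isOfFinOrder_of_finite (Units.mk0 x hx))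
    have h1 : x ^ n = 1 := by
      have := congrArg Units.val hxn
      simpa using this
    refine ⟨n - 1, ?_⟩
    apply inv_eq_of_mul_eq_one_right
    rw [← pow_succ', Nat.sub_add_cancel hn, h1]

/-- the multiplier field of an additive subgroup -/
def stab (W : AddSubgroup K) : Subfield K where
  carrier := {x | ∀ w ∈ W, x * w ∈ W}
  mul_mem' := fun hx hy w hw => by rw [mul_assoc]; exact hx _ (hy _ hw)
  one_mem' := fun w hw => by rwa [one_mul]
  add_mem' := fun hx hy w hw => by rw [add_mul]; exact W.add_mem (hx w hw) (hy w hw)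
  zero_mem' := fun w _ => by rw [zero_mul]; exact W.zero_mem
  neg_mem' := fun hx w hw => by rw [neg_mul]; exact W.neg_mem (hx w hw)
  inv_mem' := by
    intro x hx
    obtain ⟨n, hn⟩ := exists_pow_eq_inv x
    have hpow : ∀ m : ℕ, ∀ w ∈ W, x ^ m * w ∈ W := by
      intro m
      induction m with
      | zero => intro w hw; rwa [pow_zero, one_mul]
      | succ m ih =>
        intro w hw
        rw [pow_succ, mul_assoc]
        exact ih (x * w) (hx w hw)
    intro w hw
    rw [hn]
    exact hpow n w hw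

theorem mem_stab {W : AddSubgroup K} {x : K} : x ∈ stab W ↔ ∀ w ∈ W, x * w ∈ W := Iff.rfl

theorem irr_of_closure (ζ : K) (hcl : Subfield.closure ({ζ} : Set K) = ⊤)
    (W : AddSubgroup K) (hW : ∀ w ∈ W, ζ * w ∈ W) : W = ⊥ ∨ W = ⊤ := by
  have hS : stab W = ⊤ := by
    rw [eq_top_iff, ← hcl, Subfield.closure_le]
    intro x hx
    rw [Set.mem_singleton_iff] at hx
    rw [hx]
    exact hW
  by_cases hbot : W = ⊥
  · exact Or.inl hbot
  · right
    obtain ⟨⟨w, hwW⟩, hw0'⟩ := (AddSubgroup.ne_bot_iff_exists_ne_zero).1 hbot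
    have hw0 : w ≠ 0 := fun h => hw0' (Subtype.ext h)
    rw [eq_top_iff]
    intro u _
    have hmem : u * w⁻¹ ∈ stab W := by rw [hS]; exact Subfield.mem_top _
    have := hmem w hwW
    rwa [mul_assoc, inv_mul_cancel₀ hw0, mul_one] at this

end Stab

theorem dvd_pow_sub_one {P Q : ℕ} (hP : P.Prime) (hQ : Q.Prime) (hPQ : P ≠ Q) :
    Q ∣ P ^ (Q - 1) - 1 := by
  have hcop : Nat.Coprime P Q := (Nat.coprime_primes hP hQ).2 hPQ
  have h := Nat.ModEq.pow_totient hcop
  rw [Nat.totient_prime hQ] at h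
  exact (Nat.modEq_iff_dvd' (Nat.one_le_pow _ _ hP.pos)).1 h.symm

/-- existence of the field data -/
theorem exists_field (P Q : ℕ) (hP : P.Prime) (hQ : Q.Prime) (hPQ : P ≠ Q) :
    ∃ (K : Type) (_ : Field K) (_ : Fintype K) (_ : CharP K P) (ζ : Kˣ), orderOf ζ = Q ∧
      ∀ W : AddSubgroup K, (∀ w ∈ W, (ζ : K) * w ∈ W) → W = ⊥ ∨ W = ⊤ := by
  haveI : Fact P.Prime := ⟨hP⟩
  haveI : Fact Q.Prime := ⟨hQ⟩
  have hn : Q - 1 ≠ 0 := by have := hQ.two_le; omega
  have hcard : Nat.card (GaloisField P (Q - 1))ˣ = P ^ (Q - 1) - 1 := by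
    rw [Nat.card_units, GaloisField.card P (Q - 1) hn]
  obtain ⟨ζL, hζL⟩ := exists_prime_orderOf_dvd_card' (G := (GaloisField P (Q - 1))ˣ) Q (by
    rw [hcard]; exact dvd_pow_sub_one hP hQ hPQ)
  let S : Subfield (GaloisField P (Q - 1)) :=
    Subfield.closure ({(ζL : GaloisField P (Q - 1))} : Set (GaloisField P (Q - 1)))
  have hmem : (ζL : GaloisField P (Q - 1)) ∈ S := Subfield.subset_closure rfl
  let z : ↥S := ⟨(ζL : GaloisField P (Q - 1)), hmem⟩
  have hz0 : z ≠ 0 := by
    intro h
    have := congrArg Subtype.val h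
    exact Units.ne_zero ζL this
  let ζ : (↥S)ˣ := Units.mk0 z hz0
  have hmap : Units.map (S.subtype : ↥S →* GaloisField P (Q - 1)) ζ = ζL := by
    apply Units.ext
    rfl
  have hord : orderOf ζ = Q := by
    have hinj : Function.Injective (Units.map (S.subtype : ↥S →* GaloisField P (Q - 1))) :=
      Units.map_injective (f := (S.subtype : ↥S →* GaloisField P (Q - 1)))
        Subtype.val_injective
    calc orderOf ζ = orderOf (Units.map (S.subtype : ↥S →* GaloisField P (Q - 1)) ζ) :=
          (orderOf_injective _ hinj ζ).symm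
      _ = orderOf ζL := by rw [hmap]
      _ = Q := hζL
  have hcl : Subfield.closure ({z} : Set ↥S) = ⊤ := by
    rw [eq_top_iff]
    intro x _
    have h1 : S ≤ (Subfield.closure ({z} : Set ↥S)).map S.subtype := by
      rw [Subfield.closure_le]
      intro y hy
      rw [Set.mem_singleton_iff] at hy
      rw [hy]
      exact ⟨z, Subfield.subset_closure rfl, rfl⟩
    obtain ⟨t, ht, htx⟩ := h1 x.2
    have : t = x := Subtype.ext htx
    rwa [← this]
  refine ⟨↥S, inferInstance, Fintype.ofFinite _, inferInstance, ζ, hord, ?_⟩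
  intro W hW
  exact irr_of_closure z hcl W hW

end Cfsg.Agent.Helper20.Crit
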