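import Mathlib
import Cfsg.Agent.Lib.Helper20.CritC

/-!
# The critical groups `F(P, Q)` bundled (helper20)
-/

set_option autoImplicit false

namespace Cfsg.Agent.Helper20.Crit

/-- a group with spectrum `{1, P, Q}`, critical in the strong form needed for products -/
structure CritGroup (P Q : ℕ) where
  T : Type
  grp : Group T
  fin : Fintype T
  spec : Set.range (orderOf : T → ℕ) = {1, P, Q}
  c1 : ∀ H : Subgroup T, (∃ x ∈ H, orderOf x = P) → (∃ y ∈ H, orderOf y = Q) → H = ⊤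
  c2 : ∀ N : Subgroup T, N.Normal → N ≠ ⊥ → ∀ x : T, orderOf x = P → x ∈ N
  card : ∃ k : ℕ, 1 ≤ k ∧ Fintype.card T = P ^ k * Q ∧ Q ∣ P ^ k - 1

attribute [instance] CritGroup.grp CritGroup.fin

theorem Fr.finite {K : Type*} [Field K] [Finite K] (ζ : Kˣ) : Finite (Fr ζ) :=
  Finite.of_equiv _ (Fr.equivProd ζ).symm

theorem Fr.natCard {K : Type*} [Field K] [Finite K] (ζ : Kˣ) :
    Nat.card (Fr ζ) = Nat.card K * orderOf ζ := by
  rw [Nat.card_congr (Fr.equivProd ζ), Nat.card_prod, Nat.card_zpowers]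

theorem nonempty_critGroup (P Q : ℕ) (hP : P.Prime) (hQ : Q.Prime) (hPQ : P ≠ Q) :
    Nonempty (CritGroup P Q) := by
  obtain ⟨K, hF, hfin, hchar, ζ, hζ, irr⟩ := exists_field P Q hP hQ hPQ
  classical
  haveI : Finite (Fr ζ) := Fr.finite ζ
  letI : Fintype (Fr ζ) := Fintype.ofFinite _
  refine ⟨⟨Fr ζ, inferInstance, inferInstance, Fr.range_orderOf hP hQ hζ,
    fun H hx hy => Fr.eq_top_of_orders hP hQ hPQ hζ irr H hx hy,
    fun N hN hne x hx => Fr.mem_of_normal hP hQ hPQ hζ irr N hN hne x hx, ?_⟩⟩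
  obtain ⟨k, -, hk⟩ := FiniteField.card K P
  refine ⟨k, k.pos, ?_, ?_⟩
  · rw [← Nat.card_eq_fintype_card, Fr.natCard, hζ, Nat.card_eq_fintype_card, hk]
  · have h1 : orderOf ζ ∣ Fintype.card Kˣ := orderOf_dvd_card
    rw [Fintype.card_units, hk, hζ] at h1
    exact h1

end Cfsg.Agent.Helper20.Crit
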