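import Mathlib

/-!
# Direct products of groups of pairwise coprime orders (helper20)
-/

set_option autoImplicit false

namespace Cfsg.Agent.Helper20.Crit

theorem prod_dvd_of_pairwise_coprime {ι : Type*} (t : Finset ι) (s : ι → ℕ) (z : ℕ)
    (hc : ∀ i ∈ t, ∀ j ∈ t, i ≠ j → Nat.Coprime (s i) (s j)) (hd : ∀ i ∈ t, s i ∣ z) :
    ∏ i ∈ t, s i ∣ z := by
  classical
  induction t using Finset.induction_on with
  | empty => simp
  | insert a r har ih =>
    rw [Finset.prod_insert har]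
    apply Nat.Coprime.mul_dvd_of_dvd_of_dvd
    · apply Nat.Coprime.prod_right
      intro i hi
      exact hc a (Finset.mem_insert_self a r) i (Finset.mem_insert_of_mem hi)
        (fun h => har (h ▸ hi))
    · exact hd a (Finset.mem_insert_self a r)
    · exact ih (fun i hi j hj => hc i (Finset.mem_insert_of_mem hi) j (Finset.mem_insert_of_mem hj))
        (fun i hi => hd i (Finset.mem_insert_of_mem hi))

section Pi

variable {ι : Type*} [Fintype ι] [DecidableEq ι] {F : ι → Type*} [∀ i, Group (F i)]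
  [∀ i, Fintype (F i)]

/-- CRT exponent: `g ^ n` is the `j`-th component of `g`; moreover `n ≡ 1` mod `|F j|`. -/
theorem exists_crt_pow
    (hcop : ∀ i j, i ≠ j → Nat.Coprime (Fintype.card (F i)) (Fintype.card (F j))) (j : ι) :
    ∃ n : ℕ, n ≡ 1 [MOD Fintype.card (F j)] ∧
      ∀ g : (∀ i, F i), g ^ n = Pi.mulSingle j (g j) := by
  have hc : Nat.Coprime (Fintype.card (F j)) (∏ i ∈ Finset.univ.erase j, Fintype.card (F i)) := by
    apply Nat.Coprime.prod_right
    intro i hi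
    exact hcop j i (Finset.ne_of_mem_erase hi).symm
  obtain ⟨n, hn1, hn0⟩ := Nat.chineseRemainder hc 1 0
  refine ⟨n, hn1, fun g => ?_⟩
  ext i
  rw [Pi.pow_apply]
  by_cases hij : i = j
  · subst hij
    rw [Pi.mulSingle_eq_same]
    have h1 : n ≡ 1 [MOD orderOf (g i)] := Nat.ModEq.of_dvd orderOf_dvd_card hn1
    have := (pow_eq_pow_iff_modEq (x := g i)).2 h1
    rwa [pow_one] at this
  · rw [Pi.mulSingle_eq_of_ne hij]
    have h1 : (∏ i ∈ Finset.univ.erase j, Fintype.card (F i)) ∣ n :=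
      (Nat.modEq_zero_iff_dvd).1 hn0
    have h2 : Fintype.card (F i) ∣ ∏ i ∈ Finset.univ.erase j, Fintype.card (F i) :=
      Finset.dvd_prod_of_mem _ (Finset.mem_erase.2 ⟨hij, Finset.mem_univ i⟩)
    exact orderOf_dvd_iff_pow_eq_one.1 ((orderOf_dvd_card).trans (h2.trans h1))

/-- order of an element of a coprime product -/
theorem orderOf_pi
    (hcop : ∀ i j, i ≠ j → Nat.Coprime (Fintype.card (F i)) (Fintype.card (F j)))
    (g : ∀ i, F i) : orderOf g = ∏ i, orderOf (g i) := by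
  apply Nat.dvd_antisymm
  · apply orderOf_dvd_of_pow_eq_one
    ext i
    rw [Pi.pow_apply, Pi.one_apply]
    exact orderOf_dvd_iff_pow_eq_one.1 (Finset.dvd_prod_of_mem _ (Finset.mem_univ i))
  · apply prod_dvd_of_pairwise_coprime
    · intro i _ j _ hij
      exact Nat.Coprime.of_dvd orderOf_dvd_card orderOf_dvd_card (hcop i j hij)
    · intro i _
      apply orderOf_dvd_of_pow_eq_one
      have := congrFun (pow_orderOf_eq_one g) i
      rwa [Pi.pow_apply, Pi.one_apply] at this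

/-- an element of prime order `r ∣ |F j|` in a section `H ⧸ N` is represented by an element
of the `j`-th factor -/
theorem exists_mulSingle_of_orderOf
    (hcop : ∀ i j, i ≠ j → Nat.Coprime (Fintype.card (F i)) (Fintype.card (F j)))
    (H : Subgroup (∀ i, F i)) (N : Subgroup ↥H) [N.Normal] (j : ι) (r : ℕ)
    (hr : r ∣ Fintype.card (F j)) (a : ↥H ⧸ N) (ha : orderOf a = r) :
    ∃ (x : F j) (hx : Pi.mulSingle j x ∈ H),
      orderOf (QuotientGroup.mk (⟨Pi.mulSingle j x, hx⟩ : ↥H) : ↥H ⧸ N) = r := by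
  obtain ⟨h, rfl⟩ := QuotientGroup.mk_surjective a
  obtain ⟨n, hn1, hn⟩ := exists_crt_pow hcop j
  have hval : ((h ^ n : ↥H) : ∀ i, F i) = Pi.mulSingle j ((h : ∀ i, F i) j) := by
    rw [Subgroup.coe_pow, hn]
  have hx : Pi.mulSingle j ((h : ∀ i, F i) j) ∈ H := by
    rw [← hval]; exact (h ^ n).2
  refine ⟨(h : ∀ i, F i) j, hx, ?_⟩
  have e : (⟨Pi.mulSingle j ((h : ∀ i, F i) j), hx⟩ : ↥H) = h ^ n := Subtype.ext hval.symm
  rw [e, QuotientGroup.mk_pow]
  have h1 : n ≡ 1 [MOD orderOf (QuotientGroup.mk h : ↥H ⧸ N)] := by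
    rw [ha]; exact Nat.ModEq.of_dvd hr hn1
  have := (pow_eq_pow_iff_modEq (x := (QuotientGroup.mk h : ↥H ⧸ N))).2 h1
  rw [this, pow_one, ha]

end Pi

end Cfsg.Agent.Helper20.Crit
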