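import Mathlib
import Cfsg.Agent.Lib.Helper20.CritE

/-!
# Products of critical groups are critical (helper20)
-/

set_option autoImplicit false

namespace Cfsg.Agent.Helper20.Crit

variable {ι : Type*} [Fintype ι] [DecidableEq ι] {F : ι → Type*} [∀ i, Group (F i)]
  [∀ i, Fintype (F i)]

theorem orderOf_eq_of_dvd {T : Type*} [Group T] {P Q r : ℕ} (hP : P.Prime) (hQ : Q.Prime)
    (spec : Set.range (orderOf : T → ℕ) = {1, P, Q}) (hr : r.Prime) (x : T)
    (h : r ∣ orderOf x) : orderOf x = r := by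
  have hx : orderOf x ∈ ({1, P, Q} : Set ℕ) := by rw [← spec]; exact ⟨x, rfl⟩
  simp only [Set.mem_insert_iff, Set.mem_singleton_iff] at hx
  rcases hx with hx | hx | hx
  · rw [hx] at h
    exact absurd (Nat.dvd_one.1 h) hr.one_lt.ne'
  · rw [hx] at h ⊢
    exact ((Nat.prime_dvd_prime_iff_eq hr hP).1 h).symm
  · rw [hx] at h ⊢
    exact ((Nat.prime_dvd_prime_iff_eq hr hQ).1 h).symm

/-- a section of a product of critical groups whose spectrum contains all `P j`, `Q j` is the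
whole group -/
theorem section_trivial
    (hcop : ∀ i j, i ≠ j → Nat.Coprime (Fintype.card (F i)) (Fintype.card (F j)))
    (P Q : ι → ℕ) (hP : ∀ j, (P j).Prime) (hQ : ∀ j, (Q j).Prime) (hPQ : ∀ j, P j ≠ Q j)
    (spec : ∀ j, Set.range (orderOf : F j → ℕ) = {1, P j, Q j})
    (c1 : ∀ j (H : Subgroup (F j)), (∃ x ∈ H, orderOf x = P j) → (∃ y ∈ H, orderOf y = Q j) →
      H = ⊤)
    (c2 : ∀ j (N : Subgroup (F j)), N.Normal → N ≠ ⊥ → ∀ x : F j, orderOf x = P j → x ∈ N)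
    (H : Subgroup (∀ i, F i)) (N : Subgroup ↥H) [hN : N.Normal]
    (hPs : ∀ j, P j ∈ Set.range (orderOf : ↥H ⧸ N → ℕ))
    (hQs : ∀ j, Q j ∈ Set.range (orderOf : ↥H ⧸ N → ℕ)) :
    H = ⊤ ∧ N = ⊥ := by
  have hdvdP : ∀ j, P j ∣ Fintype.card (F j) := by
    intro j
    have : P j ∈ Set.range (orderOf : F j → ℕ) := by rw [spec j]; simp
    obtain ⟨x, hx⟩ := this
    rw [← hx]; exact orderOf_dvd_card
  have hdvdQ : ∀ j, Q j ∣ Fintype.card (F j) := by
    intro j
    have : Q j ∈ Set.range (orderOf : F j → ℕ) := by rw [spec j]; simp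
    obtain ⟨x, hx⟩ := this
    rw [← hx]; exact orderOf_dvd_card
  -- representatives
  have key : ∀ j (r : ℕ), r.Prime → r ∣ Fintype.card (F j) →
      r ∈ Set.range (orderOf : ↥H ⧸ N → ℕ) →
      ∃ (x : F j) (hx : Pi.mulSingle j x ∈ H), orderOf x = r ∧
        (⟨Pi.mulSingle j x, hx⟩ : ↥H) ∉ N := by
    intro j r hr hrd ⟨a, ha⟩
    obtain ⟨x, hx, hxo⟩ := exists_mulSingle_of_orderOf hcop H N j r hrd a ha
    refine ⟨x, hx, ?_, ?_⟩
    · apply orderOf_eq_of_dvd (hP j) (hQ j) (spec j) hr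
      have h1 : orderOf (QuotientGroup.mk (⟨Pi.mulSingle j x, hx⟩ : ↥H) : ↥H ⧸ N) ∣
          orderOf (⟨Pi.mulSingle j x, hx⟩ : ↥H) := orderOf_map_dvd (QuotientGroup.mk' N) _
      rw [hxo, ← Subgroup.orderOf_coe, orderOf_piMulSingle] at h1
      exact h1
    · intro hmem
      have : (QuotientGroup.mk (⟨Pi.mulSingle j x, hx⟩ : ↥H) : ↥H ⧸ N) = 1 :=
        (QuotientGroup.eq_one_iff _).2 hmem
      rw [this, orderOf_one] at hxo
      exact hr.one_lt.ne hxo
  -- the component subgroups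
  have hHj : ∀ j, H.comap (MonoidHom.mulSingle F j) = ⊤ := by
    intro j
    obtain ⟨x, hx, hxo, -⟩ := key j (P j) (hP j) (hdvdP j) (hPs j)
    obtain ⟨y, hy, hyo, -⟩ := key j (Q j) (hQ j) (hdvdQ j) (hQs j)
    exact c1 j _ ⟨x, hx, hxo⟩ ⟨y, hy, hyo⟩
  have hmemH : ∀ j (y : F j), Pi.mulSingle j y ∈ H := by
    intro j y
    have : y ∈ H.comap (MonoidHom.mulSingle F j) := by rw [hHj j]; exact Subgroup.mem_top y
    exact this
  have hNj : ∀ j, (N.map H.subtype).comap (MonoidHom.mulSingle F j) = ⊥ := by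
    intro j
    by_contra hne
    have hnormal : ((N.map H.subtype).comap (MonoidHom.mulSingle F j)).Normal := by
      constructor
      intro n hn y
      rw [Subgroup.mem_comap, Subgroup.mem_map] at hn ⊢
      obtain ⟨m, hmN, hm⟩ := hn
      refine ⟨⟨Pi.mulSingle j y, hmemH j y⟩ * m * ⟨Pi.mulSingle j y, hmemH j y⟩⁻¹,
        hN.conj_mem m hmN _, ?_⟩
      simp only [Subgroup.subtype_apply, Subgroup.coe_mul, Subgroup.coe_inv] at hm ⊢
      rw [hm]
      simp only [MonoidHom.mulSingle_apply]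
      rw [Pi.mulSingle_mul, Pi.mulSingle_mul, Pi.mulSingle_inv]
    obtain ⟨x, hx, hxo, hxN⟩ := key j (P j) (hP j) (hdvdP j) (hPs j)
    have := c2 j _ hnormal hne x hxo
    rw [Subgroup.mem_comap, Subgroup.mem_map] at this
    obtain ⟨m, hmN, hm⟩ := this
    apply hxN
    have e : m = ⟨Pi.mulSingle j x, hx⟩ := Subtype.ext hm
    rwa [← e]
  constructor
  · rw [eq_top_iff]
    intro g _
    exact Subgroup.pi_mem_of_mulSingle_mem g (fun j => hmemH j (g j))
  · rw [eq_bot_iff]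
    intro m hm
    rw [Subgroup.mem_bot]
    apply Subtype.ext
    rw [Subgroup.coe_one]
    ext j
    rw [Pi.one_apply]
    obtain ⟨n, -, hn⟩ := exists_crt_pow hcop j
    have h1 : m ^ n ∈ N := N.pow_mem hm n
    have h2 : (m : ∀ i, F i) j ∈ (N.map H.subtype).comap (MonoidHom.mulSingle F j) := by
      rw [Subgroup.mem_comap, Subgroup.mem_map]
      refine ⟨m ^ n, h1, ?_⟩
      simp only [Subgroup.subtype_apply, Subgroup.coe_pow, MonoidHom.mulSingle_apply]
      exact hn _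
    rw [hNj j] at h2
    exact (Subgroup.mem_bot).1 h2

end Cfsg.Agent.Helper20.Crit
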