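import Mathlib
import Cfsg.Agent.Lib.Helper20.CritD
import Cfsg.Agent.Lib.Helper20.CritF

/-!
# `2 ^ s` pairwise non-isomorphic critical groups (helper20)
-/

set_option autoImplicit false

namespace Cfsg.Agent.Helper20.Crit

theorem fin2_cases (i : Fin 2) : i = 0 ∨ i = 1 := by
  fin_cases i
  · left; rfl
  · right; rfl

theorem fin2_sub_sub (i : Fin 2) : 1 - (1 - i) = i := by
  revert i; decide

theorem fin2_ne_sub (i : Fin 2) : i ≠ 1 - i := by
  revert i; decide

theorem fin2_eq_sub_of_ne {i i' : Fin 2} (h : i ≠ i') : i' = 1 - i := by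
  revert i i'; decide

section Main

variable {s : ℕ} (p : Fin s → Fin 2 → ℕ) (hp : ∀ j i, (p j i).Prime)
  (hinj : ∀ j i j' i', p j i = p j' i' → j = j' ∧ i = i')
  (D : ∀ j (i : Fin 2), CritGroup (p j i) (p j (1 - i)))

/-- the set of products -/
def Omega : Set ℕ :=
  {m : ℕ | ∃ c : Fin s → ℕ, (∀ j, c j = 1 ∨ c j = p j 0 ∨ c j = p j 1) ∧ m = ∏ j, c j}

include hp hinj in
theorem coprime_card (ε : Fin s → Fin 2) (i j : Fin s) (hij : i ≠ j) :
    Nat.Coprime (Fintype.card (D i (ε i)).T) (Fintype.card (D j (ε j)).T) := by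
  obtain ⟨k, -, hk, -⟩ := (D i (ε i)).card
  obtain ⟨k', -, hk', -⟩ := (D j (ε j)).card
  rw [hk, hk']
  have hne : ∀ a b : Fin 2, Nat.Coprime (p i a) (p j b) := fun a b =>
    (Nat.coprime_primes (hp i a) (hp j b)).2 (fun h => hij (hinj _ _ _ _ h).1)
  apply Nat.Coprime.mul_left
  · apply Nat.Coprime.mul_right
    · exact Nat.Coprime.pow _ _ (hne _ _)
    · exact Nat.Coprime.pow_left _ (hne _ _)
  · apply Nat.Coprime.mul_right
    · exact Nat.Coprime.pow_right _ (hne _ _)
    · exact hne _ _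

theorem mem_set_iff (ε : Fin s → Fin 2) (j : Fin s) (c : ℕ) :
    c ∈ ({1, p j (ε j), p j (1 - ε j)} : Set ℕ) ↔ (c = 1 ∨ c = p j 0 ∨ c = p j 1) := by
  simp only [Set.mem_insert_iff, Set.mem_singleton_iff]
  rcases fin2_cases (ε j) with h | h
  · rw [h]
    have : (1 : Fin 2) - 0 = 1 := by decide
    rw [this]
  · rw [h]
    have : (1 : Fin 2) - 1 = 0 := by decide
    rw [this]
    tauto

include hp hinj in
/-- the spectrum of the product -/
theorem range_orderOf_pi (ε : Fin s → Fin 2) :
    Set.range (orderOf : (∀ j, (D j (ε j)).T) → ℕ) = Omega p := by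
  have hcop := coprime_card p hp hinj D ε
  ext m
  constructor
  · rintro ⟨g, rfl⟩
    refine ⟨fun j => orderOf (g j), fun j => ?_, orderOf_pi hcop g⟩
    rw [← mem_set_iff p ε j, ← (D j (ε j)).spec]
    exact ⟨g j, rfl⟩
  · rintro ⟨c, hc, rfl⟩
    have hex : ∀ j, ∃ x : (D j (ε j)).T, orderOf x = c j := by
      intro j
      have : c j ∈ Set.range (orderOf : (D j (ε j)).T → ℕ) := by
        rw [(D j (ε j)).spec, mem_set_iff p ε j]
        exact hc j
      exact this
    choose g hg using hex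
    refine ⟨g, ?_⟩
    rw [orderOf_pi hcop g]
    exact Finset.prod_congr rfl (fun j _ => hg j)

theorem mem_Omega_of (j : Fin s) (i : Fin 2) : p j i ∈ Omega p := by
  classical
  refine ⟨fun j' => if j' = j then p j i else 1, fun j' => ?_, ?_⟩
  · by_cases h : j' = j
    · simp only [h, if_true]
      rcases fin2_cases i with hi | hi
      · right; left; rw [hi]
      · right; right; rw [hi]
    · simp only [h, if_false]
      left; trivial
  · rw [Finset.prod_ite_eq' Finset.univ j (fun _ => p j i)]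
    simp

include hp hinj in
/-- criticality of the product -/
theorem critical_pi (ε : Fin s → Fin 2) (H : Subgroup (∀ j, (D j (ε j)).T)) (N : Subgroup ↥H)
    [N.Normal] (hHN : H ≠ ⊤ ∨ N ≠ ⊥) :
    Set.range (orderOf : (↥H ⧸ N) → ℕ) ≠ Omega p := by
  intro hΩ
  have hcop := coprime_card p hp hinj D ε
  have := section_trivial hcop (fun j => p j (ε j)) (fun j => p j (1 - ε j))
    (fun j => hp j _) (fun j => hp j _)
    (fun j h => fin2_ne_sub (ε j) (hinj _ _ _ _ h).2)
    (fun j => (D j (ε j)).spec) (fun j => (D j (ε j)).c1) (fun j => (D j (ε j)).c2) H N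
    (fun j => by rw [hΩ]; exact mem_Omega_of p j _)
    (fun j => by rw [hΩ]; exact mem_Omega_of p j _)
  rcases hHN with h | h
  · exact h this.1
  · exact h this.2

end Main

end Cfsg.Agent.Helper20.Crit
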