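import Mathlib
import Cfsg.Agent.Lib.Helper20.CritG

/-!
# `2 ^ s` pairwise non-isomorphic critical groups: cardinalities and the main theorem (helper20)
-/

set_option autoImplicit false

namespace Cfsg.Agent.Helper20.Crit

theorem factorization_prod_single {ι : Type*} [Fintype ι] [DecidableEq ι] (c : ι → ℕ)
    (hc : ∀ i, c i ≠ 0) (r : ℕ) (j : ι) (h : ∀ i, i ≠ j → ¬ r ∣ c i) :
    (∏ i, c i).factorization r = (c j).factorization r := by
  rw [Nat.factorization_prod (fun i _ => hc i), Finsupp.finset_sum_apply]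
  apply Finset.sum_eq_single j
  · intro i _ hij
    exact Nat.factorization_eq_zero_of_not_dvd (h i hij)
  · intro hj
    exact absurd (Finset.mem_univ j) hj

theorem factorization_pow_mul_left {P Q k : ℕ} (hP : P.Prime) (hQ : Q.Prime) (hPQ : P ≠ Q) :
    (P ^ k * Q).factorization P = k := by
  rw [Nat.factorization_mul (pow_ne_zero _ hP.ne_zero) hQ.ne_zero, Nat.factorization_pow]
  simp only [Finsupp.coe_add, Finsupp.coe_smul, Pi.add_apply, Pi.smul_apply, smul_eq_mul]
  rw [hP.factorization_self, Nat.factorization_eq_zero_of_not_dvd]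
  · omega
  · intro h
    exact hPQ ((Nat.prime_dvd_prime_iff_eq hP hQ).1 h)

theorem factorization_pow_mul_right {P Q k : ℕ} (hP : P.Prime) (hQ : Q.Prime) (hPQ : P ≠ Q) :
    (P ^ k * Q).factorization Q = 1 := by
  rw [Nat.factorization_mul (pow_ne_zero _ hP.ne_zero) hQ.ne_zero, Nat.factorization_pow]
  simp only [Finsupp.coe_add, Finsupp.coe_smul, Pi.add_apply, Pi.smul_apply, smul_eq_mul]
  rw [hQ.factorization_self, Nat.factorization_eq_zero_of_not_dvd]
  · omega
  · intro h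
    exact hPQ ((Nat.prime_dvd_prime_iff_eq hQ hP).1 h).symm

section Main

variable {s : ℕ} (p : Fin s → Fin 2 → ℕ) (hp : ∀ j i, (p j i).Prime)
  (hinj : ∀ j i j' i', p j i = p j' i' → j = j' ∧ i = i')
  (D : ∀ j (i : Fin 2), CritGroup (p j i) (p j (1 - i)))

include hp hinj in
theorem not_dvd_card (ε : Fin s → Fin 2) (i j : Fin s) (hij : i ≠ j) (a : Fin 2) :
    ¬ p j a ∣ Fintype.card (D i (ε i)).T := by
  obtain ⟨k, -, hk, -⟩ := (D i (ε i)).card
  rw [hk]
  intro h
  rcases (Nat.Prime.dvd_mul (hp j a)).1 h with h1 | h1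
  · have h2 := (hp j a).dvd_of_dvd_pow h1
    have h3 := (Nat.prime_dvd_prime_iff_eq (hp j a) (hp i _)).1 h2
    exact hij (hinj _ _ _ _ h3).1.symm
  · have h3 := (Nat.prime_dvd_prime_iff_eq (hp j a) (hp i _)).1 h1
    exact hij (hinj _ _ _ _ h3).1.symm

include hp hinj in
theorem card_ne (ε ε' : Fin s → Fin 2) (hne : ε ≠ ε') :
    Fintype.card (∀ j, (D j (ε j)).T) ≠ Fintype.card (∀ j, (D j (ε' j)).T) := by
  intro heq
  rw [Fintype.card_pi, Fintype.card_pi] at heq
  obtain ⟨j, hj⟩ := Function.ne_iff.1 hne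
  have hε : ε' j = 1 - ε j := fin2_eq_sub_of_ne hj
  have hPQ : p j (ε j) ≠ p j (1 - ε j) := fun h => fin2_ne_sub (ε j) (hinj _ _ _ _ h).2
  obtain ⟨k, hk1, hk, hkd⟩ := (D j (ε j)).card
  obtain ⟨m, hm1, hm, hmd⟩ := (D j (ε' j)).card
  have e1 : p j (ε' j) = p j (1 - ε j) := by rw [hε]
  have e2 : p j (1 - ε' j) = p j (ε j) := by rw [hε, fin2_sub_sub]
  have hm' : Fintype.card (D j (ε' j)).T = p j (1 - ε j) ^ m * p j (ε j) := by
    rw [hm, e1, e2]
  rw [e1, e2] at hmd
  have hne0 : ∀ (η : Fin s → Fin 2) (i : Fin s), Fintype.card (D i (η i)).T ≠ 0 :=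
    fun η i => Fintype.card_ne_zero
  -- valuations at P
  have hP1 := factorization_prod_single (fun i => Fintype.card (D i (ε i)).T) (hne0 ε)
    (p j (ε j)) j (fun i hi => not_dvd_card p hp hinj D ε i j hi _)
  have hP2 := factorization_prod_single (fun i => Fintype.card (D i (ε' i)).T) (hne0 ε')
    (p j (ε j)) j (fun i hi => not_dvd_card p hp hinj D ε' i j hi _)
  have hQ1 := factorization_prod_single (fun i => Fintype.card (D i (ε i)).T) (hne0 ε)
    (p j (1 - ε j)) j (fun i hi => not_dvd_card p hp hinj D ε i j hi _)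
  have hQ2 := factorization_prod_single (fun i => Fintype.card (D i (ε' i)).T) (hne0 ε')
    (p j (1 - ε j)) j (fun i hi => not_dvd_card p hp hinj D ε' i j hi _)
  rw [heq, hP2, hm', factorization_pow_mul_right (hp j _) (hp j _) hPQ.symm, hk,
    factorization_pow_mul_left (hp j _) (hp j _) hPQ] at hP1
  rw [heq, hQ2, hm', factorization_pow_mul_left (hp j _) (hp j _) hPQ.symm, hk,
    factorization_pow_mul_right (hp j _) (hp j _) hPQ] at hQ1
  subst hP1
  subst hQ1
  rw [pow_one] at hkd hmd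
  have h2P := (hp j (ε j)).two_le
  have h2Q := (hp j (1 - ε j)).two_le
  have l1 := Nat.le_of_dvd (by omega) hkd
  have l2 := Nat.le_of_dvd (by omega) hmd
  omega

include hp hinj in
/-- **Main theorem** -/
theorem main (hs : 1 ≤ s) :
    ∃ (G : Fin (2 ^ s) → Type) (_ : ∀ a, Group (G a)) (_ : ∀ a, Fintype (G a)),
      (∀ a b, a ≠ b → ¬ Nonempty (G a ≃* G b)) ∧
      ∀ a, Set.range (orderOf : (G a) → ℕ) = {m : ℕ | ∃ c : Fin s → ℕ,
          (∀ j, c j = 1 ∨ c j = p j 0 ∨ c j = p j 1) ∧ m = ∏ j, c j} ∧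
      ∀ (H : Subgroup (G a)) (N : Subgroup ↥H) [N.Normal], (H ≠ ⊤ ∨ N ≠ ⊥) →
        Set.range (orderOf : (↥H ⧸ N) → ℕ) ≠ {m : ℕ | ∃ c : Fin s → ℕ,
          (∀ j, c j = 1 ∨ c j = p j 0 ∨ c j = p j 1) ∧ m = ∏ j, c j} := by
  have D : ∀ j (i : Fin 2), CritGroup (p j i) (p j (1 - i)) := fun j i =>
    Classical.choice (nonempty_critGroup _ _ (hp j i) (hp j (1 - i))
      (fun h => fin2_ne_sub i (hinj _ _ _ _ h).2))
  refine ⟨fun a => ∀ j, (D j ((finFunctionFinEquiv.symm a : Fin s → Fin 2) j)).T,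
    fun a => inferInstance, fun a => inferInstance, ?_, ?_⟩
  · intro a b hab ⟨e⟩
    have hne : (finFunctionFinEquiv.symm a : Fin s → Fin 2) ≠ finFunctionFinEquiv.symm b :=
      fun h => hab (finFunctionFinEquiv.symm.injective h)
    exact card_ne p hp hinj D _ _ hne (Fintype.card_congr e.toEquiv)
  · intro a
    exact ⟨range_orderOf_pi p hp hinj D _, fun H N _ hHN => critical_pi p hp hinj D _ H N hHN⟩

end Main

end Cfsg.Agent.Helper20.Crit
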