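import Mathlib
import Cfsg.Agent.Lib.Helper3.DPDefs

set_option autoImplicit false
open scoped Pointwise
open MulAction

/-!
# S2205 piece CEN: `centre_unique`

A line `insert a B` is never stabilized by an element moving `a`.
-/

namespace Cfsg.Agent.Helper3.DP

variable {G Ω : Type*} [Group G] [Finite G] [Fintype Ω] [MulAction G Ω] [FaithfulSMul G Ω] {p : ℕ}

/-- orbit-stabilizer for a subgroup `K` acting on `Ω`. -/
theorem cen_card_orbit {G Ω : Type*} [Group G] [Finite G] [MulAction G Ω] (K : Subgroup G) (x : Ω) :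
    Nat.card K = (MulAction.orbit K x).ncard * Nat.card ↥(K ⊓ stabilizer G x) := by
  have h1 := MulAction.index_stabilizer K x
  have h2 := Subgroup.index_mul_card (stabilizer K x)
  have h3 : Nat.card ↥(stabilizer K x) = Nat.card ↥(K ⊓ stabilizer G x) := by
    refine Nat.card_congr
      { toFun := fun k => ⟨(k.1 : G), ⟨k.1.2, ?_⟩⟩
        invFun := fun k => ⟨⟨k.1, k.2.1⟩, ?_⟩
        left_inv := fun k => rfl
        right_inv := fun k => rfl }
    · have : k.1 • x = x := MulAction.mem_stabilizer_iff.mp k.2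
      exact MulAction.mem_stabilizer_iff.mpr this
    · have : (k.1 : G) • x = x := MulAction.mem_stabilizer_iff.mp k.2.2
      exact MulAction.mem_stabilizer_iff.mpr this
  rw [← h2, h1, h3]

/-- arithmetic core: `(p+1)·p·d ∣ (p²+1)·p²·d` is impossible for `p ≥ 2`, `d > 0`. -/
theorem cen_arith {p d : ℕ} (hp : 2 ≤ p) (hd : 0 < d)
    (h : (p + 1) * (p * d) ∣ (p ^ 2 + 1) * (p ^ 2 * d)) : False := by
  have hp0 : 0 < p := by omega
  have h1 : (p + 1) * (p * d) = (p + 1) * (p * d) := rfl
  have h2 : (p ^ 2 + 1) * (p ^ 2 * d) = ((p ^ 2 + 1) * p) * (p * d) := by ring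
  rw [h2] at h
  have h3 : (p + 1) ∣ (p ^ 2 + 1) * p :=
    (Nat.mul_dvd_mul_iff_right (Nat.mul_pos hp0 hd)).mp h
  have hcop : Nat.Coprime (p + 1) p := by
    rw [Nat.coprime_comm]; simp
  have h4 : (p + 1) ∣ p ^ 2 + 1 := hcop.dvd_of_dvd_mul_right h3
  have h5 : (p + 1) ∣ (p + 1) * p := Dvd.intro _ rfl
  have h6 : (p + 1) ∣ (p + 1) * p - (p ^ 2 + 1) := Nat.dvd_sub h5 h4
  have h7 : (p + 1) * p - (p ^ 2 + 1) = p - 1 := by
    have : (p + 1) * p = p ^ 2 + p := by ring
    rw [this]; omega
  rw [h7] at h6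
  have := Nat.le_of_dvd (by omega) h6
  omega

/-- PIECE CEN. -/
theorem centre_unique (hp : p.Prime) (hΩ : Fintype.card Ω = p ^ 2 + 1)
    (h2 : IsMultiplyPretransitive G Ω 2) (a : Ω) (B : Set Ω) (hB : IsBlk G p a B) (g : G)
    (hg : g • insert a B = insert a B) : g • a = a := by
  by_contra hga
  obtain ⟨haB, hBp, hblk⟩ := hB
  have h2' : ∀ {a b c d : Ω}, a ≠ b → c ≠ d → ∃ g : G, g • a = c ∧ g • b = d :=
    fun h1 h3 => is_two_pretransitive_iff.mp h2 h1 h3
  have hgaB : g • a ∈ B := by
    have : g • a ∈ g • insert a B := Set.smul_mem_smul_set (Set.mem_insert a B)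
    rw [hg] at this
    exact (Set.mem_insert_iff.mp this).resolve_left hga
  obtain ⟨x, hx⟩ : ∃ x, x = g • a := ⟨_, rfl⟩
  rw [← hx] at hgaB
  have hxa : x ≠ a := fun h => haB (h ▸ hgaB)
  -- F1
  have F1 : ∀ h ∈ stabilizer G a, ∀ y ∈ B, h • y ∈ B → h • B = B := by
    intro h hh y hy hhy
    rcases hblk h hh with h1 | h1
    · exact h1
    · exact (Set.disjoint_left.mp h1 (Set.smul_mem_smul_set hy) hhy).elim
  -- F2/F3: for y ∈ B there is h ∈ H ⊓ stab B with h • x = y
  have F3 : ∀ y ∈ B, ∃ h ∈ stabilizer G a ⊓ stabilizer G B, h • x = y := by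
    intro y hy
    have hya : y ≠ a := fun h => haB (h ▸ hy)
    obtain ⟨h, hha, hhx⟩ := h2' hxa.symm hya.symm
    have hh : h ∈ stabilizer G a := mem_stabilizer_iff.mpr hha
    refine ⟨h, Subgroup.mem_inf.mpr ⟨hh, mem_stabilizer_iff.mpr ?_⟩, hhx⟩
    exact F1 h hh x hgaB (hhx ▸ hy)
  -- F6 : L ⊓ G_a = H ⊓ stab B
  have F6 : stabilizer G (insert a B) ⊓ stabilizer G a = stabilizer G a ⊓ stabilizer G B := by
    ext k
    simp only [Subgroup.mem_inf, mem_stabilizer_iff]
    constructor
    · rintro ⟨h1, h3⟩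
      refine ⟨h3, ?_⟩
      rw [Set.smul_set_insert, h3] at h1
      have hak : a ∉ k • B := by
        intro hmem
        obtain ⟨b, hb, hba⟩ := hmem
        have : b = a := by
          have h4 : k • b = k • a := by rw [h3]; exact hba
          exact smul_left_cancel k h4
        exact haB (this ▸ hb)
      ext y
      constructor
      · intro hy
        have : y ∈ insert a B := h1 ▸ Set.mem_insert_of_mem a hy
        rcases Set.mem_insert_iff.mp this with h5 | h5
        · exact (hak (h5 ▸ hy)).elim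
        · exact h5
      · intro hy
        have : y ∈ insert a (k • B) := h1.symm ▸ Set.mem_insert_of_mem a hy
        rcases Set.mem_insert_iff.mp this with h5 | h5
        · exact (haB (h5 ▸ hy)).elim
        · exact h5
    · rintro ⟨h1, h3⟩
      refine ⟨?_, h1⟩
      rw [Set.smul_set_insert, h1, h3]
  have hHBL : stabilizer G a ⊓ stabilizer G B ≤ stabilizer G (insert a B) := by
    rw [← F6]; exact inf_le_left
  -- F7 : orbit L a = insert a B
  have F7 : (orbit ↥(stabilizer G (insert a B)) a : Set Ω) = insert a B := by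
    ext y
    constructor
    · rintro ⟨l, rfl⟩
      have hl : (l : G) • insert a B = insert a B := mem_stabilizer_iff.mp l.2
      have : (l : G) • a ∈ (l : G) • insert a B := Set.smul_mem_smul_set (Set.mem_insert a B)
      rw [hl] at this
      exact this
    · intro hy
      rcases Set.mem_insert_iff.mp hy with rfl | hyB
      · exact ⟨1, one_smul _ _⟩
      · obtain ⟨h, hh, hhx⟩ := F3 y hyB
        have hgL : g ∈ stabilizer G (insert a B) := mem_stabilizer_iff.mpr hg
        refine ⟨⟨h * g, mul_mem (hHBL hh) hgL⟩, ?_⟩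
        change (h * g) • a = y
        rw [mul_smul, ← hx, hhx]
  -- F4 : orbit HB x = B
  have F4 : (orbit ↥(stabilizer G a ⊓ stabilizer G B) x : Set Ω) = B := by
    ext y
    constructor
    · rintro ⟨l, rfl⟩
      have hl : (l : G) • B = B := mem_stabilizer_iff.mp (Subgroup.mem_inf.mp l.2).2
      have : (l : G) • x ∈ (l : G) • B := Set.smul_mem_smul_set hgaB
      rw [hl] at this
      exact this
    · intro hy
      obtain ⟨h, hh, hhx⟩ := F3 y hy
      exact ⟨⟨h, hh⟩, hhx⟩
  -- F5 : HB ⊓ G_x = H ⊓ G_x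
  have F5 : (stabilizer G a ⊓ stabilizer G B) ⊓ stabilizer G x
      = stabilizer G a ⊓ stabilizer G x := by
    ext k
    simp only [Subgroup.mem_inf, mem_stabilizer_iff]
    constructor
    · rintro ⟨⟨h1, _⟩, h3⟩
      exact ⟨h1, h3⟩
    · rintro ⟨h1, h3⟩
      refine ⟨⟨h1, ?_⟩, h3⟩
      exact F1 k (mem_stabilizer_iff.mpr h1) x hgaB (h3.symm ▸ hgaB)
  -- orbit H x = {a}ᶜ
  have F8 : (orbit ↥(stabilizer G a) x : Set Ω) = {a}ᶜ := by
    ext y
    constructor
    · rintro ⟨l, rfl⟩
      intro hla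
      have hl : (l : G) • a = a := mem_stabilizer_iff.mp l.2
      have h4 : (l : G) • x = (l : G) • a := by rw [hl]; exact hla
      exact hxa (smul_left_cancel _ h4)
    · intro hy
      have hya : y ≠ a := hy
      obtain ⟨h, hha, hhx⟩ := h2' hxa.symm hya.symm
      exact ⟨⟨h, mem_stabilizer_iff.mpr hha⟩, hhx⟩
  -- cardinalities
  have c1 := cen_card_orbit (stabilizer G (insert a B)) a
  have c2 := cen_card_orbit (stabilizer G a ⊓ stabilizer G B) x
  have c3 := cen_card_orbit (stabilizer G a) x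
  rw [F7, F6, Set.ncard_insert_of_notMem haB (Set.toFinite B), hBp] at c1
  rw [F4, F5, hBp] at c2
  have hcompl : ({a}ᶜ : Set Ω).ncard = p ^ 2 := by
    apply Set.ncard_compl_of_ncard_eq_add
    rw [Nat.card_eq_fintype_card, hΩ, Set.ncard_singleton]
  rw [F8, hcompl] at c3
  have c4 : Nat.card G = (p ^ 2 + 1) * Nat.card ↥(stabilizer G a) := by
    have : IsPretransitive G Ω := isPretransitive_of_is_two_pretransitive
    have h5 := index_stabilizer_of_transitive (G := G) (x := a)
    rw [← Subgroup.index_mul_card (stabilizer G a), h5, Nat.card_eq_fintype_card, hΩ]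
  have hdvd : Nat.card ↥(stabilizer G (insert a B)) ∣ Nat.card G :=
    Subgroup.card_subgroup_dvd_card _
  rw [c4, c3, c1, c2] at hdvd
  exact cen_arith hp.two_le Nat.card_pos hdvd

end Cfsg.Agent.Helper3.DP
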