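import Mathlib
import Cfsg.Agent.Lib.Helper3.DPDefs
import Cfsg.Agent.Lib.Helper20.DPCEN

set_option autoImplicit false
open scoped Pointwise
open MulAction

/-!
# S2205 piece SYL: `exists_sylow`

A Sylow `p`-subgroup of the point stabilizer is regular on the remaining `p²` points.
-/

namespace Cfsg.Agent.Helper3.DP

variable {G Ω : Type*} [Group G] [Finite G] [Fintype Ω] [MulAction G Ω] [FaithfulSMul G Ω] {p : ℕ}

/-- Sylow conjugacy inside a subgroup `D`, stated for subgroups of `G`. -/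
theorem syl_conj_in {G : Type*} [Group G] [Finite G] {p : ℕ} (hp : p.Prime) (D Q Q' : Subgroup G)
    (hQ : Q ≤ D) (hQ' : Q' ≤ D)
    (hc : Nat.card Q = p ^ (Nat.card D).factorization p)
    (hc' : Nat.card Q' = p ^ (Nat.card D).factorization p) :
    ∃ d ∈ D, ∀ h, h ∈ Q ↔ d * h * d⁻¹ ∈ Q' := by
  have : Fact p.Prime := ⟨hp⟩
  have e1 : Nat.card ↥(Q.subgroupOf D) = p ^ (Nat.card D).factorization p := by
    rw [← hc]; exact Nat.card_congr (Subgroup.subgroupOfEquivOfLe hQ).toEquiv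
  have e2 : Nat.card ↥(Q'.subgroupOf D) = p ^ (Nat.card D).factorization p := by
    rw [← hc']; exact Nat.card_congr (Subgroup.subgroupOfEquivOfLe hQ').toEquiv
  obtain ⟨d, hd⟩ := MulAction.exists_smul_eq ↥D (Sylow.ofCard (Q.subgroupOf D) e1)
    (Sylow.ofCard (Q'.subgroupOf D) e2)
  have hd' : ∀ k : ↥D, k ∈ Q.subgroupOf D ↔ d * k * d⁻¹ ∈ Q'.subgroupOf D := by
    intro k
    have h1 : ((d • (Sylow.ofCard (Q.subgroupOf D) e1) : Sylow p ↥D) : Subgroup ↥D)
        = Q'.subgroupOf D := by rw [hd]; rfl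
    rw [← h1, Sylow.coe_subgroup_smul]
    have h2 : d * k * d⁻¹ = MulAut.conj d • k := by simp [MulAut.smul_def]
    rw [h2, Subgroup.smul_mem_pointwise_smul_iff]
    rfl
  refine ⟨d.1, d.2, fun h => ?_⟩
  by_cases hD : h ∈ D
  · have := hd' ⟨h, hD⟩
    simpa [Subgroup.mem_subgroupOf] using this
  · constructor
    · intro hh; exact (hD (hQ hh)).elim
    · intro hh
      exfalso; apply hD
      have h3 : d.1 * h * d.1⁻¹ ∈ D := hQ' hh
      have h4 := D.mul_mem (D.mul_mem (D.inv_mem d.2) h3) d.2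
      simpa [mul_assoc] using h4

/-- arithmetic: `o·s = p^k`, `k = v_p(p²·d)`, `o ≤ p²`, `s ∣ d` give `o = p²`, `s = p^(v_p d)`. -/
theorem syl_arith {p o s d : ℕ} (hp : p.Prime) (hd : 0 < d)
    (hos : o * s = p ^ (p ^ 2 * d).factorization p) (ho : o ≤ p ^ 2) (hs : s ∣ d) :
    o = p ^ 2 ∧ s = p ^ d.factorization p := by
  have hpp : 0 < p := hp.pos
  have hk : (p ^ 2 * d).factorization p = 2 + d.factorization p := by
    rw [Nat.factorization_mul (pow_ne_zero 2 hp.ne_zero) hd.ne', Finsupp.add_apply,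
      hp.factorization_pow]
    simp
  rw [hk, pow_add] at hos
  have hs1 : s ∣ p ^ 2 * p ^ d.factorization p := Dvd.intro_left _ hos
  rw [← pow_add] at hs1
  obtain ⟨j, hj, rfl⟩ := (Nat.dvd_prime_pow hp).mp hs1
  have hj2 : j ≤ d.factorization p := (hp.pow_dvd_iff_le_factorization hd.ne').mp hs
  have hs2 : p ^ j ≤ p ^ d.factorization p := Nat.pow_le_pow_right hpp hj2
  have ho' : o = p ^ 2 := by
    by_contra hne
    have hlt : o < p ^ 2 := lt_of_le_of_ne ho hne
    have : o * p ^ j < p ^ 2 * p ^ d.factorization p :=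
      calc o * p ^ j < p ^ 2 * p ^ j := Nat.mul_lt_mul_of_pos_right hlt (pow_pos hpp j)
        _ ≤ p ^ 2 * p ^ d.factorization p := Nat.mul_le_mul_left _ hs2
    omega
  refine ⟨ho', ?_⟩
  rw [ho'] at hos
  exact Nat.eq_of_mul_eq_mul_left (pow_pos hpp 2) hos

omit [Finite G] [FaithfulSMul G Ω] in
theorem syl_compl_ncard (hΩ : Fintype.card Ω = p ^ 2 + 1) (a : Ω) :
    ({a}ᶜ : Set Ω).ncard = p ^ 2 := by
  apply Set.ncard_compl_of_ncard_eq_add
  rw [Nat.card_eq_fintype_card, hΩ, Set.ncard_singleton]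

omit [Finite G] [Fintype Ω] [FaithfulSMul G Ω] in
theorem syl_orbit_stab (h2 : IsMultiplyPretransitive G Ω 2) {a x : Ω} (hxa : x ≠ a) :
    (orbit ↥(stabilizer G a) x : Set Ω) = {a}ᶜ := by
  ext y
  constructor
  · rintro ⟨l, rfl⟩
    intro hla
    have hl : (l : G) • a = a := mem_stabilizer_iff.mp l.2
    have h4 : (l : G) • x = (l : G) • a := by rw [hl]; exact hla
    exact hxa (smul_left_cancel _ h4)
  · intro hy
    have hya : y ≠ a := hy
    obtain ⟨h, hha, hhx⟩ := is_two_pretransitive_iff.mp h2 hxa.symm hya.symm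
    exact ⟨⟨h, mem_stabilizer_iff.mpr hha⟩, hhx⟩

omit [FaithfulSMul G Ω] in
theorem syl_card_stab (hΩ : Fintype.card Ω = p ^ 2 + 1)
    (h2 : IsMultiplyPretransitive G Ω 2) {a x : Ω} (hxa : x ≠ a) :
    Nat.card ↥(stabilizer G a) = p ^ 2 * Nat.card ↥(stabilizer G a ⊓ stabilizer G x) := by
  have c3 := cen_card_orbit (stabilizer G a) x
  rw [syl_orbit_stab h2 hxa, syl_compl_ncard hΩ] at c3
  exact c3

omit [FaithfulSMul G Ω] in
/-- Step 1: a Sylow `p`-subgroup `P` of `G_a` is transitive on the other points and `P_x` is a Sylow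
`p`-subgroup of `G_a ⊓ G_x`. -/
theorem syl_step1 (hp : p.Prime) (hΩ : Fintype.card Ω = p ^ 2 + 1)
    (h2 : IsMultiplyPretransitive G Ω 2) (a : Ω) (P : Subgroup G) (hPle : P ≤ stabilizer G a)
    (hPc : Nat.card P = p ^ (Nat.card ↥(stabilizer G a)).factorization p) (x : Ω) (hxa : x ≠ a) :
    (orbit ↥P x : Set Ω) = {a}ᶜ ∧ Nat.card P = p ^ 2 * Nat.card ↥(P ⊓ stabilizer G x) ∧
    Nat.card ↥(P ⊓ stabilizer G x)
      = p ^ (Nat.card ↥(stabilizer G a ⊓ stabilizer G x)).factorization p := by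
  have cH := syl_card_stab hΩ h2 hxa
  have cP := cen_card_orbit P x
  have hsub : (orbit ↥P x : Set Ω) ⊆ {a}ᶜ := by
    rintro y ⟨l, rfl⟩
    intro hla
    have hl : (l : G) • a = a := mem_stabilizer_iff.mp (hPle l.2)
    have h4 : (l : G) • x = (l : G) • a := by rw [hl]; exact hla
    exact hxa (smul_left_cancel _ h4)
  have ho : (orbit ↥P x : Set Ω).ncard ≤ p ^ 2 := by
    rw [← syl_compl_ncard hΩ a]
    exact Set.ncard_le_ncard hsub (Set.toFinite _)
  have hs : Nat.card ↥(P ⊓ stabilizer G x) ∣ Nat.card ↥(stabilizer G a ⊓ stabilizer G x) :=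
    Subgroup.card_dvd_of_le (inf_le_inf_right _ hPle)
  rw [cH] at hPc
  rw [hPc] at cP
  obtain ⟨h1, h3⟩ := syl_arith hp Nat.card_pos cP.symm ho hs
  refine ⟨?_, ?_, h3⟩
  · apply Set.eq_of_subset_of_ncard_le hsub _ (Set.toFinite _)
    rw [syl_compl_ncard hΩ a, h1]
  · have cP0 := cen_card_orbit P x
    rw [h1] at cP0
    exact cP0

/-- Step 2: if `Q = P_x ≠ 1` (`x ∈ B`), then the fixed points of `Q` are exactly the line
`insert a B`. -/
theorem syl_fix (hp : p.Prime) (hΩ : Fintype.card Ω = p ^ 2 + 1) (a : Ω) (B : Set Ω)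
    (hB : IsBlk G p a B) (P : Subgroup G) (hPle : P ≤ stabilizer G a)
    (k : ℕ) (hPk : Nat.card P = p ^ k)
    (htr : ∀ y, y ≠ a → (orbit ↥P y : Set Ω) = {a}ᶜ ∧
      Nat.card P = p ^ 2 * Nat.card ↥(P ⊓ stabilizer G y))
    (x : Ω) (hx : x ∈ B) (hQ : P ⊓ stabilizer G x ≠ ⊥) (y : Ω) :
    (∀ q ∈ P ⊓ stabilizer G x, q • y = y) ↔ y = a ∨ y ∈ B := by
  obtain ⟨haB, hBp, hblk⟩ := hB
  have hxa : x ≠ a := fun h => haB (h ▸ hx)
  obtain ⟨Q, hQdef⟩ : ∃ Q : Subgroup G, Q = P ⊓ stabilizer G x := ⟨_, rfl⟩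
  rw [← hQdef] at hQ ⊢
  have hQP : Q ≤ P := hQdef ▸ inf_le_left
  have hQa : ∀ q ∈ Q, q • a = a := fun q hq => mem_stabilizer_iff.mp (hPle (hQP hq))
  have hQx : ∀ q ∈ Q, q • x = x := fun q hq => by
    rw [hQdef] at hq
    exact mem_stabilizer_iff.mp (Subgroup.mem_inf.mp hq).2
  have hQB : ∀ q ∈ Q, q • B = B := by
    intro q hq
    rcases hblk q (hPle (hQP hq)) with h1 | h1
    · exact h1
    · refine (Set.disjoint_left.mp h1 ?_ hx).elim
      have := Set.smul_mem_smul_set (a := q) hx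
      rwa [hQx q hq] at this
  obtain ⟨j, hj, hQj⟩ := (Nat.dvd_prime_pow hp).mp (hPk ▸ Subgroup.card_dvd_of_le hQP)
  -- (b) `Q` fixes `B` pointwise
  have hb : ∀ z ∈ B, ∀ q ∈ Q, q • z = z := by
    intro z hz
    by_cases hzx : z = x
    · rw [hzx]; exact hQx
    have c := cen_card_orbit Q z
    have hsub : (orbit ↥Q z : Set Ω) ⊆ B \ {x} := by
      rintro w ⟨l, rfl⟩
      refine ⟨?_, ?_⟩
      · have := Set.smul_mem_smul_set (a := (l : G)) hz
        rwa [hQB l l.2] at this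
      · intro hw
        have hw' : (l : G) • z = x := hw
        apply hzx
        have : (l : G) • z = (l : G) • x := by rw [hw', hQx l l.2]
        exact smul_left_cancel _ this
    have hle : (orbit ↥Q z : Set Ω).ncard ≤ p - 1 := by
      have := Set.ncard_le_ncard hsub (Set.toFinite _)
      rwa [Set.ncard_sdiff_singleton_of_mem hx, hBp] at this
    have hdvd : (orbit ↥Q z : Set Ω).ncard ∣ p ^ j := by
      rw [← hQj, c]; exact Dvd.intro _ rfl
    obtain ⟨i, hi, hoi⟩ := (Nat.dvd_prime_pow hp).mp hdvd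
    have hi0 : i = 0 := by
      by_contra hne
      have h1 : p ≤ p ^ i :=
        calc p = p ^ 1 := (pow_one p).symm
          _ ≤ p ^ i := Nat.pow_le_pow_right hp.pos (Nat.one_le_iff_ne_zero.mpr hne)
      have := hp.two_le
      omega
    rw [hi0, pow_zero] at hoi
    obtain ⟨w, hw⟩ := Set.ncard_eq_one.mp hoi
    have hzw : z = w := by
      have : z ∈ (orbit ↥Q z : Set Ω) := mem_orbit_self z
      rw [hw] at this; exact this
    intro q hq
    have : q • z ∈ (orbit ↥Q z : Set Ω) := ⟨⟨q, hq⟩, rfl⟩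
    rw [hw] at this
    exact (Set.mem_singleton_iff.mp this).trans hzw.symm
  -- (c) the fixed points other than `a`
  obtain ⟨F, hF⟩ : ∃ F : Set Ω, F = {y | y ≠ a ∧ ∀ q ∈ Q, q • y = y} := ⟨_, rfl⟩
  obtain ⟨N, hN⟩ : ∃ N : Subgroup G, N = Subgroup.normalizer (Q : Set G) ⊓ P := ⟨_, rfl⟩
  have hNP : N ≤ P := hN ▸ inf_le_right
  have hNmem : ∀ g ∈ N, g ∈ Subgroup.normalizer (Q : Set G) ∧ g ∈ P := fun g hg => by
    rw [hN] at hg; exact Subgroup.mem_inf.mp hg
  have hNorb : (orbit ↥N x : Set Ω) = F := by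
    ext w
    constructor
    · rintro ⟨l, rfl⟩
      obtain ⟨hl1, hl2⟩ := hNmem l l.2
      rw [hF]
      refine ⟨?_, ?_⟩
      · intro hla
        have hl3 : (l : G) • a = a := mem_stabilizer_iff.mp (hPle hl2)
        have h4 : (l : G) • x = (l : G) • a := by rw [hl3]; exact hla
        exact hxa (smul_left_cancel _ h4)
      · intro q hq
        have h5 : (l : G)⁻¹ * q * (l : G) ∈ Q := (Subgroup.mem_normalizer_iff''.mp hl1 q).mp hq
        have h6 := hQx _ h5
        rw [mul_smul, mul_smul, inv_smul_eq_iff] at h6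
        exact h6
    · intro hw
      rw [hF] at hw
      obtain ⟨hwa, hwQ⟩ := hw
      have hw' : w ∈ (orbit ↥P x : Set Ω) := by rw [(htr x hxa).1]; exact hwa
      obtain ⟨v, hv⟩ := hw'
      have hv' : (v : G) • x = w := hv
      have hPw : Q = P ⊓ stabilizer G w := by
        apply Subgroup.eq_of_le_of_card_ge
        · exact le_inf hQP (fun q hq => mem_stabilizer_iff.mpr (hwQ q hq))
        · have e1 := (htr x hxa).2
          have e2 := (htr w hwa).2
          rw [e1, ← hQdef] at e2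
          exact (Nat.eq_of_mul_eq_mul_left (pow_pos hp.pos 2) e2).ge
      refine ⟨⟨(v : G), ?_⟩, hv'⟩
      rw [hN]
      refine Subgroup.mem_inf.mpr ⟨?_, v.2⟩
      rw [Subgroup.mem_normalizer_iff]
      intro h
      have hvx : (v : G)⁻¹ • w = x := inv_smul_eq_iff.mpr hv'.symm
      constructor
      · intro hh
        rw [hPw]
        refine Subgroup.mem_inf.mpr ⟨P.mul_mem (P.mul_mem v.2 (hQP hh)) (P.inv_mem v.2), ?_⟩
        rw [mem_stabilizer_iff, mul_smul, mul_smul, hvx, hQx h hh, hv']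
      · intro hh
        rw [hPw] at hh
        obtain ⟨hh1, hh2⟩ := Subgroup.mem_inf.mp hh
        rw [hQdef]
        refine Subgroup.mem_inf.mpr ⟨?_, ?_⟩
        · have h7 := P.mul_mem (P.mul_mem (P.inv_mem v.2) hh1) v.2
          simpa [mul_assoc] using h7
        · rw [mem_stabilizer_iff] at hh2 ⊢
          rw [mul_smul, mul_smul, hvx] at hh2
          rw [← hv'] at hh2
          exact smul_left_cancel _ hh2
  have hNx : N ⊓ stabilizer G x = Q := by
    rw [hN, hQdef]
    ext g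
    simp only [Subgroup.mem_inf]
    constructor
    · rintro ⟨⟨_, h1⟩, h3⟩
      exact ⟨h1, h3⟩
    · rintro ⟨h1, h3⟩
      refine ⟨⟨?_, h1⟩, h3⟩
      apply Subgroup.le_normalizer
      exact Subgroup.mem_inf.mpr ⟨h1, h3⟩
  have cN := cen_card_orbit N x
  rw [hNorb, hNx] at cN
  obtain ⟨m, hm, hNm⟩ := (Nat.dvd_prime_pow hp).mp (hPk ▸ Subgroup.card_dvd_of_le hNP)
  have hFdvd : F.ncard ∣ p ^ m := by rw [← hNm, cN]; exact Dvd.intro _ rfl
  obtain ⟨i, hi, hFi⟩ := (Nat.dvd_prime_pow hp).mp hFdvd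
  have hBF : B ⊆ F := by
    intro z hz
    rw [hF]
    exact ⟨fun h => haB (h ▸ hz), hb z hz⟩
  have hFa : F ⊆ {a}ᶜ := by
    intro z hz
    rw [hF] at hz
    exact hz.1
  have hpF : p ≤ F.ncard := by
    rw [← hBp]; exact Set.ncard_le_ncard hBF (Set.toFinite _)
  have hFp2 : F.ncard ≤ p ^ 2 := by
    rw [← syl_compl_ncard hΩ a]; exact Set.ncard_le_ncard hFa (Set.toFinite _)
  have hFne : F.ncard ≠ p ^ 2 := by
    intro hFeq
    have hFall : F = {a}ᶜ := by
      apply Set.eq_of_subset_of_ncard_le hFa _ (Set.toFinite _)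
      rw [syl_compl_ncard hΩ a, hFeq]
    apply hQ
    rw [Subgroup.eq_bot_iff_forall]
    intro q hq
    apply FaithfulSMul.eq_of_smul_eq_smul (α := Ω)
    intro z
    rw [one_smul]
    by_cases hza : z = a
    · rw [hza]; exact hQa q hq
    · have : z ∈ F := by rw [hFall]; exact hza
      rw [hF] at this
      exact this.2 q hq
  have hi1 : i = 1 := by
    rw [hFi] at hpF hFp2 hFne
    have h1 : i ≤ 2 := (Nat.pow_le_pow_iff_right hp.one_lt).mp hFp2
    have h3 : i ≠ 2 := fun h => hFne (by rw [h])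
    have h4 : i ≠ 0 := by
      intro h
      rw [h, pow_zero] at hpF
      have := hp.two_le
      omega
    omega
  have hFB : B = F := by
    apply Set.eq_of_subset_of_ncard_le hBF _ (Set.toFinite _)
    rw [hFi, hi1, pow_one, hBp]
  constructor
  · intro hy
    by_cases hya : y = a
    · exact Or.inl hya
    · right
      rw [hFB, hF]
      exact ⟨hya, hy⟩
  · rintro (rfl | hyB)
    · exact hQa
    · exact hb y hyB

/-- PIECE SYL. -/
theorem exists_sylow (hp : p.Prime) (hΩ : Fintype.card Ω = p ^ 2 + 1)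
    (h2 : IsMultiplyPretransitive G Ω 2) (a : Ω) (B : Set Ω) (hB : IsBlk G p a B)
    (hc : ∀ g : G, g • insert a B = insert a B → g • a = a) :
    ∃ P : Subgroup G, P ≤ stabilizer G a ∧ Nat.card P = p ^ 2 ∧
      (∀ y : Ω, y ≠ a → ∀ g ∈ P, g • y = y → g = 1) ∧
      ∀ x : Ω, x ≠ a → ¬ p ∣ Nat.card ↥(stabilizer G a ⊓ stabilizer G x) := by
  have hpF : Fact p.Prime := ⟨hp⟩
  obtain ⟨P₀⟩ : Nonempty (Sylow p ↥(stabilizer G a)) := inferInstance
  obtain ⟨P, hPdef⟩ : ∃ P : Subgroup G,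
      P = (P₀ : Subgroup ↥(stabilizer G a)).map (stabilizer G a).subtype := ⟨_, rfl⟩
  have hPle : P ≤ stabilizer G a := hPdef ▸ Subgroup.map_subtype_le _
  have hPc : Nat.card P = p ^ (Nat.card ↥(stabilizer G a)).factorization p := by
    rw [hPdef, Subgroup.card_map_of_injective (Subgroup.subtype_injective _)]
    exact P₀.card_eq_multiplicity
  have hst := fun x hxa => syl_step1 hp hΩ h2 a P hPle hPc x hxa
  obtain ⟨x, hx⟩ : B.Nonempty := by
    rw [← Set.ncard_pos (Set.toFinite B), hB.2.1]; exact hp.pos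
  have hxa : x ≠ a := fun h => hB.1 (h ▸ hx)
  have hQbot : P ⊓ stabilizer G x = ⊥ := by
    by_contra hQ
    have hfix := syl_fix hp hΩ a B hB P hPle _ hPc
      (fun y hy => ⟨(hst y hy).1, (hst y hy).2.1⟩) x hx hQ
    obtain ⟨t, hta, htx⟩ := is_two_pretransitive_iff.mp h2 hxa.symm hxa
    have htia : t⁻¹ • a = x := inv_smul_eq_iff.mpr htx.symm
    have htix : t⁻¹ • x = a := inv_smul_eq_iff.mpr hta.symm
    have hcQ := (hst x hxa).2.2
    obtain ⟨D, hD⟩ : ∃ D : Subgroup G, D = stabilizer G a ⊓ stabilizer G x := ⟨_, rfl⟩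
    obtain ⟨Q, hQdef⟩ : ∃ Q : Subgroup G, Q = P ⊓ stabilizer G x := ⟨_, rfl⟩
    rw [← hD, ← hQdef] at hcQ
    rw [← hQdef] at hfix
    have hQD : Q ≤ D := by rw [hQdef, hD]; exact inf_le_inf_right _ hPle
    have hDmem : ∀ g ∈ D, g • a = a ∧ g • x = x := fun g hg => by
      rw [hD] at hg
      exact ⟨mem_stabilizer_iff.mp hg.1, mem_stabilizer_iff.mp hg.2⟩
    obtain ⟨Q', hQ'def⟩ : ∃ Q' : Subgroup G, Q' = Q.map (MulAut.conj t).toMonoidHom := ⟨_, rfl⟩
    have hQ'mem : ∀ q, q ∈ Q ↔ t * q * t⁻¹ ∈ Q' := by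
      intro q
      rw [hQ'def]
      constructor
      · intro hq; exact ⟨q, hq, by simp [MulAut.conj_apply]⟩
      · rintro ⟨q', hq', h⟩
        have h' : t * q' * t⁻¹ = t * q * t⁻¹ := by simpa [MulAut.conj_apply] using h
        have : q' = q := by
          have h3 := congrArg (fun z => t⁻¹ * z * t) h'
          simpa [mul_assoc] using h3
        exact this ▸ hq'
    have hQ'D : Q' ≤ D := by
      intro g hg
      have hg' : t * (t⁻¹ * g * t) * t⁻¹ ∈ Q' := by
        have : t * (t⁻¹ * g * t) * t⁻¹ = g := by group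
        rw [this]; exact hg
      have hq := (hQ'mem _).mpr hg'
      obtain ⟨hqa, hqx⟩ := hDmem _ (hQD hq)
      rw [hD]
      refine Subgroup.mem_inf.mpr ⟨mem_stabilizer_iff.mpr ?_, mem_stabilizer_iff.mpr ?_⟩
      · rw [mul_smul, mul_smul, htx] at hqx
        rw [inv_smul_eq_iff, htx] at hqx
        exact hqx
      · rw [mul_smul, mul_smul, hta] at hqa
        rw [inv_smul_eq_iff, hta] at hqa
        exact hqa
    have hcQ' : Nat.card Q' = p ^ (Nat.card D).factorization p := by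
      rw [hQ'def, Subgroup.card_map_of_injective (MulAut.conj t).injective]; exact hcQ
    obtain ⟨d, hd, hconj⟩ := syl_conj_in hp D Q' Q hQ'D hQD hcQ' hcQ
    have hg : ∀ q, q ∈ Q ↔ (d * t) * q * (d * t)⁻¹ ∈ Q := by
      intro q
      have : (d * t) * q * (d * t)⁻¹ = d * (t * q * t⁻¹) * d⁻¹ := by group
      rw [this, ← hconj]
      exact hQ'mem q
    have hgl : (d * t) • insert a B = insert a B := by
      ext y
      rw [Set.mem_smul_set_iff_inv_smul_mem, Set.mem_insert_iff, Set.mem_insert_iff,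
        ← hfix, ← hfix]
      constructor
      · intro h q hq
        have h1 : (d * t)⁻¹ * q * (d * t) ∈ Q := by
          rw [hg]
          have : (d * t) * ((d * t)⁻¹ * q * (d * t)) * (d * t)⁻¹ = q := by group
          rw [this]; exact hq
        have h3 := h _ h1
        rw [mul_smul, mul_smul, smul_inv_smul] at h3
        exact smul_left_cancel _ h3
      · intro h q hq
        have h1 := (hg q).mp hq
        have h3 := h _ h1
        rw [mul_smul, mul_smul] at h3
        exact eq_inv_smul_iff.mpr h3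
    have hfin := hc (d * t) hgl
    rw [mul_smul, hta, (hDmem d hd).2] at hfin
    exact hxa hfin
  have hQ1 : Nat.card ↥(P ⊓ stabilizer G x) = 1 := by
    rw [hQbot]; exact Subgroup.card_bot
  have hPcard : Nat.card P = p ^ 2 := by
    rw [(hst x hxa).2.1, hQ1, mul_one]
  have hone : ∀ y, y ≠ a → Nat.card ↥(P ⊓ stabilizer G y) = 1 := by
    intro y hy
    have h1 := (hst y hy).2.1
    rw [hPcard] at h1
    have h3 : p ^ 2 * 1 = p ^ 2 * Nat.card ↥(P ⊓ stabilizer G y) := by rw [mul_one]; exact h1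
    exact (Nat.eq_of_mul_eq_mul_left (pow_pos hp.pos 2) h3).symm
  refine ⟨P, hPle, hPcard, ?_, ?_⟩
  · intro y hy g hg hgy
    have hbot : P ⊓ stabilizer G y = ⊥ := Subgroup.card_eq_one.mp (hone y hy)
    have : g ∈ P ⊓ stabilizer G y := Subgroup.mem_inf.mpr ⟨hg, mem_stabilizer_iff.mpr hgy⟩
    rw [hbot] at this
    exact Subgroup.mem_bot.mp this
  · intro y hy hdvd
    have h1 := (hst y hy).2.2
    rw [hone y hy] at h1
    have hpos : 0 < Nat.card ↥(stabilizer G a ⊓ stabilizer G y) := Nat.card_pos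
    have he : (Nat.card ↥(stabilizer G a ⊓ stabilizer G y)).factorization p = 0 := by
      by_contra hne
      have : p ≤ p ^ (Nat.card ↥(stabilizer G a ⊓ stabilizer G y)).factorization p :=
        calc p = p ^ 1 := (pow_one p).symm
          _ ≤ _ := Nat.pow_le_pow_right hp.pos (Nat.one_le_iff_ne_zero.mpr hne)
      have := hp.two_le
      omega
    rcases (Nat.factorization_eq_zero_iff _ _).mp he with h | h | h
    · exact h hp
    · exact h hdvd
    · omega

end Cfsg.Agent.Helper3.DP
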