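import Mathlib

set_option autoImplicit false

namespace Cfsg.Agent.Helper20.Dih

open DihedralGroup

section zmod

variable {m : ℕ} (q : ℕ)

/-- the element `m/2` of `ZMod m` -/
def hh (m q : ℕ) : ZMod m := ((2 * q : ℕ) : ZMod m)

/-- the element `m/4` of `ZMod m` -/
def qq (m q : ℕ) : ZMod m := ((q : ℕ) : ZMod m)

theorem hh_add_hh (hq : m = 4 * q) : hh m q + hh m q = 0 := by
  unfold hh
  rw [← Nat.cast_add, ZMod.natCast_eq_zero_iff]
  exact ⟨1, by omega⟩

theorem hh_ne_zero (hq : m = 4 * q) (hq0 : 0 < q) : hh m q ≠ 0 := by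
  unfold hh
  rw [Ne, ZMod.natCast_eq_zero_iff]
  rintro ⟨t, ht⟩
  rcases Nat.eq_zero_or_pos t with h0 | h0
  · subst h0; omega
  · have : 4 * q ≤ m * t := by rw [hq]; exact Nat.le_mul_of_pos_right _ h0
    omega

theorem neg_hh (hq : m = 4 * q) : - hh m q = hh m q :=
  neg_eq_of_add_eq_zero_left (hh_add_hh q hq)

theorem qq_add_qq : qq m q + qq m q = hh m q := by
  unfold hh qq
  rw [← Nat.cast_add]
  congr 1
  omega

theorem eq_zero_or_hh (hq : m = 4 * q) (hq0 : 0 < q) (j : ZMod m) (hj : j + j = 0) :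
    j = 0 ∨ j = hh m q := by
  haveI : NeZero m := ⟨by omega⟩
  have hv : j.val < m := ZMod.val_lt j
  have hcast : ((j.val + j.val : ℕ) : ZMod m) = 0 := by
    rw [Nat.cast_add, ZMod.natCast_zmod_val]; exact hj
  rw [ZMod.natCast_eq_zero_iff] at hcast
  obtain ⟨t, ht⟩ := hcast
  have ht2 : t = 0 ∨ t = 1 := by
    rcases Nat.lt_or_ge t 2 with h | h
    · omega
    · exfalso
      have : m * 2 ≤ m * t := Nat.mul_le_mul_left _ h
      omega
  rcases ht2 with rfl | rfl
  · left
    have : j.val = 0 := by omega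
    rw [← ZMod.natCast_zmod_val j, this, Nat.cast_zero]
  · right
    have : j.val = 2 * q := by omega
    rw [← ZMod.natCast_zmod_val j, this]
    rfl

theorem eq_qq_or (hq : m = 4 * q) (hq0 : 0 < q) (j : ZMod m) (hj : j + j = hh m q) :
    j = qq m q ∨ j = - qq m q := by
  have h1 : (j - qq m q) + (j - qq m q) = 0 := by
    have : (j - qq m q) + (j - qq m q) = (j + j) - (qq m q + qq m q) := by ring
    rw [this, hj, qq_add_qq, sub_self]
  rcases eq_zero_or_hh q hq hq0 _ h1 with h | h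
  · left; exact sub_eq_zero.mp h
  · right
    have : j = hh m q + qq m q := by rw [← h]; ring
    rw [this]
    apply eq_neg_of_add_eq_zero_left
    rw [add_assoc, qq_add_qq, hh_add_hh q hq]

theorem qq_ne_neg_qq (hq : m = 4 * q) (hq0 : 0 < q) : qq m q ≠ - qq m q := by
  intro h
  apply hh_ne_zero q hq hq0
  rw [← qq_add_qq]
  nth_rewrite 1 [h]
  exact neg_add_cancel _

end zmod

end Cfsg.Agent.Helper20.Dih
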