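import Mathlib
import Cfsg.Agent.Lib.Helper20.Dih1

set_option autoImplicit false

namespace Cfsg.Agent.Helper20.Dih

open DihedralGroup

variable {m : ℕ} (q : ℕ)

theorem zm_aux1 (hq : m = 4 * q) (i : ZMod m) : i + hh m q + hh m q = i := by
  rw [add_assoc, hh_add_hh q hq, add_zero]

theorem zm_aux2 (hq : m = 4 * q) (i : ZMod m) : i - hh m q = i + hh m q := by
  rw [sub_eq_add_neg, neg_hh q hq]

theorem zm_aux3 (hq : m = 4 * q) (i : ZMod m) : i - (i + hh m q) = hh m q := by
  rw [sub_add_eq_sub_sub, sub_self, zero_sub, neg_hh q hq]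

/-- the four-group `{1, r h, sr i, sr (i+h)}` of the dihedral group, `h = m/2`. -/
def Uk (hq : m = 4 * q) (i : ZMod m) : Subgroup (DihedralGroup m) where
  carrier := {x | x = r 0 ∨ x = r (hh m q) ∨ x = sr i ∨ x = sr (i + hh m q)}
  one_mem' := Or.inl rfl
  mul_mem' := by
    rintro a b (rfl | rfl | rfl | rfl) (rfl | rfl | rfl | rfl) <;>
    simp [hh_add_hh q hq, zm_aux1 q hq, zm_aux2 q hq, zm_aux3 q hq]
  inv_mem' := by
    rintro a (rfl | rfl | rfl | rfl) <;> simp [neg_hh q hq]

end Cfsg.Agent.Helper20.Dih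

namespace Cfsg.Agent.Helper20.Dih

open DihedralGroup

variable {m : ℕ} (q : ℕ)

theorem mem_Uk (hq : m = 4 * q) (i : ZMod m) (x : DihedralGroup m) :
    x ∈ Uk q hq i ↔ x = r 0 ∨ x = r (hh m q) ∨ x = sr i ∨ x = sr (i + hh m q) := Iff.rfl

theorem mul_self_of_mem_Uk (hq : m = 4 * q) (i : ZMod m) (x : DihedralGroup m)
    (hx : x ∈ Uk q hq i) : x * x = 1 := by
  rcases hx with rfl | rfl | rfl | rfl <;> simp [hh_add_hh q hq]

theorem coe_Uk (hq : m = 4 * q) (i : ZMod m) :
    (Uk q hq i : Set (DihedralGroup m)) = {r 0, r (hh m q), sr i, sr (i + hh m q)} := by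
  ext x
  simp only [SetLike.mem_coe, mem_Uk, Set.mem_insert_iff, Set.mem_singleton_iff]

theorem card_Uk (hq : m = 4 * q) (hq0 : 0 < q) (i : ZMod m) : Nat.card (Uk q hq i) = 4 := by
  have h0 := hh_ne_zero q hq hq0
  have : Nat.card (Uk q hq i) = (Uk q hq i : Set (DihedralGroup m)).ncard := by
    rw [← Nat.card_coe_set_eq]; rfl
  rw [this, coe_Uk]
  rw [Set.ncard_insert_of_notMem, Set.ncard_insert_of_notMem, Set.ncard_pair]
  · intro h
    have := sr.inj h
    apply h0
    have h' : i + 0 = i + hh m q := by rw [add_zero]; exact this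
    exact (add_left_cancel h').symm
  · simp
  · intro h
    simp only [Set.mem_insert_iff, Set.mem_singleton_iff] at h
    rcases h with h | h | h
    · exact h0 (r.inj h).symm
    · cases h
    · cases h

theorem exists_Uk_of_pair (hq : m = 4 * q) (hq0 : 0 < q) (a b : DihedralGroup m)
    (ha : a ≠ 1) (hb : b ≠ 1) (hab : a ≠ b) (ha2 : a * a = 1) (hb2 : b * b = 1)
    (hc : a * b = b * a) : ∃ i, a ∈ Uk q hq i ∧ b ∈ Uk q hq i := by
  rcases a with j | j <;> rcases b with k | k
  · exfalso
    rw [r_mul_r, one_def] at ha2 hb2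
    have hj := eq_zero_or_hh q hq hq0 j (r.inj ha2)
    have hk := eq_zero_or_hh q hq hq0 k (r.inj hb2)
    rcases hj with rfl | rfl
    · exact ha r_zero
    · rcases hk with rfl | rfl
      · exact hb r_zero
      · exact hab rfl
  · rw [r_mul_r, one_def] at ha2
    rcases eq_zero_or_hh q hq hq0 j (r.inj ha2) with rfl | rfl
    · exact absurd r_zero ha
    · exact ⟨k, Or.inr (Or.inl rfl), Or.inr (Or.inr (Or.inl rfl))⟩
  · rw [r_mul_r, one_def] at hb2
    rcases eq_zero_or_hh q hq hq0 k (r.inj hb2) with rfl | rfl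
    · exact absurd r_zero hb
    · exact ⟨j, Or.inr (Or.inr (Or.inl rfl)), Or.inr (Or.inl rfl)⟩
  · rw [sr_mul_sr, sr_mul_sr] at hc
    have h1 : (k - j) + (k - j) = 0 := by
      have := r.inj hc
      calc (k - j) + (k - j) = (k - j) + (j - k) := by rw [this]
        _ = 0 := by ring
    rcases eq_zero_or_hh q hq hq0 _ h1 with h | h
    · exfalso
      apply hab
      rw [sub_eq_zero.mp h]
    · refine ⟨j, Or.inr (Or.inr (Or.inl rfl)), Or.inr (Or.inr (Or.inr ?_))⟩
      rw [← h]; congr 1; ring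

theorem conj_mem_Uk (hq : m = 4 * q) (i j : ZMod m) (x : DihedralGroup m)
    (hx : x ∈ Uk q hq i) : r j * x * (r j)⁻¹ ∈ Uk q hq (i - (j + j)) := by
  rcases hx with rfl | rfl | rfl | rfl
  · left; simp
  · right; left; simp
  · right; right; left
    simp only [inv_r, r_mul_sr, sr_mul_r]
    congr 1; ring
  · right; right; right
    simp only [inv_r, r_mul_sr, sr_mul_r]
    congr 1; ring

theorem eq_r_qq_of_order_four (hq : m = 4 * q) (hq0 : 0 < q) (x : DihedralGroup m)
    (h2 : x * x ≠ 1) (h4 : x * x * (x * x) = 1) : x = r (qq m q) ∨ x = r (- qq m q) := by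
  rcases x with j | j
  · rw [r_mul_r, r_mul_r, one_def] at h4
    rw [r_mul_r, one_def] at h2
    have h2' : j + j ≠ 0 := fun h => h2 (by rw [h])
    rcases eq_zero_or_hh q hq hq0 _ (r.inj h4) with h | h
    · exact absurd h h2'
    · rcases eq_qq_or q hq hq0 j h with rfl | rfl
      · left; rfl
      · right; rfl
  · exact absurd (sr_mul_self j) h2

theorem exists_r_of_comm (hq : m = 4 * q) (hq0 : 0 < q) (x y : DihedralGroup m)
    (hy : y = r (qq m q) ∨ y = r (- qq m q)) (h : x * y = y * x) : ∃ i, x = r i := by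
  rcases x with j | j
  · exact ⟨j, rfl⟩
  · exfalso
    apply qq_ne_neg_qq q hq hq0
    rcases hy with rfl | rfl
    · rw [sr_mul_r, r_mul_sr] at h
      have := sr.inj h
      have h' : j + qq m q = j + - qq m q := by rw [this]; ring
      exact add_left_cancel h'
    · rw [sr_mul_r, r_mul_sr] at h
      have := sr.inj h
      have h' : j + qq m q = j + - qq m q := by rw [this]; ring
      exact add_left_cancel h'

end Cfsg.Agent.Helper20.Dih
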