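import Mathlib
import Cfsg.Agent.Lib.Helper20.Dih2

set_option autoImplicit false

namespace Cfsg.Agent.Helper20.Dih

open DihedralGroup

section dih

variable {m : ℕ} (q : ℕ)

theorem rq_conj_mem_Uk (hq : m = 4 * q) (i : ZMod m) (x : DihedralGroup m)
    (hx : x ∈ Uk q hq i) : r (qq m q) * x * (r (qq m q))⁻¹ ∈ Uk q hq i := by
  have h := conj_mem_Uk q hq i (qq m q) x hx
  rw [qq_add_qq] at h
  rcases h with h | h | h | h
  · exact Or.inl h
  · exact Or.inr (Or.inl h)
  · right; right; right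
    rw [h, zm_aux2 q hq]
  · right; right; left
    rw [h, zm_aux2 q hq, zm_aux1 q hq]

theorem parity_aux (hq : m = 4 * q) (e j : ZMod m) (hj : j = 1 ∨ j = 1 + hh m q)
    (h : j = -(e + e)) : False := by
  have h2 : 2 ∣ m := ⟨2 * q, by omega⟩
  let f := ZMod.castHom h2 (ZMod 2)
  have hf : f j = 0 := by
    rw [h, map_neg, map_add, CharTwo.add_self_eq_zero, neg_zero]
  have hH : f (hh m q) = 0 := by
    unfold hh
    rw [map_natCast, ZMod.natCast_eq_zero_iff]
    exact ⟨q, rfl⟩
  rcases hj with rfl | rfl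
  · rw [map_one] at hf
    exact absurd hf (by decide)
  · rw [map_add, map_one, hH, add_zero] at hf
    exact absurd hf (by decide)

theorem exists_half (hq : m = 4 * q) (hq0 : 0 < q) (i : ZMod m) :
    ∃ j : ZMod m, i - (j + j) = 0 ∨ i - (j + j) = 1 := by
  haveI : NeZero m := ⟨by omega⟩
  refine ⟨((i.val / 2 : ℕ) : ZMod m), ?_⟩
  have hi : i = ((2 * (i.val / 2) + i.val % 2 : ℕ) : ZMod m) := by
    rw [Nat.div_add_mod, ZMod.natCast_zmod_val]
  rcases Nat.mod_two_eq_zero_or_one i.val with h | h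
  · left
    rw [h, add_zero] at hi
    nth_rewrite 1 [hi]
    push_cast
    ring
  · right
    rw [h] at hi
    nth_rewrite 1 [hi]
    push_cast
    ring

theorem r_eq_pow (hq : m = 4 * q) (hq0 : 0 < q) (i : ZMod m) :
    (r i : DihedralGroup m) = (r 1) ^ i.val := by
  haveI : NeZero m := ⟨by omega⟩
  rw [r_one_pow, ZMod.natCast_zmod_val]

end dih

section general

variable {X : Type*} [Group X]

theorem isKleinFour_of_card_of_sq (hcard : Nat.card X = 4) (hsq : ∀ x : X, x * x = 1) :
    IsKleinFour X := by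
  refine ⟨hcard, ?_⟩
  have hdvd : Monoid.exponent X ∣ 2 :=
    Monoid.exponent_dvd_of_forall_pow_eq_one fun g => by rw [pow_two]; exact hsq g
  rcases (Nat.dvd_prime Nat.prime_two).mp hdvd with h | h
  · exfalso
    rw [Monoid.exp_eq_one_iff] at h
    have : Nat.card X = 1 := Nat.card_unique
    omega
  · exact h

theorem mem_normalizer_of_conj_mem [Finite X] (H : Subgroup X) (g : X)
    (h : ∀ y ∈ H, g * y * g⁻¹ ∈ H) : g ∈ Subgroup.normalizer (H : Set X) := by
  rw [Subgroup.mem_normalizer_iff]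
  intro y
  refine ⟨h y, fun hy => ?_⟩
  -- conjugation by g is an injective self-map of the finite set H, hence surjective
  let f : H → H := fun u => ⟨g * u * g⁻¹, h u u.2⟩
  have hinj : Function.Injective f := by
    intro u v huv
    have := congrArg Subtype.val huv
    simp only [f] at this
    exact Subtype.ext (mul_left_cancel (mul_right_cancel this))
  obtain ⟨u, hu⟩ := (Finite.injective_iff_surjective.mp hinj) ⟨g * y * g⁻¹, hy⟩
  have h2 : g * (u : X) * g⁻¹ = g * y * g⁻¹ := congrArg Subtype.val hu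
  have h3 : (u : X) = y := mul_left_cancel (mul_right_cancel h2)
  rw [← h3]
  exact u.2

theorem exists_conj_mem_sylow [Finite X] {p : ℕ} [Fact p.Prime] (S : Sylow p X)
    (P : Subgroup X) (hP : IsPGroup p P) :
    ∃ g : X, ∀ y ∈ P, g⁻¹ * y * g ∈ (S : Subgroup X) := by
  obtain ⟨Q, hQ⟩ := hP.exists_le_sylow
  obtain ⟨g, hg⟩ := MulAction.exists_smul_eq X S Q
  refine ⟨g, fun y hy => ?_⟩
  have h1 : y ∈ ((g • S : Sylow p X) : Subgroup X) := by rw [hg]; exact hQ hy
  rw [Sylow.coe_subgroup_smul, Subgroup.mem_pointwise_smul_iff_inv_smul_mem] at h1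
  simpa [MulAut.smul_def] using h1

end general

end Cfsg.Agent.Helper20.Dih
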