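import Mathlib
import Cfsg.Agent.Lib.Helper20.Dih3

set_option autoImplicit false

namespace Cfsg.Agent.Helper20.Dih

open DihedralGroup

section general

variable {X : Type*} [Group X]

theorem exists_pair_of_isKleinFour (V : Subgroup X) (hV : IsKleinFour V) :
    ∃ a b : X, a ∈ V ∧ b ∈ V ∧ a ≠ 1 ∧ b ≠ 1 ∧ a ≠ b ∧ a * a = 1 ∧ b * b = 1 ∧ a * b = b * a ∧
      ∀ y ∈ V, y = 1 ∨ y = a ∨ y = b ∨ y = a * b := by
  classical
  haveI : Finite V := Nat.finite_of_card_ne_zero (by rw [hV.card_four]; norm_num)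
  letI : Fintype V := Fintype.ofFinite V
  haveI : Nontrivial V := Finite.one_lt_card_iff_nontrivial.mp (by rw [hV.card_four]; norm_num)
  obtain ⟨a, ha⟩ := exists_ne (1 : V)
  have hb : ∃ b : V, b ≠ 1 ∧ b ≠ a := by
    by_contra hcon
    push Not at hcon
    have hsub : (Set.univ : Set V) ⊆ {1, a} := fun b _ => by
      by_cases h : b = 1
      · left; exact h
      · right; exact hcon b h
    have h1 := Set.ncard_le_ncard hsub (Set.toFinite _)
    rw [Set.ncard_univ, hV.card_four] at h1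
    have h2 := Set.ncard_insert_le (1 : V) {a}
    rw [Set.ncard_singleton] at h2
    omega
  obtain ⟨b, hb1, hba⟩ := hb
  have huniv := IsKleinFour.eq_finset_univ ha hb1 (Ne.symm hba)
  refine ⟨a, b, a.2, b.2, fun h => ha (Subtype.ext h), fun h => hb1 (Subtype.ext h),
    fun h => hba (Subtype.ext h.symm), ?_, ?_, ?_, ?_⟩
  · exact congrArg Subtype.val (IsKleinFour.mul_self a)
  · exact congrArg Subtype.val (IsKleinFour.mul_self b)
  · exact congrArg Subtype.val (mul_comm_of_exponent_two hV.exponent_two a b)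
  · intro y hy
    have hmem : (⟨y, hy⟩ : V) ∈ (Finset.univ : Finset V) := Finset.mem_univ _
    rw [← huniv] at hmem
    simp only [Finset.mem_insert, Finset.mem_singleton] at hmem
    rcases hmem with h | h | h | h
    · right; right; right; exact congrArg Subtype.val h
    · right; left; exact congrArg Subtype.val h
    · right; right; left; exact congrArg Subtype.val h
    · left; exact congrArg Subtype.val h

end general

section X

variable {X : Type*} [Group X] [Finite X] {m : ℕ} (q : ℕ) (hq : m = 4 * q) (hq0 : 0 < q)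
  (S : Sylow 2 X) (φ : DihedralGroup m →* X) (hφ : Function.Injective φ)
  (hrange : φ.range = (S : Subgroup X))

/-- the four-groups of `X` coming from the dihedral Sylow subgroup -/
def UX (i : ZMod m) : Subgroup X := (Uk q hq i).map φ

include hq0 hφ in
theorem card_UX (i : ZMod m) : Nat.card (UX q hq φ i) = 4 := by
  unfold UX
  rw [Subgroup.card_map_of_injective hφ, card_Uk q hq hq0]

include hq0 hφ in
theorem isKleinFour_UX (i : ZMod m) : IsKleinFour (UX q hq φ i) := by
  apply isKleinFour_of_card_of_sq (card_UX q hq hq0 φ hφ i)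
  rintro ⟨x, hx⟩
  obtain ⟨u, hu, rfl⟩ := hx
  apply Subtype.ext
  show φ u * φ u = 1
  rw [← map_mul, mul_self_of_mem_Uk q hq i u hu, map_one]

omit [Finite X] in
theorem card_map_conj (H : Subgroup X) (x : X) :
    Nat.card (H.map (MulAut.conj x).toMonoidHom) = Nat.card H :=
  Subgroup.card_map_of_injective (MulAut.conj x).injective

include hq0 hφ in
theorem exists_conj_UX (i : ZMod m) : ∃ t : X,
    (UX q hq φ i).map (MulAut.conj t).toMonoidHom = UX q hq φ 0 ∨
    (UX q hq φ i).map (MulAut.conj t).toMonoidHom = UX q hq φ 1 := by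
  obtain ⟨j, hj⟩ := exists_half q hq hq0 i
  refine ⟨φ (r j), ?_⟩
  have hle : (UX q hq φ i).map (MulAut.conj (φ (r j))).toMonoidHom ≤ UX q hq φ (i - (j + j)) := by
    rintro y ⟨x, ⟨u, hu, rfl⟩, rfl⟩
    refine ⟨r j * u * (r j)⁻¹, conj_mem_Uk q hq i j u hu, ?_⟩
    rw [map_mul, map_mul, map_inv]
    rfl
  have heq := Subgroup.eq_of_le_of_card_ge hle (by
    rw [card_map_conj, card_UX q hq hq0 φ hφ, card_UX q hq hq0 φ hφ])
  rcases hj with h | h
  · left; rw [heq, h]
  · right; rw [heq, h]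

include hq0 hφ hrange in
theorem exists_conj_of_isKleinFour (V : Subgroup X) (hV : IsKleinFour V) :
    ∃ (g : X) (i : ZMod m), V.map (MulAut.conj g).toMonoidHom = UX q hq φ i := by
  haveI : Fact (Nat.Prime 2) := ⟨Nat.prime_two⟩
  have hVp : IsPGroup 2 V := IsPGroup.of_card (n := 2) (by rw [hV.card_four]; norm_num)
  obtain ⟨g, hg⟩ := exists_conj_mem_sylow S V hVp
  obtain ⟨a, b, haV, hbV, ha1, hb1, hab, ha2, hb2, hcomm, hall⟩ := exists_pair_of_isKleinFour V hV
  have hpre : ∀ y ∈ V, ∃ d : DihedralGroup m, φ d = g⁻¹ * y * g := fun y hy => by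
    have := hg y hy
    rw [← hrange] at this
    exact this
  obtain ⟨a', ha'⟩ := hpre a haV
  obtain ⟨b', hb'⟩ := hpre b hbV
  have hcancel : ∀ u v : X, g⁻¹ * u * g = g⁻¹ * v * g → u = v := fun u v h =>
    mul_left_cancel (mul_right_cancel h)
  have h1 : a' ≠ 1 := by
    rintro rfl
    rw [map_one] at ha'
    apply ha1
    apply hcancel
    rw [← ha']; group
  have h2 : b' ≠ 1 := by
    rintro rfl
    rw [map_one] at hb'
    apply hb1
    apply hcancel
    rw [← hb']; group
  have h3 : a' ≠ b' := by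
    rintro rfl
    exact hab (hcancel _ _ (ha'.symm.trans hb'))
  have h4 : a' * a' = 1 := by
    apply hφ
    rw [map_mul, map_one, ha']
    calc g⁻¹ * a * g * (g⁻¹ * a * g) = g⁻¹ * (a * a) * g := by group
      _ = 1 := by rw [ha2]; group
  have h5 : b' * b' = 1 := by
    apply hφ
    rw [map_mul, map_one, hb']
    calc g⁻¹ * b * g * (g⁻¹ * b * g) = g⁻¹ * (b * b) * g := by group
      _ = 1 := by rw [hb2]; group
  have h6 : a' * b' = b' * a' := by
    apply hφ
    rw [map_mul, map_mul, ha', hb']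
    calc g⁻¹ * a * g * (g⁻¹ * b * g) = g⁻¹ * (a * b) * g := by group
      _ = g⁻¹ * (b * a) * g := by rw [hcomm]
      _ = g⁻¹ * b * g * (g⁻¹ * a * g) := by group
  obtain ⟨i, hai, hbi⟩ := exists_Uk_of_pair q hq hq0 a' b' h1 h2 h3 h4 h5 h6
  refine ⟨g⁻¹, i, ?_⟩
  have hle : V.map (MulAut.conj g⁻¹).toMonoidHom ≤ UX q hq φ i := by
    rintro y ⟨v, hv, rfl⟩
    show g⁻¹ * v * g⁻¹⁻¹ ∈ UX q hq φ i
    rw [inv_inv]
    rcases hall v hv with rfl | rfl | rfl | rfl
    · refine ⟨1, one_mem _, ?_⟩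
      rw [map_one]; group
    · exact ⟨a', hai, ha'⟩
    · exact ⟨b', hbi, hb'⟩
    · refine ⟨a' * b', mul_mem hai hbi, ?_⟩
      rw [map_mul, ha', hb']; group
  exact Subgroup.eq_of_le_of_card_ge hle (by
    rw [card_map_conj, card_UX q hq hq0 φ hφ, hV.card_four])

end X

end Cfsg.Agent.Helper20.Dih
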