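import Mathlib
import Cfsg.Agent.Lib.Helper20.Dih4

set_option autoImplicit false

namespace Cfsg.Agent.Helper20.Dih

open DihedralGroup

section general

variable {X : Type*} [Group X] [Finite X]

theorem exists_sylow_two_mem (g : X) (k : ℕ) (hg : g ^ 2 ^ k = 1) :
    ∃ P : Sylow 2 X, g ∈ (P : Subgroup X) := by
  have hP : IsPGroup 2 (Subgroup.zpowers g) := by
    rintro ⟨h, hh⟩
    obtain ⟨n, rfl⟩ := Subgroup.mem_zpowers_iff.mp hh
    refine ⟨k, Subtype.ext ?_⟩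
    show (g ^ n) ^ 2 ^ k = 1
    rw [← zpow_natCast, ← zpow_mul, mul_comm, zpow_mul, zpow_natCast, hg, one_zpow]
  obtain ⟨P, hP⟩ := hP.exists_le_sylow
  exact ⟨P, hP (Subgroup.mem_zpowers g)⟩

end general

section X

variable {X : Type*} [Group X] [Finite X] {m : ℕ} (q : ℕ) (hq : m = 4 * q) (hq0 : 0 < q)
  (S : Sylow 2 X) (φ : DihedralGroup m →* X) (hφ : Function.Injective φ)
  (hrange : φ.range = (S : Subgroup X))

/-- the element of order four -/
def cX : X := φ (r (qq m q))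

/-- the reflection -/
def sX : X := φ (sr 0)

include hq in
omit [Finite X] in
theorem cX_sq_sq : (cX q φ * cX q φ) * (cX q φ * cX q φ) = 1 := by
  unfold cX
  rw [← map_mul, ← map_mul, r_mul_r, r_mul_r, qq_add_qq, hh_add_hh q hq, r_zero, map_one]

include hq hq0 hφ in
omit [Finite X] in
theorem cX_sq_ne : cX q φ * cX q φ ≠ 1 := by
  unfold cX
  rw [← map_mul, r_mul_r, qq_add_qq]
  intro h
  rw [← map_one φ] at h
  have := hφ h
  rw [one_def] at this
  exact hh_ne_zero q hq hq0 (r.inj this)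

include hφ in
theorem cX_mem_normalizer (i : ZMod m) :
    cX q φ ∈ Subgroup.normalizer (UX q hq φ i : Set X) := by
  apply mem_normalizer_of_conj_mem
  rintro y ⟨u, hu, rfl⟩
  refine ⟨r (qq m q) * u * (r (qq m q))⁻¹, rq_conj_mem_Uk q hq i u hu, ?_⟩
  rw [map_mul, map_mul, map_inv]
  rfl

omit [Finite X] in
theorem sX_mem : sX φ ∈ UX q hq φ 0 :=
  ⟨sr 0, Or.inr (Or.inr (Or.inl rfl)), rfl⟩

omit [Finite X] in
theorem sX_conj_cX : sX φ * cX q φ * (sX φ)⁻¹ = (cX q φ)⁻¹ := by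
  unfold sX cX
  rw [← map_inv, ← map_inv, ← map_mul, ← map_mul]
  congr 1
  simp

include hq hq0 hφ in
omit [Finite X] in
/-- preimages of conjugates of elements of order four are `r (±m/4)`. -/
theorem preimage_order_four (w g : X) (d : DihedralGroup m) (hd : φ d = g⁻¹ * w * g)
    (h2 : w * w ≠ 1) (h4 : (w * w) * (w * w) = 1) : d = r (qq m q) ∨ d = r (- qq m q) := by
  apply eq_r_qq_of_order_four q hq hq0
  · intro h
    apply h2
    have := congrArg φ h
    rw [map_mul, map_one, hd] at this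
    have h' : g⁻¹ * (w * w) * g = 1 := by rw [← this]; group
    calc w * w = g * (g⁻¹ * (w * w) * g) * g⁻¹ := by group
      _ = 1 := by rw [h']; group
  · apply hφ
    rw [map_mul, map_mul, map_one, hd]
    calc g⁻¹ * w * g * (g⁻¹ * w * g) * (g⁻¹ * w * g * (g⁻¹ * w * g))
        = g⁻¹ * ((w * w) * (w * w)) * g := by group
      _ = 1 := by rw [h4]; group

include hq hq0 hφ hrange in
theorem exists_good_conj (x : X)
    (hx : (UX q hq φ 0).map (MulAut.conj x).toMonoidHom = UX q hq φ 1) :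
    ∃ x' : X, x' * sX φ * x'⁻¹ ∈ UX q hq φ 1 ∧
      (x' * cX q φ * x'⁻¹ = cX q φ ∨ x' * cX q φ * x'⁻¹ = (cX q φ)⁻¹) := by
  haveI : Fact (Nat.Prime 2) := ⟨Nat.prime_two⟩
  set c := cX q φ with hc
  set N := Subgroup.normalizer (UX q hq φ 1 : Set X) with hN
  have hcN : c ∈ N := cX_mem_normalizer q hq φ hφ 1
  have hc0 : c ∈ Subgroup.normalizer (UX q hq φ 0 : Set X) := cX_mem_normalizer q hq φ hφ 0
  have hc'N : x * c * x⁻¹ ∈ N := by
    apply mem_normalizer_of_conj_mem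
    intro y hy
    rw [← hx] at hy ⊢
    obtain ⟨u, hu, rfl⟩ := hy
    refine ⟨c * u * c⁻¹, (Subgroup.mem_normalizer_iff.mp hc0 u).mp hu, ?_⟩
    show x * (c * u * c⁻¹) * x⁻¹ = x * c * x⁻¹ * (x * u * x⁻¹) * (x * c * x⁻¹)⁻¹
    group
  have hc4 : c ^ 2 ^ 2 = 1 := by
    have := cX_sq_sq q hq φ
    rw [← hc] at this
    rw [show (2 : ℕ) ^ 2 = 2 + 2 from rfl, pow_add, pow_two]
    exact this
  have hpow : ∀ (w : X) (hw : w ∈ N), w ^ 2 ^ 2 = 1 → (⟨w, hw⟩ : N) ^ 2 ^ 2 = 1 := fun w hw h =>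
    Subtype.ext (by rw [Subgroup.coe_pow]; exact h)
  obtain ⟨P, hP⟩ := exists_sylow_two_mem (⟨c, hcN⟩ : N) 2 (hpow c hcN hc4)
  have hc'4 : (x * c * x⁻¹) ^ 2 ^ 2 = 1 := by
    rw [conj_pow, hc4]; group
  obtain ⟨P', hP'⟩ := exists_sylow_two_mem (⟨x * c * x⁻¹, hc'N⟩ : N) 2 (hpow _ hc'N hc'4)
  obtain ⟨y, hy⟩ := MulAction.exists_smul_eq N P' P
  have hmemP : y * ⟨x * c * x⁻¹, hc'N⟩ * y⁻¹ ∈ (P : Subgroup N) := by
    rw [← hy, Sylow.coe_subgroup_smul]
    exact Subgroup.smul_mem_pointwise_smul _ (MulAut.conj y) _ hP'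
  refine ⟨(y : X) * x, ?_, ?_⟩
  · have h1 : x * sX φ * x⁻¹ ∈ UX q hq φ 1 := by
      rw [← hx]
      exact ⟨sX φ, sX_mem q hq φ, rfl⟩
    have h2 := (Subgroup.mem_normalizer_iff.mp y.2 _).mp h1
    have : (y : X) * x * sX φ * ((y : X) * x)⁻¹ = (y : X) * (x * sX φ * x⁻¹) * (y : X)⁻¹ := by group
    rw [this]
    exact h2
  · -- both `c` and the new conjugate lie in a common 2-subgroup
    set PX : Subgroup X := (P : Subgroup N).map N.subtype with hPX
    have hPXp : IsPGroup 2 PX := P.2.map _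
    have hcPX : c ∈ PX := ⟨⟨c, hcN⟩, hP, rfl⟩
    set c2 : X := (y : X) * x * c * ((y : X) * x)⁻¹ with hc2
    have hc2PX : c2 ∈ PX := by
      refine ⟨_, hmemP, ?_⟩
      show (y : X) * (x * c * x⁻¹) * (y : X)⁻¹ = c2
      rw [hc2]; group
    obtain ⟨g, hg⟩ := exists_conj_mem_sylow S PX hPXp
    have h1 := hg c hcPX
    have h2 := hg c2 hc2PX
    rw [← hrange] at h1 h2
    obtain ⟨d1, hd1⟩ := h1
    obtain ⟨d2, hd2⟩ := h2
    have hc2sq : c2 * c2 = (y : X) * x * (c * c) * ((y : X) * x)⁻¹ := by rw [hc2]; group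
    have e1 := preimage_order_four q hq hq0 φ hφ c g d1 hd1 (cX_sq_ne q hq hq0 φ hφ)
      (cX_sq_sq q hq φ)
    have e2 := preimage_order_four q hq hq0 φ hφ c2 g d2 hd2 (by
        rw [hc2sq]
        intro h
        apply cX_sq_ne q hq hq0 φ hφ
        rw [← hc]
        calc c * c = ((y : X) * x)⁻¹ * ((y : X) * x * (c * c) * ((y : X) * x)⁻¹) * ((y : X) * x) := by
              group
          _ = 1 := by rw [h]; group)
      (by
        rw [hc2sq]
        calc (y : X) * x * (c * c) * ((y : X) * x)⁻¹ * ((y : X) * x * (c * c) * ((y : X) * x)⁻¹)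
            = (y : X) * x * ((c * c) * (c * c)) * ((y : X) * x)⁻¹ := by group
          _ = 1 := by rw [hc, cX_sq_sq q hq φ]; group)
    have hcancel : ∀ u v : X, g⁻¹ * u * g = g⁻¹ * v * g → u = v := fun u v h =>
      mul_left_cancel (mul_right_cancel h)
    have hinv : g⁻¹ * c⁻¹ * g = (g⁻¹ * c * g)⁻¹ := by group
    have hd1inv : φ d1⁻¹ = g⁻¹ * c⁻¹ * g := by rw [map_inv, hd1, hinv]
    rcases e1 with rfl | rfl <;> rcases e2 with rfl | rfl
    · left; exact hcancel _ _ (hd2.symm.trans hd1)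
    · right
      apply hcancel
      rw [← hd1inv, ← hd2, inv_r]
    · right
      apply hcancel
      rw [← hd1inv, ← hd2, inv_r, neg_neg]
    · left; exact hcancel _ _ (hd2.symm.trans hd1)

end X

end Cfsg.Agent.Helper20.Dih
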