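import Mathlib
import Cfsg.Agent.Lib.Helper20.Dih5

set_option autoImplicit false

namespace Cfsg.Agent.Helper20.Dih

open DihedralGroup

section transfer

variable {C : Type*} [Group C] [Finite C]

/-- The transfer into a cyclic Sylow `2`-subgroup (same statement as in helper16's library). -/
theorem exists_transfer_cyclic (P : Sylow 2 C) (hP : IsCyclic P) (h2 : 2 ∣ Nat.card C) :
    ∃ V : C →* ↥(P : Subgroup C),
      (∀ g (hg : g ∈ (P : Subgroup C)), V g = ⟨g, hg⟩ ^ (P : Subgroup C).index) ∧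
      (∀ x : C, Odd (orderOf x) → V x = 1) ∧
      (∀ x : C, ∃ k α : C, Odd (orderOf k) ∧ α ∈ (P : Subgroup C) ∧ x = k * α) := by
  have hF : Fact (Nat.Prime 2) := ⟨Nat.prime_two⟩
  have hp : (Nat.card C).minFac = 2 := (Nat.minFac_eq_two_iff _).2 h2
  have hNC := hP.normalizer_le_centralizer hp
  refine ⟨MonoidHom.transferSylow P hNC, ?_, ?_, ?_⟩
  · intro g hg
    rw [MonoidHom.transferSylow_eq_pow P hNC g hg]
    rfl
  · intro x hx
    have h1 : Odd (orderOf (MonoidHom.transferSylow P hNC x)) :=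
      hx.of_dvd_nat (orderOf_map_dvd _ x)
    obtain ⟨j, hj⟩ := (IsPGroup.iff_orderOf.1 P.2) (MonoidHom.transferSylow P hNC x)
    rcases Nat.eq_zero_or_pos j with h0 | h0
    · rw [h0, pow_zero, orderOf_eq_one_iff] at hj
      exact hj
    · exfalso
      rw [hj] at h1
      have : Even (2 ^ j) := (Nat.even_pow.mpr ⟨even_two, h0.ne'⟩)
      exact (Nat.not_odd_iff_even.mpr this) h1
  · intro x
    have hc := hP.isComplement' hp
    obtain ⟨y, hy, -⟩ := (hc : Subgroup.IsComplement _ _).existsUnique x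
    refine ⟨y.1.1, y.2.1, ?_, y.2.2, hy.symm⟩
    have h1 : ¬ 2 ∣ Nat.card (MonoidHom.transferSylow P hNC).ker :=
      MonoidHom.not_dvd_card_ker_transferSylow P hNC
    have h3 : orderOf (y.1.1) ∣ Nat.card (MonoidHom.transferSylow P hNC).ker :=
      Subgroup.orderOf_dvd_natCard _ y.1.2
    rw [← Nat.not_even_iff_odd, even_iff_two_dvd]
    exact fun h => h1 (h.trans h3)

end transfer

section X

variable {X : Type*} [Group X] [Finite X] {m : ℕ} (q : ℕ) (hq : m = 4 * q) (hq0 : 0 < q)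
  (S : Sylow 2 X) (φ : DihedralGroup m →* X) (hφ : Function.Injective φ)
  (hrange : φ.range = (S : Subgroup X))

/-- the rotation generator -/
def rX : X := φ (r 1)

include hq hq0 in
omit [Finite X] in
theorem phi_r_eq (i : ZMod m) : φ (r i) = rX φ ^ i.val := by
  unfold rX
  rw [← map_pow, ← r_eq_pow q hq hq0]

omit [Finite X] in
theorem rX_zpow (k : ℤ) : rX φ ^ k = φ (r (k : ZMod m)) := by
  unfold rX
  rw [← map_zpow, r_one_zpow]

omit [Finite X] in
theorem cX_eq_pow : cX q φ = rX φ ^ q := by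
  unfold cX rX qq
  rw [← map_pow, r_one_pow]

omit [Finite X] in
theorem mem_centralizer_single (c g : X) :
    g ∈ Subgroup.centralizer ({c} : Set X) ↔ c * g = g * c := by
  simp [Subgroup.mem_centralizer_iff]

omit [Finite X] in
theorem rX_mem_centralizer : rX φ ∈ Subgroup.centralizer ({cX q φ} : Set X) := by
  rw [mem_centralizer_single, cX_eq_pow]
  exact ((Commute.refl (rX φ)).pow_left q).eq

include hq hq0 hφ hrange in
/-- a cyclic Sylow `2`-subgroup of the centralizer of `c`, identified with the rotations. -/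
theorem exists_cyclic_sylow :
    ∃ P : Sylow 2 (Subgroup.centralizer ({cX q φ} : Set X)), IsCyclic P ∧
      ∀ w : Subgroup.centralizer ({cX q φ} : Set X),
        w ∈ (P : Subgroup _) ↔ (w : X) ∈ Subgroup.zpowers (rX φ) := by
  haveI : Fact (Nat.Prime 2) := ⟨Nat.prime_two⟩
  set c := cX q φ with hc
  set Cc := Subgroup.centralizer ({c} : Set X) with hCc
  set ρ := rX φ with hρ
  have hρC : ρ ∈ Cc := rX_mem_centralizer q φ
  have hρS : ρ ∈ (S : Subgroup X) := by
    rw [← hrange]; exact ⟨r 1, rfl⟩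
  obtain ⟨k, hk⟩ := S.2 ⟨ρ, hρS⟩
  have hk' : ρ ^ 2 ^ k = 1 := by
    have := congrArg Subtype.val hk
    rwa [Subgroup.coe_pow] at this
  obtain ⟨P, hP⟩ := exists_sylow_two_mem (⟨ρ, hρC⟩ : Cc) k
    (Subtype.ext (by rw [Subgroup.coe_pow]; exact hk'))
  set PX : Subgroup X := (P : Subgroup Cc).map Cc.subtype with hPX
  have hPXp : IsPGroup 2 PX := P.2.map _
  have hρPX : ρ ∈ PX := ⟨⟨ρ, hρC⟩, hP, rfl⟩
  have hcPX : c ∈ PX := by
    rw [hc, cX_eq_pow]
    exact pow_mem hρPX q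
  obtain ⟨g, hg⟩ := exists_conj_mem_sylow S PX hPXp
  have h1 := hg c hcPX
  rw [← hrange] at h1
  obtain ⟨d1, hd1⟩ := h1
  have e1 := preimage_order_four q hq hq0 φ hφ c g d1 hd1 (cX_sq_ne q hq hq0 φ hφ)
    (cX_sq_sq q hq φ)
  have hle : PX.map (MulAut.conj g⁻¹).toMonoidHom ≤ Subgroup.zpowers ρ := by
    rintro _ ⟨w, hw, rfl⟩
    show g⁻¹ * w * g⁻¹⁻¹ ∈ Subgroup.zpowers ρ
    rw [inv_inv]
    have h2 := hg w hw
    rw [← hrange] at h2
    obtain ⟨d, hd⟩ := h2
    have hwc : c * w = w * c := by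
      obtain ⟨w', -, rfl⟩ := hw
      exact (mem_centralizer_single c _).mp w'.2
    have hcomm : d * d1 = d1 * d := by
      apply hφ
      rw [map_mul, map_mul, hd, hd1]
      calc g⁻¹ * w * g * (g⁻¹ * c * g) = g⁻¹ * (w * c) * g := by group
        _ = g⁻¹ * (c * w) * g := by rw [hwc]
        _ = g⁻¹ * c * g * (g⁻¹ * w * g) := by group
    obtain ⟨i, rfl⟩ := exists_r_of_comm q hq hq0 d d1 e1 hcomm
    rw [← hd, phi_r_eq q hq hq0 φ i]
    exact Subgroup.npow_mem_zpowers _ _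
  have hcard : Nat.card PX ≤ Nat.card (Subgroup.zpowers ρ) := by
    rw [← card_map_conj PX g⁻¹]
    exact Subgroup.card_le_of_le hle
  have heq : Subgroup.zpowers ρ = PX :=
    Subgroup.eq_of_le_of_card_ge (Subgroup.zpowers_le.mpr hρPX) hcard
  have hiff : ∀ w : Cc, w ∈ (P : Subgroup Cc) ↔ (w : X) ∈ Subgroup.zpowers ρ := by
    intro w
    rw [heq, hPX]
    exact (Subgroup.mem_map_iff_mem Cc.subtype_injective).symm
  refine ⟨P, ?_, hiff⟩
  refine ⟨⟨⟨⟨ρ, hρC⟩, hP⟩, fun y => ?_⟩⟩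
  obtain ⟨n, hn⟩ := Subgroup.mem_zpowers_iff.mp ((hiff y.1).mp y.2)
  refine ⟨n, ?_⟩
  apply Subtype.ext
  apply Subtype.ext
  simp only [Subgroup.coe_zpow]
  exact hn

end X

end Cfsg.Agent.Helper20.Dih
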