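import Mathlib
import Cfsg.Agent.Lib.Helper20.Dih6

set_option autoImplicit false

namespace Cfsg.Agent.Helper20.Dih

open DihedralGroup

section X

variable {X : Type*} [Group X] [Finite X] {m : ℕ} (q : ℕ) (hq : m = 4 * q) (hq0 : 0 < q)
  (S : Sylow 2 X) (φ : DihedralGroup m →* X) (hφ : Function.Injective φ)
  (hrange : φ.range = (S : Subgroup X))

include hq hq0 hφ in
theorem no_conj_core (c : X) (hc : c = cX q φ) (σ : X) (hσ : σ = sX φ) (ρ : X) (hρ : ρ = rX φ)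
    (Cc : Subgroup X) (hCc : Cc = Subgroup.centralizer ({c} : Set X)) (P : Sylow 2 Cc)
    (hPcyc : IsCyclic P)
    (hiff : ∀ w : Cc, w ∈ (P : Subgroup Cc) ↔ (w : X) ∈ Subgroup.zpowers ρ)
    (x2 : X) (hcomm : x2 * c * x2⁻¹ = c)
    (hs : x2 * σ * x2⁻¹ ∈ UX q hq φ 1) : False := by
  haveI : Fact (Nat.Prime 2) := ⟨Nat.prime_two⟩
  have hmemC : ∀ g : X, g ∈ Cc ↔ c * g = g * c := fun g => by
    rw [hCc]; exact mem_centralizer_single c g
  have hcc : c * c = φ (r (hh m q)) := by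
    rw [hc]; unfold cX
    rw [← map_mul, r_mul_r, qq_add_qq]
  have hcsqne : c * c ≠ 1 := by rw [hc]; exact cX_sq_ne q hq hq0 φ hφ
  have hcsqsq : (c * c) * (c * c) = 1 := by rw [hc]; exact cX_sq_sq q hq φ
  -- (a) the conjugate of σ is a reflection with odd index
  obtain ⟨j', hj', hσ'⟩ : ∃ j' : ZMod m, (j' = 1 ∨ j' = 1 + hh m q) ∧
      x2 * σ * x2⁻¹ = φ (sr j') := by
    obtain ⟨u, hu, hu'⟩ := hs
    rcases hu with rfl | rfl | rfl | rfl
    · exfalso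
      rw [r_zero, map_one] at hu'
      have h1 : σ = 1 := by
        calc σ = x2⁻¹ * (x2 * σ * x2⁻¹) * x2 := by group
          _ = 1 := by rw [← hu']; group
      rw [hσ] at h1
      unfold sX at h1
      rw [← map_one φ] at h1
      have := hφ h1
      rw [one_def] at this
      cases this
    · exfalso
      have h1 : x2 * (c * c) * x2⁻¹ = c * c := by
        calc x2 * (c * c) * x2⁻¹ = (x2 * c * x2⁻¹) * (x2 * c * x2⁻¹) := by group
          _ = c * c := by rw [hcomm]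
      have h2 : σ = c * c := by
        calc σ = x2⁻¹ * (x2 * σ * x2⁻¹) * x2 := by group
          _ = x2⁻¹ * (x2 * (c * c) * x2⁻¹) * x2 := by rw [← hu', h1, hcc]
          _ = c * c := by group
      rw [hcc, hσ] at h2
      unfold sX at h2
      have := hφ h2
      cases this
    · exact ⟨1, Or.inl rfl, hu'.symm⟩
    · exact ⟨1 + hh m q, Or.inr rfl, hu'.symm⟩
  -- (b) the centralizer of `c`
  have hcC : c ∈ Cc := (hmemC c).mpr rfl
  have h2card : 2 ∣ Nat.card Cc := by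
    have h4 : orderOf (⟨c, hcC⟩ : Cc) = 2 ^ (1 + 1) := by
      apply orderOf_eq_prime_pow
      · intro h
        have := congrArg Subtype.val h
        rw [Subgroup.coe_pow, pow_one, pow_two] at this
        exact hcsqne this
      · apply Subtype.ext
        rw [Subgroup.coe_pow]
        show c ^ 2 ^ 2 = 1
        rw [show (2 : ℕ) ^ 2 = 2 + 2 from rfl, pow_add, pow_two]
        exact hcsqsq
    have := orderOf_dvd_natCard (⟨c, hcC⟩ : Cc)
    rw [h4] at this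
    exact Dvd.dvd.trans ⟨2, rfl⟩ this
  obtain ⟨V, hV1, hV2, hV3⟩ := exists_transfer_cyclic P hPcyc h2card
  -- (d) decomposition of x2
  have hx2C : x2 ∈ Cc := by
    rw [hmemC]
    calc c * x2 = (x2 * c * x2⁻¹) * x2 := by rw [hcomm]
      _ = x2 * c := by group
  obtain ⟨k, α, hkodd, hαP, hxkα⟩ := hV3 ⟨x2, hx2C⟩
  have hx2 : x2 = (k : X) * (α : X) := congrArg Subtype.val hxkα
  obtain ⟨n, hn⟩ := Subgroup.mem_zpowers_iff.mp ((hiff α).mp hαP)
  rw [hρ, rX_zpow] at hn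
  set e : ZMod m := (n : ZMod m) with he
  -- (e) conjugation by σ on Cc
  have hσc : σ * c * σ⁻¹ = c⁻¹ := by rw [hσ, hc]; exact sX_conj_cX q φ
  have hσc' : σ * c⁻¹ * σ⁻¹ = c := by
    calc σ * c⁻¹ * σ⁻¹ = (σ * c * σ⁻¹)⁻¹ := by group
      _ = c := by rw [hσc, inv_inv]
  have conjC : ∀ w : Cc, σ * (w : X) * σ⁻¹ ∈ Cc := by
    intro w
    rw [hmemC]
    have hw : c * (w : X) = (w : X) * c := (hmemC _).mp w.2
    have hw' : c⁻¹ * (w : X) = (w : X) * c⁻¹ :=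
      (Commute.inv_left (show Commute c (w : X) from hw)).eq
    calc c * (σ * (w : X) * σ⁻¹) = (σ * c⁻¹ * σ⁻¹) * (σ * (w : X) * σ⁻¹) := by rw [hσc']
      _ = σ * (c⁻¹ * (w : X)) * σ⁻¹ := by group
      _ = σ * ((w : X) * c⁻¹) * σ⁻¹ := by rw [hw']
      _ = σ * (w : X) * σ⁻¹ * (σ * c⁻¹ * σ⁻¹) := by group
      _ = σ * (w : X) * σ⁻¹ * c := by rw [hσc']
  have hα' : σ * (α : X) * σ⁻¹ = (α : X)⁻¹ := by
    rw [← hn, hσ]
    unfold sX
    rw [← map_inv, ← map_inv, ← map_mul, ← map_mul]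
    congr 1
    simp
  set yC : Cc := ⟨σ * x2 * σ⁻¹, conjC ⟨x2, hx2C⟩⟩ with hyC
  set k' : Cc := ⟨σ * (k : X) * σ⁻¹, conjC k⟩ with hk'
  have hy : yC = k' * α⁻¹ := by
    apply Subtype.ext
    show σ * x2 * σ⁻¹ = σ * (k : X) * σ⁻¹ * (α : X)⁻¹
    rw [← hα', hx2]; group
  have hk'odd : Odd (orderOf k') := by
    rw [← Subgroup.orderOf_coe]
    have : orderOf (σ * (k : X) * σ⁻¹) = orderOf (k : X) :=
      orderOf_injective (MulAut.conj σ).toMonoidHom (MulAut.conj σ).injective (k : X)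
    show Odd (orderOf (σ * (k : X) * σ⁻¹))
    rw [this, Subgroup.orderOf_coe]
    exact hkodd
  have hVy : V yC = (V α)⁻¹ := by
    rw [hy, map_mul, hV2 k' hk'odd, one_mul, map_inv]
  have hVx : V ⟨x2, hx2C⟩ = V α := by
    rw [hxkα, map_mul, hV2 k hkodd, one_mul]
  -- the rotation ρ1 = σ σ'
  have hσinv : σ⁻¹ = σ := by
    rw [hσ]; unfold sX
    rw [← map_inv, inv_sr]
  have hρ1 : σ * x2 * σ⁻¹ * x2⁻¹ = φ (r j') := by
    calc σ * x2 * σ⁻¹ * x2⁻¹ = σ * (x2 * σ⁻¹⁻¹ * x2⁻¹)⁻¹ := by group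
      _ = σ * (x2 * σ * x2⁻¹)⁻¹ := by rw [hσinv, hσinv]
      _ = φ (sr 0) * (φ (sr j'))⁻¹ := by rw [hσ', hσ]; rfl
      _ = φ (r j') := by
          rw [← map_inv, ← map_mul]
          congr 1
          simp
  set ρ1C : Cc := yC * (⟨x2, hx2C⟩ : Cc)⁻¹ with hρ1C
  have hρ1val : (ρ1C : X) = φ (r j') := hρ1
  have hρ1P : ρ1C ∈ (P : Subgroup Cc) := by
    rw [hiff, hρ1val, phi_r_eq q hq hq0 φ j', hρ]
    exact Subgroup.npow_mem_zpowers _ _
  have hVρ : V ρ1C = (V α)⁻¹ * (V α)⁻¹ := by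
    rw [hρ1C, map_mul, map_inv, hVy, hVx]
  rw [hV1 ρ1C hρ1P, hV1 α hαP] at hVρ
  set idx := (P : Subgroup Cc).index with hidx
  have hpow : (⟨ρ1C, hρ1P⟩ : (P : Subgroup Cc)) ^ idx =
      ((⟨α, hαP⟩ : (P : Subgroup Cc))⁻¹ * (⟨α, hαP⟩ : (P : Subgroup Cc))⁻¹) ^ idx := by
    rw [hVρ, (Commute.refl _).mul_pow, inv_pow]
  have hinj := (P.2.powEquiv' P.not_dvd_index).injective
  have heq : (⟨ρ1C, hρ1P⟩ : (P : Subgroup Cc)) =
      (⟨α, hαP⟩ : (P : Subgroup Cc))⁻¹ * (⟨α, hαP⟩ : (P : Subgroup Cc))⁻¹ := hinj hpow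
  have heqX : φ (r j') = (α : X)⁻¹ * (α : X)⁻¹ := by
    rw [← hρ1val]
    exact congrArg (fun w : (P : Subgroup Cc) => ((w : Cc) : X)) heq
  rw [← hn, ← map_inv, ← map_mul, inv_r, r_mul_r] at heqX
  have hj : j' = -(e + e) := by
    have := r.inj (hφ heqX)
    rw [this, neg_add]
  exact parity_aux q hq e j' hj' hj

include hq hq0 hφ hrange in
theorem no_conj_aux (x2 : X) (hcomm : x2 * cX q φ * x2⁻¹ = cX q φ)
    (hs : x2 * sX φ * x2⁻¹ ∈ UX q hq φ 1) : False := by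
  obtain ⟨P, hPcyc, hiff⟩ := exists_cyclic_sylow q hq hq0 S φ hφ hrange
  exact no_conj_core q hq hq0 φ hφ (cX q φ) rfl (sX φ) rfl (rX φ) rfl _ rfl P hPcyc hiff x2
    hcomm hs

include hq hq0 hφ hrange in
theorem not_conj (x : X)
    (hx : (UX q hq φ 0).map (MulAut.conj x).toMonoidHom = UX q hq φ 1) : False := by
  obtain ⟨x', h1, h2⟩ := exists_good_conj q hq hq0 S φ hφ hrange x hx
  rcases h2 with h2 | h2
  · exact no_conj_aux q hq hq0 S φ hφ hrange x' h2 h1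
  · apply no_conj_aux q hq hq0 S φ hφ hrange (x' * sX φ)
    · calc x' * sX φ * cX q φ * (x' * sX φ)⁻¹
          = x' * (sX φ * cX q φ * (sX φ)⁻¹) * x'⁻¹ := by group
        _ = (x' * cX q φ * x'⁻¹)⁻¹ := by rw [sX_conj_cX]; group
        _ = cX q φ := by rw [h2, inv_inv]
    · have : x' * sX φ * sX φ * (x' * sX φ)⁻¹ = x' * sX φ * x'⁻¹ := by group
      rw [this]
      exact h1

end X

end Cfsg.Agent.Helper20.Dih
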