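import Mathlib
import Cfsg.Agent.Lib.Helper20.E8TLat
import Cfsg.Agent.Lib.Helper1.E8TCARD
import Cfsg.Agent.Lib.Helper1.E8TQ3
import Cfsg.Agent.Lib.Helper18.E8TQ2

/-!
# S2375, COREW2 (helper20): an element of the Weyl group that fixes all the characters of the twisted torus is `1`

`dual` turns the hypothesis into `(M' - 1) ℤ⁸ ⊆ (q - M) ℤ⁸`; then `corew2_core3` (`q ≥ 3`) or `corew2_core2` (`q = 2`).
-/

set_option autoImplicit false

namespace Cfsg.Agent.Helper20.E8T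

theorem corew2 {K : Type*} [Field K] (q : ℕ) (hq : 2 ≤ q) (ζ : Kˣ) (hζ : orderOf ζ = mq q)
    (M : Matrix (Fin 8) (Fin 8) ℤ) (hM : IsGood M) (M' : Matrix (Fin 8) (Fin 8) ℤ) (hM' : IsW M')
    (h : ∀ x : Fin 8 → Kˣ, Cond q M x → ∀ v < 240, chiV x (M'.mulVec (rc v)) = chiV x (rc v)) : M' = 1 := by
  have hdiff : ∀ y : Fin 8 → ℤ, ∃ z : Fin 8 → ℤ, M'.mulVec y - y = (qM q M).mulVec z := by
    intro y
    apply dual q hq ζ hζ M hM
    intro x hx
    have h1 : Cond 1 M' x := by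
      intro v hv
      rw [h x hx v hv, pow_one]
    rw [chiV_sub, cond_all h1 y, pow_one, div_self']
  rcases Nat.lt_or_ge q 3 with h3 | h3
  · have h2 : q = 2 := by omega
    subst h2
    exact corew2_core2 M hM M' hM' hdiff
  · exact corew2_core3 q h3 M hM M' hM' hdiff

end Cfsg.Agent.Helper20.E8T
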