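import Mathlib
import Cfsg.Agent.Lib.Helper20.E8TDefs
import Cfsg.Agent.Lib.Helper20.E8TCHIA
import Cfsg.Agent.Lib.Helper20.E8TCHIC
import Cfsg.Agent.Lib.Helper20.E8TTC
import Cfsg.Agent.Lib.Helper20.E8TUREG
import Cfsg.Agent.Lib.Helper3.E8TCYC
import Cfsg.Agent.Lib.Helper3.E8TREG
import Cfsg.Agent.Lib.Helper1.E8TCARD
import Cfsg.Agent.Lib.Helper18.E8TFINORD
import Cfsg.Agent.Lib.Helper20.E8TCW2
import Cfsg.Agent.Lib.Helper11.E8TWEYLM
import Cfsg.Agent.Lib.Helper11.E8TCHIB8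
import Cfsg.Agent.Lib.Helper18.E8TQ2TAB

/-!
# S2375: assembly, part 1 - Theorems A, B, C for `E₈` (helper20; the lattice version of `Lib/Lead/F4TAsm.lean`)

See plans/S2375_plan.md.
-/

set_option autoImplicit false
set_option linter.unusedSectionVars false
set_option linter.unusedSimpArgs false
set_option linter.unusedVariables false

namespace Cfsg.Agent.Helper20.E8T

open Cfsg Cfsg.Lie Cfsg.Agent.Lead.Chev Cfsg.Agent.Lead.Tw

section K

variable {K : Type*} [Field K]

theorem asm_ev_pow (h : GL chevE8.Idx K) (hh : h ∈ chevE8.diagonalSubgroup K) (v k : ℕ) :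
    ev (h ^ k) v = ev h v ^ k := by
  induction k with
  | zero => rw [pow_zero, pow_zero, ev_one]
  | succ k ih => rw [pow_succ, pow_succ, ev_mul _ _ (pow_mem hh k) hh, ih]

/-- the unit `χ_h(v)` -/
noncomputable def evU (h : GL chevE8.Idx K) (hh : h ∈ chevE8.diagonalSubgroup K) (v : ℕ) : Kˣ :=
  Units.mk0 (ev h v) (ev_ne_zero h hh v)

theorem evU_val (h : GL chevE8.Idx K) (hh : h ∈ chevE8.diagonalSubgroup K) (v : ℕ) :
    ((evU h hh v : Kˣ) : K) = ev h v := rfl

/-- the coordinates of the character of `h` -/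
noncomputable def evX (h : GL chevE8.Idx K) (hh : h ∈ chevE8.diagonalSubgroup K) : Fin 8 → Kˣ :=
  fun i => evU h hh (sIdx i)

theorem asm_chiV (h : GL chevE8.Idx K) (hh : h ∈ chevE8.diagonalSubgroup K) (v : ℕ) (hv : v < 240) :
    chiV (evX h hh) (rc v) = evU h hh v := by
  apply Units.ext
  rw [chiV, evU_val, ev_rc h hh v hv, Units.coe_prod]
  refine Finset.prod_congr rfl fun i _ => ?_
  rw [Units.val_zpow_eq_zpow_val]
  rfl

/-- two elements of `T(K)` with the same values at the simple roots are equal -/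
theorem asm_eq_of_ev (h h' : GL chevE8.Idx K) (hh : h ∈ chevE8.diagonalSubgroup K)
    (hh' : h' ∈ chevE8.diagonalSubgroup K) (h0 : ∀ i : Fin 8, ev h (sIdx i) = ev h' (sIdx i)) : h = h' := by
  have e1 : h * h'⁻¹ = 1 := by
    apply eq_one_of_ev _ (mul_mem hh (inv_mem hh'))
    intro i
    rw [ev_mul _ _ hh (inv_mem hh'), ev_inv _ hh', h0 i, mul_inv_cancel₀ (ev_ne_zero h' hh' _)]
  exact mul_inv_eq_one.1 e1

theorem asm_eq_of_evX (h h' : GL chevE8.Idx K) (hh : h ∈ chevE8.diagonalSubgroup K)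
    (hh' : h' ∈ chevE8.diagonalSubgroup K) (e : evX h hh = evX h' hh') : h = h' := by
  apply asm_eq_of_ev h h' hh hh'
  intro i
  exact congrArg Units.val (congrFun e i)

/-- the relation `n_w h' n_w⁻¹ = h` in terms of the characters -/
theorem asm_nconj_ev (h h' : GL chevE8.Idx K) (hh' : h' ∈ chevE8.diagonalSubgroup K) (w : List ℕ)
    (hw : ∀ i ∈ w, i < 8)
    (e : nWordGL chevE8 (e8F K).xadd w * h' * (nWordGL chevE8 (e8F K).xadd w)⁻¹ = h) (v : ℕ) (hv : v < 240) :
    ev h (reflWord chevE8 w v) = ev h' v := by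
  rw [← e]
  exact ev_nconj h' hh' w hw v hv

theorem asm_evX_pow (h : GL chevE8.Idx K) (hh : h ∈ chevE8.diagonalSubgroup K) (r : ℕ) (hr : h ^ r = 1)
    (i : Fin 8) : evX h hh i ^ r = 1 := by
  apply Units.ext
  rw [Units.val_pow_eq_pow_val, Units.val_one]
  show ev h (sIdx i) ^ r = 1
  rw [← asm_ev_pow h hh, hr, ev_one]

theorem asm_reg_sig (f : K ≃+* K) (h : GL chevE8.Idx K) (hreg : ∀ v < 240, ev h v ≠ 1) :
    ∀ v < 240, ev (sig f h) v ≠ 1 := by
  intro v hv e
  rw [ev_sig] at e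
  apply hreg v hv
  apply f.injective
  rw [e, map_one]

/-- the value of the character of `h` at the image of a root under `w` -/
theorem asm_chiV_acts (h : GL chevE8.Idx K) (hh : h ∈ chevE8.diagonalSubgroup K) (w : List ℕ)
    (M : Matrix (Fin 8) (Fin 8) ℤ) (hM : ActsM w M) (v : ℕ) (hv : v < 240) :
    chiV (evX h hh) (M.mulVec (rc v)) = evU h hh (reflWord chevE8 w v) := by
  rw [← (hM v hv).2, asm_chiV h hh _ (hM v hv).1]

/-- the condition `χ ∘ M = χ ^ q` for the character of `h`, from `n_w σ(h) n_w⁻¹ = h` -/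
theorem asm_cond (q : ℕ) (f : K ≃+* K) (hf : ∀ t, f t = t ^ q) (h : GL chevE8.Idx K)
    (hh : h ∈ chevE8.diagonalSubgroup K) (w : List ℕ) (hw : ∀ i ∈ w, i < 8) (M : Matrix (Fin 8) (Fin 8) ℤ)
    (hM : ActsM w M)
    (e : nWordGL chevE8 (e8F K).xadd w * sig f h * (nWordGL chevE8 (e8F K).xadd w)⁻¹ = h) :
    Cond q M (evX h hh) := by
  intro v hv
  rw [asm_chiV_acts h hh w M hM v hv, asm_chiV h hh v hv]
  apply Units.ext
  rw [Units.val_pow_eq_pow_val]
  show ev h (reflWord chevE8 w v) = ev h v ^ q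
  rw [asm_nconj_ev h (sig f h) (sig_mem_diagonal f h hh) w hw e v hv, ev_sig, hf]

/-- **Theorem A**: the element `g⁻¹ σ(g)` is `t n_w` with `Φ₃₀(w) = 0`, and `h` is regular -/
theorem thmA (q r : ℕ) (hq : 2 ≤ q) (hr : GoodPrime30 q r) (f : K ≃+* K) (hf : ∀ t, f t = t ^ q)
    (h : GL chevE8.Idx K) (hh : h ∈ chevE8.diagonalSubgroup K) (hr1 : h ^ r = 1) (hne : h ≠ 1)
    (n' : GL chevE8.Idx K) (hn' : n' ∈ chevE8.group K) (e : n' * sig f h = h * n') :
    ∃ t ∈ chevE8.diagonalSubgroup K, ∃ w : List ℕ, (∀ i ∈ w, i < 8) ∧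
      n' = t * nWordGL chevE8 (e8F K).xadd w ∧ (∃ M, IsGood M ∧ ActsM w M) ∧
      (∀ v < 240, ev h v ≠ 1) ∧
      nWordGL chevE8 (e8F K).xadd w * sig f h * (nWordGL chevE8 (e8F K).xadd w)⁻¹ = h := by
  have hsh := sig_mem_diagonal f h hh
  obtain ⟨u, hu, t, ht, w, hw, u', hu', ey, e1, e2, e3⟩ := torus_conj n' h (sig f h) hn' hh hsh e
  obtain ⟨M, hMW, hM⟩ := acts_cases w hw
  have hcond := asm_cond q f hf h hh w hw M hM e1
  have hne' : evX h hh ≠ 1 := by
    intro h1
    apply hne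
    apply eq_one_of_ev h hh
    intro i
    exact congrArg Units.val (congrFun h1 i)
  have hx : ∀ i, evX h hh i ^ r = 1 := asm_evX_pow h hh r hr1
  have hgood : IsGood M := ⟨hMW, corew1a q r hq hr (evX h hh) hx hne' M hMW hcond⟩
  have hreg := corew1b q r hq hr (evX h hh) hx hne' M hgood hcond
  have hreg' : ∀ v < 240, ev h v ≠ 1 := by
    intro v hv ev1
    apply hreg v hv
    rw [asm_chiV h hh v hv]
    apply Units.ext
    exact ev1
  have hu1 : u = 1 := ureg h hh hreg' u hu e2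
  have hu'1 : u' = 1 := ureg (sig f h) hsh (asm_reg_sig f h hreg') u' hu' e3
  refine ⟨t, ht, w, hw, ?_, ⟨M, hgood, hM⟩, hreg', e1⟩
  rw [ey, hu1, hu'1, one_mul, mul_one]

/-- the twisted torus `{t ∈ T(K) : n_w σ(t) n_w⁻¹ = t}` -/
def twTorus (f : K ≃+* K) (w : List ℕ) : Subgroup (GL chevE8.Idx K) where
  carrier := {t | t ∈ chevE8.diagonalSubgroup K ∧
    nWordGL chevE8 (e8F K).xadd w * sig f t * (nWordGL chevE8 (e8F K).xadd w)⁻¹ = t}
  one_mem' := ⟨one_mem _, by rw [map_one, mul_one, mul_inv_cancel]⟩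
  mul_mem' := by
    rintro a b ⟨ha, ea⟩ ⟨hb, eb⟩
    refine ⟨mul_mem ha hb, ?_⟩
    rw [map_mul]
    conv_rhs => rw [← ea, ← eb]
    group
  inv_mem' := by
    rintro a ⟨ha, ea⟩
    refine ⟨inv_mem ha, ?_⟩
    rw [map_inv]
    conv_rhs => rw [← ea]
    group

theorem mem_twTorus (f : K ≃+* K) (w : List ℕ) (t : GL chevE8.Idx K) :
    t ∈ twTorus f w ↔ t ∈ chevE8.diagonalSubgroup K ∧
      nWordGL chevE8 (e8F K).xadd w * sig f t * (nWordGL chevE8 (e8F K).xadd w)⁻¹ = t := Iff.rfl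

/-- a word that acts through an `IsW` matrix is onto the roots -/
theorem asm_acts_surj (w : List ℕ) (M : Matrix (Fin 8) (Fin 8) ℤ) (hMW : IsW M) (hM : ActsM w M) (u : ℕ)
    (hu : u < 240) : ∃ v < 240, reflWord chevE8 w v = u := by
  classical
  -- the map `v ↦ reflWord w v` is injective on `Fin 240`, hence onto
  let φ : Fin 240 → Fin 240 := fun v => ⟨reflWord chevE8 w v.val, (hM v.val v.2).1⟩
  have hinj : Function.Injective φ := by
    intro a b hab
    have h1 : reflWord chevE8 w a.val = reflWord chevE8 w b.val := congrArg Fin.val hab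
    have h2 : M.mulVec (rc a.val) = M.mulVec (rc b.val) := by
      rw [← (hM a.val a.2).2, ← (hM b.val b.2).2, h1]
    exact Fin.ext (rc_injective a.val a.2 b.val b.2 (isw_injective hMW h2))
  obtain ⟨v, hv⟩ := (Finite.injective_iff_surjective.1 hinj) ⟨u, hu⟩
  exact ⟨v.val, v.2, congrArg Fin.val hv⟩

/-- membership in the twisted torus in terms of the characters -/
theorem asm_mem_twTorus_iff (q : ℕ) (f : K ≃+* K) (hf : ∀ t, f t = t ^ q) (w : List ℕ)
    (hw : ∀ i ∈ w, i < 8) (M : Matrix (Fin 8) (Fin 8) ℤ) (hMW : IsW M) (hM : ActsM w M) (t : GL chevE8.Idx K)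
    (ht : t ∈ chevE8.diagonalSubgroup K) :
    t ∈ twTorus f w ↔ Cond q M (evX t ht) := by
  have hst := sig_mem_diagonal f t ht
  constructor
  · rintro ⟨_, e⟩
    exact asm_cond q f hf t ht w hw M hM e
  · intro h
    refine ⟨ht, ?_⟩
    have hn : nWordGL chevE8 (e8F K).xadd w ∈ chevE8.monomialSubgroup K :=
      nWordGL_mem_monomial chevE8 (e8F K).xadd (e8F K).simple_lt w hw
    have ht' := (e8F K).monomial_conj_mem_diagonal _ hn _ hst
    have hev : ∀ v < 240, ev t (reflWord chevE8 w v) = ev t v ^ q := by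
      intro v hv
      have h1 := h v hv
      rw [asm_chiV_acts t ht w M hM v hv, asm_chiV t ht v hv] at h1
      have h2 := congrArg Units.val h1
      rw [Units.val_pow_eq_pow_val] at h2
      exact h2
    have key : ∀ u < 240, ev (nWordGL chevE8 (e8F K).xadd w * sig f t *
        (nWordGL chevE8 (e8F K).xadd w)⁻¹) u = ev t u := by
      intro u hu
      obtain ⟨v, hv, rfl⟩ := asm_acts_surj w M hMW hM u hu
      rw [asm_nconj_ev _ (sig f t) hst w hw rfl v hv, ev_sig, hf, hev v hv]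
    exact asm_eq_of_ev _ _ ht' ht (fun i => key _ (sIdx_lt i))

/-- the homomorphism from the twisted torus to the group of characters with `χ ∘ M = χ ^ q` -/
noncomputable def twHom (q : ℕ) (f : K ≃+* K) (hf : ∀ t, f t = t ^ q) (w : List ℕ)
    (hw : ∀ i ∈ w, i < 8) (M : Matrix (Fin 8) (Fin 8) ℤ) (hMW : IsW M) (hM : ActsM w M) :
    ↥(twTorus f w) →* ↥(condSubgroup K q M) where
  toFun := fun t => ⟨evX t.1 t.2.1, (asm_mem_twTorus_iff q f hf w hw M hMW hM t.1 t.2.1).1 t.2⟩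
  map_one' := by
    apply Subtype.ext
    funext i
    apply Units.ext
    exact ev_one _
  map_mul' := by
    intro a b
    apply Subtype.ext
    funext i
    apply Units.ext
    exact ev_mul _ _ a.2.1 b.2.1 _

theorem twHom_bijective (q : ℕ) (f : K ≃+* K) (hf : ∀ t, f t = t ^ q) (w : List ℕ)
    (hw : ∀ i ∈ w, i < 8) (M : Matrix (Fin 8) (Fin 8) ℤ) (hMW : IsW M) (hM : ActsM w M) :
    Function.Bijective (twHom q f hf w hw M hMW hM) := by
  constructor
  · intro a b hab
    apply Subtype.ext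
    exact asm_eq_of_evX _ _ a.2.1 b.2.1 (congrArg Subtype.val hab)
  · rintro ⟨x, hx⟩
    obtain ⟨t, ht, hte⟩ := exists_ev (fun i => ((x i : Kˣ) : K)) (fun i => (x i).ne_zero)
    have hxe : evX t ht = x := by
      funext i
      apply Units.ext
      exact hte i
    have htm : t ∈ twTorus f w := by
      rw [asm_mem_twTorus_iff q f hf w hw M hMW hM t ht, hxe]
      exact hx
    exact ⟨⟨t, htm⟩, Subtype.ext hxe⟩

/-- the twisted torus is isomorphic to the group of characters with `χ ∘ M = χ ^ q` -/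
noncomputable def twEquiv (q : ℕ) (f : K ≃+* K) (hf : ∀ t, f t = t ^ q) (w : List ℕ)
    (hw : ∀ i ∈ w, i < 8) (M : Matrix (Fin 8) (Fin 8) ℤ) (hMW : IsW M) (hM : ActsM w M) :
    ↥(twTorus f w) ≃* ↥(condSubgroup K q M) :=
  MulEquiv.ofBijective (twHom q f hf w hw M hMW hM) (twHom_bijective q f hf w hw M hMW hM)

/-- **Theorem C**: the twisted torus of an element `w` with `Φ₃₀(w) = 0` is cyclic of order `Φ₃₀(q)` -/
theorem thmC (q : ℕ) (hq : 2 ≤ q) (ζ : Kˣ) (hζ : orderOf ζ = mq q) (f : K ≃+* K)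
    (hf : ∀ t, f t = t ^ q) (w : List ℕ) (hw : ∀ i ∈ w, i < 8)
    (hgood : ∃ M, IsGood M ∧ ActsM w M) :
    IsCyclic (twTorus f w) ∧ Nat.card (twTorus f w) = mq q := by
  obtain ⟨M, hMg, hM⟩ := hgood
  obtain ⟨hc, hn⟩ := corew3 (K := K) q hq ζ hζ M hMg
  have e := twEquiv q f hf w hw M hMg.1 hM
  exact ⟨(MulEquiv.isCyclic e).2 hc, by rw [Nat.card_congr e.toEquiv, hn]⟩

/-- **Theorem B**: an element of `E₈(K)` that commutes with the whole twisted torus (which contains a regular element)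
lies in `T(K)` -/
theorem thmB (q : ℕ) (hq : 2 ≤ q) (ζ : Kˣ) (hζ : orderOf ζ = mq q) (f : K ≃+* K)
    (hf : ∀ t, f t = t ^ q) (w : List ℕ) (hw : ∀ i ∈ w, i < 8)
    (hgood : ∃ M, IsGood M ∧ ActsM w M) (h : GL chevE8.Idx K) (hh : h ∈ twTorus f w)
    (hreg : ∀ v < 240, ev h v ≠ 1)
    (y : GL chevE8.Idx K) (hy : y ∈ chevE8.group K) (e : ∀ a ∈ twTorus f w, y * a = a * y) :
    y ∈ chevE8.diagonalSubgroup K := by
  obtain ⟨M, hMg, hM⟩ := hgood
  have hhT := hh.1
  obtain ⟨u, hu, t, ht, w', hw', u', hu', ey, e1, e2, e3⟩ := torus_conj y h h hy hhT hhT (e h hh)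
  obtain ⟨M', hMW', hM'⟩ := acts_cases w' hw'
  have hu1 : u = 1 := ureg h hhT hreg u hu e2
  have hu'1 : u' = 1 := ureg h hhT hreg u' hu' e3
  have ey' : y = t * nWordGL chevE8 (e8F K).xadd w' := by
    rw [ey, hu1, hu'1, one_mul, mul_one]
  -- `n_{w'}` centralizes the twisted torus
  have hcent : ∀ a ∈ twTorus f w, nWordGL chevE8 (e8F K).xadd w' * a *
      (nWordGL chevE8 (e8F K).xadd w')⁻¹ = a := by
    intro a ha
    have h1 := e a ha
    rw [ey'] at h1
    have hc : t * a = a * t := (e8F K).diagonal_commute t a ht ha.1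
    set n := nWordGL chevE8 (e8F K).xadd w' with hn
    have h2 : n * a = a * n := by
      have h3 : t * (n * a) = t * (a * n) := by
        calc t * (n * a) = t * n * a := (mul_assoc _ _ _).symm
          _ = a * (t * n) := h1
          _ = a * t * n := (mul_assoc _ _ _).symm
          _ = t * a * n := by rw [hc]
          _ = t * (a * n) := mul_assoc _ _ _
      exact mul_left_cancel h3
    rw [h2, mul_assoc, mul_inv_cancel, mul_one]
  -- hence `M'` fixes all the characters of `A_M`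
  have hfix : ∀ x : Fin 8 → Kˣ, Cond q M x → ∀ v < 240, chiV x (M'.mulVec (rc v)) = chiV x (rc v) := by
    intro x hx v hv
    obtain ⟨a, ha, hae⟩ := exists_ev (fun i => ((x i : Kˣ) : K)) (fun i => (x i).ne_zero)
    have hxe : evX a ha = x := by
      funext i
      apply Units.ext
      exact hae i
    have ham : a ∈ twTorus f w := by
      rw [asm_mem_twTorus_iff q f hf w hw M hMg.1 hM a ha, hxe]
      exact hx
    rw [← hxe, asm_chiV_acts a ha w' M' hM' v hv, asm_chiV a ha v hv]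
    apply Units.ext
    show ev a (reflWord chevE8 w' v) = ev a v
    exact asm_nconj_ev a a ha w' hw' (hcent a ham) v hv
  have hM'1 : M' = 1 := corew2 (K := K) q hq ζ hζ M hMg M' hMW' hfix
  rw [hM'1] at hM'
  obtain ⟨p1, p2⟩ := acts_id_pos w' hw' hM'
  have hnw := (e8F K).nWordGL_mem_diagonal_of_pos w' hw' p1 p2
  rw [ey']
  exact mul_mem ht hnw

end K

end Cfsg.Agent.Helper20.E8T
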