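import Mathlib
import Cfsg.Agent.Lib.Helper20.E8TDefs
import Cfsg.Agent.Lib.Helper20.E8TCHIA
import Cfsg.Agent.Lib.Helper20.E8TMAP
import Cfsg.Agent.Lib.Lead.ChevFixGen
import Cfsg.Agent.Lib.Helper11.E8TCHIB8
import Cfsg.Agent.Lib.Helper18.E8TQ2TAB

/-!
# S2375, piece FIX8: the fixed points of the field automorphism on `E₈(K)` come from the fixed field

Clone of `Lib/Lead/F4TFIX.lean` through the generic `Cfsg.Agent.Lead.FixGen.fix_group_gen`; only the torus case is
specific to the datum (eight simple roots `sIdx i`).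
-/

set_option autoImplicit false
set_option linter.unusedSectionVars false
set_option linter.unusedSimpArgs false
set_option linter.unusedVariables false

namespace Cfsg.Agent.Helper20.E8T

open Cfsg Cfsg.Lie Cfsg.Agent.Lead.Chev Cfsg.Agent.Lead.Tw

section FK

variable {F : Type*} [Field F] {K : Type*} [Field K] (ι : F →+* K)

/-- a fixed element of `T(K)` comes from `T(F)` -/
theorem e8tfix_torus_fixed (f : K ≃+* K) (hf : ∀ t, f t = t ↔ t ∈ Set.range ι) (h : GL chevE8.Idx K)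
    (hh : h ∈ chevE8.diagonalSubgroup K) (e : sig f h = h) :
    ∃ z ∈ chevE8.diagonalSubgroup F, mapGL ι z = h := by
  have key : ∀ v : ℕ, ∃ ξ : F, ι ξ = ev h v ∧ ξ ≠ 0 := by
    intro v
    have e1 : f (ev h v) = ev h v := by rw [← ev_sig, e]
    obtain ⟨ξ, hξ⟩ := (hf _).1 e1
    refine ⟨ξ, hξ, ?_⟩
    rintro rfl
    rw [map_zero] at hξ
    exact ev_ne_zero h hh v hξ.symm
  choose ξ hξ1 hξ2 using key
  obtain ⟨z, hz, hze⟩ := exists_ev (K := F) (fun i => ξ (sIdx i)) (fun i => hξ2 (sIdx i))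
  refine ⟨z, hz, ?_⟩
  have hmz : mapGL ι z ∈ chevE8.diagonalSubgroup K := mapGL_diagonal ι z hz
  have h1' : h * (mapGL ι z)⁻¹ = 1 := by
    apply eq_one_of_ev _ (mul_mem hh (inv_mem hmz))
    intro i
    rw [ev_mul _ _ hh (inv_mem hmz), ev_inv _ hmz, ev_mapGL, hze i, hξ1, mul_inv_cancel₀ (ev_ne_zero h hh _)]
  exact (mul_inv_eq_one.1 h1').symm

/-- PIECE FIX8: the fixed points of the field automorphism on `E₈(K)` come from `F` -/
theorem fix_group (f : K ≃+* K) (hf : ∀ t, f t = t ↔ t ∈ Set.range ι) (y : GL chevE8.Idx K)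
    (hy : y ∈ chevE8.group K) (e : sig f y = y) : ∃ z ∈ chevE8.group F, mapGL ι z = y :=
  Cfsg.Agent.Lead.FixGen.fix_group_gen (e8F F) (e8F K) ι e8S f hf
    (fun h hh e' => e8tfix_torus_fixed ι f hf h hh e') y hy e

end FK

end Cfsg.Agent.Helper20.E8T
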