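import Mathlib
import Cfsg.Agent.Lib.Helper20.E8TDefs
import Cfsg.Agent.Lib.Helper20.E8TAsm
import Cfsg.Agent.Lib.Helper20.E8TFIX
import Cfsg.Agent.Lib.Helper20.E8TMAP
import Cfsg.Agent.Lib.Helper28.G2TSYL
import Cfsg.Agent.Lib.Helper1.F4TFIELD
import Cfsg.Agent.S1065
import Cfsg.Agent.Lib.Helper4.E8TARITHA
import Cfsg.Agent.Lib.Helper19.E8TARITHB
import Cfsg.Agent.Lib.Helper3.E8TFIELD30

/-!
# S2375: assembly, part 2 - the self-centralizing cyclic subgroup of order `Φ₃₀(q)` of `E₈(q)` (helper20)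

See plans/S2375_plan.md.  Differences with `Lib/Lead/F4TMain.lean`: the subgroup is the preimage of the whole twisted torus
under `z ↦ g⁻¹ ι(z) g` (not the centralizer of one element), and Theorem B is about elements that commute with the whole
twisted torus.
-/

set_option autoImplicit false
set_option linter.unusedSectionVars false
set_option linter.unusedSimpArgs false
set_option linter.unusedVariables false

namespace Cfsg.Agent.Helper20.E8T

open Cfsg Cfsg.Lie Cfsg.Agent.Lead.Chev Cfsg.Agent.Lead.Tw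

section Final

variable {F : Type*} [Field F] [Fintype F] {K : Type*} [Field K] [Fintype K]

/-- the conjugated embedding `z ↦ g⁻¹ ι(z) g` -/
noncomputable def psiHom (ι : F →+* K) (g : GL chevE8.Idx K) : ↥(chevE8.group F) →* GL chevE8.Idx K :=
  (MulAut.conj g⁻¹).toMonoidHom.comp ((mapGL ι).comp (chevE8.group F).subtype)

theorem psiHom_apply (ι : F →+* K) (g : GL chevE8.Idx K) (z : ↥(chevE8.group F)) :
    psiHom ι g z = g⁻¹ * mapGL ι z.1 * g := by
  simp [psiHom, MulAut.conj_apply]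

theorem psiHom_injective (ι : F →+* K) (g : GL chevE8.Idx K) : Function.Injective (psiHom ι g) := by
  intro a b hab
  rw [psiHom_apply, psiHom_apply] at hab
  have h1 : mapGL ι a.1 = mapGL ι b.1 := by
    have := congrArg (fun y => g * y * g⁻¹) hab
    simpa [mul_assoc] using this
  exact Subtype.ext (mapGL_injective ι h1)

theorem psiHom_mem_group (ι : F →+* K) (g : GL chevE8.Idx K) (hg : g ∈ chevE8.group K) (z : ↥(chevE8.group F)) :
    psiHom ι g z ∈ chevE8.group K := by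
  rw [psiHom_apply]
  exact mul_mem (mul_mem (inv_mem hg) (mapGL_group ι _ z.2)) hg

/-- an image `g⁻¹ ι(z) g` that lies in `T(K)` lies in the twisted torus -/
theorem main_mem_tw (ι : F →+* K) (f : K ≃+* K) (hfι : ∀ t, f (ι t) = ι t)
    (g : GL chevE8.Idx K) (t₁ : GL chevE8.Idx K) (ht₁ : t₁ ∈ chevE8.diagonalSubgroup K) (w : List ℕ)
    (en : g⁻¹ * sig f g = t₁ * nWordGL chevE8 (e8F K).xadd w) (z : ↥(chevE8.group F))
    (hyT : psiHom ι g z ∈ chevE8.diagonalSubgroup K) : psiHom ι g z ∈ twTorus f w := by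
  have hsg : sig f g = g * (t₁ * nWordGL chevE8 (e8F K).xadd w) := by rw [← en]; group
  set n := nWordGL chevE8 (e8F K).xadd w with hn
  rw [psiHom_apply] at hyT ⊢
  set y := g⁻¹ * mapGL ι z.1 * g with hy
  refine ⟨hyT, ?_⟩
  have hsy : sig f y = (sig f g)⁻¹ * mapGL ι z.1 * sig f g := by
    rw [hy, map_mul, map_mul, map_inv, sig_mapGL ι f hfι]
  rw [hsy, hsg]
  have hc : t₁ * y = y * t₁ := (e8F K).diagonal_commute t₁ y ht₁ hyT
  calc n * ((g * (t₁ * n))⁻¹ * mapGL ι z.1 * (g * (t₁ * n))) * n⁻¹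
      = t₁⁻¹ * (g⁻¹ * mapGL ι z.1 * g) * t₁ := by group
    _ = t₁⁻¹ * (y * t₁) := by rw [← hy]; group
    _ = y := by rw [← hc]; group

/-- every element of the twisted torus is an image `g⁻¹ ι(z) g` -/
theorem main_tw_surj (ι : F →+* K) (f : K ≃+* K) (hfix : ∀ t, f t = t ↔ t ∈ Set.range ι)
    (g : GL chevE8.Idx K) (hg : g ∈ chevE8.group K) (t₁ : GL chevE8.Idx K)
    (ht₁ : t₁ ∈ chevE8.diagonalSubgroup K) (w : List ℕ)
    (en : g⁻¹ * sig f g = t₁ * nWordGL chevE8 (e8F K).xadd w) (y : GL chevE8.Idx K) (hy : y ∈ twTorus f w) :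
    ∃ z : ↥(chevE8.group F), psiHom ι g z = y := by
  obtain ⟨htT, et⟩ := hy
  have hsg : sig f g = g * (t₁ * nWordGL chevE8 (e8F K).xadd w) := by rw [← en]; group
  set n := nWordGL chevE8 (e8F K).xadd w with hn
  have hyG : g * y * g⁻¹ ∈ chevE8.group K :=
    mul_mem (mul_mem hg ((e8F K).diagonal_le_group htT)) (inv_mem hg)
  have hsy : sig f y = n⁻¹ * y * n := by
    calc sig f y = n⁻¹ * (n * sig f y * n⁻¹) * n := by group
      _ = n⁻¹ * y * n := by rw [et]
  have hc : t₁ * y = y * t₁ := (e8F K).diagonal_commute t₁ y ht₁ htT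
  have hfixy : sig f (g * y * g⁻¹) = g * y * g⁻¹ := by
    rw [map_mul, map_mul, map_inv, hsy, hsg]
    calc g * (t₁ * n) * (n⁻¹ * y * n) * (g * (t₁ * n))⁻¹ = g * (t₁ * y) * t₁⁻¹ * g⁻¹ := by group
      _ = g * y * g⁻¹ := by rw [hc]; group
  obtain ⟨z, hz, ez⟩ := fix_group ι f hfix _ hyG hfixy
  refine ⟨⟨z, hz⟩, ?_⟩
  rw [psiHom_apply]
  show g⁻¹ * mapGL ι z * g = y
  rw [ez]
  group

theorem main_card_torus (q : ℕ) (hK : Fintype.card K = q ^ 30) :
    Nat.card ((chevE8.diagonalSubgroup K).subgroupOf (chevE8.group K)) = (q ^ 30 - 1) ^ 8 := by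
  have h2 : Nat.card ((chevE8.diagonalSubgroup K).subgroupOf (chevE8.group K)) =
      Nat.card (chevE8.diagonalSubgroup K) :=
    Nat.card_congr (Subgroup.subgroupOfEquivOfLe (e8F K).diagonal_le_group).toEquiv
  rw [h2, card_torus, hK]

theorem main_K (ι : F →+* K) (q : ℕ) (hF : Fintype.card F = q) (hq : 2 ≤ q)
    (hK : Fintype.card K = q ^ 30) :
    ∃ H : Subgroup ↥(chevE8.group F), IsCyclic ↥H ∧ Nat.card ↥H = mq q ∧
      Subgroup.centralizer (H : Set ↥(chevE8.group F)) = H := by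
  obtain ⟨r, hr⟩ := arith30_exists q hq
  haveI : Fact r.Prime := ⟨hr.prime⟩
  obtain ⟨f, hf⟩ := Cfsg.Agent.Helper13.F4T.field8_frob ι q hF
  have hfix : ∀ t, f t = t ↔ t ∈ Set.range ι := fun t => by
    rw [hf]; exact Cfsg.Agent.Helper13.F4T.field8_fixed ι q hF t
  have hfι : ∀ t, f (ι t) = ι t := fun t => (hfix _).2 ⟨t, rfl⟩
  obtain ⟨ζ, hζ⟩ := field30_root (K := K) q hq hK
  -- an element of order `r`
  have hdvd : r ∣ Nat.card ↥(chevE8.group F) := by
    rw [Cfsg.Agent.S1065.result hF]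
    exact arith30_dvd q r hq hr
  obtain ⟨x₀, hx₀⟩ := exists_prime_orderOf_dvd_card' r hdvd
  -- its image in `E₈(K)`
  have hxG : mapGL ι x₀.1 ∈ chevE8.group K := mapGL_group ι _ x₀.2
  have hinj : Function.Injective ((mapGL ι).comp (chevE8.group F).subtype) :=
    (mapGL_injective ι).comp Subtype.val_injective
  have hxo : orderOf (⟨mapGL ι x₀.1, hxG⟩ : ↥(chevE8.group K)) = r := by
    rw [← hx₀, ← orderOf_injective _ hinj x₀, ← Subgroup.orderOf_coe]
    rfl
  -- Sylow
  have hfact : (Nat.card ↥(chevE8.group K)).factorization r =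
      (Nat.card ((chevE8.diagonalSubgroup K).subgroupOf (chevE8.group K))).factorization r := by
    rw [Cfsg.Agent.S1065.result hK, main_card_torus q hK]
    exact arith30_fact q r hq hr
  obtain ⟨g, hgT⟩ := Cfsg.Agent.Helper11.G2T.syl_conj
    ((chevE8.diagonalSubgroup K).subgroupOf (chevE8.group K)) r hr.prime hfact
    ⟨mapGL ι x₀.1, hxG⟩ hxo
  rw [Subgroup.mem_subgroupOf] at hgT
  set h : GL chevE8.Idx K := g.1⁻¹ * mapGL ι x₀.1 * g.1 with hdef
  have hh : h ∈ chevE8.diagonalSubgroup K := hgT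
  have hxr : mapGL ι x₀.1 ^ r = 1 := by
    rw [← map_pow, ← SubgroupClass.coe_pow, ← hx₀, pow_orderOf_eq_one]
    simp
  have hr1 : h ^ r = 1 := by
    rw [hdef, show g.1⁻¹ * mapGL ι x₀.1 * g.1 = g.1⁻¹ * mapGL ι x₀.1 * g.1⁻¹⁻¹ by rw [inv_inv],
      conj_pow, hxr]
    group
  have hne : h ≠ 1 := by
    intro h1
    have hx1 : mapGL ι x₀.1 = 1 := by
      have : mapGL ι x₀.1 = g.1 * h * g.1⁻¹ := by rw [hdef]; group
      rw [this, h1]; group
    have : x₀ = 1 := hinj (by simpa using hx1)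
    rw [this, orderOf_one] at hx₀
    exact hr.prime.one_lt.ne hx₀
  -- the element `g⁻¹ σ(g)`
  have hsx : sig f (mapGL ι x₀.1) = mapGL ι x₀.1 := sig_mapGL ι f hfι x₀.1
  have hn'G : g.1⁻¹ * sig f g.1 ∈ chevE8.group K := mul_mem (inv_mem g.2) (sig_group f g.1 g.2)
  have e : g.1⁻¹ * sig f g.1 * sig f h = h * (g.1⁻¹ * sig f g.1) := by
    rw [hdef, map_mul, map_mul, map_inv, hsx]
    group
  obtain ⟨t₁, ht₁, w, hw, en, hgood, hreg, e1⟩ := thmA q r hq hr f hf h hh hr1 hne _ hn'G e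
  obtain ⟨hcyc, hcard⟩ := thmC q hq ζ hζ f hf w hw hgood
  have hhtw : h ∈ twTorus f w := ⟨hh, e1⟩
  -- the subgroup
  set H : Subgroup ↥(chevE8.group F) := (twTorus f w).comap (psiHom ι g.1) with hH
  let φ : ↥H →* ↥(twTorus f w) :=
    { toFun := fun z => ⟨psiHom ι g.1 z.1, z.2⟩
      map_one' := Subtype.ext (map_one _)
      map_mul' := fun a b => Subtype.ext (map_mul _ _ _) }
  have hφ : Function.Bijective φ := by
    constructor
    · intro a b hab
      apply Subtype.ext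
      exact psiHom_injective ι g.1 (congrArg Subtype.val hab)
    · rintro ⟨y, hy⟩
      obtain ⟨z, hz⟩ := main_tw_surj ι f hfix g.1 g.2 t₁ ht₁ w en y hy
      have hzH : z ∈ H := by
        rw [hH, Subgroup.mem_comap, hz]
        exact hy
      exact ⟨⟨z, hzH⟩, Subtype.ext hz⟩
  have eqv : ↥H ≃* ↥(twTorus f w) := MulEquiv.ofBijective φ hφ
  have hHcyc : IsCyclic ↥H := (MulEquiv.isCyclic eqv).2 hcyc
  refine ⟨H, hHcyc, ?_, ?_⟩
  · rw [Nat.card_congr eqv.toEquiv, hcard]
  · apply le_antisymm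
    · intro c hc
      rw [Subgroup.mem_centralizer_iff] at hc
      -- `ψ(c)` commutes with the whole twisted torus
      have hcomm : ∀ a ∈ twTorus f w, psiHom ι g.1 c * a = a * psiHom ι g.1 c := by
        intro a ha
        obtain ⟨z, hz⟩ := main_tw_surj ι f hfix g.1 g.2 t₁ ht₁ w en a ha
        have hzH : z ∈ H := by
          rw [hH, Subgroup.mem_comap, hz]
          exact ha
        have h1 := hc z hzH
        rw [← hz, ← map_mul, ← map_mul, h1]
      have hyT : psiHom ι g.1 c ∈ chevE8.diagonalSubgroup K :=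
        thmB q hq ζ hζ f hf w hw hgood h hhtw hreg _ (psiHom_mem_group ι g.1 g.2 c) hcomm
      rw [hH, Subgroup.mem_comap]
      exact main_mem_tw ι f hfι g.1 t₁ ht₁ w en c hyT
    · intro c hc
      rw [Subgroup.mem_centralizer_iff]
      intro a ha
      letI := hHcyc.commGroup
      have := mul_comm (⟨a, ha⟩ : ↥H) ⟨c, hc⟩
      exact congrArg Subtype.val this

end Final

end Cfsg.Agent.Helper20.E8T
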