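import Mathlib
import Cfsg.Prelude.Def_Transfer
import Cfsg.Agent.Lib.Helper9.Extraspecial
import Cfsg.Agent.Lib.Helper9.ExtraspecialInv
import Cfsg.Agent.Lib.Helper27.ExtraCrit

/-!
# Extraspecial 2-groups: elementwise calculus (helper20)

`Data z`: the elementwise description of an extraspecial 2-group with central involution `z`.
Parity lemmas for commutation and squares of products.
-/

set_option autoImplicit false

namespace Cfsg.Agent.Helper20.ExMinus

variable {P : Type*} [Group P]

/-- elementwise data of an extraspecial 2-group -/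
structure Data (z : P) : Prop where
  zc : ∀ a : P, a * z = z * a
  zz : z * z = 1
  z1 : z ≠ 1
  alt : ∀ a b : P, a * b = b * a ∨ a * b = z * b * a
  cen : ∀ c : P, (∀ a : P, a * c = c * a) → c = 1 ∨ c = z
  sq : ∀ a : P, a * a = 1 ∨ a * a = z

theorem exists_data [Finite P] (hP : Cfsg.IsExtraspecial 2 P) : ∃ z : P, Data z := by
  obtain ⟨z, hc, hsq, hne, halt, hcen⟩ := Cfsg.Agent.Helper9.extraspecial_two_data hP
  refine ⟨z, hc, hsq, hne, halt, hcen, fun a => ?_⟩
  have := Cfsg.Agent.Helper27.extraspecial_sq hP z hcen a
  rwa [pow_two] at this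

variable {z : P}

theorem Data.commute_mul_iff (D : Data z) (a b c : P) :
    Commute a (b * c) ↔ (Commute a b ↔ Commute a c) :=
  Cfsg.Agent.Helper9.commute_mul_iff D.zc D.zz D.alt a b c

theorem Data.mul_commute_iff (D : Data z) (a b c : P) :
    Commute (b * c) a ↔ (Commute b a ↔ Commute c a) := by
  rw [Commute.symm_iff (b := a), D.commute_mul_iff, Commute.symm_iff (b := a),
    Commute.symm_iff (a := c)]

theorem Data.commute_z (D : Data z) (a : P) : Commute a z := D.zc a

theorem Data.z_commute (D : Data z) (a : P) : Commute z a := (D.zc a).symm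

theorem Data.zinv (D : Data z) : z⁻¹ = z := inv_eq_of_mul_eq_one_right D.zz

theorem Data.anti (D : Data z) {a b : P} (h : ¬ Commute a b) : a * b = z * b * a :=
  (D.alt a b).resolve_left h

theorem Data.anti' (D : Data z) {a b : P} (h : ¬ Commute a b) : a * b = b * a * z := by
  rw [D.anti h, mul_assoc, ← D.zc]

/-- squares of products -/
theorem Data.sq_mul_iff (D : Data z) (a b : P) :
    (a * b) * (a * b) = 1 ↔ ((a * a = 1 ↔ b * b = 1) ↔ Commute a b) := by
  have hz1 := D.z1
  by_cases hab : Commute a b
  · have e : (a * b) * (a * b) = (a * a) * (b * b) := by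
      calc (a * b) * (a * b) = a * (b * a) * b := by group
        _ = a * (a * b) * b := by rw [hab.eq]
        _ = (a * a) * (b * b) := by group
    rw [e]
    rcases D.sq a with ha | ha <;> rcases D.sq b with hb | hb <;> simp [ha, hb, hab, hz1, D.zz]
  · have e : (a * b) * (a * b) = z * ((a * a) * (b * b)) := by
      have h1 : b * a = z * (a * b) := by
        have := D.anti hab
        rw [this, ← mul_assoc, ← mul_assoc, D.zz, one_mul]
      calc (a * b) * (a * b) = a * (b * a) * b := by group
        _ = a * (z * (a * b)) * b := by rw [h1]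
        _ = (a * z) * (a * b * b) := by group
        _ = (z * a) * (a * b * b) := by rw [D.zc]
        _ = z * ((a * a) * (b * b)) := by group
    rw [e]
    rcases D.sq a with ha | ha <;> rcases D.sq b with hb | hb <;> simp [ha, hb, hab, hz1, D.zz]

/-- noncentral elements -/
theorem Data.ne_of_not_commute (D : Data z) {a b : P} (h : ¬ Commute a b) : a ≠ 1 ∧ a ≠ z := by
  constructor
  · rintro rfl; exact h (Commute.one_left b)
  · rintro rfl; exact h (D.z_commute b)

theorem Data.exists_not_commute (D : Data z) {a : P} (h1 : a ≠ 1) (hz : a ≠ z) :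
    ∃ b, ¬ Commute a b := by
  by_contra hcon
  push Not at hcon
  rcases D.cen a (fun b => (hcon b).eq.symm) with h | h
  · exact h1 h
  · exact hz h

theorem Data.sq_mul_z (D : Data z) (a : P) : (a * z) * (a * z) = a * a := by
  calc (a * z) * (a * z) = a * (z * a) * z := by group
    _ = a * (a * z) * z := by rw [← D.zc]
    _ = a * a * (z * z) := by group
    _ = a * a := by rw [D.zz, mul_one]

theorem Data.commute_mul_z_iff (D : Data z) (a b : P) : Commute a (b * z) ↔ Commute a b := by
  rw [D.commute_mul_iff]
  simp [D.commute_z a]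

theorem Data.mul_z_commute_iff (D : Data z) (a b : P) : Commute (b * z) a ↔ Commute b a := by
  rw [D.mul_commute_iff]
  simp [D.z_commute a]

end Cfsg.Agent.Helper20.ExMinus
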