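import Mathlib
import Cfsg.Agent.Lib.Helper20.ExMinusA

/-!
# Extraspecial group of order 32 of minus type: the frame `a, b, i, j` (helper20)
-/

set_option autoImplicit false

namespace Cfsg.Agent.Helper20.ExMinus

open Subgroup

variable {P : Type*} [Group P] {z : P}

theorem mem_cen_iff {g k : P} : k ∈ centralizer ({g} : Set P) ↔ Commute k g :=
  mem_centralizer_singleton_iff

/-- halving lemma in cardinality form -/
theorem Data.card_inf_cen (D : Data z) [Finite P] (M : Subgroup P) (k a : P) (haM : a ∈ M)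
    (hak : ¬ Commute a k) :
    Nat.card ↥(M ⊓ centralizer ({k} : Set P)) * 2 = Nat.card ↥M := by
  have h : ¬ M ≤ centralizer ({k} : Set P) := fun hle => hak (mem_cen_iff.1 (hle haM))
  have h2 := Cfsg.Agent.Helper9.relIndex_centralizer_singleton_eq_two D.zc D.zz D.alt M k h
  have h3 := relIndex_mul_relIndex (H := (⊥ : Subgroup P)) (K := M ⊓ centralizer ({k} : Set P))
    (L := M) bot_le inf_le_left
  rw [relIndex_bot_left, relIndex_bot_left, h2] at h3
  exact h3

theorem exists_mem_not_mem_finset [Finite P] (M : Subgroup P) (s : Finset P)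
    (h : s.card < Nat.card ↥M) : ∃ x ∈ M, x ∉ s := by
  by_contra hcon
  push Not at hcon
  have hsub : (M : Set P) ⊆ (s : Set P) := fun x hx => hcon x hx
  have h1 : (M : Set P).ncard ≤ (s : Set P).ncard := Set.ncard_le_ncard hsub (Finset.finite_toSet s)
  rw [Set.ncard_coe_finset] at h1
  have h2 : (M : Set P).ncard = Nat.card ↥M := rfl
  omega

theorem card_ge_of_finset_subset [Finite P] (M : Subgroup P) (s : Finset P)
    (h : ∀ x ∈ s, x ∈ M) : s.card ≤ Nat.card ↥M := by
  have hsub : (s : Set P) ⊆ (M : Set P) := fun x hx => h x hx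
  have h1 : (s : Set P).ncard ≤ (M : Set P).ncard := Set.ncard_le_ncard hsub (Set.toFinite _)
  rw [Set.ncard_coe_finset] at h1
  exact h1

theorem isElementaryAbelian_closure' {s : Set P} (hs : ∀ x ∈ s, ∀ y ∈ s, x * y = y * x)
    (h2 : ∀ x ∈ s, x * x = 1) : Cfsg.IsElementaryAbelian 2 (Subgroup.closure s) := by
  have hc : IsMulCommutative (Subgroup.closure s) := Subgroup.isMulCommutative_closure hs
  refine ⟨hc, ?_⟩
  intro a ha
  induction ha using Subgroup.closure_induction with
  | mem x hx => rw [pow_two]; exact h2 x hx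
  | one => exact one_pow 2
  | mul x y hx hy ihx ihy =>
    have hxy : x * y = y * x := by
      have := mul_comm' (⟨x, hx⟩ : Subgroup.closure s) ⟨y, hy⟩
      exact congrArg Subtype.val this
    have hcm : Commute x y := hxy
    rw [hcm.mul_pow, ihx, ihy, one_mul]
  | inv x hx ihx => rw [inv_pow, ihx, inv_one]

/-- no `E₈`: distinct (mod `z`) noncentral involutions do not commute -/
theorem Data.not_commute_of_invol (D : Data z) [Finite P]
    (hminus : ∀ A : Subgroup P, Cfsg.IsElementaryAbelian 2 A → Nat.card ↥A ≤ 4)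
    {x y : P} (hx : x * x = 1) (hy : y * y = 1) (hx1 : x ≠ 1) (hxz : x ≠ z) (hy1 : y ≠ 1)
    (hyz : y ≠ z) (hyx : y ≠ x) (hyxz : y ≠ x * z) : ¬ Commute x y := by
  classical
  intro hc
  have hxinv : x⁻¹ = x := inv_eq_of_mul_eq_one_right hx
  have hA : Cfsg.IsElementaryAbelian 2 (Subgroup.closure ({x, y, z} : Set P)) := by
    apply isElementaryAbelian_closure'
    · intro u hu v hv
      simp only [Set.mem_insert_iff, Set.mem_singleton_iff] at hu hv
      rcases hu with rfl | rfl | rfl <;> rcases hv with rfl | rfl | rfl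
      · rfl
      · exact hc.eq
      · exact D.zc _
      · exact hc.eq.symm
      · rfl
      · exact D.zc _
      · exact (D.zc _).symm
      · exact (D.zc _).symm
      · rfl
    · intro u hu
      simp only [Set.mem_insert_iff, Set.mem_singleton_iff] at hu
      rcases hu with rfl | rfl | rfl
      · exact hx
      · exact hy
      · exact D.zz
  have hmem : ∀ u ∈ ({1, x, y, z, x * y} : Finset P), u ∈ Subgroup.closure ({x, y, z} : Set P) := by
    intro u hu
    have hxm : x ∈ Subgroup.closure ({x, y, z} : Set P) := Subgroup.subset_closure (by simp)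
    have hym : y ∈ Subgroup.closure ({x, y, z} : Set P) := Subgroup.subset_closure (by simp)
    have hzm : z ∈ Subgroup.closure ({x, y, z} : Set P) := Subgroup.subset_closure (by simp)
    simp only [Finset.mem_insert, Finset.mem_singleton] at hu
    rcases hu with rfl | rfl | rfl | rfl | rfl
    · exact one_mem _
    · exact hxm
    · exact hym
    · exact hzm
    · exact mul_mem hxm hym
  have hcard : ({1, x, y, z, x * y} : Finset P).card = 5 := by
    have h1 : (1 : P) ∉ ({x, y, z, x * y} : Finset P) := by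
      simp only [Finset.mem_insert, Finset.mem_singleton, not_or]
      refine ⟨fun h => hx1 h.symm, fun h => hy1 h.symm, fun h => D.z1 h.symm, fun h => ?_⟩
      apply hyx
      have : y = x⁻¹ := eq_inv_of_mul_eq_one_right h.symm
      rw [this, hxinv]
    have h2 : x ∉ ({y, z, x * y} : Finset P) := by
      simp only [Finset.mem_insert, Finset.mem_singleton, not_or]
      refine ⟨fun h => hyx h.symm, hxz, fun h => ?_⟩
      apply hy1
      exact (mul_eq_left.1 h.symm)
    have h3 : y ∉ ({z, x * y} : Finset P) := by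
      simp only [Finset.mem_insert, Finset.mem_singleton, not_or]
      refine ⟨hyz, fun h => ?_⟩
      apply hx1
      exact (mul_eq_right.1 h.symm)
    have h4 : z ∉ ({x * y} : Finset P) := by
      simp only [Finset.mem_singleton]
      intro h
      apply hyxz
      have : y = x⁻¹ * z := by rw [h]; group
      rw [this, hxinv]
    rw [Finset.card_insert_of_notMem h1, Finset.card_insert_of_notMem h2,
      Finset.card_insert_of_notMem h3, Finset.card_insert_of_notMem h4, Finset.card_singleton]
  have h5 := card_ge_of_finset_subset _ _ hmem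
  have h4 := hminus _ hA
  omega

/-- the frame of a `D₈ ∘ Q₈` -/
structure Frame (z a b i j : P) : Prop where
  aa : a * a = 1
  bb : b * b = 1
  ii : i * i = z
  jj : j * j = z
  ab : ¬ Commute a b
  ij : ¬ Commute i j
  ai : Commute a i
  aj : Commute a j
  bi : Commute b i
  bj : Commute b j

/-- a noncentral involution exists -/
theorem Data.exists_invol (D : Data z) [Finite P] (h32 : Nat.card P = 32) :
    ∃ a : P, a * a = 1 ∧ a ≠ 1 ∧ a ≠ z := by
  classical
  have htop : Nat.card ↥(⊤ : Subgroup P) = 32 := by rw [Subgroup.card_top]; exact h32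
  obtain ⟨x, -, hx⟩ := exists_mem_not_mem_finset (⊤ : Subgroup P) ({1, z} : Finset P) (by
    rw [htop]
    calc ({1, z} : Finset P).card ≤ 2 := Finset.card_le_two
      _ < 32 := by norm_num)
  simp only [Finset.mem_insert, Finset.mem_singleton, not_or] at hx
  obtain ⟨hx1, hxz⟩ := hx
  rcases D.sq x with hxx | hxx
  · exact ⟨x, hxx, hx1, hxz⟩
  · obtain ⟨c, hc⟩ := D.exists_not_commute hx1 hxz
    have hc' : ¬ Commute c x := fun h => hc h.symm
    have h16 := D.card_inf_cen ⊤ x c (Subgroup.mem_top c) hc'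
    rw [htop] at h16
    obtain ⟨y, hyM, hy⟩ := exists_mem_not_mem_finset (⊤ ⊓ centralizer ({x} : Set P))
      ({1, x, z, x * z} : Finset P) (by
      calc ({1, x, z, x * z} : Finset P).card ≤ 4 := Finset.card_le_four
        _ < Nat.card ↥(⊤ ⊓ centralizer ({x} : Set P)) := by omega)
    simp only [Finset.mem_insert, Finset.mem_singleton, not_or] at hy
    obtain ⟨hy1, hyx, hyz, hyxz⟩ := hy
    have hyc : Commute y x := mem_cen_iff.1 hyM.2
    rcases D.sq y with hyy | hyy
    · exact ⟨y, hyy, hy1, hyz⟩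
    · have hxinv : x⁻¹ = x * z := by
        apply inv_eq_of_mul_eq_one_right
        rw [← mul_assoc, hxx, D.zz]
      refine ⟨x * y, ?_, ?_, ?_⟩
      · rw [D.sq_mul_iff, hxx, hyy]
        simp [hyc.symm]
      · intro h
        apply hyxz
        rw [← hxinv]
        exact eq_inv_of_mul_eq_one_right h
      · intro h
        apply hyx
        have : y = x⁻¹ * z := by rw [← h]; group
        rw [this, hxinv, mul_assoc, D.zz, mul_one]

/-- the frame exists -/
theorem Data.exists_frame (D : Data z) [Finite P] (h32 : Nat.card P = 32)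
    (hminus : ∀ A : Subgroup P, Cfsg.IsElementaryAbelian 2 A → Nat.card ↥A ≤ 4) :
    ∃ a b i j : P, Frame z a b i j := by
  classical
  have htop : Nat.card ↥(⊤ : Subgroup P) = 32 := by rw [Subgroup.card_top]; exact h32
  obtain ⟨a, haa, ha1, haz⟩ := D.exists_invol h32
  -- b
  obtain ⟨b, hbb, hab⟩ : ∃ b : P, b * b = 1 ∧ ¬ Commute a b := by
    obtain ⟨c, hc⟩ := D.exists_not_commute ha1 haz
    rcases D.sq c with hcc | hcc
    · exact ⟨c, hcc, hc⟩
    · refine ⟨a * c, ?_, ?_⟩
      · rw [D.sq_mul_iff, haa, hcc]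
        simp [hc, D.z1]
      · rw [D.commute_mul_iff]
        simp [hc]
  have hba : ¬ Commute b a := fun h => hab h.symm
  have hb1z := D.ne_of_not_commute hba
  -- Q
  have h16 := D.card_inf_cen ⊤ a b (Subgroup.mem_top b) hba
  rw [htop] at h16
  have haC : a ∈ (⊤ : Subgroup P) ⊓ centralizer ({a} : Set P) :=
    ⟨Subgroup.mem_top a, mem_cen_iff.2 (Commute.refl a)⟩
  have h8 := D.card_inf_cen (⊤ ⊓ centralizer ({a} : Set P)) b a haC hab
  obtain ⟨i, hiQ, hi⟩ := exists_mem_not_mem_finset
    (⊤ ⊓ centralizer ({a} : Set P) ⊓ centralizer ({b} : Set P)) ({1, z} : Finset P) (by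
      calc ({1, z} : Finset P).card ≤ 2 := Finset.card_le_two
        _ < _ := by omega)
  simp only [Finset.mem_insert, Finset.mem_singleton, not_or] at hi
  obtain ⟨hi1, hiz⟩ := hi
  have hia : Commute i a := mem_cen_iff.1 hiQ.1.2
  have hib : Commute i b := mem_cen_iff.1 hiQ.2
  -- j
  obtain ⟨c, hc⟩ := D.exists_not_commute hi1 hiz
  have hc' : ¬ Commute c i := fun h => hc h.symm
  have k16 := D.card_inf_cen ⊤ i c (Subgroup.mem_top c) hc'
  rw [htop] at k16
  have hbC : b ∈ (⊤ : Subgroup P) ⊓ centralizer ({i} : Set P) :=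
    ⟨Subgroup.mem_top b, mem_cen_iff.2 hib.symm⟩
  have k8 := D.card_inf_cen (⊤ ⊓ centralizer ({i} : Set P)) a b hbC hba
  have haC' : a ∈ (⊤ : Subgroup P) ⊓ centralizer ({i} : Set P) ⊓ centralizer ({a} : Set P) :=
    ⟨⟨Subgroup.mem_top a, mem_cen_iff.2 hia.symm⟩, mem_cen_iff.2 (Commute.refl a)⟩
  have k4 := D.card_inf_cen (⊤ ⊓ centralizer ({i} : Set P) ⊓ centralizer ({a} : Set P)) b a haC' hab
  obtain ⟨j, hjQ, hj⟩ : ∃ j ∈ (⊤ : Subgroup P) ⊓ centralizer ({a} : Set P) ⊓
      centralizer ({b} : Set P), ¬ Commute j i := by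
    by_contra hcon
    push Not at hcon
    have hle : (⊤ : Subgroup P) ⊓ centralizer ({a} : Set P) ⊓ centralizer ({b} : Set P) ≤
        ⊤ ⊓ centralizer ({i} : Set P) ⊓ centralizer ({a} : Set P) ⊓ centralizer ({b} : Set P) := by
      intro g hg
      exact ⟨⟨⟨Subgroup.mem_top g, mem_cen_iff.2 (hcon g hg)⟩, hg.1.2⟩, hg.2⟩
    have := Subgroup.card_le_of_le hle
    omega
  have hja : Commute j a := mem_cen_iff.1 hjQ.1.2
  have hjb : Commute j b := mem_cen_iff.1 hjQ.2
  have hij : ¬ Commute i j := fun h => hj h.symm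
  have hj1z := D.ne_of_not_commute hj
  -- squares
  have hsqz : ∀ u : P, Commute u a → Commute u b → u ≠ 1 → u ≠ z → u * u = z := by
    intro u hua hub hu1 huz
    rcases D.sq u with huu | huu
    · exfalso
      refine D.not_commute_of_invol hminus haa huu ha1 haz hu1 huz ?_ ?_ hua.symm
      · rintro rfl
        exact hab hub
      · rintro rfl
        exact hab ((D.mul_z_commute_iff b a).1 hub)
    · exact huu
  exact ⟨a, b, i, j, haa, hbb, hsqz i hia hib hi1 hiz, hsqz j hja hjb hj1z.1 hj1z.2, hab, hij,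
    hia.symm, hja.symm, hib.symm, hjb.symm⟩

end Cfsg.Agent.Helper20.ExMinus
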