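import Mathlib
import Cfsg.Agent.Lib.Helper20.ExMinusB

/-!
# Extraspecial group of order 32 of minus type: the five singular cosets (helper20)
-/

set_option autoImplicit false

namespace Cfsg.Agent.Helper20.ExMinus

open Subgroup

variable {P : Type*} [Group P] {z a b i j : P}

theorem Frame.ba (F : Frame z a b i j) : ¬ Commute b a := fun h => F.ab h.symm
theorem Frame.ji (F : Frame z a b i j) : ¬ Commute j i := fun h => F.ij h.symm
theorem Frame.ia (F : Frame z a b i j) : Commute i a := F.ai.symm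
theorem Frame.ja (F : Frame z a b i j) : Commute j a := F.aj.symm
theorem Frame.ib (F : Frame z a b i j) : Commute i b := F.bi.symm
theorem Frame.jb (F : Frame z a b i j) : Commute j b := F.bj.symm

/-- representatives of the five singular cosets -/
def tt (a b i j : P) : Fin 5 → P := ![a, b, a * b * i, a * b * j, a * b * i * j]

theorem Frame.tt_sq (D : Data z) (F : Frame z a b i j) (k : Fin 5) :
    tt a b i j k * tt a b i j k = 1 := by
  have hz1 := D.z1
  fin_cases k <;>
  simp [tt, D.sq_mul_iff, D.commute_mul_iff, D.mul_commute_iff, F.aa, F.bb, F.ii, F.jj, F.ab,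
    F.ij, F.ai, F.aj, F.bi, F.bj, F.ba, F.ji, F.ia, F.ja, F.ib, F.jb, hz1]

theorem Frame.tt_not_commute (D : Data z) (F : Frame z a b i j) (k l : Fin 5) (hkl : k ≠ l) :
    ¬ Commute (tt a b i j k) (tt a b i j l) := by
  fin_cases k <;> fin_cases l <;>
  first
  | exact absurd rfl hkl
  | simp [tt, D.commute_mul_iff, D.mul_commute_iff, F.ab,
      F.ij, F.ai, F.aj, F.bi, F.bj, F.ba, F.ji, F.ia, F.ja, F.ib, F.jb]

theorem Frame.tt_ne (D : Data z) (F : Frame z a b i j) (k : Fin 5) :
    tt a b i j k ≠ 1 ∧ tt a b i j k ≠ z := by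
  obtain ⟨l, hl⟩ : ∃ l : Fin 5, k ≠ l := by
    by_cases h : k = 0
    · exact ⟨1, by rw [h]; decide⟩
    · exact ⟨0, h⟩
  exact D.ne_of_not_commute (F.tt_not_commute D k l hl)

/-- every noncentral involution lies in one of the five cosets -/
theorem Frame.tt_exhaust (D : Data z) (F : Frame z a b i j) [Finite P]
    (hminus : ∀ A : Subgroup P, Cfsg.IsElementaryAbelian 2 A → Nat.card ↥A ≤ 4)
    {x : P} (hx : x * x = 1) (hx1 : x ≠ 1) (hxz : x ≠ z) :
    ∃ k : Fin 5, x = tt a b i j k ∨ x = tt a b i j k * z := by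
  by_contra hcon
  push Not at hcon
  have hnc : ∀ k : Fin 5, ¬ Commute (tt a b i j k) x := fun k =>
    D.not_commute_of_invol hminus (F.tt_sq D k) hx (F.tt_ne D k).1 (F.tt_ne D k).2 hx1 hxz
      (hcon k).1 (hcon k).2
  have h0 := hnc 0
  have h1 := hnc 1
  have h2 := hnc 2
  have h3 := hnc 3
  have h4 := hnc 4
  simp only [tt, Matrix.cons_val_zero, Matrix.cons_val_one, Matrix.cons_val, D.mul_commute_iff]
    at h0 h1 h2 h3 h4
  tauto

/-- the five involutions generate -/
theorem Frame.closure_tt (D : Data z) (F : Frame z a b i j) [Finite P] (h32 : Nat.card P = 32) :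
    Subgroup.closure (Set.range (fun k : Fin 4 => tt a b i j k.castSucc)) = ⊤ := by
  classical
  set H := Subgroup.closure (Set.range (fun k : Fin 4 => tt a b i j k.castSucc)) with hH
  have ha : a ∈ H := Subgroup.subset_closure ⟨0, rfl⟩
  have hb : b ∈ H := Subgroup.subset_closure ⟨1, rfl⟩
  have habi : a * b * i ∈ H := Subgroup.subset_closure ⟨2, rfl⟩
  have habj : a * b * j ∈ H := Subgroup.subset_closure ⟨3, rfl⟩
  have hi : i ∈ H := by
    have : (a * b)⁻¹ * (a * b * i) ∈ H := mul_mem (inv_mem (mul_mem ha hb)) habi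
    rwa [inv_mul_cancel_left] at this
  have hj : j ∈ H := by
    have : (a * b)⁻¹ * (a * b * j) ∈ H := mul_mem (inv_mem (mul_mem ha hb)) habj
    rwa [inv_mul_cancel_left] at this
  have hz : z ∈ H := by rw [← F.ii]; exact mul_mem hi hi
  have c1 := D.card_inf_cen H a b hb F.ba
  have ha1 : a ∈ H ⊓ centralizer ({a} : Set P) := ⟨ha, mem_cen_iff.2 (Commute.refl a)⟩
  have c2 := D.card_inf_cen _ b a ha1 F.ab
  have hj2 : j ∈ H ⊓ centralizer ({a} : Set P) ⊓ centralizer ({b} : Set P) :=
    ⟨⟨hj, mem_cen_iff.2 F.ja⟩, mem_cen_iff.2 F.jb⟩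
  have c3 := D.card_inf_cen _ i j hj2 F.ji
  have hi3 : i ∈ H ⊓ centralizer ({a} : Set P) ⊓ centralizer ({b} : Set P) ⊓
      centralizer ({i} : Set P) :=
    ⟨⟨⟨hi, mem_cen_iff.2 F.ia⟩, mem_cen_iff.2 F.ib⟩, mem_cen_iff.2 (Commute.refl i)⟩
  have c4 := D.card_inf_cen _ j i hi3 F.ij
  have c5 : 2 ≤ Nat.card ↥(H ⊓ centralizer ({a} : Set P) ⊓ centralizer ({b} : Set P) ⊓
      centralizer ({i} : Set P) ⊓ centralizer ({j} : Set P)) := by
    have hcard : ({1, z} : Finset P).card = 2 := Finset.card_pair (fun h => D.z1 h.symm)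
    rw [← hcard]
    apply card_ge_of_finset_subset
    intro u hu
    simp only [Finset.mem_insert, Finset.mem_singleton] at hu
    rcases hu with rfl | rfl
    · exact one_mem _
    · exact ⟨⟨⟨⟨hz, mem_cen_iff.2 (D.z_commute a)⟩, mem_cen_iff.2 (D.z_commute b)⟩,
        mem_cen_iff.2 (D.z_commute i)⟩, mem_cen_iff.2 (D.z_commute j)⟩
  have hle : Nat.card ↥H ≤ Nat.card P := Subgroup.card_le_card_group H
  apply Subgroup.eq_top_of_card_eq
  omega

end Cfsg.Agent.Helper20.ExMinus
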