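import Mathlib
import Cfsg.Agent.Lib.Helper20.ExMinusC

/-!
# Extraspecial group of order 32 of minus type: the action of `Aut P` on the five singular
cosets (helper20)
-/

set_option autoImplicit false

namespace Cfsg.Agent.Helper20.ExMinus

open Subgroup

variable {P : Type*} [Group P] {z : P}

/-- five pairwise anticommuting involutions exhausting the noncentral involutions mod `z`,
the first four of which generate -/
structure Five (z : P) (t : Fin 5 → P) : Prop where
  sq : ∀ k, t k * t k = 1
  nc : ∀ k l, k ≠ l → ¬ Commute (t k) (t l)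
  exh : ∀ x : P, x * x = 1 → x ≠ 1 → x ≠ z → ∃ k, x = t k ∨ x = t k * z
  gen : Subgroup.closure (Set.range (fun k : Fin 4 => t k.castSucc)) = ⊤

variable {t : Fin 5 → P}

theorem Five.ne (D : Data z) (T : Five z t) (k : Fin 5) : t k ≠ 1 ∧ t k ≠ z := by
  obtain ⟨l, hl⟩ : ∃ l : Fin 5, k ≠ l := by
    by_cases h : k = 0
    · exact ⟨1, by rw [h]; decide⟩
    · exact ⟨0, h⟩
  exact D.ne_of_not_commute (T.nc k l hl)

theorem Five.coset_inj (D : Data z) (T : Five z t) {k l : Fin 5}
    (h : t k = t l ∨ t k = t l * z) : k = l := by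
  by_contra hkl
  apply T.nc k l hkl
  rcases h with h | h
  · rw [h]
  · rw [h, D.mul_z_commute_iff]

theorem Data.aut_z (D : Data z) (φ : MulAut P) : φ z = z := by
  have h1 : φ z ≠ 1 := by
    intro h
    apply D.z1
    have : φ z = φ 1 := by rw [h, map_one]
    exact φ.injective this
  rcases D.cen (φ z) (fun a => by
    obtain ⟨a', rfl⟩ := φ.surjective a
    rw [← map_mul, ← map_mul, D.zc]) with h | h
  · exact absurd h h1
  · exact h

/-- the relation "`φ` maps the coset of `t k` to the coset of `t l`" -/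
def Rel (z : P) (t : Fin 5 → P) (φ : MulAut P) (k l : Fin 5) : Prop :=
  φ (t k) = t l ∨ φ (t k) = t l * z

theorem Five.exists_rel (D : Data z) (T : Five z t) (φ : MulAut P) (k : Fin 5) :
    ∃ l, Rel z t φ k l := by
  apply T.exh
  · rw [← map_mul, T.sq, map_one]
  · intro h
    apply (T.ne D k).1
    have : φ (t k) = φ 1 := by rw [h, map_one]
    exact φ.injective this
  · intro h
    apply (T.ne D k).2
    have : φ (t k) = φ z := by rw [h, D.aut_z]
    exact φ.injective this

theorem Five.rel_unique (D : Data z) (T : Five z t) {φ : MulAut P} {k l l' : Fin 5}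
    (h : Rel z t φ k l) (h' : Rel z t φ k l') : l = l' := by
  apply T.coset_inj D
  rcases h with h | h <;> rcases h' with h' | h'
  · left; rw [← h, h']
  · right; rw [← h, h']
  · right
    have : t l * z = t l' := by rw [← h, h']
    rw [← this, mul_assoc, D.zz, mul_one]
  · left
    have : t l * z = t l' * z := by rw [← h, h']
    exact mul_right_cancel this

/-- the induced map on the five cosets -/
noncomputable def Five.f (D : Data z) (T : Five z t) (φ : MulAut P) (k : Fin 5) : Fin 5 :=
  Classical.choose (T.exists_rel D φ k)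

theorem Five.f_spec (D : Data z) (T : Five z t) (φ : MulAut P) (k : Fin 5) :
    Rel z t φ k (T.f D φ k) := Classical.choose_spec (T.exists_rel D φ k)

theorem Five.f_eq (D : Data z) (T : Five z t) {φ : MulAut P} {k l : Fin 5}
    (h : Rel z t φ k l) : T.f D φ k = l := T.rel_unique D (T.f_spec D φ k) h

theorem Five.f_one (D : Data z) (T : Five z t) (k : Fin 5) : T.f D 1 k = k :=
  T.f_eq D (Or.inl rfl)

theorem Five.rel_mul (D : Data z) (T : Five z t) {φ ψ : MulAut P} {k l m : Fin 5}
    (h1 : Rel z t ψ k l) (h2 : Rel z t φ l m) : Rel z t (φ * ψ) k m := by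
  unfold Rel at *
  rw [MulAut.mul_apply]
  rcases h1 with h1 | h1 <;> rcases h2 with h2 | h2
  · left; rw [h1, h2]
  · right; rw [h1, h2]
  · right; rw [h1, map_mul, h2, D.aut_z]
  · left; rw [h1, map_mul, h2, D.aut_z, mul_assoc, D.zz, mul_one]

theorem Five.f_mul (D : Data z) (T : Five z t) (φ ψ : MulAut P) (k : Fin 5) :
    T.f D (φ * ψ) k = T.f D φ (T.f D ψ k) :=
  T.f_eq D (T.rel_mul D (T.f_spec D ψ k) (T.f_spec D φ _))

/-- the permutation of the five cosets induced by an automorphism -/
noncomputable def Five.perm (D : Data z) (T : Five z t) (φ : MulAut P) : Equiv.Perm (Fin 5) where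
  toFun := T.f D φ
  invFun := T.f D φ⁻¹
  left_inv k := by rw [← T.f_mul D, inv_mul_cancel, T.f_one D]
  right_inv k := by rw [← T.f_mul D, mul_inv_cancel, T.f_one D]

theorem Five.perm_apply (D : Data z) (T : Five z t) (φ : MulAut P) (k : Fin 5) :
    T.perm D φ k = T.f D φ k := rfl

/-- the action homomorphism -/
noncomputable def Five.Phi (D : Data z) (T : Five z t) : MulAut P →* Equiv.Perm (Fin 5) where
  toFun := T.perm D
  map_one' := by
    ext k
    rw [T.perm_apply D, T.f_one D]
    rfl
  map_mul' φ ψ := by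
    ext k
    rw [T.perm_apply D, T.f_mul D]
    rfl

theorem Five.Phi_apply (D : Data z) (T : Five z t) (φ : MulAut P) (k : Fin 5) :
    T.Phi D φ k = T.f D φ k := rfl

theorem Five.Phi_eq_of_rel (D : Data z) (T : Five z t) (φ : MulAut P) (σ : Equiv.Perm (Fin 5))
    (h : ∀ k, Rel z t φ k (σ k)) : T.Phi D φ = σ := by
  ext k
  rw [T.Phi_apply D, T.f_eq D (h k)]

end Cfsg.Agent.Helper20.ExMinus

namespace Cfsg.Agent.Helper20.ExMinus

variable {P : Type*} [Group P] {z a b i j : P}

theorem Frame.five (D : Data z) (F : Frame z a b i j) [Finite P] (h32 : Nat.card P = 32)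
    (hminus : ∀ A : Subgroup P, Cfsg.IsElementaryAbelian 2 A → Nat.card ↥A ≤ 4) :
    Five z (tt a b i j) :=
  ⟨F.tt_sq D, F.tt_not_commute D, fun _ hx hx1 hxz => F.tt_exhaust D hminus hx hx1 hxz,
    F.closure_tt D h32⟩

end Cfsg.Agent.Helper20.ExMinus
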