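import Mathlib
import Cfsg.Agent.Lib.Helper20.ExMinusD

/-!
# Extraspecial 2-groups: the reflections `g ↦ g * x ^ [g, x]` for `x * x = z`, and surjectivity
of the action on the five singular cosets (helper20)
-/

set_option autoImplicit false

namespace Cfsg.Agent.Helper20.ExMinus

open Subgroup

variable {P : Type*} [Group P] {z : P}

open Classical in
/-- the reflection in an element of order four -/
noncomputable def reflFun (x g : P) : P := if Commute g x then g else g * x

theorem reflFun_pos {x g : P} (h : Commute g x) : reflFun x g = g := by
  unfold reflFun; exact if_pos h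

theorem reflFun_neg {x g : P} (h : ¬ Commute g x) : reflFun x g = g * x := by
  unfold reflFun; exact if_neg h

theorem Data.reflFun_mul (D : Data z) {x : P} (hx : x * x = z) (g h : P) :
    reflFun x (g * h) = reflFun x g * reflFun x h := by
  by_cases hg : Commute g x <;> by_cases hh : Commute h x
  · have : Commute (g * h) x := by rw [D.mul_commute_iff]; simp [hg, hh]
    rw [reflFun_pos this, reflFun_pos hg, reflFun_pos hh]
  · have : ¬ Commute (g * h) x := by rw [D.mul_commute_iff]; simp [hg, hh]
    rw [reflFun_neg this, reflFun_pos hg, reflFun_neg hh, mul_assoc]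
  · have : ¬ Commute (g * h) x := by rw [D.mul_commute_iff]; simp [hg, hh]
    rw [reflFun_neg this, reflFun_neg hg, reflFun_pos hh, mul_assoc, mul_assoc, hh.eq]
  · have : Commute (g * h) x := by rw [D.mul_commute_iff]; simp [hg, hh]
    rw [reflFun_pos this, reflFun_neg hg, reflFun_neg hh]
    have hxh : ¬ Commute x h := fun hc => hh hc.symm
    have e := D.anti hxh
    symm
    calc g * x * (h * x) = g * (x * h) * x := by group
      _ = g * (z * h * x) * x := by rw [e]
      _ = g * (z * h) * (x * x) := by group
      _ = g * (h * z) * z := by rw [hx, D.zc h]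
      _ = g * h * (z * z) := by group
      _ = g * h := by rw [D.zz, mul_one]

/-- the reflection as a homomorphism -/
noncomputable def Data.reflHom (D : Data z) {x : P} (hx : x * x = z) : P →* P where
  toFun := reflFun x
  map_one' := reflFun_pos (Commute.one_left x)
  map_mul' := D.reflFun_mul hx

theorem Data.reflHom_injective (D : Data z) {x : P} (hx : x * x = z) :
    Function.Injective (D.reflHom hx) := by
  rw [injective_iff_map_eq_one]
  intro g hg
  change reflFun x g = 1 at hg
  by_cases hc : Commute g x
  · rwa [reflFun_pos hc] at hg
  · exfalso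
    rw [reflFun_neg hc] at hg
    apply hc
    have : g = x⁻¹ := eq_inv_of_mul_eq_one_left hg
    rw [this]
    exact (Commute.refl x).inv_left

/-- the reflection as an automorphism -/
noncomputable def Data.refl (D : Data z) [Finite P] {x : P} (hx : x * x = z) : MulAut P :=
  MulEquiv.ofBijective (D.reflHom hx)
    (Finite.injective_iff_bijective.1 (D.reflHom_injective hx))

theorem Data.refl_apply (D : Data z) [Finite P] {x : P} (hx : x * x = z) (g : P) :
    D.refl hx g = reflFun x g := rfl

variable {t : Fin 5 → P}

theorem Five.mul_sq (D : Data z) (T : Five z t) {k l : Fin 5} (hkl : k ≠ l) :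
    (t k * t l) * (t k * t l) = z := by
  rcases D.sq (t k * t l) with h | h
  · exfalso
    rw [D.sq_mul_iff] at h
    simp [T.sq, T.nc k l hkl] at h
  · exact h

/-- the reflection in `t k * t l` induces the transposition `(k l)` -/
theorem Five.Phi_refl (D : Data z) (T : Five z t) [Finite P] {k l : Fin 5} (hkl : k ≠ l) :
    T.Phi D (D.refl (T.mul_sq D hkl)) = Equiv.swap k l := by
  apply T.Phi_eq_of_rel D
  intro m
  unfold Rel
  rw [D.refl_apply]
  by_cases hmk : m = k
  · subst hmk
    rw [Equiv.swap_apply_left]
    left
    have : ¬ Commute (t m) (t m * t l) := by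
      rw [D.commute_mul_iff]
      simp [T.nc m l hkl]
    rw [reflFun_neg this, ← mul_assoc, T.sq, one_mul]
  · by_cases hml : m = l
    · subst hml
      rw [Equiv.swap_apply_right]
      right
      have : ¬ Commute (t m) (t k * t m) := by
        rw [D.commute_mul_iff]
        simp [T.nc m k hmk]
      rw [reflFun_neg this]
      calc t m * (t k * t m) = (t m * t k) * t m := by group
        _ = (t k * t m * z) * t m := by rw [D.anti' (T.nc m k hmk)]
        _ = t k * t m * (z * t m) := by group
        _ = t k * t m * (t m * z) := by rw [D.zc]
        _ = t k * (t m * t m) * z := by group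
        _ = t k * z := by rw [T.sq, mul_one]
    · rw [Equiv.swap_apply_of_ne_of_ne hmk hml]
      left
      have : Commute (t m) (t k * t l) := by
        rw [D.commute_mul_iff]
        simp [T.nc m k hmk, T.nc m l hml]
      rw [reflFun_pos this]

theorem Five.Phi_surjective (D : Data z) (T : Five z t) [Finite P] :
    Function.Surjective (T.Phi D) := by
  rw [← MonoidHom.range_eq_top, eq_top_iff, ← Equiv.Perm.closure_isSwap, Subgroup.closure_le]
  rintro σ ⟨k, l, hkl, rfl⟩
  exact ⟨_, T.Phi_refl D hkl⟩

end Cfsg.Agent.Helper20.ExMinus
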