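import Mathlib
import Cfsg.Agent.Lib.Helper20.ExMinusE

/-!
# Extraspecial group of order 32 of minus type: `Out P ≃ S₅` (helper20)
-/

set_option autoImplicit false

namespace Cfsg.Agent.Helper20.ExMinus

open Subgroup

variable {P : Type*} [Group P] {z : P} {t : Fin 5 → P}

theorem Five.rel_conj (D : Data z) (T : Five z t) (g : P) (k : Fin 5) :
    Rel z t (MulAut.conj g) k k := by
  unfold Rel
  rw [MulAut.conj_apply]
  by_cases h : Commute g (t k)
  · left
    rw [h.eq, mul_inv_cancel_right]
  · right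
    rw [D.anti' h, mul_assoc (t k), mul_assoc (t k), D.zc, mul_assoc z, mul_inv_cancel, mul_one]

theorem Five.range_conj_le_ker (D : Data z) (T : Five z t) :
    (MulAut.conj : P →* MulAut P).range ≤ (T.Phi D).ker := by
  rintro φ ⟨g, rfl⟩
  rw [MonoidHom.mem_ker]
  exact T.Phi_eq_of_rel D _ 1 (fun k => T.rel_conj D g k)

theorem Five.rel_of_mem_ker (D : Data z) (T : Five z t) {φ : MulAut P} (h : φ ∈ (T.Phi D).ker)
    (k : Fin 5) : Rel z t φ k k := by
  have h1 := T.f_spec D φ k
  have h2 : T.f D φ k = k := by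
    rw [← T.Phi_apply D, MonoidHom.mem_ker.1 h]
    rfl
  rwa [h2] at h1

open Classical in
/-- the sign pattern of an automorphism in the kernel -/
noncomputable def Five.pattern (_T : Five z t) (φ : MulAut P) : Fin 4 → Bool :=
  fun k => decide (φ (t k.castSucc) = t k.castSucc)

theorem Five.pattern_injOn (D : Data z) (T : Five z t) {φ ψ : MulAut P}
    (hφ : φ ∈ (T.Phi D).ker) (hψ : ψ ∈ (T.Phi D).ker) (h : T.pattern φ = T.pattern ψ) :
    φ = ψ := by
  have hgen : ∀ k : Fin 4, φ (t k.castSucc) = ψ (t k.castSucc) := by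
    intro k
    have hk := congrFun h k
    unfold Five.pattern at hk
    have hk' : φ (t k.castSucc) = t k.castSucc ↔ ψ (t k.castSucc) = t k.castSucc := by
      simpa using hk
    rcases T.rel_of_mem_ker D hφ k.castSucc with h1 | h1
    · rw [h1, hk'.1 h1]
    · rcases T.rel_of_mem_ker D hψ k.castSucc with h2 | h2
      · rw [hk'.2 h2, h2]
      · rw [h1, h2]
  have hhom : φ.toMonoidHom = ψ.toMonoidHom := by
    apply MonoidHom.eq_of_eqOn_dense T.gen
    rintro _ ⟨k, rfl⟩
    exact hgen k
  ext g
  exact DFunLike.congr_fun hhom g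

theorem Five.card_ker_le (D : Data z) (T : Five z t) [Finite P] :
    Nat.card ↥(T.Phi D).ker ≤ 16 := by
  have hinj : Function.Injective (fun φ : ↥(T.Phi D).ker => T.pattern (φ : MulAut P)) := by
    intro φ ψ h
    exact Subtype.ext (T.pattern_injOn D φ.2 ψ.2 h)
  have h1 := Nat.card_le_card_of_injective _ hinj
  have h2 : Nat.card (Fin 4 → Bool) = 16 := by
    rw [Nat.card_eq_fintype_card]
    simp
  omega

theorem ker_conj : (MulAut.conj : P →* MulAut P).ker = Subgroup.center P := by
  ext g
  rw [MonoidHom.mem_ker, Subgroup.mem_center_iff]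
  constructor
  · intro h a
    have := DFunLike.congr_fun h a
    rw [MulAut.conj_apply, MulAut.one_apply] at this
    calc a * g = g * a * g⁻¹ * g := by rw [this]
      _ = g * a := by group
  · intro h
    ext a
    rw [MulAut.conj_apply, MulAut.one_apply, ← h a, mul_inv_cancel_right]

theorem card_range_conj [Finite P] (h32 : Nat.card P = 32)
    (hc : Nat.card (Subgroup.center P) = 2) :
    Nat.card ↥(MulAut.conj : P →* MulAut P).range = 16 := by
  rw [← Subgroup.index_ker, ker_conj]
  have := Subgroup.card_mul_index (Subgroup.center P)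
  rw [hc, h32] at this
  omega

theorem Five.ker_eq (D : Data z) (T : Five z t) [Finite P] (h32 : Nat.card P = 32)
    (hc : Nat.card (Subgroup.center P) = 2) :
    (MulAut.conj : P →* MulAut P).range = (T.Phi D).ker := by
  apply Subgroup.eq_of_le_of_card_ge (T.range_conj_le_ker D)
  rw [card_range_conj h32 hc]
  exact T.card_ker_le D

/-- **Main theorem**: `Out(2^{1+4}_-) ≃ S₅`. -/
theorem main [Finite P] (hex : Cfsg.IsExtraspecial 2 P) (h32 : Nat.card P = 32)
    (hminus : ∀ A : Subgroup P, Cfsg.IsElementaryAbelian 2 A → Nat.card ↥A ≤ 4)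
    [hn : (MulAut.conj : P →* MulAut P).range.Normal] :
    Nat.card ↥(MulAut.conj : P →* MulAut P).range = 16 ∧ Nat.card (MulAut P) = 1920 ∧
      Nonempty ((MulAut P ⧸ (MulAut.conj : P →* MulAut P).range) ≃* Equiv.Perm (Fin 5)) := by
  obtain ⟨z, D⟩ := exists_data hex
  obtain ⟨a, b, i, j, F⟩ := D.exists_frame h32 hminus
  have T := F.five D h32 hminus
  have hc : Nat.card (Subgroup.center P) = 2 := hex.2
  have h16 := card_range_conj h32 hc
  have hker := T.ker_eq D h32 hc
  have e : (MulAut P ⧸ (MulAut.conj : P →* MulAut P).range) ≃* Equiv.Perm (Fin 5) :=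
    (QuotientGroup.quotientMulEquivOfEq hker).trans
      (QuotientGroup.quotientKerEquivOfSurjective (T.Phi D) (T.Phi_surjective D))
  refine ⟨h16, ?_, ⟨e⟩⟩
  have h1 := Subgroup.card_eq_card_quotient_mul_card_subgroup
    (MulAut.conj : P →* MulAut P).range
  have h2 : Nat.card (Equiv.Perm (Fin 5)) = 120 := by
    rw [Nat.card_eq_fintype_card, Fintype.card_perm, Fintype.card_fin]
    rfl
  rw [h16, Nat.card_congr e.toEquiv, h2] at h1
  rw [h1]

end Cfsg.Agent.Helper20.ExMinus
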