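import Mathlib

set_option autoImplicit false

namespace Cfsg.Agent.Helper20

section

variable (X : Type*)

/-- the abelianization map of a free group, with values in `X →₀ ℤ` -/
noncomputable def freeAb : FreeGroup X →* Multiplicative (X →₀ ℤ) :=
  (AddMonoidHom.toMultiplicativeRight
    ((FreeAbelianGroup.equivFinsupp X).toAddMonoidHom :
      Additive (Abelianization (FreeGroup X)) →+ (X →₀ ℤ))).comp Abelianization.of

theorem freeAb_eq_one_iff (x : FreeGroup X) :
    freeAb X x = 1 ↔ x ∈ commutator (FreeGroup X) := by
  rw [← Abelianization.ker_of, MonoidHom.mem_ker]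
  unfold freeAb
  rw [MonoidHom.comp_apply]
  constructor
  · intro h
    have h1 : (FreeAbelianGroup.equivFinsupp X) (Additive.ofMul (Abelianization.of x)) = 0 := h
    have h2 : (FreeAbelianGroup.equivFinsupp X) (Additive.ofMul (Abelianization.of x)) =
        (FreeAbelianGroup.equivFinsupp X) 0 := by rw [h1, map_zero]
    exact (FreeAbelianGroup.equivFinsupp X).injective h2
  · intro h
    rw [h, map_one]

theorem freeAb_surjective : Function.Surjective (freeAb X) := by
  intro w
  obtain ⟨a, ha⟩ := (FreeAbelianGroup.equivFinsupp X).surjective (Multiplicative.toAdd w)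
  obtain ⟨x, hx⟩ := QuotientGroup.mk_surjective (Additive.toMul a)
  refine ⟨x, ?_⟩
  unfold freeAb
  rw [MonoidHom.comp_apply]
  have h1 : Abelianization.of x = Additive.toMul a := hx
  rw [h1]
  exact ha

end

end Cfsg.Agent.Helper20
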