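import Mathlib
import Cfsg.Agent.Lib.Helper20.FrobDecomp

set_option autoImplicit false

namespace Cfsg.Agent.Helper20

open Finset

/-- the largest divisor of `N` coprime to `n` is coprime to `n` -/
theorem coprime_div_gcd_pow (N n : ℕ) (hN : 0 < N) :
    Nat.Coprime (N / Nat.gcd N (n ^ N)) n := by
  set a := Nat.gcd N (n ^ N) with ha
  set m := N / a with hm
  have ham : a * m = N := Nat.mul_div_cancel' (Nat.gcd_dvd_left N (n ^ N))
  rw [Nat.coprime_iff_gcd_eq_one]
  by_contra hne
  obtain ⟨q, hq, hqd⟩ := Nat.exists_prime_and_dvd hne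
  have hqm : q ∣ m := dvd_trans hqd (Nat.gcd_dvd_left m n)
  have hqn : q ∣ n := dvd_trans hqd (Nat.gcd_dvd_right m n)
  set j := N.factorization q with hj
  have hjN : j < N := Nat.factorization_lt q hN.ne'
  have h1 : q ^ j ∣ N := Nat.ordProj_dvd N q
  have h2 : q ^ j ∣ n ^ N :=
    dvd_trans (pow_dvd_pow q hjN.le) (pow_dvd_pow_of_dvd hqn N)
  have h3 : q ^ j ∣ a := Nat.dvd_gcd h1 h2
  have h4 : q ^ (j + 1) ∣ N := by
    rw [← ham, pow_succ]
    exact Nat.mul_dvd_mul h3 hqm
  exact Nat.pow_succ_factorization_not_dvd hN.ne' hq h4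

variable {G : Type*} [Group G] [Fintype G] [DecidableEq G]

/-- Variant of `card_fiber_eq` for an element `y` with `y ^ P = 1`. -/
theorem card_fiber_eq' (P s e f : ℕ) (he1 : e ≡ 1 [MOD P]) (he0 : s ∣ e) (hf0 : P ∣ f)
    (hf1 : f ≡ 1 [MOD s]) (hef : e + f ≡ 1 [MOD P * s]) (y : G) (hy : y ^ P = 1) :
    (univ.filter (fun x : G => x ^ (P * s) = 1 ∧ x ^ e = y)).card =
      (univ.filter (fun z : G => y * z = z * y ∧ z ^ s = 1)).card := by
  apply Finset.card_nbij' (fun x => x ^ f) (fun z => y * z)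
  · intro x hx
    simp only [Finset.coe_filter, Finset.mem_univ, true_and, Set.mem_ofPred_eq] at hx ⊢
    obtain ⟨hx1, hx2⟩ := hx
    constructor
    · rw [← hx2, ← pow_add, ← pow_add, add_comm]
    · obtain ⟨k, hk⟩ := hf0
      rw [← pow_mul, hk, mul_assoc, mul_comm k s, ← mul_assoc, pow_mul, hx1, one_pow]
  · intro z hz
    simp only [Finset.coe_filter, Finset.mem_univ, true_and, Set.mem_ofPred_eq] at hz ⊢
    obtain ⟨hz1, hz2⟩ := hz
    have hcomm : Commute y z := hz1
    constructor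
    · rw [hcomm.mul_pow, pow_mul, hy, one_pow, one_mul, mul_comm P s, pow_mul, hz2, one_pow]
    · rw [hcomm.mul_pow]
      have h1 : y ^ e = y := by
        have : y ^ e = y ^ 1 := by
          rw [pow_eq_pow_iff_modEq]
          exact he1.of_dvd (orderOf_dvd_of_pow_eq_one hy)
        rw [this, pow_one]
      have h2 : z ^ e = 1 := by
        obtain ⟨k, hk⟩ := he0
        rw [hk, pow_mul, hz2, one_pow]
      rw [h1, h2, mul_one]
  · intro x hx
    simp only [Finset.coe_filter, Finset.mem_univ, true_and, Set.mem_ofPred_eq] at hx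
    obtain ⟨hx1, hx2⟩ := hx
    change y * x ^ f = x
    rw [← hx2, ← pow_add]
    have : x ^ (e + f) = x ^ 1 := by
      rw [pow_eq_pow_iff_modEq]
      exact hef.of_dvd (orderOf_dvd_of_pow_eq_one hx1)
    rw [this, pow_one]
  · intro z hz
    simp only [Finset.coe_filter, Finset.mem_univ, true_and, Set.mem_ofPred_eq] at hz
    obtain ⟨hz1, hz2⟩ := hz
    have hcomm : Commute y z := hz1
    change (y * z) ^ f = z
    rw [hcomm.mul_pow]
    have h1 : y ^ f = 1 := by
      obtain ⟨k, hk⟩ := hf0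
      rw [hk, pow_mul, hy, one_pow]
    have h2 : z ^ f = z := by
      have : z ^ f = z ^ 1 := by
        rw [pow_eq_pow_iff_modEq]
        exact hf1.of_dvd (orderOf_dvd_of_pow_eq_one hz2)
      rw [this, pow_one]
    rw [h1, h2, one_mul]

end Cfsg.Agent.Helper20
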