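import Mathlib
import Cfsg.Agent.Lib.Helper14.GAG40Defs

set_option autoImplicit false

/-!
# S4840 (Gagola, solvable case), piece QSTR: a normal generalized quaternion subgroup of order at
least `16` has a cyclic subgroup of index `2` that is normal in the whole group
-/

namespace Cfsg.Agent.Helper14.Gag40

open Cfsg

section QSTR
variable {X : Type*} [Group X]

/-- an element of a quaternion group of order more than `4` is a rotation, hence a power of `a 1` -/
theorem qstr_mem_zpowers {m : ℕ} [NeZero m] (q : QuaternionGroup m) (hq : 4 < orderOf q) :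
    q ∈ Subgroup.zpowers (QuaternionGroup.a 1 : QuaternionGroup m) := by
  cases q with
  | a i =>
    rw [Subgroup.mem_zpowers_iff]
    refine ⟨(i.val : ℤ), ?_⟩
    rw [zpow_natCast, QuaternionGroup.a_one_pow, ZMod.natCast_zmod_val]
  | xa i =>
    rw [QuaternionGroup.orderOf_xa] at hq
    exact absurd hq (lt_irrefl 4)

theorem qstr [Finite X] (T : Subgroup X) [T.Normal] {n : ℕ} (hn : 2 ≤ n)
    (e : T ≃* QuaternionGroup (2 ^ n)) :
    ∃ A : Subgroup X, A.Normal ∧ A ≤ T ∧ IsCyclic A ∧ A.relIndex T = 2 := by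
  have hm : NeZero (2 ^ n) := ⟨by positivity⟩
  have hm4 : 4 ≤ 2 ^ n := by
    calc 4 = 2 ^ 2 := by norm_num
      _ ≤ 2 ^ n := Nat.pow_le_pow_right (by norm_num) hn
  set t₀ : T := e.symm (QuaternionGroup.a 1) with ht₀
  have hord₀ : orderOf t₀ = 2 * 2 ^ n := by
    rw [ht₀, e.symm.orderOf_eq, QuaternionGroup.orderOf_a_one]
  have hordX : orderOf (t₀ : X) = 2 * 2 ^ n := by
    rw [Subgroup.orderOf_coe, hord₀]
  -- conjugates of `t₀` are powers of `t₀`
  have hconj : ∀ g : X, g * (t₀ : X) * g⁻¹ ∈ Subgroup.zpowers (t₀ : X) := by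
    intro g
    have hT : g * (t₀ : X) * g⁻¹ ∈ T := Subgroup.Normal.conj_mem inferInstance _ t₀.2 g
    set s : T := ⟨g * (t₀ : X) * g⁻¹, hT⟩ with hs
    have hso : orderOf s = 2 * 2 ^ n := by
      rw [← Subgroup.orderOf_coe, hs]
      show orderOf (g * (t₀ : X) * g⁻¹) = 2 * 2 ^ n
      rw [← hordX]
      have := orderOf_injective (MulAut.conj g).toMonoidHom (MulAut.conj g).injective (t₀ : X)
      simpa [MulAut.conj_apply] using this
    have h1 : 4 < orderOf (e s) := by
      rw [e.orderOf_eq, hso]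
      omega
    obtain ⟨k, hk⟩ := Subgroup.mem_zpowers_iff.mp (qstr_mem_zpowers (e s) h1)
    have h2 : s = t₀ ^ k := by
      apply e.injective
      rw [map_zpow, ht₀, e.apply_symm_apply, hk]
    rw [Subgroup.mem_zpowers_iff]
    refine ⟨k, ?_⟩
    have := congrArg Subtype.val h2
    simpa [hs] using this.symm
  refine ⟨Subgroup.zpowers (t₀ : X), ⟨?_⟩, ?_, ?_, ?_⟩
  · intro x hx g
    obtain ⟨k, rfl⟩ := Subgroup.mem_zpowers_iff.mp hx
    have : g * (t₀ : X) ^ k * g⁻¹ = (g * (t₀ : X) * g⁻¹) ^ k := by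
      rw [conj_zpow]
    rw [this]
    exact Subgroup.zpow_mem _ (hconj g) k
  · rw [Subgroup.zpowers_le]
    exact t₀.2
  · infer_instance
  · have hle : Subgroup.zpowers (t₀ : X) ≤ T := by
      rw [Subgroup.zpowers_le]
      exact t₀.2
    have hcardT : Nat.card T = 4 * 2 ^ n := by
      rw [Nat.card_congr e.toEquiv, Nat.card_eq_fintype_card, QuaternionGroup.card]
    have hcardA : Nat.card (Subgroup.zpowers (t₀ : X)) = 2 * 2 ^ n := by
      rw [Nat.card_zpowers, hordX]
    have h1 := Subgroup.relIndex_mul_relIndex (⊥ : Subgroup X) _ _ bot_le hle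
    rw [Subgroup.relIndex_bot_left, Subgroup.relIndex_bot_left] at h1
    rw [hcardT, hcardA] at h1
    have hpos : 0 < 2 ^ n := by positivity
    nlinarith [h1]

end QSTR

end Cfsg.Agent.Helper14.Gag40
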