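import Mathlib
import Cfsg.Agent.Lib.Helper20.GL4SubDefs

set_option autoImplicit false

namespace Cfsg.Agent.Helper20.GL4Sub

/-- ADAPT -/
theorem adapt {G : Type*} [Group G] (S K : Subgroup G) (hSK : S ≤ K)
    (hN : K ≤ Subgroup.normalizer (S : Set G))
    (hC : K ⊓ Subgroup.centralizer (S : Set G) = ⊥) :
    (S.subgroupOf K).Normal ∧
      Subgroup.centralizer ((S.subgroupOf K : Subgroup K) : Set K) = ⊥ := by
  refine ⟨Subgroup.normal_subgroupOf_iff_le_normalizer hSK |>.2 hN, ?_⟩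
  rw [eq_bot_iff]
  intro x hx
  rw [Subgroup.mem_bot]
  have hmem : (x : G) ∈ K ⊓ Subgroup.centralizer (S : Set G) := by
    refine ⟨x.2, ?_⟩
    change (x : G) ∈ Subgroup.centralizer (S : Set G)
    rw [Subgroup.mem_centralizer_iff]
    intro s hs
    have h1 := Subgroup.mem_centralizer_iff.1 hx ⟨s, hSK hs⟩
      (by rw [SetLike.mem_coe, Subgroup.mem_subgroupOf]; exact hs)
    exact congrArg Subtype.val h1
  rw [hC, Subgroup.mem_bot] at hmem
  exact Subtype.ext hmem

end Cfsg.Agent.Helper20.GL4Sub
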