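import Mathlib
import Cfsg.Agent.Lib.Helper20.GL4SubDefs

set_option autoImplicit false

namespace Cfsg.Agent.Helper20.GL4Sub

/-- EQ2520 -/
theorem eq_of_card_2520 (h8 : Idx8) (S K : Subgroup A8) (hSK : S ≤ K)
    (hN : K ≤ Subgroup.normalizer (S : Set A8)) (h : Nat.card S = 2520) : K = S := by
  by_contra hne
  have hlt : S < K := lt_of_le_of_ne hSK (Ne.symm hne)
  have hdvd : Nat.card S ∣ Nat.card K := Subgroup.card_dvd_of_le hSK
  have hKA : Nat.card K ∣ Nat.card A8 := Subgroup.card_subgroup_dvd_card K
  have hcardlt : Nat.card S < Nat.card K := by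
    by_contra hle
    push Not at hle
    exact hne (Subgroup.eq_of_le_of_card_ge hSK hle).symm
  have hidx : K.index * Nat.card K = 20160 := by
    rw [← card_A8, mul_comm]; exact Subgroup.card_mul_index K
  rw [h] at hdvd hcardlt
  have hKtop : K = ⊤ := by
    by_contra hK
    have h8' := h8 K hK
    obtain ⟨j, hj⟩ := hdvd
    have hj2 : 2 ≤ j := by
      by_contra hj'
      push Not at hj'
      interval_cases j <;> omega
    have : K.index * (2520 * j) = 20160 := by rw [← hj]; exact hidx
    nlinarith
  rw [hKtop] at hN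
  have hnorm : S.Normal := Subgroup.normalizer_eq_top_iff.1 (top_le_iff.1 hN)
  have : IsSimpleGroup A8 := alternatingGroup.isSimpleGroup (by simp)
  rcases hnorm.eq_bot_or_eq_top with h0 | h0
  · rw [h0, Subgroup.card_bot] at h; omega
  · rw [h0, Subgroup.card_top, card_A8] at h; omega

end Cfsg.Agent.Helper20.GL4Sub
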