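import Mathlib
import Cfsg.Agent.Lib.Helper20.GL4SubDefs

set_option autoImplicit false

namespace Cfsg.Agent.Helper20.GL4Sub

namespace KL

theorem conj_mem_normalizer {G : Type*} [Group G] {S Y : Subgroup G} {a : G}
    (hYS : Y ≤ Subgroup.normalizer (S : Set G)) (ha : a ∈ Subgroup.normalizer (Y : Set G))
    {s : G} (hs : s ∈ Y) :
    s ∈ Subgroup.normalizer ((S.map (MulAut.conj a).toMonoidHom : Subgroup G) : Set G) := by
  have hy : a⁻¹ * s * a ∈ Y := (Subgroup.mem_normalizer_iff''.1 ha s).1 hs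
  have hyS := hYS hy
  rw [Subgroup.mem_normalizer_iff]
  intro h
  constructor
  · rintro ⟨t, ht, rfl⟩
    refine ⟨(a⁻¹ * s * a) * t * (a⁻¹ * s * a)⁻¹, (Subgroup.mem_normalizer_iff.1 hyS t).1 ht, ?_⟩
    simp only [MulEquiv.coe_toMonoidHom, MulAut.conj_apply]
    group
  · rintro ⟨t, ht, hte⟩
    simp only [MulEquiv.coe_toMonoidHom, MulAut.conj_apply] at hte
    refine ⟨(a⁻¹ * s * a)⁻¹ * t * (a⁻¹ * s * a), ?_, ?_⟩
    · exact (Subgroup.mem_normalizer_iff''.1 hyS t).1 ht
    · simp only [MulEquiv.coe_toMonoidHom, MulAut.conj_apply]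
      have : h = s⁻¹ * (a * t * a⁻¹) * s := by rw [hte]; group
      rw [this]; group

end KL

/-- KL -/
theorem normal_step (hO : Orders) : NormalStep := by
  intro S Y X hS hna hSY hYS hYX hXY a ha
  have haY : a ∈ Subgroup.normalizer (Y : Set A8) := hXY ha
  rw [Subgroup.mem_normalizer_iff_map_conj_eq]
  set T : Subgroup A8 := S.map (MulAut.conj a).toMonoidHom with hT
  have hcardT : Nat.card T = Nat.card S :=
    Subgroup.card_map_of_injective (MulAut.conj a).injective
  have hTY : T ≤ Y := by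
    rintro _ ⟨s, hs, rfl⟩
    simp only [MulEquiv.coe_toMonoidHom, MulAut.conj_apply]
    exact (Subgroup.mem_normalizer_iff.1 haY s).1 (hSY hs)
  have hTS : T ≤ Subgroup.normalizer (S : Set A8) := hTY.trans hYS
  have hST : S ≤ Subgroup.normalizer (T : Set A8) := fun s hs =>
    KL.conj_mem_normalizer hYS haY (hSY hs)
  have hnorm : ((S ⊓ T).subgroupOf S).Normal := by
    refine ⟨fun n hn g => ?_⟩
    rw [Subgroup.mem_subgroupOf] at hn ⊢
    refine ⟨?_, ?_⟩
    · exact S.mul_mem (S.mul_mem g.2 hn.1) (S.inv_mem g.2)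
    · exact (Subgroup.mem_normalizer_iff.1 (hST g.2) _).1 hn.2
  have := hS
  rcases hnorm.eq_bot_or_eq_top with h | h
  · exfalso
    rw [Subgroup.subgroupOf_eq_bot] at h
    have hd : S ⊓ T = ⊥ := by
      have := h.eq_bot
      rwa [inf_right_comm, inf_idem] at this
    have hc := card_sup_eq_mul S T hd hTS
    have hdvd : Nat.card (S ⊔ T : Subgroup A8) ∣ Nat.card A8 :=
      Subgroup.card_subgroup_dvd_card _
    rw [hc, hcardT, card_A8] at hdvd
    rcases hO S hS hna with h' | h' | h' | h' | h' <;> rw [h'] at hdvd <;> norm_num at hdvd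
  · rw [Subgroup.subgroupOf_eq_top] at h
    have hle : S ≤ T := fun s hs => (h hs).2
    exact (Subgroup.eq_of_le_of_card_ge hle (le_of_eq hcardT)).symm

end Cfsg.Agent.Helper20.GL4Sub
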