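import Mathlib
import Cfsg.Agent.Lib.Helper20.GL4SubDefs

set_option autoImplicit false

namespace Cfsg.Agent.Helper20.GL4Sub

namespace MIN

theorem subN_coreFree {G : Type*} [Group G] (hI : Inherit G) {K X : Subgroup G}
    (hCF : CoreFree K) (h : SubN K X) : CoreFree X := by
  induction h with
  | refl => exact hCF
  | step _ hYX hXY ih => exact hI _ _ ih hYX hXY

/-- a core-free simple subgroup is not commutative -/
theorem not_comm {G : Type*} [Group G] [Finite G] (S : Subgroup G) (hS : IsSimpleGroup S)
    (hCF : CoreFree S) : ¬ IsMulCommutative S := by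
  intro hc
  have := hS
  let _ : CommGroup S := { (inferInstance : Group S) with mul_comm := fun a b => hc.is_comm.comm a b }
  have hp : (Nat.card S).Prime := IsSimpleGroup.prime_card
  have hne : S ≠ ⊥ := by
    intro h
    rw [h, Subgroup.card_bot] at hp
    exact Nat.not_prime_one hp
  apply hne
  apply hCF S (le_refl _) Subgroup.le_normalizer
  rcases hp.eq_two_or_odd with h2 | hodd
  · left
    have : Fact (Nat.Prime 2) := ⟨Nat.prime_two⟩
    exact IsPGroup.of_card (n := 1) (by rw [h2, pow_one])
  · right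
    rw [Nat.coprime_two_right]
    exact Nat.odd_iff.2 hodd

end MIN

/-- MIN -/
theorem exists_min_simple {G : Type*} [Group G] [Finite G] (hI : Inherit G) (K : Subgroup G)
    (hK : K ≠ ⊥) (hCF : CoreFree K) :
    ∃ S : Subgroup G, SubN K S ∧ IsSimpleGroup S ∧ ¬ IsMulCommutative S := by
  classical
  have hne : ({X : Subgroup G | SubN K X ∧ X ≠ ⊥}).Nonempty := ⟨K, SubN.refl, hK⟩
  obtain ⟨S, ⟨hS1, hS2⟩, hmin⟩ :=
    WellFounded.has_min (measure (fun X : Subgroup G => Nat.card X)).wf _ hne
  have hsimple : IsSimpleGroup S := by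
    rw [Subgroup.isSimpleGroup_iff]
    refine ⟨hS2, fun Y hYS hYn => ?_⟩
    by_cases hY : Y = ⊥
    · exact Or.inl hY
    · right
      have hSY : S ≤ Subgroup.normalizer (Y : Set G) :=
        (Subgroup.normal_subgroupOf_iff_le_normalizer hYS).1 hYn
      have hsub : SubN K Y := SubN.step hS1 hYS hSY
      have hnot := hmin Y ⟨hsub, hY⟩
      have hle : Nat.card S ≤ Nat.card Y := by
        by_contra h
        push Not at h
        exact hnot h
      exact Subgroup.eq_of_le_of_card_ge hYS hle
  exact ⟨S, hS1, hsimple, MIN.not_comm S hsimple (MIN.subN_coreFree hI hCF hS1)⟩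

end Cfsg.Agent.Helper20.GL4Sub
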