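import Mathlib
import Cfsg.Agent.Lib.Helper20.GL4SubDefs
import Cfsg.Agent.S0989
import Cfsg.Agent.S0990

set_option autoImplicit false

namespace Cfsg.Agent.Helper20.GL4Sub

/-- N7 -/
theorem n7 : N7 := by
  intro P hP
  have : Fact (Nat.Prime 7) := ⟨by norm_num⟩
  have hP2 : Nat.card (P.map (alternatingGroup (Fin 8)).subtype) = 7 := by
    rw [Subgroup.card_map_of_injective (Subgroup.subtype_injective _)]; exact hP
  have hpg : IsPGroup 7 (P.map (alternatingGroup (Fin 8)).subtype) :=
    IsPGroup.of_card (n := 1) (by rw [hP2, pow_one])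
  obtain ⟨Q, hQ⟩ := hpg.exists_le_sylow
  have hQcard : Nat.card Q = 7 := by
    obtain ⟨k, hk⟩ := IsPGroup.iff_card.1 Q.2
    have hdvd : Nat.card Q ∣ Nat.card (Equiv.Perm (Fin 8)) := Subgroup.card_subgroup_dvd_card _
    rw [Nat.card_eq_fintype_card (α := Equiv.Perm (Fin 8)), Fintype.card_perm,
      Fintype.card_fin] at hdvd
    have h8 : Nat.factorial 8 = 40320 := by decide
    rw [h8] at hdvd
    have h7 : 7 ∣ Nat.card Q := by
      have := Subgroup.card_dvd_of_le hQ
      rwa [hP2] at this
    rw [hk] at hdvd h7 ⊢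
    have hk1 : k ≠ 0 := by
      rintro rfl
      norm_num at h7
    have hk2 : k < 2 := by
      by_contra hge
      push Not at hge
      have : 7 ^ 2 ∣ 40320 := (pow_dvd_pow 7 hge).trans hdvd
      norm_num at this
    have : k = 1 := by omega
    rw [this, pow_one]
  have hPQ : P.map (alternatingGroup (Fin 8)).subtype = Q :=
    Subgroup.eq_of_le_of_card_ge hQ (by rw [hQcard, hP2])
  have h1 := Cfsg.Agent.S0989.result 7 (Or.inr (by simp)) Q
  have h2 := (Cfsg.Agent.S0990.result (α := Fin 8) (by simp) 7 (by norm_num) Q).2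
  have hsub : (Q : Subgroup (Equiv.Perm (Fin 8))).subgroupOf (alternatingGroup (Fin 8)) = P := by
    rw [← hPQ]
    exact Subgroup.comap_map_eq_self_of_injective (Subgroup.subtype_injective _) P
  rw [hsub, h1] at h2
  have h3 : 2 * Nat.card (Subgroup.normalizer (P : Set A8)) = 42 := h2
  omega

end Cfsg.Agent.Helper20.GL4Sub
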