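import Mathlib
import Cfsg.Agent.Lib.Helper20.GL4SubDefs

set_option autoImplicit false

namespace Cfsg.Agent.Helper20.GL4Sub

namespace SOCC

/-- a nonabelian simple subgroup meets its centralizer trivially -/
theorem inf_centralizer_eq_bot {G : Type*} [Group G] (S : Subgroup G) (hS : IsSimpleGroup S)
    (hna : ¬ IsMulCommutative S) : S ⊓ Subgroup.centralizer (S : Set G) = ⊥ := by
  have := hS
  rw [eq_bot_iff]
  rintro x ⟨hxS, hxC⟩
  rw [Subgroup.mem_bot]
  have hxC' : x ∈ Subgroup.centralizer (S : Set G) := hxC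
  have hcen : (⟨x, hxS⟩ : S) ∈ Subgroup.center S := by
    rw [Subgroup.mem_center_iff]
    intro g
    apply Subtype.ext
    exact Subgroup.mem_centralizer_iff.1 hxC' g g.2
  rcases (inferInstance : (Subgroup.center S).Normal).eq_bot_or_eq_top with h | h
  · rw [h, Subgroup.mem_bot] at hcen
    exact congrArg Subtype.val hcen
  · exfalso
    apply hna
    refine ⟨⟨fun a b => ?_⟩⟩
    have ha : a ∈ Subgroup.center S := by rw [h]; exact Subgroup.mem_top _
    exact (Subgroup.mem_center_iff.1 ha b).symm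

theorem normalizes_inf_centralizer {G : Type*} [Group G] (S K : Subgroup G)
    (hKS : K ≤ Subgroup.normalizer (S : Set G)) :
    K ≤ Subgroup.normalizer ((K ⊓ Subgroup.centralizer (S : Set G) : Subgroup G) : Set G) := by
  rw [Subgroup.le_normalizer_iff]
  rintro k hk c ⟨hcK, hcC⟩
  have hcC' : c ∈ Subgroup.centralizer (S : Set G) := hcC
  refine ⟨K.mul_mem (K.mul_mem hk hcK) (K.inv_mem hk), ?_⟩
  change k * c * k⁻¹ ∈ Subgroup.centralizer (S : Set G)
  rw [Subgroup.mem_centralizer_iff]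
  intro s hs
  have hs' : k⁻¹ * s * k ∈ S := (Subgroup.mem_normalizer_iff''.1 (hKS hk) s).1 hs
  have h1 := Subgroup.mem_centralizer_iff.1 hcC' _ hs'
  calc s * (k * c * k⁻¹) = k * ((k⁻¹ * s * k) * c) * k⁻¹ := by group
    _ = k * (c * (k⁻¹ * s * k)) * k⁻¹ := by rw [h1]
    _ = k * c * k⁻¹ * s := by group

end SOCC

/-- SOCC -/
theorem socle (hO : Orders) (h8 : Idx8) (hI : Inherit A8) (hN : Socn) : Socle := by
  intro K hK hCF
  obtain ⟨S, hSK, hKS, hS, hna⟩ := hN K hK hCF
  refine ⟨S, hSK, hKS, hS, hna, ?_⟩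
  by_contra hC
  have hCK : K ⊓ Subgroup.centralizer (S : Set A8) ≤ K := inf_le_left
  have hKC := SOCC.normalizes_inf_centralizer S K hKS
  have hCFC : CoreFree (K ⊓ Subgroup.centralizer (S : Set A8)) := hI K _ hCF hCK hKC
  obtain ⟨M, hMC, _, hM, hMna⟩ := hN _ hC hCFC
  have hMcent : M ≤ Subgroup.centralizer (S : Set A8) := hMC.trans inf_le_right
  have hMS : M ≤ Subgroup.normalizer (S : Set A8) :=
    hMcent.trans (Subgroup.centralizer_le_normalizer _)
  have hd : S ⊓ M = ⊥ := by
    rw [eq_bot_iff, ← SOCC.inf_centralizer_eq_bot S hS hna]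
    exact inf_le_inf_left S hMcent
  have hc := card_sup_eq_mul S M hd hMS
  have hdvd : Nat.card (S ⊔ M : Subgroup A8) ∣ Nat.card A8 := Subgroup.card_subgroup_dvd_card _
  have hidx : (S ⊔ M : Subgroup A8).index * Nat.card (S ⊔ M : Subgroup A8) = 20160 := by
    rw [← card_A8, mul_comm]; exact Subgroup.card_mul_index _
  have key : Nat.card (S ⊔ M : Subgroup A8) = 10080 → False := by
    intro h10
    have hne : (S ⊔ M : Subgroup A8) ≠ ⊤ := by
      intro ht
      rw [ht, Subgroup.card_top, card_A8] at h10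
      omega
    have h8' := h8 _ hne
    rw [h10] at hidx
    omega
  rw [card_A8] at hdvd
  rcases hO S hS hna with h1 | h1 | h1 | h1 | h1 <;>
  rcases hO M hM hMna with h2 | h2 | h2 | h2 | h2 <;>
  rw [h1, h2] at hc <;> rw [hc] at hdvd <;>
  first
  | (norm_num at hdvd; done)
  | exact key (by rw [hc])

end Cfsg.Agent.Helper20.GL4Sub
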