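import Mathlib
import Cfsg.Prelude.Def_Solvable
import Cfsg.Agent.Lib.Helper20.GL4SubDefs

set_option autoImplicit false

namespace Cfsg.Agent.Helper20.GL4Sub

/-- TRANSFER -/
theorem coreFree_map {G G' : Type*} [Group G] [Group G'] (e : G ≃* G') (H : Subgroup G)
    (hO : Cfsg.pPrimeCore 2 ↥H = ⊥) (hO2 : Cfsg.pCore 2 ↥H = ⊥) :
    CoreFree (H.map e.toMonoidHom) := by
  intro M hMK hKM hM
  -- the pullback of `M` to `↥H`
  have hnormal : ((M.comap e.toMonoidHom).subgroupOf H).Normal := by
    refine ⟨fun n hn g => ?_⟩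
    rw [Subgroup.mem_subgroupOf, Subgroup.mem_comap] at hn ⊢
    have hg : e.toMonoidHom (g : G) ∈ H.map e.toMonoidHom := Subgroup.mem_map_of_mem _ g.2
    have := (Subgroup.mem_normalizer_iff.1 (hKM hg) _).1 hn
    simpa using this
  -- the map to `M`
  let φ : ((M.comap e.toMonoidHom).subgroupOf H) →* M :=
    { toFun := fun x => ⟨e.toMonoidHom ((x : H) : G), by
        have := x.2
        rw [Subgroup.mem_subgroupOf, Subgroup.mem_comap] at this
        exact this⟩
      map_one' := by
        apply Subtype.ext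
        simp
      map_mul' := fun x y => by
        apply Subtype.ext
        exact map_mul e ((x : H) : G) ((y : H) : G) }
  have hφinj : Function.Injective φ := by
    intro x y hxy
    have h1 : e.toMonoidHom ((x : H) : G) = e.toMonoidHom ((y : H) : G) :=
      congrArg Subtype.val hxy
    have h2 : ((x : H) : G) = ((y : H) : G) := e.injective h1
    exact Subtype.ext (Subtype.ext h2)
  have hφsurj : Function.Surjective φ := by
    rintro ⟨m, hm⟩
    obtain ⟨h, hh, rfl⟩ := hMK hm
    refine ⟨⟨⟨h, hh⟩, ?_⟩, rfl⟩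
    rw [Subgroup.mem_subgroupOf, Subgroup.mem_comap]
    exact hm
  have hbot : (M.comap e.toMonoidHom).subgroupOf H = ⊥ := by
    rcases hM with hp | hc
    · rw [eq_bot_iff, ← hO2]
      apply le_sSup
      exact ⟨hnormal, hp.of_injective φ hφinj⟩
    · rw [eq_bot_iff, ← hO]
      apply le_sSup
      refine ⟨hnormal, ?_⟩
      rw [Nat.card_congr (Equiv.ofBijective φ ⟨hφinj, hφsurj⟩)]
      exact hc
  rw [eq_bot_iff]
  intro m hm
  obtain ⟨h, hh, rfl⟩ := hMK hm
  have hmem : (⟨h, hh⟩ : H) ∈ (M.comap e.toMonoidHom).subgroupOf H := by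
    rw [Subgroup.mem_subgroupOf, Subgroup.mem_comap]
    exact hm
  rw [hbot, Subgroup.mem_bot] at hmem
  have h1 : h = 1 := congrArg Subtype.val hmem
  rw [Subgroup.mem_bot, h1, map_one]

end Cfsg.Agent.Helper20.GL4Sub
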