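import Mathlib
import Cfsg.Prelude.Def_Solvable
import Cfsg.Agent.Lib.Helper20.GL4SubDefs
import Cfsg.Agent.Lib.Helper4.GL4SubISO
import Cfsg.Agent.Lib.Helper4.GL4SubGL3
import Cfsg.Agent.Lib.Helper4.GL4SubFIN360
import Cfsg.Agent.Lib.Helper10.GL4SubORDERS
import Cfsg.Agent.Lib.Helper10.GL4SubSEVENTEST
import Cfsg.Agent.Lib.Helper10.GL4SubG45
import Cfsg.Agent.Lib.Helper19.GL4SubEMB
import Cfsg.Agent.Lib.Lead.GL4SubSTAB7
import Cfsg.Agent.Lib.Helper20.GL4SubSOCN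
import Cfsg.Agent.Lib.Helper20.GL4SubADAPT
import Cfsg.Agent.Lib.Helper20.GL4SubEQ2520
import Cfsg.Agent.Lib.Helper20.GL4SubKL
import Cfsg.Agent.Lib.Helper20.GL4SubSOCC
import Cfsg.Agent.Lib.Helper20.GL4SubMIN
import Cfsg.Agent.Lib.Helper20.GL4SubTRANSFER
import Cfsg.Agent.Lib.Helper20.GL4SubN7
import Cfsg.Agent.Lib.Helper1.GL4SubCOSET
import Cfsg.Agent.Lib.Helper4.GL4SubIDX6
import Cfsg.Agent.Lib.Helper4.GL4SubIDX8
import Cfsg.Agent.Lib.Helper4.GL4SubORD15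
import Cfsg.Agent.Lib.Helper7.GL4SubID60
import Cfsg.Agent.Lib.Helper7.GL4SubMOVED
import Cfsg.Agent.Lib.Lead.GL4SubID168
import Cfsg.Agent.Lib.Lead.GL4SubINHERIT
import Cfsg.Agent.Lib.Lead.GL4SubN7S

set_option autoImplicit false

namespace Cfsg.Agent.Helper20.GL4Sub

theorem main (H : Subgroup (GL (Fin 4) (ZMod 2))) (hH : H ≠ ⊥)
    (hO : Cfsg.pPrimeCore 2 ↥H = ⊥) (hO2 : Cfsg.pCore 2 ↥H = ⊥) :
    (∃ n : ℕ, 5 ≤ n ∧ n ≤ 8 ∧ Nonempty (↥H ≃* alternatingGroup (Fin n))) ∨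
    Nonempty (↥H ≃* Equiv.Perm (Fin 5)) ∨ Nonempty (↥H ≃* Equiv.Perm (Fin 6)) ∨
    Nonempty (↥H ≃* GL (Fin 3) (ZMod 2)) := by
  obtain ⟨e⟩ := gl4_iso
  have eHK : ↥H ≃* ↥(H.map e.toMonoidHom) := e.subgroupMap H
  have hCF : CoreFree (H.map e.toMonoidHom) := coreFree_map e H hO hO2
  generalize H.map e.toMonoidHom = K at eHK hCF
  have hKne : K ≠ ⊥ := by
    intro hK
    apply hH
    apply Subgroup.eq_bot_of_card_eq
    rw [Nat.card_congr eHK.toEquiv, hK]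
    exact Subgroup.card_bot
  have h7 := n7
  have hs := n7s h7
  have hT := seven_test hs
  have h8 := idx8
  have hOr := simple_orders h8 hT
  have hI : Inherit A8 := inherit
  have hM : MinSimple := fun K hK hCF => exists_min_simple hI K hK hCF
  have hSoc := socle hOr h8 hI (socn hM (normal_step hOr))
  obtain ⟨S, hSK, hN, hS, hna, hC⟩ := hSoc K hKne hCF
  rcases hOr S hS hna with h | h | h | h | h
  · -- order 60
    obtain ⟨hnorm, hcent⟩ := adapt S K hSK hN hC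
    have := hnorm
    have eS : ↥(S.subgroupOf K) ≃* ↥S := Subgroup.subgroupOfEquivOfLe hSK
    have hS' : IsSimpleGroup ↥(S.subgroupOf K) := by
      have := hS
      exact eS.isSimpleGroup
    have hc : Nat.card ↥(S.subgroupOf K) = 60 := by rw [Nat.card_congr eS.toEquiv, h]
    rcases id60 (S.subgroupOf K) hS' hc hcent with ⟨⟨f⟩⟩ | ⟨⟨f⟩⟩
    · left; exact ⟨5, le_refl _, by norm_num, ⟨eHK.trans f⟩⟩
    · right; left; exact ⟨eHK.trans f⟩
  · -- order 168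
    have hKS : K = S := id168 h7 hs S K hSK hN hS hna h
    subst hKS
    have := hS
    obtain ⟨f⟩ := iso_GL3 (G := ↥K) h
    right; right; right; exact ⟨eHK.trans f⟩
  · -- order 360
    have hm := card_moved idx6 ord45 noFix15 S hS h
    obtain ⟨f, hf⟩ := embed_six S K hSK hN hm
    rcases id360_of_embed S K hSK hS h f hf with ⟨⟨g⟩⟩ | ⟨⟨g⟩⟩
    · left; exact ⟨6, by norm_num, by norm_num, ⟨eHK.trans g⟩⟩
    · right; right; left; exact ⟨eHK.trans g⟩
  · -- order 2520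
    have hKS : K = S := eq_of_card_2520 h8 S K hSK hN h
    subst hKS
    obtain ⟨g⟩ := iso_A7_of_card stab_iso_A7 K h
    left; exact ⟨7, by norm_num, by norm_num, ⟨eHK.trans g⟩⟩
  · -- order 20160
    have hStop : S = ⊤ := by
      apply Subgroup.eq_top_of_card_eq
      rw [h, card_A8]
    have hKtop : K = ⊤ := by
      rw [eq_top_iff, ← hStop]; exact hSK
    subst hKtop
    left
    exact ⟨8, by norm_num, le_refl _, ⟨eHK.trans Subgroup.topEquiv⟩⟩

end Cfsg.Agent.Helper20.GL4Sub
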