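import Mathlib
import Cfsg.Agent.Lib.Helper20.GL4SubDefs

set_option autoImplicit false

namespace Cfsg.Agent.Helper20.GL4Sub

namespace SOCN

theorem subN_le {G : Type*} [Group G] {K X : Subgroup G} (h : SubN K X) : X ≤ K := by
  induction h with
  | refl => exact le_refl _
  | step _ hYX _ ih => exact hYX.trans ih

theorem climb (hKL : NormalStep) {K S : Subgroup A8} (hS : IsSimpleGroup S)
    (hna : ¬ IsMulCommutative S) {X : Subgroup A8} (h : SubN K X) :
    S ≤ X → X ≤ Subgroup.normalizer (S : Set A8) → K ≤ Subgroup.normalizer (S : Set A8) := by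
  induction h with
  | refl => exact fun _ h => h
  | step _ hYX hXY ih =>
    intro hSY hYS
    exact ih (hSY.trans hYX) (hKL S _ _ hS hna hSY hYS hYX hXY)

end SOCN

/-- SOCN -/
theorem socn (hM : MinSimple) (hKL : NormalStep) : Socn := by
  intro K hK hCF
  obtain ⟨S, hSub, hS, hna⟩ := hM K hK hCF
  exact ⟨S, SOCN.subN_le hSub, SOCN.climb hKL hS hna hSub (le_refl _) Subgroup.le_normalizer,
    hS, hna⟩

end Cfsg.Agent.Helper20.GL4Sub
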