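import Mathlib
import Cfsg.Agent.Lib.Helper4.ThBField

/-!
# Quadratic action and Hall–Higman Theorem B (helper20)

An element `a` of order `p` (odd) acting quadratically, `(a - 1) ^ 2 = 0`, and normalising but not
centralising a finite `q`-group `M` of linear automorphisms forces `p = 3`, `q = 2` and `M`
non-abelian.
-/

set_option autoImplicit false
set_option linter.unusedSectionVars false
set_option linter.style.haveILetI false

namespace Cfsg.Agent.Helper20.HHQ

open Cfsg.Agent.Helper4.ThB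

theorem quad_thmB {F : Type*} [Field F] {p q : ℕ} [hp : Fact p.Prime] [hq : Fact q.Prime]
    (hp2 : p ≠ 2) (hpq : p ≠ q) [CharP F p]
    {U : Type*} [AddCommGroup U] [Module F U] [FiniteDimensional F U]
    (M : Subgroup (U ≃ₗ[F] U)) [hfin : Finite M] (hM : IsPGroup q M) (a : U ≃ₗ[F] U)
    (ha : a ^ p = 1) (hquad : (op a - 1) ^ 2 = 0) (hnorm : ∀ g ∈ M, a * g * a⁻¹ ∈ M)
    (g₀ : U ≃ₗ[F] U) (hg₀ : g₀ ∈ M) (hact : a * g₀ ≠ g₀ * a) :
    p = 3 ∧ q = 2 ∧ ∃ g ∈ M, ∃ h ∈ M, g * h ≠ h * g := by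
  have hpp : p.Prime := hp.out
  have hqq : q.Prime := hq.out
  have hyp : Hyp p q M a 1 := by
    refine ⟨hfin, hM, hnorm, le_rfl, ?_, ⟨g₀, hg₀, ?_⟩⟩
    · rw [pow_one]; exact ha
    · rw [Nat.sub_self, pow_zero, pow_one]; exact hact
  have hcl := thmB_field (F := F) hpq M a 1 hyp 2 hquad
  have hp3 : 3 ≤ p := by
    have := hpp.two_le
    omega
  rcases hcl with h | ⟨n₀, m, h1, h2, h3, h4, h5, h6⟩
  · rw [pow_one] at h
    omega
  · have hn₀ : n₀ = 1 := le_antisymm h2 h1
    subst hn₀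
    rw [pow_one] at h4 h6
    rw [Nat.sub_self, pow_zero, one_mul] at h6
    have hp3' : p = 3 := by omega
    subst hp3'
    refine ⟨rfl, ?_, h5⟩
    have h2q : q ∣ 2 := by
      have : q ∣ q ^ m := dvd_pow_self q (by omega)
      rw [← h4] at this
      exact this
    exact ((Nat.prime_dvd_prime_iff_eq hqq Nat.prime_two).mp h2q)

/-- abelian case: a quadratic element of odd prime order centralises every abelian `p'`-group of
prime power order it normalises -/
theorem quad_centralizes_of_comm {F : Type*} [Field F] {p q : ℕ} [hp : Fact p.Prime]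
    [hq : Fact q.Prime] (hp2 : p ≠ 2) (hpq : p ≠ q) [CharP F p]
    {U : Type*} [AddCommGroup U] [Module F U] [FiniteDimensional F U]
    (M : Subgroup (U ≃ₗ[F] U)) [hfin : Finite M] (hM : IsPGroup q M) (a : U ≃ₗ[F] U)
    (ha : a ^ p = 1) (hquad : (op a - 1) ^ 2 = 0) (hnorm : ∀ g ∈ M, a * g * a⁻¹ ∈ M)
    (hcomm : ∀ g ∈ M, ∀ h ∈ M, g * h = h * g) : ∀ g ∈ M, a * g = g * a := by
  intro g hg
  by_contra hne
  obtain ⟨-, -, g', hg', h', hh', hne'⟩ := quad_thmB hp2 hpq M hM a ha hquad hnorm g hg hne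
  exact hne' (hcomm g' hg' h' hh')

end Cfsg.Agent.Helper20.HHQ
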