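import Mathlib
import Cfsg.Agent.Lib.Helper21.PGroupFrattini

/-!
# A minimal invariant `2`-subgroup moved by a central element of order `3` (helper20)

Pure group theory: `𝔅` a subgroup of a group `Γ`, `x ∈ 𝔅` central in `𝔅` with `x ^ 3 = 1`, and `Q` a
finite `2`-subgroup normalised by `𝔅`, not centralised by `x`, and minimal with these properties.
Then `Q = [Q, x]`, the Frattini subgroup of `Q` is central in `Q`, and `C_Q(x) = Z(Q)` when `Q` is
not abelian.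
-/

set_option autoImplicit false
set_option linter.unusedSectionVars false
set_option linter.style.haveILetI false

namespace Cfsg.Agent.Helper20.HHQ

open scoped commutatorElement

variable {Γ : Type*} [Group Γ]

/-- `𝔅` normalises `Q` -/
def Nrm (𝔅 Q : Subgroup Γ) : Prop := ∀ b ∈ 𝔅, ∀ g ∈ Q, b * g * b⁻¹ ∈ Q

theorem Nrm.inv {𝔅 Q : Subgroup Γ} (h : Nrm 𝔅 Q) {b g : Γ} (hb : b ∈ 𝔅) (hg : g ∈ Q) :
    b⁻¹ * g * b ∈ Q := by
  have := h b⁻¹ (𝔅.inv_mem hb) g hg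
  rwa [inv_inv] at this

theorem Nrm.mem_normalizer {𝔅 Q : Subgroup Γ} (h : Nrm 𝔅 Q) {b : Γ} (hb : b ∈ 𝔅) :
    b ∈ Subgroup.normalizer (Q : Set Γ) := by
  rw [Subgroup.mem_normalizer_iff]
  intro g
  constructor
  · exact h b hb g
  · intro hg
    have := h.inv hb hg
    have e : b⁻¹ * (b * g * b⁻¹) * b = g := by group
    rwa [e] at this

/-- coprime action: if `[x, g]` lies in a `2`-group and commutes with `x`, `x ^ 3 = 1`, then it is
trivial -/
theorem comm_eq_one_gen {Q : Subgroup Γ} {x : Γ} (hQ : IsPGroup 2 Q) (hx3 : x ^ 3 = 1) {g : Γ}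
    (hcQ : x * g * x⁻¹ * g⁻¹ ∈ Q)
    (hc : x * (x * g * x⁻¹ * g⁻¹) = (x * g * x⁻¹ * g⁻¹) * x) : x * g = g * x := by
  obtain ⟨c, hcdef⟩ : ∃ c : Γ, c = x * g * x⁻¹ * g⁻¹ := ⟨_, rfl⟩
  rw [← hcdef] at hc hcQ
  have hxg : x * g * x⁻¹ = c * g := by rw [hcdef]; group
  have hpow : ∀ n : ℕ, x ^ n * g * (x ^ n)⁻¹ = c ^ n * g := by
    intro n
    induction n with
    | zero => simp
    | succ n ih =>
      have hcomm : x * c ^ n = c ^ n * x := by
        have : Commute x c := hc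
        exact (this.pow_right n)
      calc x ^ (n + 1) * g * (x ^ (n + 1))⁻¹ = x * (x ^ n * g * (x ^ n)⁻¹) * x⁻¹ := by
            rw [pow_succ']; group
        _ = x * (c ^ n * g) * x⁻¹ := by rw [ih]
        _ = (x * c ^ n) * g * x⁻¹ := by group
        _ = c ^ n * (x * g * x⁻¹) := by rw [hcomm]; group
        _ = c ^ (n + 1) * g := by rw [hxg, pow_succ]; group
  have h3 := hpow 3
  rw [hx3] at h3
  have hc3 : c ^ 3 = 1 := by
    have : g = c ^ 3 * g := by simpa using h3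
    exact (mul_eq_right.mp this.symm)
  have hc1 : c = 1 := by
    have hd : orderOf c ∣ 3 := orderOf_dvd_of_pow_eq_one hc3
    obtain ⟨k, hk⟩ := (IsPGroup.iff_orderOf.mp hQ) ⟨c, hcQ⟩
    rw [Subgroup.orderOf_mk] at hk
    rw [hk] at hd
    have hk0 : k = 0 := by
      by_contra hk0
      have h2 : 2 ∣ 2 ^ k := dvd_pow_self 2 hk0
      have := h2.trans hd
      omega
    rw [hk0, pow_zero] at hk
    exact orderOf_eq_one_iff.mp hk
  rw [hcdef] at hc1
  have : x * g = (x * g * x⁻¹ * g⁻¹) * (g * x) := by group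
  rw [this, hc1, one_mul]

/-- the minimal configuration -/
structure MinConf (𝔅 Q : Subgroup Γ) (x : Γ) : Prop where
  fin : Finite Q
  two : IsPGroup 2 Q
  norm : Nrm 𝔅 Q
  xmem : x ∈ 𝔅
  xcent : ∀ b ∈ 𝔅, b * x = x * b
  xpow : x ^ 3 = 1
  act : ∃ g ∈ Q, x * g ≠ g * x
  min : ∀ Q₀ : Subgroup Γ, Q₀ ≤ Q → Nrm 𝔅 Q₀ → Q₀ ≠ Q → ∀ g ∈ Q₀, x * g = g * x

theorem exists_minConf (𝔅 T : Subgroup Γ) (x : Γ) [Finite T] (hT : IsPGroup 2 T)
    (hnorm : Nrm 𝔅 T) (hx : x ∈ 𝔅) (hxc : ∀ b ∈ 𝔅, b * x = x * b) (hx3 : x ^ 3 = 1)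
    (hact : ∃ g ∈ T, x * g ≠ g * x) : ∃ Q : Subgroup Γ, Q ≤ T ∧ MinConf 𝔅 Q x := by
  classical
  have hex : ∃ n : ℕ, ∃ Q : Subgroup Γ, Q ≤ T ∧ Nrm 𝔅 Q ∧ (∃ g ∈ Q, x * g ≠ g * x) ∧
      Nat.card Q = n := ⟨_, T, le_rfl, hnorm, hact, rfl⟩
  obtain ⟨Q, hQT, hQn, hQa, hQc⟩ := Nat.find_spec hex
  haveI hQfin : Finite Q := Finite.of_injective (Subgroup.inclusion hQT)
    (Subgroup.inclusion_injective hQT)
  refine ⟨Q, hQT, hQfin, hT.to_le hQT, hQn, hx, hxc, hx3, hQa, ?_⟩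
  intro Q₀ hQ₀ hQ₀n hne g hg
  by_contra hcon
  have hlt : Nat.card Q₀ < Nat.find hex := by
    rw [← hQc]
    by_contra hge
    push Not at hge
    exact hne (Subgroup.eq_of_le_of_card_ge hQ₀ hge)
  exact Nat.find_min hex hlt ⟨Q₀, hQ₀.trans hQT, hQ₀n, ⟨g, hg, hcon⟩, rfl⟩

section conf

variable {𝔅 Q : Subgroup Γ} {x : Γ} (h : MinConf 𝔅 Q x)
include h

theorem MinConf.x_norm {g : Γ} (hg : g ∈ Q) : x * g * x⁻¹ ∈ Q := h.norm x h.xmem g hg

theorem MinConf.x_norm' {g : Γ} (hg : g ∈ Q) : x⁻¹ * g * x ∈ Q := h.norm.inv h.xmem hg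

theorem MinConf.comm_mem {g : Γ} (hg : g ∈ Q) : x * g * x⁻¹ * g⁻¹ ∈ Q :=
  Q.mul_mem (h.x_norm hg) (Q.inv_mem hg)

/-- coprime action: if `[x, g]` commutes with `x` then it is trivial -/
theorem MinConf.comm_eq_one {g : Γ} (hg : g ∈ Q)
    (hc : x * (x * g * x⁻¹ * g⁻¹) = (x * g * x⁻¹ * g⁻¹) * x) : x * g = g * x :=
  comm_eq_one_gen h.two h.xpow (h.comm_mem hg) hc

/-- the set of commutators `[x, g]` -/
def commSet (Q : Subgroup Γ) (x : Γ) : Set Γ := {y | ∃ g ∈ Q, y = x * g * x⁻¹ * g⁻¹}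

/-- `Q = [Q, x]` -/
theorem MinConf.closure_commSet : Subgroup.closure (commSet Q x) = Q := by
  have hle : Subgroup.closure (commSet Q x) ≤ Q := by
    rw [Subgroup.closure_le]
    rintro _ ⟨g, hg, rfl⟩
    exact h.comm_mem hg
  by_contra hne
  have hn : Nrm 𝔅 (Subgroup.closure (commSet Q x)) := by
    intro b hb y hy
    refine Subgroup.closure_induction (p := fun y _ => b * y * b⁻¹ ∈ Subgroup.closure (commSet Q x))
      ?_ ?_ ?_ ?_ hy
    · rintro _ ⟨g, hg, rfl⟩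
      apply Subgroup.subset_closure
      refine ⟨b * g * b⁻¹, h.norm b hb g hg, ?_⟩
      have e1 : b * x = x * b := h.xcent b hb
      have e2 : b * x⁻¹ = x⁻¹ * b := by
        have : Commute b x := e1
        exact this.inv_right
      calc b * (x * g * x⁻¹ * g⁻¹) * b⁻¹ = (b * x) * g * x⁻¹ * g⁻¹ * b⁻¹ := by group
        _ = x * b * g * x⁻¹ * g⁻¹ * b⁻¹ := by rw [e1]
        _ = x * (b * g * b⁻¹) * (b * x⁻¹) * g⁻¹ * b⁻¹ := by group
        _ = x * (b * g * b⁻¹) * (x⁻¹ * b) * g⁻¹ * b⁻¹ := by rw [e2]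
        _ = x * (b * g * b⁻¹) * x⁻¹ * (b * g * b⁻¹)⁻¹ := by group
    · simp
    · intro y₁ y₂ _ _ h1 h2
      have : b * (y₁ * y₂) * b⁻¹ = (b * y₁ * b⁻¹) * (b * y₂ * b⁻¹) := by group
      rw [this]
      exact Subgroup.mul_mem _ h1 h2
    · intro y _ h1
      have : b * y⁻¹ * b⁻¹ = (b * y * b⁻¹)⁻¹ := by group
      rw [this]
      exact Subgroup.inv_mem _ h1
  have hcen := h.min _ hle hn hne
  obtain ⟨g, hg, hgx⟩ := h.act
  apply hgx
  apply h.comm_eq_one hg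
  exact hcen _ (Subgroup.subset_closure ⟨g, hg, rfl⟩)

/-- `Q` is non-trivial -/
theorem MinConf.ne_bot : Q ≠ ⊥ := by
  intro hb
  obtain ⟨g, hg, hgx⟩ := h.act
  rw [hb, Subgroup.mem_bot] at hg
  subst hg
  exact hgx (by simp)

end conf

/-- conjugation by an element normalising `P` preserves the Frattini subgroup of `P` -/
theorem conj_mem_map_frattini (P : Subgroup Γ) {n : Γ}
    (hn : n ∈ Subgroup.normalizer (P : Set Γ))
    {x : Γ} (hx : x ∈ (frattini ↥P).map P.subtype) :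
    n * x * n⁻¹ ∈ (frattini ↥P).map P.subtype := by
  obtain ⟨y, hy, rfl⟩ := hx
  set φ : MulAut ↥P := P.normalizerMonoidHom ⟨n, hn⟩ with hφ
  have h1 : (frattini ↥P).map φ.toMonoidHom = frattini ↥P :=
    Subgroup.characteristic_iff_map_eq.mp inferInstance φ
  have h2 : φ y ∈ frattini ↥P := by
    rw [← h1]; exact Subgroup.mem_map_of_mem _ hy
  exact ⟨φ y, h2, rfl⟩

/-- the Frattini subgroup of a non-trivial finite group is proper -/
theorem map_frattini_ne (P : Subgroup Γ) [Finite P] (hP : P ≠ ⊥) :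
    (frattini ↥P).map P.subtype ≠ P := by
  intro heq
  have htop : frattini ↥P = ⊤ := by
    rw [eq_top_iff]
    rintro ⟨y, hy⟩ -
    have : y ∈ (frattini ↥P).map P.subtype := by rw [heq]; exact hy
    obtain ⟨y', hy', hy'y⟩ := this
    have : y' = ⟨y, hy⟩ := Subtype.ext hy'y
    rw [← this]
    exact hy'
  rcases eq_top_or_exists_le_coatom (⊥ : Subgroup ↥P) with hbt | ⟨M, hM, -⟩
  · apply hP
    rw [eq_bot_iff]
    intro y hy
    have : (⟨y, hy⟩ : ↥P) ∈ (⊥ : Subgroup ↥P) := by rw [hbt]; exact Subgroup.mem_top _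
    rw [Subgroup.mem_bot] at this
    rw [Subgroup.mem_bot]
    exact congrArg Subtype.val this
  · have := frattini_le_coatom hM
    rw [htop] at this
    exact hM.1 (top_le_iff.mp this)

section conf2

variable {𝔅 Q : Subgroup Γ} {x : Γ} (h : MinConf 𝔅 Q x)
include h

/-- the Frattini subgroup of `Q` is centralised by `x` -/
theorem MinConf.frattini_comm_x {f : Γ} (hf : f ∈ (frattini ↥Q).map Q.subtype) :
    x * f = f * x := by
  haveI := h.fin
  refine h.min _ (Subgroup.map_subtype_le _) ?_ (map_frattini_ne Q h.ne_bot) f hf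
  intro b hb g hg
  exact conj_mem_map_frattini Q (h.norm.mem_normalizer hb) hg

/-- the Frattini subgroup of `Q` is central in `Q` -/
theorem MinConf.frattini_central {f : Γ} (hf : f ∈ (frattini ↥Q).map Q.subtype) {g : Γ}
    (hg : g ∈ Q) : g * f = f * g := by
  haveI := h.fin
  set Φ := (frattini ↥Q).map Q.subtype with hΦ
  set X := Subgroup.zpowers x with hX
  have hΦQ : Φ ≤ Q := Subgroup.map_subtype_le _
  have hΦX : Φ ≤ Subgroup.centralizer (X : Set Γ) := by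
    intro f hf
    rw [Subgroup.mem_centralizer_iff]
    intro y hy
    obtain ⟨k, rfl⟩ := Subgroup.mem_zpowers_iff.mp hy
    have : Commute x f := h.frattini_comm_x hf
    exact (this.zpow_left k)
  have hQΦ : ⁅Q, Φ⁆ ≤ Φ := by
    rw [Subgroup.commutator_le]
    intro a ha b hb
    rw [commutatorElement_def]
    have h1 : a * b * a⁻¹ ∈ Φ := conj_mem_map_frattini Q (Subgroup.le_normalizer ha) hb
    exact Φ.mul_mem h1 (Φ.inv_mem hb)
  have h1 : ⁅⁅Q, Φ⁆, X⁆ = ⊥ := by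
    rw [Subgroup.commutator_eq_bot_iff_le_centralizer]
    exact hQΦ.trans hΦX
  have h2 : ⁅⁅Φ, X⁆, Q⁆ = ⊥ := by
    have : ⁅Φ, X⁆ = ⊥ := by
      rw [Subgroup.commutator_eq_bot_iff_le_centralizer]
      exact hΦX
    rw [this, Subgroup.commutator_bot_left]
  have h3 := Subgroup.commutator_commutator_eq_bot_of_rotate h1 h2
  rw [Subgroup.commutator_eq_bot_iff_le_centralizer] at h3
  have hQle : Q ≤ ⁅X, Q⁆ := by
    have hcl : Subgroup.closure (commSet Q x) ≤ ⁅X, Q⁆ := by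
      rw [Subgroup.closure_le]
      rintro _ ⟨a, ha, rfl⟩
      have : x * a * x⁻¹ * a⁻¹ = ⁅x, a⁆ := rfl
      rw [this]
      exact Subgroup.commutator_mem_commutator (Subgroup.mem_zpowers x) ha
    rw [h.closure_commSet] at hcl
    exact hcl
  have := Subgroup.mem_centralizer_iff.mp (h3 (hQle hg)) f hf
  exact this.symm

theorem MinConf.sq_central {a g : Γ} (ha : a ∈ Q) (hg : g ∈ Q) : g * a ^ 2 = a ^ 2 * g := by
  haveI := h.fin
  haveI : Fact (Nat.Prime 2) := ⟨Nat.prime_two⟩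
  refine h.frattini_central ?_ hg
  exact ⟨_, Cfsg.Agent.Helper21.pow_mem_frattini_of_isPGroup h.two ⟨a, ha⟩, rfl⟩

theorem MinConf.comm_mem_frattini {a b : Γ} (ha : a ∈ Q) (hb : b ∈ Q) :
    a * b * a⁻¹ * b⁻¹ ∈ (frattini ↥Q).map Q.subtype := by
  haveI := h.fin
  haveI : Fact (Nat.Prime 2) := ⟨Nat.prime_two⟩
  exact ⟨_, Cfsg.Agent.Helper21.commutator_mem_frattini_of_isPGroup h.two ⟨a, ha⟩ ⟨b, hb⟩, rfl⟩

theorem MinConf.comm_central {a b g : Γ} (ha : a ∈ Q) (hb : b ∈ Q) (hg : g ∈ Q) :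
    g * (a * b * a⁻¹ * b⁻¹) = (a * b * a⁻¹ * b⁻¹) * g :=
  h.frattini_central (h.comm_mem_frattini ha hb) hg

theorem MinConf.comm_comm_x {a b : Γ} (ha : a ∈ Q) (hb : b ∈ Q) :
    x * (a * b * a⁻¹ * b⁻¹) = (a * b * a⁻¹ * b⁻¹) * x :=
  h.frattini_comm_x (h.comm_mem_frattini ha hb)

/-- `C_Q(x) ≤ Z(Q)` -/
theorem MinConf.central_of_comm_x {u : Γ} (hu : u ∈ Q) (hux : x * u = u * x) :
    ∀ g ∈ Q, u * g = g * u := by
  have hgen : ∀ y ∈ Subgroup.closure (commSet Q x), u * y = y * u := by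
    intro y hy
    have hle : Subgroup.closure (commSet Q x) ≤ Subgroup.centralizer {u} := by
      rw [Subgroup.closure_le]
      rintro _ ⟨g, hg, rfl⟩
      rw [SetLike.mem_coe, Subgroup.mem_centralizer_iff]
      intro u' hu'
      rw [Set.mem_singleton_iff] at hu'
      subst hu'
      -- `w = [u, g]` is central in `Q` and commutes with `x`
      obtain ⟨w, hw⟩ : ∃ w : Γ, w = u' * g * u'⁻¹ * g⁻¹ := ⟨_, rfl⟩
      have hwx : x * w = w * x := by rw [hw]; exact h.comm_comm_x hu hg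
      have hwc : ∀ t ∈ Q, t * w = w * t := by
        intro t ht
        rw [hw]
        exact h.comm_central hu hg ht
      have hug : u' * g * u'⁻¹ = w * g := by rw [hw]; group
      have hux' : u' * x = x * u' := hux.symm
      have hux'' : u' * x⁻¹ = x⁻¹ * u' := by
        have : Commute u' x := hux'
        exact this.inv_right
      have hwx' : x⁻¹ * w = w * x⁻¹ := by
        have : Commute x w := hwx
        exact this.inv_left
      have key : u' * (x * g * x⁻¹ * g⁻¹) * u'⁻¹ = x * g * x⁻¹ * g⁻¹ := by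
        calc u' * (x * g * x⁻¹ * g⁻¹) * u'⁻¹
            = (u' * x) * g * x⁻¹ * g⁻¹ * u'⁻¹ := by group
          _ = x * u' * g * x⁻¹ * g⁻¹ * u'⁻¹ := by rw [hux']
          _ = x * (u' * g * u'⁻¹) * (u' * x⁻¹) * g⁻¹ * u'⁻¹ := by group
          _ = x * (w * g) * (x⁻¹ * u') * g⁻¹ * u'⁻¹ := by rw [hug, hux'']
          _ = x * (w * g) * x⁻¹ * (u' * g * u'⁻¹)⁻¹ := by group
          _ = x * (w * g) * x⁻¹ * (w * g)⁻¹ := by rw [hug]
          _ = (x * w) * (g * x⁻¹ * g⁻¹) * w⁻¹ := by group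
          _ = w * x * (g * x⁻¹ * g⁻¹) * w⁻¹ := by rw [hwx]
          _ = w * (x * g * x⁻¹ * g⁻¹) * w⁻¹ := by group
          _ = (x * g * x⁻¹ * g⁻¹) * w * w⁻¹ := by rw [← hwc _ (h.comm_mem hg)]
          _ = x * g * x⁻¹ * g⁻¹ := by group
      calc u' * (x * g * x⁻¹ * g⁻¹) = u' * (x * g * x⁻¹ * g⁻¹) * u'⁻¹ * u' := by group
        _ = x * g * x⁻¹ * g⁻¹ * u' := by rw [key]
    exact Subgroup.mem_centralizer_iff.mp (hle hy) u rfl
  intro g hg
  apply hgen
  rw [h.closure_commSet]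
  exact hg

/-- `Z(Q) ≤ C_Q(x)` for non-abelian `Q` -/
theorem MinConf.comm_x_of_central (hnab : ∃ a ∈ Q, ∃ b ∈ Q, a * b ≠ b * a) {u : Γ} (hu : u ∈ Q)
    (huc : ∀ g ∈ Q, u * g = g * u) : x * u = u * x := by
  set Z : Subgroup Γ := Q ⊓ Subgroup.centralizer (Q : Set Γ) with hZ
  have hZQ : Z ≤ Q := inf_le_left
  have hZne : Z ≠ Q := by
    intro heq
    obtain ⟨a, ha, b, hb, hab⟩ := hnab
    apply hab
    have : a ∈ Z := by rw [heq]; exact ha
    have h2 := Subgroup.mem_centralizer_iff.mp this.2 b hb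
    exact h2.symm
  have hZn : Nrm 𝔅 Z := by
    intro b hb g hg
    refine Subgroup.mem_inf.mpr ⟨h.norm b hb g hg.1, ?_⟩
    rw [Subgroup.mem_centralizer_iff]
    intro t ht
    have ht' : b⁻¹ * t * b ∈ Q := h.norm.inv hb ht
    have h2 := Subgroup.mem_centralizer_iff.mp hg.2 _ ht'
    calc t * (b * g * b⁻¹) = b * ((b⁻¹ * t * b) * g) * b⁻¹ := by group
      _ = b * (g * (b⁻¹ * t * b)) * b⁻¹ := by rw [h2]
      _ = b * g * b⁻¹ * t := by group
  refine h.min Z hZQ hZn hZne u (Subgroup.mem_inf.mpr ⟨hu, ?_⟩)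
  rw [Subgroup.mem_centralizer_iff]
  intro t ht
  exact (huc t ht).symm

end conf2

end Cfsg.Agent.Helper20.HHQ
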