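import Mathlib
import Cfsg.Agent.Lib.Helper20.HHQuadB

/-!
# The extraspecial endgame (helper20)

Pure group theory.  `Q` a `2`-group all of whose commutators lie in `{1, z₀}` with `z₀` a central
involution, `x` of order `3` normalising `Q` with `C_Q(x) = Z(Q)`, centralising every abelian
`x`-invariant subgroup of `Q`, and `x` central in a group `𝔅` normalising `Q`.  Then
`|Q : Z(Q)| = 4` and `x` does not lie in the derived subgroup of `𝔅`.
-/

set_option autoImplicit false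
set_option linter.unusedSectionVars false
set_option linter.style.haveILetI false

namespace Cfsg.Agent.Helper20.HHQ

open scoped commutatorElement

variable {Γ : Type*} [Group Γ]

/-- central involutions of `Q` -/
def invCenter (Q : Subgroup Γ) : Subgroup Γ where
  carrier := {g | g ∈ Q ∧ (∀ t ∈ Q, g * t = t * g) ∧ g ^ 2 = 1}
  one_mem' := ⟨Q.one_mem, by simp, by simp⟩
  mul_mem' := by
    rintro a b ⟨ha, hac, ha2⟩ ⟨hb, hbc, hb2⟩
    refine ⟨Q.mul_mem ha hb, ?_, ?_⟩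
    · intro t ht
      rw [mul_assoc, hbc t ht, ← mul_assoc, hac t ht, mul_assoc]
    · have hab : Commute a b := hac b hb
      rw [hab.mul_pow, ha2, hb2, one_mul]
  inv_mem' := by
    rintro a ⟨ha, hac, ha2⟩
    refine ⟨Q.inv_mem ha, ?_, ?_⟩
    · intro t ht
      have := hac t ht
      calc a⁻¹ * t = a⁻¹ * (t * a) * a⁻¹ := by group
        _ = a⁻¹ * (a * t) * a⁻¹ := by rw [this]
        _ = t * a⁻¹ := by group
    · rw [inv_pow, ha2, inv_one]

theorem mem_invCenter {Q : Subgroup Γ} {g : Γ} :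
    g ∈ invCenter Q ↔ g ∈ Q ∧ (∀ t ∈ Q, g * t = t * g) ∧ g ^ 2 = 1 := Iff.rfl

theorem invCenter_le (Q : Subgroup Γ) : invCenter Q ≤ Q := fun _ hg => hg.1

theorem nrm_invCenter {𝔅 Q : Subgroup Γ} (hn : Nrm 𝔅 Q) : Nrm 𝔅 (invCenter Q) := by
  rintro b hb g ⟨hg, hgc, hg2⟩
  refine ⟨hn b hb g hg, ?_, ?_⟩
  · intro t ht
    have ht' : b⁻¹ * t * b ∈ Q := hn.inv hb ht
    have h2 := hgc _ ht'
    calc b * g * b⁻¹ * t = b * (g * (b⁻¹ * t * b)) * b⁻¹ := by group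
      _ = b * ((b⁻¹ * t * b) * g) * b⁻¹ := by rw [h2]
      _ = t * (b * g * b⁻¹) := by group
  · rw [conj_pow, hg2]; group

theorem invCenter_comm {Q : Subgroup Γ} {a b : Γ} (ha : a ∈ invCenter Q) (hb : b ∈ invCenter Q) :
    a * b = b * a := ha.2.1 b hb.1

theorem MinConf.comm_mem_invCenter {𝔅 Q : Subgroup Γ} {x : Γ} (h : MinConf 𝔅 Q x) {a b : Γ}
    (ha : a ∈ Q) (hb : b ∈ Q) : a * b * a⁻¹ * b⁻¹ ∈ invCenter Q := by
  refine ⟨Q.mul_mem (Q.mul_mem (Q.mul_mem ha hb) (Q.inv_mem ha)) (Q.inv_mem hb), ?_, ?_⟩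
  · intro t ht
    exact (h.comm_central ha hb ht).symm
  · have h1 : a * (a * b * a⁻¹ * b⁻¹) = (a * b * a⁻¹ * b⁻¹) * a := h.comm_central ha hb ha
    have h2 : b * (a * a) = (a * a) * b := by
      have := h.sq_central ha hb
      rwa [pow_two] at this
    calc (a * b * a⁻¹ * b⁻¹) ^ 2 = (a * b * a⁻¹ * b⁻¹) * (a * b * a⁻¹ * b⁻¹) := pow_two _
      _ = ((a * b * a⁻¹ * b⁻¹) * a) * (b * a⁻¹ * b⁻¹) := by group
      _ = (a * (a * b * a⁻¹ * b⁻¹)) * (b * a⁻¹ * b⁻¹) := by rw [← h1]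
      _ = ((a * a) * b) * a⁻¹ * a⁻¹ * b⁻¹ := by group
      _ = (b * (a * a)) * a⁻¹ * a⁻¹ * b⁻¹ := by rw [← h2]
      _ = 1 := by group

/-- a pairwise commuting set generates an abelian subgroup -/
theorem closure_comm {k : Set Γ} (hk : ∀ a ∈ k, ∀ b ∈ k, a * b = b * a) :
    ∀ g ∈ Subgroup.closure k, ∀ t ∈ Subgroup.closure k, g * t = t * g := by
  have h1 : Subgroup.closure k ≤ Subgroup.centralizer k := by
    rw [Subgroup.closure_le]
    intro a ha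
    rw [SetLike.mem_coe, Subgroup.mem_centralizer_iff]
    intro b hb
    exact hk b hb a ha
  have h2 : Subgroup.closure k ≤ Subgroup.centralizer (Subgroup.closure k : Set Γ) := by
    rw [Subgroup.closure_le]
    intro a ha
    rw [SetLike.mem_coe, Subgroup.mem_centralizer_iff]
    intro g hg
    have := Subgroup.mem_centralizer_iff.mp (h1 hg) a ha
    exact this.symm
  intro g hg t ht
  have := Subgroup.mem_centralizer_iff.mp (h2 hg) t ht
  exact this.symm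

section kappa

open Classical in
/-- the commutator pairing with values in `ZMod 2` -/
noncomputable def kap (g t : Γ) : ZMod 2 := if g * t = t * g then 0 else 1

theorem zmod2_cases (e : ZMod 2) : e = 0 ∨ e = 1 := by
  revert e; decide

theorem kap_eq_zero_iff {g t : Γ} : kap g t = 0 ↔ g * t = t * g := by
  unfold kap
  split_ifs with h
  · simp [h]
  · simp [h]

theorem kap_eq_one_iff {g t : Γ} : kap g t = 1 ↔ g * t ≠ t * g := by
  unfold kap
  split_ifs with h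
  · simp [h]
  · simp [h]

theorem kap_symm (g t : Γ) : kap g t = kap t g := by
  rcases zmod2_cases (kap t g) with h | h
  · rw [h, kap_eq_zero_iff]
    exact (kap_eq_zero_iff.mp h).symm
  · rw [h, kap_eq_one_iff]
    intro h'
    exact (kap_eq_one_iff.mp h) h'.symm

theorem kap_self (g : Γ) : kap g g = 0 := kap_eq_zero_iff.mpr rfl

theorem kap_conj (y g t : Γ) : kap (y * g * y⁻¹) (y * t * y⁻¹) = kap g t := by
  have key : (y * g * y⁻¹) * (y * t * y⁻¹) = (y * t * y⁻¹) * (y * g * y⁻¹) ↔ g * t = t * g := by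
    constructor
    · intro h
      have : y⁻¹ * ((y * g * y⁻¹) * (y * t * y⁻¹)) * y = y⁻¹ * ((y * t * y⁻¹) * (y * g * y⁻¹)) * y := by
        rw [h]
      have e1 : y⁻¹ * ((y * g * y⁻¹) * (y * t * y⁻¹)) * y = g * t := by group
      have e2 : y⁻¹ * ((y * t * y⁻¹) * (y * g * y⁻¹)) * y = t * g := by group
      rw [e1, e2] at this
      exact this
    · intro h
      calc (y * g * y⁻¹) * (y * t * y⁻¹) = y * (g * t) * y⁻¹ := by group
        _ = y * (t * g) * y⁻¹ := by rw [h]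
        _ = (y * t * y⁻¹) * (y * g * y⁻¹) := by group
  rcases zmod2_cases (kap g t) with h | h
  · rw [h, kap_eq_zero_iff, key]
    exact kap_eq_zero_iff.mp h
  · rw [h, kap_eq_one_iff, Ne, key]
    exact kap_eq_one_iff.mp h

theorem kap_inv_left (g t : Γ) : kap g⁻¹ t = kap g t := by
  have key : g⁻¹ * t = t * g⁻¹ ↔ g * t = t * g := by
    constructor
    · intro h
      calc g * t = g * (t * g⁻¹) * g := by group
        _ = g * (g⁻¹ * t) * g := by rw [h]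
        _ = t * g := by group
    · intro h
      calc g⁻¹ * t = g⁻¹ * (t * g) * g⁻¹ := by group
        _ = g⁻¹ * (g * t) * g⁻¹ := by rw [h]
        _ = t * g⁻¹ := by group
  rcases zmod2_cases (kap g t) with h | h
  · rw [h, kap_eq_zero_iff, key]
    exact kap_eq_zero_iff.mp h
  · rw [h, kap_eq_one_iff, Ne, key]
    exact kap_eq_one_iff.mp h

theorem kap_inv_right (g t : Γ) : kap g t⁻¹ = kap g t := by
  rw [kap_symm, kap_inv_left, kap_symm]

/-- `1` or `z₀` -/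
def zp (z₀ : Γ) (e : ZMod 2) : Γ := if e = 0 then 1 else z₀

theorem zp_zero (z₀ : Γ) : zp z₀ 0 = 1 := by simp [zp]

theorem zp_one (z₀ : Γ) : zp z₀ 1 = z₀ := by
  have : (1 : ZMod 2) ≠ 0 := by decide
  simp [zp, this]

end kappa

/-- the hypotheses of the endgame -/
structure EndHyp (𝔅 Q : Subgroup Γ) (x z₀ : Γ) : Prop where
  two : IsPGroup 2 Q
  norm : Nrm 𝔅 Q
  xmem : x ∈ 𝔅
  xcent : ∀ b ∈ 𝔅, b * x = x * b
  xpow : x ^ 3 = 1
  z_cent : ∀ g : Γ, z₀ * g = g * z₀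
  z_sq : z₀ * z₀ = 1
  z_ne : z₀ ≠ 1
  comm : ∀ g ∈ Q, ∀ t ∈ Q, g * t = t * g ∨ g * t = z₀ * (t * g)
  cz : ∀ g ∈ Q, x * g = g * x ↔ ∀ t ∈ Q, g * t = t * g
  f1 : ∀ M : Subgroup Γ, M ≤ Q → (∀ g ∈ M, x * g * x⁻¹ ∈ M) →
    (∀ g ∈ M, ∀ t ∈ M, g * t = t * g) → ∀ g ∈ M, x * g = g * x

/-- the centraliser of `x` in `Q` -/
def cxq (Q : Subgroup Γ) (x : Γ) : Subgroup Γ := Q ⊓ Subgroup.centralizer {x}

theorem mem_cxq {Q : Subgroup Γ} {x g : Γ} : g ∈ cxq Q x ↔ g ∈ Q ∧ x * g = g * x := by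
  unfold cxq
  rw [Subgroup.mem_inf, Subgroup.mem_centralizer_iff]
  constructor
  · rintro ⟨h1, h2⟩
    exact ⟨h1, h2 x rfl⟩
  · rintro ⟨h1, h2⟩
    refine ⟨h1, ?_⟩
    intro y hy
    rw [Set.mem_singleton_iff] at hy
    subst hy
    exact h2

/-- the conjugates of `a` under powers of `x` -/
def cjx (x a : Γ) (i : ℕ) : Γ := x ^ i * a * (x ^ i)⁻¹

theorem cjx_succ (x a : Γ) (i : ℕ) : cjx x a (i + 1) = x * cjx x a i * x⁻¹ := by
  unfold cjx
  rw [pow_succ']; group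

section endgame

variable {𝔅 Q : Subgroup Γ} {x z₀ : Γ} (H : EndHyp 𝔅 Q x z₀)
include H

theorem EndHyp.zp_add (e₁ e₂ : ZMod 2) : zp z₀ (e₁ + e₂) = zp z₀ e₁ * zp z₀ e₂ := by
  have h11 : (1 : ZMod 2) + 1 = 0 := by decide
  rcases zmod2_cases e₁ with rfl | rfl <;> rcases zmod2_cases e₂ with rfl | rfl
  · simp [zp_zero]
  · simp [zp_zero, zp_one]
  · simp [zp_zero, zp_one]
  · rw [h11, zp_zero, zp_one, H.z_sq]

theorem EndHyp.zp_cent (e : ZMod 2) (g : Γ) : zp z₀ e * g = g * zp z₀ e := by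
  rcases zmod2_cases e with rfl | rfl
  · simp [zp_zero]
  · rw [zp_one]; exact H.z_cent g

theorem EndHyp.kap_spec {g t : Γ} (hg : g ∈ Q) (ht : t ∈ Q) :
    g * t = zp z₀ (kap g t) * (t * g) := by
  rcases zmod2_cases (kap g t) with h | h
  · rw [h, zp_zero, one_mul]
    exact kap_eq_zero_iff.mp h
  · rw [h, zp_one]
    rcases H.comm g hg t ht with h' | h'
    · exact absurd h' (kap_eq_one_iff.mp h)
    · exact h'

theorem EndHyp.kap_uniq {g t : Γ} {e : ZMod 2} (he : g * t = zp z₀ e * (t * g)) : kap g t = e := by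
  rcases zmod2_cases e with rfl | rfl
  · rw [zp_zero, one_mul] at he
    exact kap_eq_zero_iff.mpr he
  · rw [zp_one] at he
    rw [kap_eq_one_iff]
    intro h'
    rw [h'] at he
    exact H.z_ne (mul_eq_right.mp he.symm)

theorem EndHyp.kap_mul_left {g₁ g₂ t : Γ} (h₁ : g₁ ∈ Q) (h₂ : g₂ ∈ Q) (ht : t ∈ Q) :
    kap (g₁ * g₂) t = kap g₁ t + kap g₂ t := by
  apply H.kap_uniq
  have e1 := H.kap_spec h₁ ht
  have e2 := H.kap_spec h₂ ht
  rw [H.zp_add]
  calc g₁ * g₂ * t = g₁ * (g₂ * t) := by group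
    _ = g₁ * (zp z₀ (kap g₂ t) * (t * g₂)) := by rw [← e2]
    _ = g₁ * zp z₀ (kap g₂ t) * (t * g₂) := by group
    _ = zp z₀ (kap g₂ t) * g₁ * (t * g₂) := by rw [H.zp_cent]
    _ = zp z₀ (kap g₂ t) * (g₁ * t) * g₂ := by group
    _ = zp z₀ (kap g₂ t) * (zp z₀ (kap g₁ t) * (t * g₁)) * g₂ := by rw [← e1]
    _ = (zp z₀ (kap g₂ t) * zp z₀ (kap g₁ t)) * (t * (g₁ * g₂)) := by group
    _ = (zp z₀ (kap g₁ t) * zp z₀ (kap g₂ t)) * (t * (g₁ * g₂)) := by
        rw [H.zp_cent (kap g₂ t)]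

theorem EndHyp.kap_mul_right {g t₁ t₂ : Γ} (hg : g ∈ Q) (h₁ : t₁ ∈ Q) (h₂ : t₂ ∈ Q) :
    kap g (t₁ * t₂) = kap g t₁ + kap g t₂ := by
  rw [kap_symm, H.kap_mul_left h₁ h₂ hg, kap_symm t₁, kap_symm t₂]

theorem EndHyp.kap_central {ζ t : Γ} (hζ : ζ ∈ Q) (hζx : x * ζ = ζ * x) (ht : t ∈ Q) :
    kap ζ t = 0 := kap_eq_zero_iff.mpr ((H.cz ζ hζ).mp hζx t ht)

theorem EndHyp.x_norm {g : Γ} (hg : g ∈ Q) : x * g * x⁻¹ ∈ Q := H.norm x H.xmem g hg

theorem EndHyp.x3_conj (g : Γ) : x * (x * (x * g * x⁻¹) * x⁻¹) * x⁻¹ = g := by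
  have h3 : x * x * x = 1 := by
    have := H.xpow
    rw [pow_succ, pow_two] at this
    exact this
  have : x * (x * (x * g * x⁻¹) * x⁻¹) * x⁻¹ = (x * x * x) * g * (x * x * x)⁻¹ := by group
  rw [this, h3]; group

/-- S1: `a` and `xax⁻¹` do not commute when `x` moves `a` -/
theorem EndHyp.kap_conj_self {a : Γ} (ha : a ∈ Q) (hax : x * a ≠ a * x) :
    kap a (x * a * x⁻¹) = 1 := by
  rcases zmod2_cases (kap a (x * a * x⁻¹)) with h0 | h1
  · exfalso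
    have hc0' : a * (x * a * x⁻¹) = (x * a * x⁻¹) * a := kap_eq_zero_iff.mp h0
    obtain ⟨a₁, ha₁⟩ : ∃ a₁ : Γ, a₁ = x * a * x⁻¹ := ⟨_, rfl⟩
    obtain ⟨a₂, ha₂⟩ : ∃ a₂ : Γ, a₂ = x * a₁ * x⁻¹ := ⟨_, rfl⟩
    have hc0 : a * a₁ = a₁ * a := by rw [ha₁]; exact hc0'
    have ha₁Q : a₁ ∈ Q := by rw [ha₁]; exact H.x_norm ha
    have ha₂Q : a₂ ∈ Q := by rw [ha₂]; exact H.x_norm ha₁Q
    have h3 : x * a₂ * x⁻¹ = a := by rw [ha₂, ha₁]; exact H.x3_conj a
    have hc1 : a₁ * a₂ = a₂ * a₁ := by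
      calc a₁ * a₂ = (x * a * x⁻¹) * (x * a₁ * x⁻¹) := by rw [← ha₁, ← ha₂]
        _ = x * (a * a₁) * x⁻¹ := by group
        _ = x * (a₁ * a) * x⁻¹ := by rw [hc0]
        _ = (x * a₁ * x⁻¹) * (x * a * x⁻¹) := by group
        _ = a₂ * a₁ := by rw [← ha₁, ← ha₂]
    have hc2 : a₂ * a = a * a₂ := by
      calc a₂ * a = (x * a₁ * x⁻¹) * (x * a₂ * x⁻¹) := by rw [h3, ← ha₂]
        _ = x * (a₁ * a₂) * x⁻¹ := by group
        _ = x * (a₂ * a₁) * x⁻¹ := by rw [hc1]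
        _ = (x * a₂ * x⁻¹) * (x * a₁ * x⁻¹) := by group
        _ = a * a₂ := by rw [h3, ← ha₂]
    obtain ⟨k, hk⟩ : ∃ k : Set Γ, k = {a, a₁, a₂} := ⟨_, rfl⟩
    have hkc : ∀ u ∈ k, ∀ v ∈ k, u * v = v * u := by
      intro u hu v hv
      rw [hk] at hu hv
      simp only [Set.mem_insert_iff, Set.mem_singleton_iff] at hu hv
      rcases hu with rfl | rfl | rfl <;> rcases hv with rfl | rfl | rfl
      · rfl
      · exact hc0
      · exact hc2.symm
      · exact hc0.symm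
      · rfl
      · exact hc1
      · exact hc2
      · exact hc1.symm
      · rfl
    have hMQ : Subgroup.closure k ≤ Q := by
      rw [Subgroup.closure_le]
      intro u hu
      rw [hk] at hu
      simp only [Set.mem_insert_iff, Set.mem_singleton_iff] at hu
      rcases hu with rfl | rfl | rfl
      · exact ha
      · exact ha₁Q
      · exact ha₂Q
    have hMx : ∀ g ∈ Subgroup.closure k, x * g * x⁻¹ ∈ Subgroup.closure k := by
      intro g hg
      refine Subgroup.closure_induction (p := fun y _ => x * y * x⁻¹ ∈ Subgroup.closure k)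
        ?_ ?_ ?_ ?_ hg
      · intro u hu
        apply Subgroup.subset_closure
        rw [hk] at hu ⊢
        simp only [Set.mem_insert_iff, Set.mem_singleton_iff] at hu ⊢
        rcases hu with rfl | rfl | rfl
        · right; left; exact ha₁.symm
        · right; right; exact ha₂.symm
        · left; exact h3
      · simp
      · intro y₁ y₂ _ _ h1 h2
        have : x * (y₁ * y₂) * x⁻¹ = (x * y₁ * x⁻¹) * (x * y₂ * x⁻¹) := by group
        rw [this]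
        exact Subgroup.mul_mem _ h1 h2
      · intro y _ h1
        have : x * y⁻¹ * x⁻¹ = (x * y * x⁻¹)⁻¹ := by group
        rw [this]
        exact Subgroup.inv_mem _ h1
    have := H.f1 (Subgroup.closure k) hMQ hMx (closure_comm hkc) a
      (Subgroup.subset_closure (by rw [hk]; simp))
    exact hax this
  · exact h1

/-- S2: the norm `a · xax⁻¹ · x²ax⁻²` commutes with `x` -/
theorem EndHyp.norm_comm {a a₁ a₂ : Γ} (ha : a ∈ Q) (ha₁ : a₁ = x * a * x⁻¹)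
    (ha₂ : a₂ = x * a₁ * x⁻¹) : x * (a * a₁ * a₂) = (a * a₁ * a₂) * x := by
  have ha₁Q : a₁ ∈ Q := by rw [ha₁]; exact H.x_norm ha
  have ha₂Q : a₂ ∈ Q := by rw [ha₂]; exact H.x_norm ha₁Q
  have h3 : x * a₂ * x⁻¹ = a := by rw [ha₂, ha₁]; exact H.x3_conj a
  have hk : kap (a * a₁ * a₂) a = 0 := by
    rw [H.kap_mul_left (Q.mul_mem ha ha₁Q) ha₂Q ha, H.kap_mul_left ha ha₁Q ha, kap_self]
    have e1 : kap a₂ a = kap a₁ a₂ := by
      have := kap_conj x a₁ a₂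
      rw [h3, ← ha₂] at this
      exact this
    have e2 : kap a₁ a₂ = kap a a₁ := by
      have := kap_conj x a a₁
      rw [← ha₁, ← ha₂] at this
      exact this
    rw [e1, e2, kap_symm a₁ a]
    rcases zmod2_cases (kap a a₁) with h | h <;> rw [h] <;> decide
  have hc : (a * a₁ * a₂) * a = a * (a * a₁ * a₂) := kap_eq_zero_iff.mp hk
  calc x * (a * a₁ * a₂) = (x * a * x⁻¹) * (x * a₁ * x⁻¹) * (x * a₂ * x⁻¹) * x := by group
    _ = a₁ * a₂ * a * x := by rw [← ha₁, ← ha₂, h3]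
    _ = a⁻¹ * ((a * a₁ * a₂) * a) * x := by group
    _ = a⁻¹ * (a * (a * a₁ * a₂)) * x := by rw [hc]
    _ = a * a₁ * a₂ * x := by group

/-- S3: an element commuting with `a` and `xax⁻¹` is centralised by `x` -/
theorem EndHyp.comm_x_of_kap {a : Γ} (ha : a ∈ Q) (hax : x * a ≠ a * x) {v : Γ} (hv : v ∈ Q)
    (h0 : kap v a = 0) (h1' : kap v (x * a * x⁻¹) = 0) : x * v = v * x := by
  by_contra hvx
  have haa₁' : kap a (x * a * x⁻¹) = 1 := H.kap_conj_self ha hax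
  have hvv₁' : kap v (x * v * x⁻¹) = 1 := H.kap_conj_self hv hvx
  obtain ⟨a₁, ha₁⟩ : ∃ a₁ : Γ, a₁ = x * a * x⁻¹ := ⟨_, rfl⟩
  obtain ⟨a₂, ha₂⟩ : ∃ a₂ : Γ, a₂ = x * a₁ * x⁻¹ := ⟨_, rfl⟩
  obtain ⟨v₁, hv₁⟩ : ∃ v₁ : Γ, v₁ = x * v * x⁻¹ := ⟨_, rfl⟩
  have h1 : kap v a₁ = 0 := by rw [ha₁]; exact h1'
  have haa₁ : kap a a₁ = 1 := by rw [ha₁]; exact haa₁'
  have hvv₁ : kap v v₁ = 1 := by rw [hv₁]; exact hvv₁'
  have ha₁Q : a₁ ∈ Q := by rw [ha₁]; exact H.x_norm ha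
  have ha₂Q : a₂ ∈ Q := by rw [ha₂]; exact H.x_norm ha₁Q
  have hv₁Q : v₁ ∈ Q := by rw [hv₁]; exact H.x_norm hv
  have h3 : x * a₂ * x⁻¹ = a := by rw [ha₂, ha₁]; exact H.x3_conj a
  have hs := H.norm_comm ha ha₁ ha₂
  have hsQ : a * a₁ * a₂ ∈ Q := Q.mul_mem (Q.mul_mem ha ha₁Q) ha₂Q
  have hvs : kap v (a * a₁ * a₂) = 0 := by
    rw [kap_symm]; exact H.kap_central hsQ hs hv
  rw [H.kap_mul_right hv (Q.mul_mem ha ha₁Q) ha₂Q, H.kap_mul_right hv ha ha₁Q, h0, h1] at hvs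
  have hva₂ : kap v a₂ = 0 := by simpa using hvs
  have hv₁a : kap v₁ a = 0 := by
    have := kap_conj x v a₂
    rw [h3, ← hv₁] at this
    rw [this]; exact hva₂
  have hv₁a₁ : kap v₁ a₁ = 0 := by
    have := kap_conj x v a
    rw [← hv₁, ← ha₁] at this
    rw [this]; exact h0
  -- `t = a v`
  have htQ : a * v ∈ Q := Q.mul_mem ha hv
  have hxt : x * (a * v) * x⁻¹ = a₁ * v₁ := by rw [ha₁, hv₁]; group
  have hkt : kap (a * v) (x * (a * v) * x⁻¹) = 0 := by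
    rw [hxt, H.kap_mul_left ha hv (Q.mul_mem ha₁Q hv₁Q), H.kap_mul_right ha ha₁Q hv₁Q,
      H.kap_mul_right hv ha₁Q hv₁Q, haa₁, kap_symm a v₁, hv₁a, h1, hvv₁]
    decide
  have htx : x * (a * v) = (a * v) * x := by
    by_contra hne
    have := H.kap_conj_self htQ hne
    rw [hkt] at this
    exact absurd this (by decide)
  have heq : a₁ * v₁ = a * v := by
    rw [← hxt, htx]; group
  have hk1 : kap (a₁ * v₁) a = 1 := by
    rw [H.kap_mul_left ha₁Q hv₁Q ha, kap_symm a₁ a, haa₁, hv₁a]; decide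
  have hk2 : kap (a * v) a = 0 := by
    rw [H.kap_mul_left ha hv ha, kap_self, h0]; decide
  rw [heq, hk2] at hk1
  exact absurd hk1 (by decide)

theorem EndHyp.cjx_mod (a : Γ) (i : ℕ) : cjx x a i = cjx x a (i % 3) := by
  unfold cjx
  rw [pow_eq_pow_mod i H.xpow]

theorem EndHyp.cjx_mem {a : Γ} (ha : a ∈ Q) (i : ℕ) : cjx x a i ∈ Q := by
  induction i with
  | zero => simpa [cjx] using ha
  | succ i ih => rw [cjx_succ]; exact H.x_norm ih

/-- S4: every element of `Q` is congruent to `1, a, xax⁻¹` or `x²ax⁻²` modulo `C_Q(x)` -/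
theorem EndHyp.coset_cases {a : Γ} (ha : a ∈ Q) (hax : x * a ≠ a * x) {v : Γ} (hv : v ∈ Q) :
    x * v = v * x ∨ ∃ i : ℕ, v * (cjx x a i)⁻¹ ∈ cxq Q x := by
  have haa₁' : kap a (x * a * x⁻¹) = 1 := H.kap_conj_self ha hax
  obtain ⟨a₁, ha₁⟩ : ∃ a₁ : Γ, a₁ = x * a * x⁻¹ := ⟨_, rfl⟩
  obtain ⟨a₂, ha₂⟩ : ∃ a₂ : Γ, a₂ = x * a₁ * x⁻¹ := ⟨_, rfl⟩
  have haa₁ : kap a a₁ = 1 := by rw [ha₁]; exact haa₁'
  have ha₁Q : a₁ ∈ Q := by rw [ha₁]; exact H.x_norm ha
  have ha₂Q : a₂ ∈ Q := by rw [ha₂]; exact H.x_norm ha₁Q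
  have h3 : x * a₂ * x⁻¹ = a := by rw [ha₂, ha₁]; exact H.x3_conj a
  have ha₁a₂ : kap a₁ a₂ = 1 := by
    have := kap_conj x a a₁
    rw [← ha₁, ← ha₂] at this
    rw [this]; exact haa₁
  have ha₂a : kap a₂ a = 1 := by
    have := kap_conj x a₁ a₂
    rw [h3, ← ha₂] at this
    rw [this]; exact ha₁a₂
  have c0 : cjx x a 0 = a := by simp [cjx]
  have c1 : cjx x a 1 = a₁ := by rw [cjx_succ, c0, ha₁]
  have c2 : cjx x a 2 = a₂ := by rw [cjx_succ, c1, ha₂]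
  have key : ∀ w ∈ Q, kap v a = kap w a → kap v a₁ = kap w a₁ → v * w⁻¹ ∈ cxq Q x := by
    intro w hw e0 e1
    have hvw : v * w⁻¹ ∈ Q := Q.mul_mem hv (Q.inv_mem hw)
    rw [mem_cxq]
    refine ⟨hvw, H.comm_x_of_kap ha hax hvw ?_ ?_⟩
    · rw [H.kap_mul_left hv (Q.inv_mem hw) ha, kap_inv_left, e0]
      rcases zmod2_cases (kap w a) with h | h <;> rw [h] <;> decide
    · rw [← ha₁, H.kap_mul_left hv (Q.inv_mem hw) ha₁Q, kap_inv_left, e1]
      rcases zmod2_cases (kap w a₁) with h | h <;> rw [h] <;> decide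
  rcases zmod2_cases (kap v a) with e0 | e0 <;> rcases zmod2_cases (kap v a₁) with e1 | e1
  · left
    exact H.comm_x_of_kap ha hax hv e0 (by rw [← ha₁]; exact e1)
  · right
    refine ⟨0, ?_⟩
    rw [c0]
    exact key a ha (by rw [e0, kap_self]) (by rw [e1, haa₁])
  · right
    refine ⟨1, ?_⟩
    rw [c1]
    exact key a₁ ha₁Q (by rw [e0, kap_symm, haa₁]) (by rw [e1, kap_self])
  · right
    refine ⟨2, ?_⟩
    rw [c2]
    exact key a₂ ha₂Q (by rw [e0, ha₂a]) (by rw [e1, kap_symm, ha₁a₂])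

end endgame

end Cfsg.Agent.Helper20.HHQ
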