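import Mathlib
import Cfsg.Agent.Lib.Helper20.HHQuadC

/-!
# The extraspecial endgame, conclusion (helper20)

In the situation of `EndHyp`, `x` cannot lie in the derived subgroup of `𝔅`: every element of `𝔅`
acts on `a C_Q(x)` like a power of `x`.
-/

set_option autoImplicit false
set_option linter.unusedSectionVars false
set_option linter.style.haveILetI false

namespace Cfsg.Agent.Helper20.HHQ

open scoped commutatorElement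

variable {Γ : Type*} [Group Γ]

/-- `b` acts on `a` like `x ^ i`, modulo `C_Q(x)` -/
def ERel (Q : Subgroup Γ) (x a b : Γ) (i : ℕ) : Prop := b * a * b⁻¹ * (cjx x a i)⁻¹ ∈ cxq Q x

theorem cjx_add (x a : Γ) (i m : ℕ) : x ^ m * cjx x a i * (x ^ m)⁻¹ = cjx x a (i + m) := by
  unfold cjx
  rw [add_comm i m, pow_add]; group

theorem cjx_zero (x a : Γ) : cjx x a 0 = a := by simp [cjx]

theorem cxq_pow_comm {Q : Subgroup Γ} {x ζ : Γ} (hζ : ζ ∈ cxq Q x) (m : ℕ) :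
    x ^ m * ζ * (x ^ m)⁻¹ = ζ := by
  have h1 : Commute x ζ := (mem_cxq.mp hζ).2
  have h2 : x ^ m * ζ = ζ * x ^ m := h1.pow_left m
  rw [h2]; group

section endgame

variable {𝔅 Q : Subgroup Γ} {x z₀ : Γ} (H : EndHyp 𝔅 Q x z₀)
include H

theorem EndHyp.cxq_conj {b ζ : Γ} (hb : b ∈ 𝔅) (hζ : ζ ∈ cxq Q x) : b * ζ * b⁻¹ ∈ cxq Q x := by
  rw [mem_cxq] at hζ ⊢
  refine ⟨H.norm b hb ζ hζ.1, ?_⟩
  have e1 : b * x = x * b := H.xcent b hb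
  have e2 : x * b⁻¹ = b⁻¹ * x := by
    have : Commute b x := e1
    exact this.symm.inv_right
  calc x * (b * ζ * b⁻¹) = (x * b) * ζ * b⁻¹ := by group
    _ = b * (x * ζ) * b⁻¹ := by rw [← e1]; group
    _ = b * (ζ * x) * b⁻¹ := by rw [hζ.2]
    _ = b * ζ * (x * b⁻¹) := by group
    _ = b * ζ * b⁻¹ * x := by rw [e2]; group

theorem EndHyp.conj_pow_comm {b : Γ} (hb : b ∈ 𝔅) (g : Γ) (m : ℕ) :
    b * (x ^ m * g * (x ^ m)⁻¹) * b⁻¹ = x ^ m * (b * g * b⁻¹) * (x ^ m)⁻¹ := by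
  have e1 : Commute b x := H.xcent b hb
  have e2 : b * x ^ m = x ^ m * b := e1.pow_right m
  have e3 : (x ^ m)⁻¹ * b⁻¹ = b⁻¹ * (x ^ m)⁻¹ := by
    rw [← mul_inv_rev, ← mul_inv_rev, e2]
  calc b * (x ^ m * g * (x ^ m)⁻¹) * b⁻¹ = (b * x ^ m) * g * ((x ^ m)⁻¹ * b⁻¹) := by group
    _ = (x ^ m * b) * g * (b⁻¹ * (x ^ m)⁻¹) := by rw [e2, e3]
    _ = x ^ m * (b * g * b⁻¹) * (x ^ m)⁻¹ := by group

theorem EndHyp.erel_exists {a : Γ} (ha : a ∈ Q) (hax : x * a ≠ a * x) {b : Γ} (hb : b ∈ 𝔅) :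
    ∃ i : ℕ, ERel Q x a b i := by
  have hv : b * a * b⁻¹ ∈ Q := H.norm b hb a ha
  rcases H.coset_cases ha hax hv with h | ⟨i, hi⟩
  · exfalso
    apply hax
    have h1 : b * a * b⁻¹ ∈ cxq Q x := mem_cxq.mpr ⟨hv, h⟩
    have h2 := H.cxq_conj (𝔅.inv_mem hb) h1
    rw [inv_inv] at h2
    have e : b⁻¹ * (b * a * b⁻¹) * b = a := by group
    rw [e] at h2
    exact (mem_cxq.mp h2).2
  · exact ⟨i, hi⟩

theorem EndHyp.erel_mul {a b₁ b₂ : Γ} (hb₁ : b₁ ∈ 𝔅) (hb₂ : b₂ ∈ 𝔅) {i₁ i₂ : ℕ}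
    (h₁ : ERel Q x a b₁ i₁) (h₂ : ERel Q x a b₂ i₂) : ERel Q x a (b₁ * b₂) (i₁ + i₂) := by
  unfold ERel at h₁ h₂ ⊢
  obtain ⟨ζ₁, hζ₁⟩ : ∃ ζ₁ : Γ, ζ₁ = b₁ * a * b₁⁻¹ * (cjx x a i₁)⁻¹ := ⟨_, rfl⟩
  obtain ⟨ζ₂, hζ₂⟩ : ∃ ζ₂ : Γ, ζ₂ = b₂ * a * b₂⁻¹ * (cjx x a i₂)⁻¹ := ⟨_, rfl⟩
  rw [← hζ₁] at h₁
  rw [← hζ₂] at h₂
  have e₁ : b₁ * a * b₁⁻¹ = ζ₁ * cjx x a i₁ := by rw [hζ₁]; group
  have e₂ : b₂ * a * b₂⁻¹ = ζ₂ * cjx x a i₂ := by rw [hζ₂]; group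
  have hζ₂' : b₁ * ζ₂ * b₁⁻¹ ∈ cxq Q x := H.cxq_conj hb₁ h₂
  have e3 : b₁ * cjx x a i₂ * b₁⁻¹ = ζ₁ * cjx x a (i₁ + i₂) := by
    have h1 : b₁ * cjx x a i₂ * b₁⁻¹ = x ^ i₂ * (b₁ * a * b₁⁻¹) * (x ^ i₂)⁻¹ := by
      unfold cjx
      exact H.conj_pow_comm hb₁ a i₂
    rw [h1, e₁]
    calc x ^ i₂ * (ζ₁ * cjx x a i₁) * (x ^ i₂)⁻¹
        = (x ^ i₂ * ζ₁ * (x ^ i₂)⁻¹) * (x ^ i₂ * cjx x a i₁ * (x ^ i₂)⁻¹) := by group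
      _ = ζ₁ * cjx x a (i₁ + i₂) := by rw [cxq_pow_comm h₁, cjx_add]
  have key : b₁ * b₂ * a * (b₁ * b₂)⁻¹ * (cjx x a (i₁ + i₂))⁻¹ = (b₁ * ζ₂ * b₁⁻¹) * ζ₁ := by
    calc b₁ * b₂ * a * (b₁ * b₂)⁻¹ * (cjx x a (i₁ + i₂))⁻¹
        = b₁ * (b₂ * a * b₂⁻¹) * b₁⁻¹ * (cjx x a (i₁ + i₂))⁻¹ := by group
      _ = b₁ * (ζ₂ * cjx x a i₂) * b₁⁻¹ * (cjx x a (i₁ + i₂))⁻¹ := by rw [e₂]
      _ = (b₁ * ζ₂ * b₁⁻¹) * (b₁ * cjx x a i₂ * b₁⁻¹) * (cjx x a (i₁ + i₂))⁻¹ := by group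
      _ = (b₁ * ζ₂ * b₁⁻¹) * (ζ₁ * cjx x a (i₁ + i₂)) * (cjx x a (i₁ + i₂))⁻¹ := by rw [e3]
      _ = (b₁ * ζ₂ * b₁⁻¹) * ζ₁ := by group
  rw [key]
  exact (cxq Q x).mul_mem hζ₂' h₁

theorem EndHyp.erel_mod {a b : Γ} {i : ℕ} : ERel Q x a b i ↔ ERel Q x a b (i % 3) := by
  unfold ERel
  rw [← H.cjx_mod]

theorem EndHyp.cjx_pair {a : Γ} (ha : a ∈ Q) (hax : x * a ≠ a * x) {i j : ℕ}
    (hij : cjx x a i * (cjx x a j)⁻¹ ∈ cxq Q x) : i % 3 = j % 3 := by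
  obtain ⟨m, hm⟩ : ∃ m : ℕ, m = 3 - j % 3 := ⟨_, rfl⟩
  have hjm : (j + m) % 3 = 0 := by omega
  have h1 : cjx x a (i + m) * (cjx x a (j + m))⁻¹ ∈ cxq Q x := by
    have := cxq_pow_comm hij m
    rw [← cjx_add, ← cjx_add]
    have e : x ^ m * cjx x a i * (x ^ m)⁻¹ * (x ^ m * cjx x a j * (x ^ m)⁻¹)⁻¹ =
        x ^ m * (cjx x a i * (cjx x a j)⁻¹) * (x ^ m)⁻¹ := by group
    rw [e, this]
    exact hij
  rw [H.cjx_mod a (j + m), hjm, cjx_zero, H.cjx_mod a (i + m)] at h1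
  have hk : (i + m) % 3 = 0 ∨ (i + m) % 3 = 1 ∨ (i + m) % 3 = 2 := by omega
  -- the commutator `c = x a x⁻¹ a⁻¹` is not in `C_Q(x)`
  have hc : x * a * x⁻¹ * a⁻¹ ∉ cxq Q x := by
    intro hmem
    apply hax
    exact comm_eq_one_gen H.two H.xpow (mem_cxq.mp hmem).1 (mem_cxq.mp hmem).2
  rcases hk with hk | hk | hk
  · omega
  · exfalso
    rw [hk] at h1
    apply hc
    have : cjx x a 1 = x * a * x⁻¹ := by rw [cjx_succ, cjx_zero]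
    rw [this] at h1
    exact h1
  · exfalso
    rw [hk] at h1
    apply hc
    have e2 : cjx x a 2 = x * (x * a * x⁻¹) * x⁻¹ := by rw [cjx_succ, cjx_succ, cjx_zero]
    rw [e2] at h1
    have h2 := cxq_pow_comm h1 1
    rw [pow_one] at h2
    have h3 : x * (x * (x * a * x⁻¹) * x⁻¹ * a⁻¹) * x⁻¹ =
        (x * (x * (x * a * x⁻¹) * x⁻¹) * x⁻¹) * (x * a * x⁻¹)⁻¹ := by group
    rw [h3, H.x3_conj] at h2
    -- `a (x a x⁻¹)⁻¹ = x² a x⁻² a⁻¹ ∈ C`, so its inverse `c` is in `C`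
    have h4 : a * (x * a * x⁻¹)⁻¹ ∈ cxq Q x := by rw [h2]; exact h1
    have h5 := (cxq Q x).inv_mem h4
    have e5 : (a * (x * a * x⁻¹)⁻¹)⁻¹ = x * a * x⁻¹ * a⁻¹ := by group
    rw [e5] at h5
    exact h5

theorem EndHyp.erel_uniq {a : Γ} (ha : a ∈ Q) (hax : x * a ≠ a * x) {b : Γ} {i j : ℕ}
    (hi : ERel Q x a b i) (hj : ERel Q x a b j) : i % 3 = j % 3 := by
  unfold ERel at hi hj
  apply Eq.symm
  apply H.cjx_pair ha hax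
  have h1 := (cxq Q x).mul_mem ((cxq Q x).inv_mem hj) hi
  have e : (b * a * b⁻¹ * (cjx x a j)⁻¹)⁻¹ * (b * a * b⁻¹ * (cjx x a i)⁻¹) =
      cjx x a j * (cjx x a i)⁻¹ := by group
  rw [e] at h1
  exact h1

theorem EndHyp.erel_one (a : Γ) : ERel Q x a 1 0 := by
  unfold ERel
  rw [cjx_zero]
  have : (1 : Γ) * a * 1⁻¹ * a⁻¹ = 1 := by group
  rw [this]
  exact (cxq Q x).one_mem

theorem EndHyp.erel_inv {a : Γ} (ha : a ∈ Q) (hax : x * a ≠ a * x) {b : Γ} (hb : b ∈ 𝔅) {i j : ℕ}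
    (hi : ERel Q x a b i) (hj : ERel Q x a b⁻¹ j) : (i + j) % 3 = 0 := by
  have h1 := H.erel_mul hb (𝔅.inv_mem hb) hi hj
  rw [mul_inv_cancel] at h1
  have := H.erel_uniq ha hax h1 (H.erel_one a)
  omega

/-- the final contradiction: `x` is not in the derived subgroup of `𝔅` -/
theorem EndHyp.false_of_mem_commutator (hxcomm : x ∈ ⁅𝔅, 𝔅⁆) (hact : ∃ a ∈ Q, x * a ≠ a * x) :
    False := by
  obtain ⟨a, ha, hax⟩ := hact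
  let 𝔎 : Subgroup Γ :=
    { carrier := {b | b ∈ 𝔅 ∧ ERel Q x a b 0}
      one_mem' := ⟨𝔅.one_mem, H.erel_one a⟩
      mul_mem' := by
        rintro b₁ b₂ ⟨hb₁, h₁⟩ ⟨hb₂, h₂⟩
        exact ⟨𝔅.mul_mem hb₁ hb₂, H.erel_mul hb₁ hb₂ h₁ h₂⟩
      inv_mem' := by
        rintro b ⟨hb, h₁⟩
        refine ⟨𝔅.inv_mem hb, ?_⟩
        obtain ⟨j, hj⟩ := H.erel_exists ha hax (𝔅.inv_mem hb)
        have := H.erel_inv ha hax hb h₁ hj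
        rw [H.erel_mod]
        have e : j % 3 = 0 := by omega
        rw [H.erel_mod, e] at hj
        exact hj }
  have hle : ⁅𝔅, 𝔅⁆ ≤ 𝔎 := by
    rw [Subgroup.commutator_le]
    intro b₁ hb₁ b₂ hb₂
    obtain ⟨i₁, hi₁⟩ := H.erel_exists ha hax hb₁
    obtain ⟨i₂, hi₂⟩ := H.erel_exists ha hax hb₂
    obtain ⟨j₁, hj₁⟩ := H.erel_exists ha hax (𝔅.inv_mem hb₁)
    obtain ⟨j₂, hj₂⟩ := H.erel_exists ha hax (𝔅.inv_mem hb₂)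
    have e₁ := H.erel_inv ha hax hb₁ hi₁ hj₁
    have e₂ := H.erel_inv ha hax hb₂ hi₂ hj₂
    have h12 := H.erel_mul hb₁ hb₂ hi₁ hi₂
    have h123 := H.erel_mul (𝔅.mul_mem hb₁ hb₂) (𝔅.inv_mem hb₁) h12 hj₁
    have h1234 := H.erel_mul (𝔅.mul_mem (𝔅.mul_mem hb₁ hb₂) (𝔅.inv_mem hb₁)) (𝔅.inv_mem hb₂)
      h123 hj₂
    rw [commutatorElement_def]
    refine ⟨𝔅.mul_mem (𝔅.mul_mem (𝔅.mul_mem hb₁ hb₂) (𝔅.inv_mem hb₁)) (𝔅.inv_mem hb₂), ?_⟩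
    rw [H.erel_mod] at h1234
    have e : (i₁ + i₂ + j₁ + j₂) % 3 = 0 := by omega
    rw [e] at h1234
    exact h1234
  have hx0 : ERel Q x a x 0 := (hle hxcomm).2
  have hx1 : ERel Q x a x 1 := by
    unfold ERel
    have : cjx x a 1 = x * a * x⁻¹ := by rw [cjx_succ, cjx_zero]
    rw [this, mul_inv_cancel]
    exact (cxq Q x).one_mem
  have := H.erel_uniq ha hax hx0 hx1
  omega

end endgame

end Cfsg.Agent.Helper20.HHQ
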