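import Mathlib
import Cfsg.Agent.Lib.Helper4.ThBRes
import Cfsg.Agent.Lib.Helper4.ThBPoly
import Cfsg.Agent.Lib.Helper4.ThBField
import Cfsg.Agent.Lib.Helper20.HHQuadA
import Cfsg.Agent.Lib.Helper20.HHQuadD

/-!
# The linear configuration in characteristic `3` (helper20)

`Conf 𝔅 T x`: a group `𝔅` of linear automorphisms normalising a finite `2`-group `T`, with `x`
central in `𝔅`, in the derived subgroup of `𝔅`, of order dividing `3`, acting quadratically and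
with `(x - 1)(b₁ - 1)(b₂ - 1) = 0` for `b₁, b₂ ∈ 𝔅`.  This file: restriction of a configuration to
an invariant subspace, and consequences of Hall–Higman's Theorem B.
-/

set_option autoImplicit false
set_option linter.unusedSectionVars false
set_option linter.style.haveILetI false

namespace Cfsg.Agent.Helper20.HHQ

open Cfsg.Agent.Helper4.ThB Module
open scoped commutatorElement

universe u v

/-- image of a commutator subgroup under a homomorphism defined on a larger subgroup -/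
theorem mem_commutator_imgGrp {Γ Γ' : Type*} [Group Γ] [Group Γ'] {𝔅 S : Subgroup Γ}
    (φ : S →* Γ') (h𝔅S : 𝔅 ≤ S) {x : Γ} (hx : x ∈ ⁅𝔅, 𝔅⁆) (hxS : x ∈ S) :
    φ ⟨x, hxS⟩ ∈ ⁅imgGrp φ h𝔅S, imgGrp φ h𝔅S⁆ := by
  set K : Subgroup Γ := (⁅imgGrp φ h𝔅S, imgGrp φ h𝔅S⁆.comap φ).map S.subtype with hK
  have hle : ⁅𝔅, 𝔅⁆ ≤ K := by
    rw [Subgroup.commutator_le]
    intro g₁ hg₁ g₂ hg₂
    refine ⟨⁅(⟨g₁, h𝔅S hg₁⟩ : S), ⟨g₂, h𝔅S hg₂⟩⁆, ?_, rfl⟩
    rw [SetLike.mem_coe, Subgroup.mem_comap, map_commutatorElement]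
    exact Subgroup.commutator_mem_commutator ((mem_imgGrp φ h𝔅S).mpr ⟨g₁, hg₁, rfl⟩)
      ((mem_imgGrp φ h𝔅S).mpr ⟨g₂, hg₂, rfl⟩)
  obtain ⟨s, hs, hsx⟩ := hle hx
  have : s = ⟨x, hxS⟩ := Subtype.ext hsx
  rw [← this]
  exact hs

variable {F : Type u} [Field F]

/-- the linear configuration -/
structure Conf {W : Type v} [AddCommGroup W] [Module F W] (𝔅 T : Subgroup (W ≃ₗ[F] W))
    (x : W ≃ₗ[F] W) : Prop where
  finT : Finite T
  twoT : IsPGroup 2 T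
  norm : Nrm 𝔅 T
  xmem : x ∈ 𝔅
  xcent : ∀ b ∈ 𝔅, b * x = x * b
  xcomm : x ∈ ⁅𝔅, 𝔅⁆
  xpow : x ^ 3 = 1
  quad : (op x - 1) ^ 2 = 0
  quad2 : ∀ b₁ ∈ 𝔅, ∀ b₂ ∈ 𝔅, (op x - 1) * (op b₁ - 1) * (op b₂ - 1) = 0

section res

variable {W : Type v} [AddCommGroup W] [Module F W]

theorem Conf.res {𝔅 T : Subgroup (W ≃ₗ[F] W)} {x : W ≃ₗ[F] W} (hc : Conf 𝔅 T x)
    (S : Subgroup (W ≃ₗ[F] W)) (U : Submodule F W) (hinv : Inv (S : Set (W ≃ₗ[F] W)) U)
    (h𝔅 : 𝔅 ≤ S) (hT : T ≤ S) :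
    Conf (imgGrp (resHom S U hinv) h𝔅) (imgGrp (resHom S U hinv) hT)
      (resHom S U hinv ⟨x, h𝔅 hc.xmem⟩) := by
  haveI := hc.finT
  set φ := resHom S U hinv with hφ
  have hsub : ∀ g : S, ∀ u : U, (((op (φ g) - 1) u : U) : W) = (op g.1 - 1) (u : W) :=
    fun g => restrict_sub_one (op g.1) (op (φ g)) (op_resHom_apply S U hinv g)
  refine ⟨imgGrp_finite φ hT, imgGrp_isPGroup φ hT hc.twoT, ?_, (mem_imgGrp φ h𝔅).mpr ⟨x, hc.xmem, rfl⟩,
    ?_, mem_commutator_imgGrp φ h𝔅 hc.xcomm (h𝔅 hc.xmem), ?_, ?_, ?_⟩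
  · intro b' hb' t' ht'
    obtain ⟨b, hb, rfl⟩ := (mem_imgGrp φ h𝔅).mp hb'
    obtain ⟨t, ht, rfl⟩ := (mem_imgGrp φ hT).mp ht'
    refine (mem_imgGrp φ hT).mpr ⟨b * t * b⁻¹, hc.norm b hb t ht, ?_⟩
    rw [← map_inv, ← map_mul, ← map_mul]
    rfl
  · intro b' hb'
    obtain ⟨b, hb, rfl⟩ := (mem_imgGrp φ h𝔅).mp hb'
    rw [← map_mul, ← map_mul]
    congr 1
    apply Subtype.ext
    exact hc.xcent b hb
  · rw [← map_pow]
    have : (⟨x, h𝔅 hc.xmem⟩ : S) ^ 3 = 1 := by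
      apply Subtype.ext
      rw [Subgroup.coe_pow]
      exact hc.xpow
    rw [this, map_one]
  · apply LinearMap.ext
    intro u
    apply Subtype.ext
    rw [restrict_pow_apply (op x - 1) (op (φ ⟨x, h𝔅 hc.xmem⟩) - 1) (hsub ⟨x, h𝔅 hc.xmem⟩) 2 u,
      hc.quad]
    rfl
  · intro b₁' hb₁' b₂' hb₂'
    obtain ⟨b₁, hb₁, rfl⟩ := (mem_imgGrp φ h𝔅).mp hb₁'
    obtain ⟨b₂, hb₂, rfl⟩ := (mem_imgGrp φ h𝔅).mp hb₂'
    apply LinearMap.ext
    intro u
    apply Subtype.ext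
    rw [Module.End.mul_apply, Module.End.mul_apply, hsub, hsub, hsub]
    have := LinearMap.congr_fun (hc.quad2 b₁ hb₁ b₂ hb₂) (u : W)
    rw [Module.End.mul_apply, Module.End.mul_apply] at this
    rw [this]
    rfl

end res

section thmB

variable [CharP F 3] {W : Type v} [AddCommGroup W] [Module F W] [FiniteDimensional F W]

/-- consequence of Theorem B: `x` centralises every abelian `2`-group it normalises -/
theorem quad3_centralizes (M : Subgroup (W ≃ₗ[F] W)) [Finite M] (hM : IsPGroup 2 M)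
    (a : W ≃ₗ[F] W) (ha : a ^ 3 = 1) (hquad : (op a - 1) ^ 2 = 0)
    (hnorm : ∀ g ∈ M, a * g * a⁻¹ ∈ M) (hcomm : ∀ g ∈ M, ∀ h ∈ M, g * h = h * g) :
    ∀ g ∈ M, a * g = g * a := by
  haveI : Fact (Nat.Prime 3) := ⟨Nat.prime_three⟩
  haveI : Fact (Nat.Prime 2) := ⟨Nat.prime_two⟩
  exact quad_centralizes_of_comm (F := F) (p := 3) (q := 2) (by decide) (by decide) M hM a ha hquad
    hnorm hcomm

theorem two_ne_zero_of_char3 (F : Type u) [Field F] [CharP F 3] : (2 : F) ≠ 0 := by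
  intro h
  have h1 : ((2 : ℕ) : F) = 0 := by exact_mod_cast h
  rw [CharP.cast_eq_zero_iff F 3] at h1
  omega

theorem eq_zero_of_eq_neg (F : Type u) [Field F] [CharP F 3] {W : Type v} [AddCommGroup W]
    [Module F W] {w : W} (h : w = -w) : w = 0 := by
  have h2 : (2 : F) • w = 0 := by
    rw [two_smul]
    nth_rewrite 1 [h]
    exact neg_add_cancel w
  rcases smul_eq_zero.mp h2 with h3 | h3
  · exact absurd h3 (two_ne_zero_of_char3 F)
  · exact h3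

end thmB

end Cfsg.Agent.Helper20.HHQ
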