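import Mathlib
import Cfsg.Agent.Lib.Helper20.HHQuadE

/-!
# `𝔅` centralises the central involutions of a minimal `Q` (helper20)
-/

set_option autoImplicit false
set_option linter.unusedSectionVars false
set_option linter.style.haveILetI false

namespace Cfsg.Agent.Helper20.HHQ

open Cfsg.Agent.Helper4.ThB Module
open scoped commutatorElement

universe u v

variable {F : Type u} [Field F] [CharP F 3]
  {W : Type v} [AddCommGroup W] [Module F W] [FiniteDimensional F W]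

theorem mem_centralizer_singleton {Γ : Type*} [Group Γ] {x g : Γ} :
    g ∈ Subgroup.centralizer ({x} : Set Γ) ↔ x * g = g * x := by
  rw [Subgroup.mem_centralizer_iff]
  constructor
  · intro h; exact h x rfl
  · intro h y hy
    rw [Set.mem_singleton_iff] at hy
    subst hy
    exact h

theorem op_sub_one_apply (g : W ≃ₗ[F] W) (w : W) : (op g - 1) w = g w - w := rfl

theorem commute_sub_one {g h : W ≃ₗ[F] W} (hgh : g * h = h * g) :
    (op g - 1) * (op h - 1) = (op h - 1) * (op g - 1) := by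
  have h1 : Commute (op g) (op h) := by
    show op g * op h = op h * op g
    rw [← op_mul, ← op_mul, hgh]
  exact ((h1.sub_left (Commute.one_left _)).sub_right (Commute.one_right _))

theorem claimA {𝔅 T Q : Subgroup (W ≃ₗ[F] W)} {x : W ≃ₗ[F] W} (hc : Conf 𝔅 T x)
    (hm : MinConf 𝔅 Q x) (hnab : ∃ a ∈ Q, ∃ b ∈ Q, a * b ≠ b * a) :
    ∀ z ∈ invCenter Q, ∀ b ∈ 𝔅, b * z * b⁻¹ = z := by
  intro z hz b hb
  haveI := hm.fin
  -- the subspace `(x - 1) W`
  set S : Subgroup (W ≃ₗ[F] W) := Subgroup.centralizer ({x} : Set (W ≃ₗ[F] W)) with hS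
  set U : Submodule F W := LinearMap.range (op x - 1) with hU
  have hinv : Inv (S : Set (W ≃ₗ[F] W)) U := by
    intro g hg v hv
    obtain ⟨w, rfl⟩ := hv
    refine ⟨g w, ?_⟩
    have hxg : x * g = g * x := mem_centralizer_singleton.mp hg
    rw [op_sub_one_apply, op_sub_one_apply, map_sub]
    have : x (g w) = g (x w) := by
      show (x * g) w = (g * x) w
      rw [hxg]
    rw [this]
  have hZx : ∀ y ∈ invCenter Q, x * y = y * x := fun y hy =>
    hm.comm_x_of_central hnab hy.1 hy.2.1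
  have hZS : invCenter Q ≤ S := fun y hy => mem_centralizer_singleton.mpr (hZx y hy)
  have hbS : b ∈ S := mem_centralizer_singleton.mpr (hc.xcent b hb).symm
  set φ := resHom S U hinv with hφ
  haveI : Finite (invCenter Q) := Finite.of_injective (Subgroup.inclusion (invCenter_le Q))
    (Subgroup.inclusion_injective _)
  haveI hMfin : Finite (imgGrp φ hZS) := imgGrp_finite φ hZS
  have hM2 : IsPGroup 2 (imgGrp φ hZS) := imgGrp_isPGroup φ hZS (hm.two.to_le (invCenter_le Q))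
  have hsub : ∀ g : S, ∀ u : U, (((op (φ g) - 1) u : U) : W) = (op g.1 - 1) (u : W) :=
    fun g => restrict_sub_one (op g.1) (op (φ g)) (op_resHom_apply S U hinv g)
  obtain ⟨b', hb'⟩ : ∃ b' : U ≃ₗ[F] U, b' = φ ⟨b, hbS⟩ := ⟨_, rfl⟩
  have hquad' : (op b' - 1) ^ 2 = 0 := by
    apply LinearMap.ext
    intro u
    apply Subtype.ext
    rw [hb', restrict_pow_apply (op b - 1) (op (φ ⟨b, hbS⟩) - 1) (hsub ⟨b, hbS⟩) 2 u]
    obtain ⟨w, hw⟩ := u.2
    rw [← hw]
    have h1 : ((op b - 1) ^ 2 : Module.End F W) ((op x - 1) w) =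
        (((op b - 1) ^ 2 : Module.End F W) * (op x - 1)) w := rfl
    have h2 : ((op b - 1) ^ 2 : Module.End F W) * (op x - 1) =
        (op x - 1) * (op b - 1) * (op b - 1) := by
      have hcm := commute_sub_one (hc.xcent b hb)
      rw [pow_two, mul_assoc, hcm, ← mul_assoc, hcm]
    rw [h1, h2, hc.quad2 b hb b hb]
    rfl
  have hpow' : b' ^ 3 = 1 := by
    apply op_injective
    rw [op_pow, op_one]
    haveI : Fact (Nat.Prime 3) := ⟨Nat.prime_three⟩
    have h1 := sub_one_pow_char_pow F (p := 3) (op b') 1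
    rw [pow_one] at h1
    have h2 : (op b' - 1) ^ 3 = 0 := by
      rw [pow_succ, hquad', zero_mul]
    rw [h2] at h1
    exact (sub_eq_zero.mp h1.symm)
  have hnorm' : ∀ g ∈ imgGrp φ hZS, b' * g * b'⁻¹ ∈ imgGrp φ hZS := by
    intro g hg
    obtain ⟨y, hy, rfl⟩ := (mem_imgGrp φ hZS).mp hg
    refine (mem_imgGrp φ hZS).mpr ⟨b * y * b⁻¹, nrm_invCenter hm.norm b hb y hy, ?_⟩
    rw [hb', ← map_inv, ← map_mul, ← map_mul]
    rfl
  have hcomm' : ∀ g ∈ imgGrp φ hZS, ∀ h ∈ imgGrp φ hZS, g * h = h * g := by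
    intro g hg h hh
    obtain ⟨y₁, hy₁, rfl⟩ := (mem_imgGrp φ hZS).mp hg
    obtain ⟨y₂, hy₂, rfl⟩ := (mem_imgGrp φ hZS).mp hh
    rw [← map_mul, ← map_mul]
    congr 1
    apply Subtype.ext
    exact invCenter_comm hy₁ hy₂
  have key := quad3_centralizes (F := F) (imgGrp φ hZS) hM2 b' hpow' hquad' hnorm' hcomm'
  -- the commutator `z₁ = [b, z]`
  obtain ⟨z₁, hz₁def⟩ : ∃ z₁ : W ≃ₗ[F] W, z₁ = b * z * b⁻¹ * z⁻¹ := ⟨_, rfl⟩
  have hz₁ : z₁ ∈ invCenter Q := by
    rw [hz₁def]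
    exact (invCenter Q).mul_mem (nrm_invCenter hm.norm b hb z hz) ((invCenter Q).inv_mem hz)
  have hz₁U : ∀ u : U, z₁ (u : W) = u := by
    intro u
    have h1 := key (φ ⟨z, hZS hz⟩) ((mem_imgGrp φ hZS).mpr ⟨z, hz, rfl⟩)
    have h2 : φ ⟨z₁, hZS hz₁⟩ = 1 := by
      have e : (⟨z₁, hZS hz₁⟩ : S) = ⟨b, hbS⟩ * ⟨z, hZS hz⟩ * ⟨b, hbS⟩⁻¹ * ⟨z, hZS hz⟩⁻¹ := by
        apply Subtype.ext
        exact hz₁def
      rw [e, map_mul, map_mul, map_mul, map_inv, map_inv, ← hb', h1]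
      group
    have h3 := resHom_apply S U hinv ⟨z₁, hZS hz₁⟩ u
    rw [← hφ, h2] at h3
    exact h3.symm
  have hz₁x : x * z₁ = z₁ * x := hZx z₁ hz₁
  -- `x` fixes `(z₁ - 1) W` pointwise
  have hxfix : ∀ w : W, x ((op z₁ - 1) w) = (op z₁ - 1) w := by
    intro w
    have h1 : (op x - 1) ((op z₁ - 1) w) = (op z₁ - 1) ((op x - 1) w) := by
      have := commute_sub_one hz₁x
      exact LinearMap.congr_fun this w
    have h2 : (op z₁ - 1) ((op x - 1) w) = 0 := by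
      rw [op_sub_one_apply z₁]
      have := hz₁U ⟨(op x - 1) w, ⟨w, rfl⟩⟩
      rw [this, sub_self]
    rw [h2, op_sub_one_apply x] at h1
    exact sub_eq_zero.mp h1
  have hxfix' : ∀ w : W, x⁻¹ ((op z₁ - 1) w) = (op z₁ - 1) w := by
    intro w
    have := hxfix w
    calc x⁻¹ ((op z₁ - 1) w) = x⁻¹ (x ((op z₁ - 1) w)) := by rw [this]
      _ = (x⁻¹ * x) ((op z₁ - 1) w) := rfl
      _ = (op z₁ - 1) w := by rw [inv_mul_cancel]; rfl
  -- the subgroup fixing `(z₁ - 1) W` pointwise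
  let K₁ : Subgroup (W ≃ₗ[F] W) :=
    { carrier := {g | ∀ w : W, g ((op z₁ - 1) w) = (op z₁ - 1) w}
      one_mem' := fun w => rfl
      mul_mem' := by
        intro g₁ g₂ h₁ h₂ w
        show g₁ (g₂ ((op z₁ - 1) w)) = _
        rw [h₂ w, h₁ w]
      inv_mem' := by
        intro g h₁ w
        calc g⁻¹ ((op z₁ - 1) w) = g⁻¹ (g ((op z₁ - 1) w)) := by rw [h₁ w]
          _ = (g⁻¹ * g) ((op z₁ - 1) w) := rfl
          _ = (op z₁ - 1) w := by rw [inv_mul_cancel]; rfl }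
  have hQK : Q ≤ K₁ := by
    rw [← hm.closure_commSet, Subgroup.closure_le]
    rintro _ ⟨g, hg, rfl⟩ w
    have hgz : g⁻¹ * z₁ = z₁ * g⁻¹ := by
      have := hz₁.2.1 g⁻¹ (Q.inv_mem hg)
      exact this.symm
    have h1 : g⁻¹ ((op z₁ - 1) w) = (op z₁ - 1) (g⁻¹ w) := by
      rw [op_sub_one_apply, op_sub_one_apply, map_sub]
      have : g⁻¹ (z₁ w) = z₁ (g⁻¹ w) := by
        show (g⁻¹ * z₁) w = (z₁ * g⁻¹) w
        rw [hgz]
      rw [this]
    show x (g (x⁻¹ (g⁻¹ ((op z₁ - 1) w)))) = (op z₁ - 1) w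
    rw [h1, hxfix', ← h1]
    have : g (g⁻¹ ((op z₁ - 1) w)) = (op z₁ - 1) w := by
      show (g * g⁻¹) ((op z₁ - 1) w) = _
      rw [mul_inv_cancel]; rfl
    rw [this, hxfix]
  have hz₁K := hQK hz₁.1
  have hz₁sq : z₁ * z₁ = 1 := by
    have := hz₁.2.2
    rwa [pow_two] at this
  have hall : ∀ w : W, z₁ w = w := by
    intro w
    have h1 : z₁ ((op z₁ - 1) w) = (op z₁ - 1) w := hz₁K w
    have h2 : z₁ ((op z₁ - 1) w) = -((op z₁ - 1) w) := by
      rw [op_sub_one_apply, map_sub]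
      have : z₁ (z₁ w) = w := by
        show (z₁ * z₁) w = w
        rw [hz₁sq]; rfl
      rw [this]
      abel
    rw [h1] at h2
    have h3 := eq_zero_of_eq_neg F h2
    rw [op_sub_one_apply] at h3
    exact sub_eq_zero.mp h3
  have hz₁1 : z₁ = 1 := by
    apply LinearEquiv.ext
    intro w
    exact hall w
  calc b * z * b⁻¹ = (b * z * b⁻¹ * z⁻¹) * z := by group
    _ = z := by rw [← hz₁def, hz₁1, one_mul]

end Cfsg.Agent.Helper20.HHQ
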