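import Mathlib
import Cfsg.Agent.Lib.Helper20.HHQuadF

/-!
# The linear theorem in characteristic `3` (helper20)

`lin3`: in a configuration `Conf 𝔅 T x` the element `x` centralises the `2`-group `T`.
-/

set_option autoImplicit false
set_option linter.unusedSectionVars false
set_option linter.style.haveILetI false

namespace Cfsg.Agent.Helper20.HHQ

open Cfsg.Agent.Helper4.ThB Module
open scoped commutatorElement

universe u v

/-- the statement proved by induction on the dimension -/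
def Lin3 (F : Type u) [Field F] (n : ℕ) : Prop :=
  ∀ (W : Type v) [AddCommGroup W] [Module F W] [FiniteDimensional F W], finrank F W = n →
    ∀ (𝔅 T : Subgroup (W ≃ₗ[F] W)) (x : W ≃ₗ[F] W), Conf 𝔅 T x → ∀ t ∈ T, x * t = t * x

variable {F : Type u} [Field F] [CharP F 3]
  {W : Type v} [AddCommGroup W] [Module F W] [FiniteDimensional F W]

/-- using the statement in smaller dimension on an invariant proper subspace -/
theorem comm_on_subspace (ih : ∀ m < finrank F W, Lin3.{u, v} F m)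
    {𝔅 Q : Subgroup (W ≃ₗ[F] W)} {x : W ≃ₗ[F] W} (hc : Conf 𝔅 Q x)
    (S : Subgroup (W ≃ₗ[F] W)) (U : Submodule F W) (hinv : Inv (S : Set (W ≃ₗ[F] W)) U)
    (h𝔅 : 𝔅 ≤ S) (hQ : Q ≤ S) (hU : U ≠ ⊤) :
    ∀ g ∈ Q, ∀ u ∈ U, x (g u) = g (x u) := by
  intro g hg u hu
  have hcU := hc.res S U hinv h𝔅 hQ
  have hlt : finrank F U < finrank F W := Submodule.finrank_lt hU
  have h1 := ih _ hlt U rfl _ _ _ hcU (resHom S U hinv ⟨g, hQ hg⟩)
    ((mem_imgGrp (resHom S U hinv) hQ).mpr ⟨g, hg, rfl⟩)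
  have h2 := LinearEquiv.congr_fun h1 ⟨u, hu⟩
  have h3 := congrArg Subtype.val h2
  exact h3

theorem inv_center_cases (ih : ∀ m < finrank F W, Lin3.{u, v} F m)
    {𝔅 T Q : Subgroup (W ≃ₗ[F] W)} {x : W ≃ₗ[F] W} (hc : Conf 𝔅 T x)
    (hm : MinConf 𝔅 Q x) (hnab : ∃ a ∈ Q, ∃ b ∈ Q, a * b ≠ b * a) :
    ∀ z ∈ invCenter Q, z = 1 ∨ z = LinearEquiv.neg F := by
  intro z hz
  by_contra hcon
  push Not at hcon
  obtain ⟨hz1, hzn⟩ := hcon
  have hcQ : Conf 𝔅 Q x :=
    ⟨hm.fin, hm.two, hm.norm, hc.xmem, hc.xcent, hc.xcomm, hc.xpow, hc.quad, hc.quad2⟩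
  set S : Subgroup (W ≃ₗ[F] W) := Subgroup.centralizer ({z} : Set (W ≃ₗ[F] W)) with hS
  have h𝔅 : 𝔅 ≤ S := by
    intro b hb
    rw [mem_centralizer_singleton]
    have := claimA hc hm hnab z hz b hb
    calc z * b = (b * z * b⁻¹) * b := by rw [this]
      _ = b * z := by group
  have hQ : Q ≤ S := by
    intro g hg
    rw [mem_centralizer_singleton]
    exact hz.2.1 g hg
  have hzsq : z * z = 1 := by
    have := hz.2.2
    rwa [pow_two] at this
  have hzz : ∀ w : W, z (z w) = w := by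
    intro w
    show (z * z) w = w
    rw [hzsq]; rfl
  -- the two eigenspaces
  set Up : Submodule F W := LinearMap.ker (op z - 1) with hUp
  set Um : Submodule F W := LinearMap.ker (op z + 1) with hUm
  have memUp : ∀ v : W, v ∈ Up ↔ z v = v := by
    intro v
    rw [hUp, LinearMap.mem_ker, op_sub_one_apply, sub_eq_zero]
  have memUm : ∀ v : W, v ∈ Um ↔ z v = -v := by
    intro v
    rw [hUm, LinearMap.mem_ker]
    show z v + v = 0 ↔ _
    rw [add_eq_zero_iff_eq_neg]
  have hinvp : Inv (S : Set (W ≃ₗ[F] W)) Up := by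
    intro g hg v hv
    rw [memUp] at hv ⊢
    have hzg : z * g = g * z := mem_centralizer_singleton.mp hg
    calc z (g v) = (z * g) v := rfl
      _ = (g * z) v := by rw [hzg]
      _ = g (z v) := rfl
      _ = g v := by rw [hv]
  have hinvm : Inv (S : Set (W ≃ₗ[F] W)) Um := by
    intro g hg v hv
    rw [memUm] at hv ⊢
    have hzg : z * g = g * z := mem_centralizer_singleton.mp hg
    calc z (g v) = (z * g) v := rfl
      _ = (g * z) v := by rw [hzg]
      _ = g (z v) := rfl
      _ = -g v := by rw [hv, map_neg]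
  have hUpne : Up ≠ ⊤ := by
    intro htop
    apply hz1
    apply LinearEquiv.ext
    intro w
    have : w ∈ Up := by rw [htop]; exact Submodule.mem_top
    exact (memUp w).mp this
  have hUmne : Um ≠ ⊤ := by
    intro htop
    apply hzn
    apply LinearEquiv.ext
    intro w
    have : w ∈ Um := by rw [htop]; exact Submodule.mem_top
    rw [(memUm w).mp this]
    rfl
  have hp := comm_on_subspace ih hcQ S Up hinvp h𝔅 hQ hUpne
  have hmn := comm_on_subspace ih hcQ S Um hinvm h𝔅 hQ hUmne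
  -- decomposition
  have h2 : (2 : F) ≠ 0 := two_ne_zero_of_char3 F
  obtain ⟨g, hg, hgx⟩ := hm.act
  apply hgx
  apply LinearEquiv.ext
  intro w
  obtain ⟨up, hup⟩ : ∃ up : W, up = (2 : F)⁻¹ • (w + z w) := ⟨_, rfl⟩
  obtain ⟨um, hum⟩ : ∃ um : W, um = (2 : F)⁻¹ • (w - z w) := ⟨_, rfl⟩
  have hupU : up ∈ Up := by
    rw [memUp, hup, map_smul, map_add, hzz, add_comm]
  have humU : um ∈ Um := by
    rw [memUm, hum, map_smul, map_sub, hzz, ← smul_neg, neg_sub]
  have hw : w = up + um := by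
    rw [hup, hum, ← smul_add]
    have : w + z w + (w - z w) = (2 : F) • w := by rw [two_smul]; abel
    rw [this, smul_smul, inv_mul_cancel₀ h2, one_smul]
  show x (g w) = g (x w)
  rw [hw, map_add, map_add, map_add, map_add, hp g hg up hupU, hmn g hg um humU]

/-- **The linear theorem**: `x` centralises `T` -/
theorem lin3 : ∀ n : ℕ, Lin3.{u, v} F n := by
  intro n
  induction n using Nat.strong_induction_on with
  | _ n ih =>
  intro W _ _ _ hn 𝔅 T x hc t ht
  by_contra hne
  haveI := hc.finT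
  obtain ⟨Q, hQT, hm⟩ := exists_minConf 𝔅 T x hc.twoT hc.norm hc.xmem hc.xcent hc.xpow
    ⟨t, ht, hne⟩
  haveI := hm.fin
  have hF1 : ∀ M : Subgroup (W ≃ₗ[F] W), M ≤ Q → (∀ g ∈ M, x * g * x⁻¹ ∈ M) →
      (∀ g ∈ M, ∀ t ∈ M, g * t = t * g) → ∀ g ∈ M, x * g = g * x := by
    intro M hMQ hMx hMc
    haveI : Finite M := Finite.of_injective (Subgroup.inclusion hMQ)
      (Subgroup.inclusion_injective hMQ)
    exact quad3_centralizes (F := F) M (hm.two.to_le hMQ) x hc.xpow hc.quad hMx hMc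
  have hnab : ∃ a ∈ Q, ∃ b ∈ Q, a * b ≠ b * a := by
    by_contra hab
    push Not at hab
    obtain ⟨g, hg, hgx⟩ := hm.act
    exact hgx (hF1 Q le_rfl (fun g hg => hm.x_norm hg) hab g hg)
  have hZ := inv_center_cases (by rw [hn]; exact ih) hc hm hnab
  have hcomm : ∀ g ∈ Q, ∀ t ∈ Q, g * t = t * g ∨ g * t = LinearEquiv.neg F * (t * g) := by
    intro g hg t ht
    rcases hZ _ (hm.comm_mem_invCenter hg ht) with h | h
    · left
      calc g * t = (g * t * g⁻¹ * t⁻¹) * (t * g) := by group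
        _ = t * g := by rw [h, one_mul]
    · right
      calc g * t = (g * t * g⁻¹ * t⁻¹) * (t * g) := by group
        _ = LinearEquiv.neg F * (t * g) := by rw [h]
  have hz_ne : (LinearEquiv.neg F : W ≃ₗ[F] W) ≠ 1 := by
    intro h1
    obtain ⟨a, ha, b, hb, hab⟩ := hnab
    rcases hcomm a ha b hb with h | h
    · exact hab h
    · rw [h1, one_mul] at h
      exact hab h
  have H : EndHyp 𝔅 Q x (LinearEquiv.neg F : W ≃ₗ[F] W) := by
    refine ⟨hm.two, hm.norm, hm.xmem, hm.xcent, hm.xpow, ?_, ?_, hz_ne, hcomm, ?_, hF1⟩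
    · intro g
      apply LinearEquiv.ext
      intro w
      show -(g w) = g (-w)
      rw [map_neg]
    · apply LinearEquiv.ext
      intro w
      show - -w = w
      rw [neg_neg]
    · intro g hg
      constructor
      · intro hgx
        exact hm.central_of_comm_x hg hgx
      · intro hgc
        exact hm.comm_x_of_central hnab hg hgc
  exact H.false_of_mem_commutator hc.xcomm hm.act

end Cfsg.Agent.Helper20.HHQ
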