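import Mathlib
import Cfsg.Agent.Lib.Helper19.PGroupBasic
import Cfsg.Agent.Lib.Helper18.PSolvLin2
import Cfsg.Agent.Lib.Helper20.HHQuadG
import Cfsg.Agent.Lib.Helper20.HHQuadH
import Cfsg.Agent.Lib.Helper20.HHQuadI

/-!
# The last term of the derived series of a Sylow `p`-subgroup lies in `O_p(G)` (helper20)

`derived_le_pCore`: `p` odd, `G` `p`-solvable with `O_{p'}(G) = 1`, `P` a Sylow `p`-subgroup with
`P^{(d+1)} = 1`.  Then `P^{(d)} ≤ O_p(G)`.
-/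

set_option autoImplicit false
set_option linter.unusedSectionVars false
set_option linter.style.haveILetI false
set_option maxHeartbeats 1000000

namespace Cfsg.Agent.Helper20.HHQ

open Cfsg Subgroup Cfsg.Agent.Helper8.SecRep Cfsg.Agent.Helper4.ThB
open scoped commutatorElement

universe u

/-- a non-trivial normal subgroup of a finite `p`-group contains a central element of order `p` -/
theorem exists_central_order_p {R : Type*} [Group R] [Finite R] {p : ℕ} [hp : Fact p.Prime]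
    (hR : IsPGroup p R) (N : Subgroup R) [N.Normal] (hne : N ≠ ⊥) :
    ∃ x ∈ N, x ≠ 1 ∧ x ^ p = 1 ∧ ∀ r : R, r * x = x * r := by
  have h1 := Cfsg.Agent.Helper19.normal_inf_center_ne_bot hR N hne
  set D : Subgroup R := N ⊓ Subgroup.center R with hD
  have hDp : IsPGroup p ↥D := hR.to_subgroup D
  haveI : Nontrivial ↥D := (Subgroup.nontrivial_iff_ne_bot D).mpr h1
  have hdvd : p ∣ Nat.card ↥D := by
    obtain ⟨n, hn0, hn⟩ := hDp.nontrivial_iff_card.mp inferInstance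
    rw [hn]
    exact dvd_pow_self _ (ne_of_gt hn0)
  obtain ⟨y, hy⟩ := exists_prime_orderOf_dvd_card' p hdvd
  have hyD : (y : R) ∈ N ∧ (y : R) ∈ Subgroup.center R := Subgroup.mem_inf.mp y.2
  refine ⟨y, hyD.1, ?_, ?_, ?_⟩
  · intro h
    have : y = 1 := Subtype.ext h
    rw [this, orderOf_one] at hy
    exact hp.out.one_lt.ne hy
  · have := pow_orderOf_eq_one y
    rw [hy] at this
    have h2 := congrArg Subtype.val this
    simpa using h2
  · intro r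
    exact Subgroup.mem_center_iff.mp hyD.2 r

theorem derived_le_pCore {G : Type u} [Group G] [Finite G] {p : ℕ} [hp : Fact p.Prime]
    (hp2 : p ≠ 2) (hsol : IsPSolvable p G) (hO : pPrimeCore p G = ⊥) (P : Sylow p G) (d : ℕ)
    (hd : derivedSeries ↥(P : Subgroup G) (d + 1) = ⊥) :
    (derivedSeries ↥(P : Subgroup G) d).map (P : Subgroup G).subtype ≤ pCore p G := by
  classical
  have hpp : p.Prime := hp.out
  haveI hVn : (pCore p G).Normal := Cfsg.Agent.Helper10.pCore_normal p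
  have hVp : IsPGroup p ↥(pCore p G) := Cfsg.Agent.Helper10.pCore_isPGroup p
  have hc : centralizer (pCore p G : Set G) ≤ pCore p G :=
    Cfsg.Agent.Helper23.PSolv.centralizer_pCore_le hsol hO
  have hVP : pCore p G ≤ (P : Subgroup G) := Cfsg.Agent.Helper14.pCore_le_sylow P
  rcases d with _ | d'
  · -- `P` is abelian
    intro g hg
    obtain ⟨g', -, rfl⟩ := hg
    apply hc
    rw [mem_centralizer_iff]
    intro v hv
    have h1 : ⁅(⟨v, hVP hv⟩ : ↥(P : Subgroup G)), g'⁆ ∈ derivedSeries ↥(P : Subgroup G) (0 + 1) := by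
      rw [derivedSeries_succ, derivedSeries_zero]
      exact Subgroup.commutator_mem_commutator (mem_top _) (mem_top _)
    rw [hd, mem_bot, commutatorElement_eq_one_iff_mul_comm] at h1
    exact congrArg Subtype.val h1
  -- the general case
  obtain ⟨A₀, hA₀⟩ : ∃ A₀ : Subgroup G,
      A₀ = (derivedSeries ↥(P : Subgroup G) (d' + 1)).map (P : Subgroup G).subtype := ⟨_, rfl⟩
  obtain ⟨B₀, hB₀⟩ : ∃ B₀ : Subgroup G,
      B₀ = (derivedSeries ↥(P : Subgroup G) d').map (P : Subgroup G).subtype := ⟨_, rfl⟩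
  rw [← hA₀]
  have hAB : A₀ = ⁅B₀, B₀⁆ := by
    rw [hA₀, hB₀, derivedSeries_succ, Subgroup.map_commutator]
  have hAP : A₀ ≤ (P : Subgroup G) := by rw [hA₀]; exact map_subtype_le _
  have hBP : B₀ ≤ (P : Subgroup G) := by rw [hB₀]; exact map_subtype_le _
  have hAle : A₀ ≤ B₀ := by
    rw [hAB, Subgroup.commutator_le]
    intro a ha b hb
    rw [commutatorElement_def]
    exact B₀.mul_mem (B₀.mul_mem (B₀.mul_mem ha hb) (B₀.inv_mem ha)) (B₀.inv_mem hb)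
  have hAab : ∀ a ∈ A₀, ∀ a' ∈ A₀, a * a' = a' * a := by
    intro a ha a' ha'
    rw [hA₀] at ha ha'
    obtain ⟨s, hs, rfl⟩ := ha
    obtain ⟨s', hs', rfl⟩ := ha'
    have h1 : ⁅s, s'⁆ ∈ derivedSeries ↥(P : Subgroup G) (d' + 1 + 1) := by
      rw [derivedSeries_succ]
      exact Subgroup.commutator_mem_commutator hs hs'
    rw [hd, mem_bot, commutatorElement_eq_one_iff_mul_comm] at h1
    exact congrArg Subtype.val h1
  have hnormP : ∀ n : ℕ, ∀ g ∈ (P : Subgroup G),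
      ∀ b ∈ (derivedSeries ↥(P : Subgroup G) n).map (P : Subgroup G).subtype,
      g * b * g⁻¹ ∈ (derivedSeries ↥(P : Subgroup G) n).map (P : Subgroup G).subtype := by
    intro n g hg b hb
    obtain ⟨s, hs, rfl⟩ := hb
    haveI : (derivedSeries ↥(P : Subgroup G) n).Normal := derivedSeries_normal _ n
    refine ⟨⟨g, hg⟩ * s * ⟨g, hg⟩⁻¹, ?_, rfl⟩
    exact Subgroup.Normal.conj_mem inferInstance s hs ⟨g, hg⟩
  have hAn : ∀ g ∈ (P : Subgroup G), ∀ a ∈ A₀, g * a * g⁻¹ ∈ A₀ := by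
    rw [hA₀]; exact hnormP (d' + 1)
  have hBn : ∀ g ∈ (P : Subgroup G), ∀ b ∈ B₀, g * b * g⁻¹ ∈ B₀ := by
    rw [hB₀]; exact hnormP d'
  -- commutators with elements of `V`
  have hAV : ∀ a ∈ A₀, ∀ v ∈ pCore p G, a * v * a⁻¹ * v⁻¹ ∈ A₀ := by
    intro a ha v hv
    have h1 := hAn v (hVP hv) a⁻¹ (A₀.inv_mem ha)
    have : a * v * a⁻¹ * v⁻¹ = a * (v * a⁻¹ * v⁻¹) := by group
    rw [this]
    exact A₀.mul_mem ha h1
  have hBV : ∀ b ∈ B₀, ∀ v ∈ pCore p G, b * v * b⁻¹ * v⁻¹ ∈ B₀ := by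
    intro b hb v hv
    have h1 := hBn v (hVP hv) b⁻¹ (B₀.inv_mem hb)
    have : b * v * b⁻¹ * v⁻¹ = b * (v * b⁻¹ * v⁻¹) := by group
    rw [this]
    exact B₀.mul_mem hb h1
  by_contra hnot
  obtain ⟨a₀, ha₀, ha₀V⟩ := SetLike.not_le_iff_exists.mp hnot
  -- the quotient
  obtain ⟨π, hπ⟩ : ∃ π : G →* G ⧸ pCore p G, π = QuotientGroup.mk' (pCore p G) := ⟨_, rfl⟩
  have hπs : Function.Surjective π := by rw [hπ]; exact QuotientGroup.mk'_surjective _
  have hπ1 : ∀ a : G, π a = 1 ↔ a ∈ pCore p G := by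
    intro a
    rw [hπ]
    exact QuotientGroup.eq_one_iff a
  have hsolH : IsPSolvable p (G ⧸ pCore p G) :=
    Cfsg.Agent.Helper23.PSolv.isPSolvable_quotient (pCore p G) hsol
  have hOH : pCore p (G ⧸ pCore p G) = ⊥ :=
    Cfsg.Agent.Helper18.PSolvLin.pCore_quotient_pCore_bot p
  obtain ⟨R, hRdef⟩ : ∃ R : Subgroup (G ⧸ pCore p G), R = (P : Subgroup G).map π := ⟨_, rfl⟩
  have hRp : IsPGroup p ↥R := by rw [hRdef]; exact P.2.map π
  have hAR : A₀.map π ≤ R := by rw [hRdef]; exact Subgroup.map_mono hAP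
  have hBR : B₀.map π ≤ R := by rw [hRdef]; exact Subgroup.map_mono hBP
  -- a central element of order `p` in the image of `A₀`
  haveI hNn : ((A₀.map π).subgroupOf R).Normal := by
    constructor
    rintro ⟨n, hnR⟩ hn ⟨r, hrR⟩
    rw [mem_subgroupOf] at hn ⊢
    obtain ⟨a, ha, rfl⟩ := hn
    rw [hRdef] at hrR
    obtain ⟨g, hg, rfl⟩ := hrR
    refine ⟨g * a * g⁻¹, hAn g hg a ha, ?_⟩
    rw [map_mul, map_mul, map_inv]
    rfl
  have hNne : (A₀.map π).subgroupOf R ≠ ⊥ := by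
    intro hbot
    have h1 : (⟨π a₀, hAR ⟨a₀, ha₀, rfl⟩⟩ : ↥R) ∈ (A₀.map π).subgroupOf R := by
      rw [mem_subgroupOf]
      exact ⟨a₀, ha₀, rfl⟩
    rw [hbot, mem_bot] at h1
    have h2 : π a₀ = 1 := congrArg Subtype.val h1
    exact ha₀V ((hπ1 a₀).mp h2)
  obtain ⟨⟨xb, hxbR⟩, hxbN, hxb1, hxbp, hxbc⟩ :=
    exists_central_order_p hRp ((A₀.map π).subgroupOf R) hNne
  rw [mem_subgroupOf] at hxbN
  obtain ⟨xh, hxhA, hxh⟩ := hxbN
  have hxh' : π xh = xb := hxh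
  have hxb1' : xb ≠ 1 := by
    intro h
    apply hxb1
    apply Subtype.ext
    exact h
  have hxbp' : xb ^ p = 1 := by
    have := congrArg Subtype.val hxbp
    simpa using this
  have hxbc' : ∀ r ∈ R, r * xb = xb * r := by
    intro r hr
    exact congrArg Subtype.val (hxbc ⟨r, hr⟩)
  -- the invariant `q`-subgroup
  obtain ⟨q, hqF, Tb, hqp, hTq, hRT, gb, hgbT, hgb⟩ :=
    exists_invariant_qsubgroup_of_pgroup hsolH hOH R hRp xb hxbR hxb1'
  haveI := hqF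
  -- the representation
  have hsec := fsec (pCore p G) hVp
  have hΓ := ftop (pCore p G)
  obtain ⟨ρ, hρ⟩ : ∃ ρ : G →* (SecW hsec ≃ₗ[ZMod p] SecW hsec), ρ = secRho hsec hΓ := ⟨_, rfl⟩
  have hkerle : ρ.ker ≤ pCore p G := by
    rw [hρ]
    exact ker_secRho_le (pCore p G) hVp hc (fun N hN hNp => Cfsg.Agent.Helper14.le_pCore hN hNp)
  have hlek : pCore p G ≤ ρ.ker := by
    rw [hρ]
    exact le_ker_secRho hsec hΓ
  obtain ⟨ρb, hρb⟩ : ∃ ρb : G ⧸ pCore p G →* (SecW hsec ≃ₗ[ZMod p] SecW hsec),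
      ρb = QuotientGroup.lift (pCore p G) ρ hlek := ⟨_, rfl⟩
  have hρbπ : ∀ g : G, ρb (π g) = ρ g := by
    intro g
    rw [hρb, hπ]
    rfl
  have hρbinj : Function.Injective ρb := by
    rw [injective_iff_map_eq_one]
    intro c hc1
    obtain ⟨g, rfl⟩ := hπs c
    rw [hρbπ] at hc1
    rw [hπ1]
    exact hkerle hc1
  -- quadratic action
  have hquadA : ∀ a₁ ∈ A₀, ∀ a₂ ∈ A₀, (op (ρ a₁) - 1) * (op (ρ a₂) - 1) = 0 := by
    intro a₁ ha₁ a₂ ha₂
    apply LinearMap.ext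
    intro w
    obtain ⟨v, rfl⟩ := secMk_surjective hsec w
    rw [Module.End.mul_apply, hρ, secRho_sub_one_mk]
    apply secRho_sub_one_eq_zero
    exact hAab a₁ ha₁ _ (hAV a₂ ha₂ v v.2)
  have hquadB : ∀ a₁ ∈ A₀, ∀ b₁ ∈ B₀, ∀ b₂ ∈ B₀,
      (op (ρ a₁) - 1) * (op (ρ b₁) - 1) * (op (ρ b₂) - 1) = 0 := by
    intro a₁ ha₁ b₁ hb₁ b₂ hb₂
    apply LinearMap.ext
    intro w
    obtain ⟨v, rfl⟩ := secMk_surjective hsec w
    rw [Module.End.mul_apply, Module.End.mul_apply, hρ, secRho_sub_one_mk, secRho_sub_one_mk]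
    apply secRho_sub_one_eq_zero
    apply hAab a₁ ha₁
    rw [hAB]
    exact Subgroup.commutator_mem_commutator hb₁ (hBV b₂ hb₂ v v.2)
  -- the linear data
  obtain ⟨a, ha⟩ : ∃ a : SecW hsec ≃ₗ[ZMod p] SecW hsec, a = ρ xh := ⟨_, rfl⟩
  have haρb : a = ρb xb := by rw [ha, ← hρbπ, hxh']
  obtain ⟨M, hM⟩ : ∃ M : Subgroup (SecW hsec ≃ₗ[ZMod p] SecW hsec), M = Tb.map ρb := ⟨_, rfl⟩
  haveI hMfin : Finite ↥M := by
    rw [hM]
    exact Finite.of_surjective (fun k : Tb => (⟨ρb k, ⟨k, k.2, rfl⟩⟩ : Tb.map ρb))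
      (by rintro ⟨_, k, hk, rfl⟩; exact ⟨⟨k, hk⟩, rfl⟩)
  have hMq : IsPGroup q ↥M := by rw [hM]; exact hTq.map ρb
  have hap : a ^ p = 1 := by rw [haρb, ← map_pow, hxbp', map_one]
  have haquad : (op a - 1) ^ 2 = 0 := by
    rw [pow_two, ha]
    exact hquadA xh hxhA xh hxhA
  have hnormRM : ∀ r ∈ R, ∀ g ∈ M, ρb r * g * (ρb r)⁻¹ ∈ M := by
    intro r hr g hg
    rw [hM] at hg ⊢
    obtain ⟨t, ht, rfl⟩ := hg
    refine ⟨r * t * r⁻¹, ?_, ?_⟩
    · exact (Subgroup.mem_normalizer_iff.mp (hRT hr) t).mp ht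
    · rw [map_mul, map_mul, map_inv]
  have hanorm : ∀ g ∈ M, a * g * a⁻¹ ∈ M := by
    intro g hg
    rw [haρb]
    exact hnormRM xb hxbR g hg
  have hgbM : ρb gb ∈ M := by rw [hM]; exact ⟨gb, hgbT, rfl⟩
  have hact : a * ρb gb ≠ ρb gb * a := by
    intro h
    apply hgb
    apply hρbinj
    rw [map_mul, map_mul, ← haρb]
    exact h
  obtain ⟨hp3, hq2, -⟩ := quad_thmB (F := ZMod p) hp2 (Ne.symm hqp) M hMq a hap haquad hanorm
    (ρb gb) hgbM hact
  subst hp3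
  subst hq2
  -- the configuration
  have hconf : Conf (B₀.map ρ) M a := by
    refine ⟨hMfin, hMq, ?_, ?_, ?_, ?_, hap, haquad, ?_⟩
    · rintro _ ⟨b, hb, rfl⟩ g hg
      rw [← hρbπ]
      exact hnormRM (π b) (hBR ⟨b, hb, rfl⟩) g hg
    · rw [ha]
      exact ⟨xh, hAle hxhA, rfl⟩
    · rintro _ ⟨b, hb, rfl⟩
      rw [haρb, ← hρbπ, ← map_mul, ← map_mul, hxbc' (π b) (hBR ⟨b, hb, rfl⟩)]
    · rw [ha, ← Subgroup.map_commutator, ← hAB]
      exact ⟨xh, hxhA, rfl⟩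
    · rintro _ ⟨b₁, hb₁, rfl⟩ _ ⟨b₂, hb₂, rfl⟩
      rw [ha]
      exact hquadB xh hxhA b₁ hb₁ b₂ hb₂
  have := lin3 (F := ZMod 3) _ (SecW hsec) rfl (B₀.map ρ) M a hconf (ρb gb) hgbM
  exact hact this

end Cfsg.Agent.Helper20.HHQ
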