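import Mathlib

set_option autoImplicit false

/-! A Hua-type lemma: an additive bijection `G` of a field with `G 1 = 1` such that
`x ↦ (G x⁻¹)⁻¹` is additive as well is multiplicative on `a * b * a`. -/

namespace Cfsg.Agent.Helper20.SuzAut

theorem hua_identity {F : Type*} [Field F] (a b : F) (ha : a ≠ 0) (hb : b ≠ 0)
    (hab : a * b ≠ 1) : a - (a⁻¹ + (b⁻¹ - a)⁻¹)⁻¹ = a * b * a := by
  have h2 : 1 - a * b ≠ 0 := fun h => hab (by linear_combination -h)
  have h3 : b⁻¹ - a = (1 - a * b) / b := by field_simp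
  rw [h3]
  field_simp
  ring

section

variable {F : Type*} [Field F] (G : F → F) (hadd : ∀ x y, G (x + y) = G x + G y)
  (hinj : Function.Injective G)
  (hK : ∀ x y, (G (x + y)⁻¹)⁻¹ = (G x⁻¹)⁻¹ + (G y⁻¹)⁻¹)

include hadd in
theorem hua_zero : G 0 = 0 := by
  have := hadd 0 0
  rw [add_zero] at this
  exact left_eq_add.mp this

include hadd in
theorem hua_neg (x : F) : G (-x) = - G x := by
  have := hadd x (-x)
  rw [add_neg_cancel, hua_zero G hadd] at this
  exact eq_neg_of_add_eq_zero_right this.symm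

include hadd in
theorem hua_sub (x y : F) : G (x - y) = G x - G y := by
  rw [sub_eq_add_neg, hadd, hua_neg G hadd, sub_eq_add_neg]

include hadd hinj in
theorem hua_ne_zero {x : F} (hx : x ≠ 0) : G x ≠ 0 := by
  intro h
  apply hx
  apply hinj
  rw [h, hua_zero G hadd]

include hadd hinj hK in
theorem hua_aba (a b : F) : G (a * b * a) = G a * (G b⁻¹)⁻¹ * G a := by
  by_cases ha : a = 0
  · rw [ha, zero_mul, zero_mul, hua_zero G hadd, zero_mul, zero_mul]
  by_cases hb : b = 0
  · rw [hb, mul_zero, zero_mul, hua_zero G hadd, inv_zero, hua_zero G hadd, inv_zero, mul_zero,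
      zero_mul]
  have hGa : G a ≠ 0 := hua_ne_zero G hadd hinj ha
  by_cases hab : a * b = 1
  · have hb' : b⁻¹ = a := by
      rw [← mul_one b⁻¹, ← hab, ← mul_assoc, mul_comm b⁻¹ a, mul_assoc, inv_mul_cancel₀ hb, mul_one]
    rw [hab, one_mul, hb', mul_inv_cancel₀ hGa, one_mul]
  -- the generic case
  have hKb : (G b⁻¹)⁻¹ ≠ 0 := inv_ne_zero (hua_ne_zero G hadd hinj (inv_ne_zero hb))
  have hprod : G a * (G b⁻¹)⁻¹ ≠ 1 := by
    intro h
    apply hab
    have h1 : G b⁻¹ = G a := by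
      have hne : G b⁻¹ ≠ 0 := hua_ne_zero G hadd hinj (inv_ne_zero hb)
      have h' := congrArg (fun z => z * G b⁻¹) h
      simp only [one_mul] at h'
      rw [mul_assoc, inv_mul_cancel₀ hne, mul_one] at h'
      exact h'.symm
    have h2 := hinj h1
    rw [← h2, inv_mul_cancel₀ hb]
  rw [← hua_identity (G a) ((G b⁻¹)⁻¹) hGa hKb hprod, ← hua_identity a b ha hb hab,
    hua_sub G hadd]
  congr 1
  have e1 : G (a⁻¹ + (b⁻¹ - a)⁻¹)⁻¹ = ((G (a⁻¹ + (b⁻¹ - a)⁻¹)⁻¹)⁻¹)⁻¹ := (inv_inv _).symm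
  rw [e1, hK, inv_inv, inv_inv, inv_inv, hua_sub G hadd]

include hadd hinj hK in
/-- the conclusion of the Hua-type lemma -/
theorem hua_mul (h1 : G 1 = 1) (hsq : ∀ y : F, ∃ x, x * x = y) (x y : F) :
    G (x * y) = G x * G y := by
  have hGK : ∀ b, (G b⁻¹)⁻¹ = G b := by
    intro b
    have := hua_aba G hadd hinj hK 1 b
    rw [one_mul, mul_one, h1, one_mul, mul_one] at this
    exact this.symm
  have h2 : ∀ a b, G (a * a * b) = G a * G a * G b := by
    intro a b
    have := hua_aba G hadd hinj hK a b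
    rw [hGK] at this
    rw [mul_assoc, mul_comm a b, ← mul_assoc, this]
    ring
  have h3 : ∀ a, G (a * a) = G a * G a := by
    intro a
    have := h2 a 1
    rwa [mul_one, h1, mul_one] at this
  obtain ⟨a, rfl⟩ := hsq x
  rw [h2, h3]

end

end Cfsg.Agent.Helper20.SuzAut
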