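import Mathlib
import Cfsg.Agent.Lib.Helper20.SuzAutA

set_option autoImplicit false

/-! Additive bijections `f`, `g` of a finite field of characteristic two with a Tits endomorphism
`s` (`s (s t) = t^2`) such that `g (a * s a) = f a * s (f a)`: `f` and `g` are semilinear. -/

namespace Cfsg.Agent.Helper20.SuzAut

section tits

variable {F : Type*} [Field F] (s : F →+* F) (hs : ∀ t, s (s t) = t ^ 2) (h2 : (2 : F) = 0)

include h2 in
theorem add_self' (x : F) : x + x = 0 := by linear_combination x * h2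

include h2 in
theorem neg_eq' (x : F) : -x = x := by linear_combination (-x) * h2

include hs in
theorem fix_cases {t : F} (h : s t = t) : t = 0 ∨ t = 1 := by
  have h1 : t ^ 2 = t := by rw [← hs, h, h]
  have h3 : t * (t - 1) = 0 := by linear_combination h1
  rcases mul_eq_zero.1 h3 with h | h
  · exact Or.inl h
  · exact Or.inr (sub_eq_zero.1 h)

include hs in
theorem s_injective : Function.Injective s := by
  intro a b hab
  have h1 : a ^ 2 = b ^ 2 := by rw [← hs, ← hs, hab]
  exact (RingHom.injective s) hab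

include hs in
theorem nrm_surj (u : F) : ∃ a : F, a * s a = u := by
  by_cases hu : u = 0
  · exact ⟨0, by rw [hu, zero_mul]⟩
  · refine ⟨s u / u, ?_⟩
    have hsu : s u ≠ 0 := (map_ne_zero s).2 hu
    rw [map_div₀, hs]
    field_simp

include hs in
theorem nrm_inj {a b : F} (h : a * s a = b * s b) : a = b := by
  by_cases hb : b = 0
  · rw [hb, zero_mul] at h
    rcases mul_eq_zero.1 h with h | h
    · rw [h, hb]
    · rw [(map_eq_zero s).1 h, hb]
  · have hsb : s b ≠ 0 := (map_ne_zero s).2 hb
    set t := a / b with ht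
    have h1 : t * s t = 1 := by
      rw [ht, map_div₀]
      field_simp
      exact h
    have ht0 : t ≠ 0 := by
      intro h0
      rw [h0, zero_mul] at h1
      exact zero_ne_one h1
    have h3 : s t = t⁻¹ := by
      field_simp
      rw [mul_comm]
      exact h1
    have h4 : t ^ 2 = t := by
      rw [← hs, h3, map_inv₀, h3, inv_inv]
    have h5 : t = 1 := by
      have : t * (t - 1) = 0 := by linear_combination h4
      rcases mul_eq_zero.1 this with h | h
      · exact absurd h ht0
      · exact sub_eq_zero.1 h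
    rw [ht] at h5
    field_simp at h5
    exact h5

/-- the additive map `t ↦ t + s t` -/
def pmap : F →+ F where
  toFun t := t + s t
  map_zero' := by rw [map_zero, add_zero]
  map_add' x y := by rw [map_add]; ring

theorem pmap_apply (t : F) : pmap s t = t + s t := rfl

/-- the image of `t ↦ t + s t` -/
def Tsub : AddSubgroup F := (pmap s).range

theorem mem_Tsub (x : F) : x ∈ Tsub s ↔ ∃ t, t + s t = x := Iff.rfl

include hs h2 in
theorem index_Tsub [Finite F] : (Tsub s).index = 2 := by
  have h1 := AddSubgroup.index_ker (pmap s)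
  have h3 : Nat.card (pmap s).ker = 2 := by
    have hker : ∀ t : F, t ∈ (pmap s).ker ↔ t = 0 ∨ t = 1 := by
      intro t
      rw [AddMonoidHom.mem_ker, pmap_apply]
      constructor
      · intro h
        apply fix_cases s hs
        have := neg_eq' h2 t
        linear_combination h + this
      · rintro (rfl | rfl)
        · rw [map_zero, add_zero]
        · rw [map_one]
          exact add_self' h2 1
    have e : (pmap s).ker ≃ Fin 2 := by
      classical
      refine ⟨fun t => if (t : F) = 0 then 0 else 1, fun i => if i = 0 then ⟨0, (hker 0).2 (Or.inl rfl)⟩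
        else ⟨1, (hker 1).2 (Or.inr rfl)⟩, ?_, ?_⟩
      · rintro ⟨t, ht⟩
        rcases (hker t).1 ht with rfl | rfl
        · simp
        · simp
      · intro i
        fin_cases i
        · simp
        · simp
    rw [Nat.card_congr e, Nat.card_eq_fintype_card, Fintype.card_fin]
  have h4 := AddSubgroup.card_mul_index (pmap s).ker
  have h5 := AddSubgroup.card_mul_index (Tsub s)
  rw [h3, h1] at h4
  unfold Tsub at h5 ⊢
  have hpos : 0 < Nat.card (pmap s).range := Nat.card_pos
  have : Nat.card (pmap s).range * (pmap s).range.index = Nat.card (pmap s).range * 2 := by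
    rw [h5, ← h4, mul_comm]
  exact Nat.eq_of_mul_eq_mul_left hpos this

end tits

section pair

variable {F : Type*} [Field F] (s : F →+* F) (hs : ∀ t, s (s t) = t ^ 2) (h2 : (2 : F) = 0)
  (f g : F → F) (hf : ∀ x y, f (x + y) = f x + f y) (hg : ∀ x y, g (x + y) = g x + g y)
  (hfg : ∀ a, g (a * s a) = f a * s (f a))

include hf hg hfg in
theorem polar (a c : F) : g (a * s c + c * s a) = f a * s (f c) + f c * s (f a) := by
  have h := hfg (a + c)
  have e1 : (a + c) * s (a + c) = a * s a + ((a * s c + c * s a) + c * s c) := by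
    rw [map_add]; ring
  rw [e1, hg, hg, hfg, hfg, hf, map_add] at h
  have e2 : (f a + f c) * (s (f a) + s (f c))
      = f a * s (f a) + ((f a * s (f c) + f c * s (f a)) + f c * s (f c)) := by ring
  rw [e2] at h
  exact add_right_cancel (add_left_cancel h)

include hf hg hfg in
theorem sub_step (a : F) (hfa : f a ≠ 0) (t : F) :
    ∃ t', g (a * s a * (t + s t)) = f a * s (f a) * (t' + s t') := by
  refine ⟨f (a * t) / f a, ?_⟩
  have e1 : a * s a * (t + s t) = a * s (a * t) + (a * t) * s a := by
    rw [map_mul]; ring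
  rw [e1, polar s f g hf hg hfg, map_div₀]
  have hsfa : s (f a) ≠ 0 := (map_ne_zero s).2 hfa
  field_simp
  ring

end pair

section main

variable {F : Type*} [Field F] [Finite F] (s : F →+* F) (hs : ∀ t, s (s t) = t ^ 2)
  (h2 : (2 : F) = 0)
  (f g f' g' : F → F) (hf : ∀ x y, f (x + y) = f x + f y) (hg : ∀ x y, g (x + y) = g x + g y)
  (hfg : ∀ a, g (a * s a) = f a * s (f a))
  (hff' : ∀ x, f' (f x) = x) (hf'f : ∀ x, f (f' x) = x)
  (hgg' : ∀ x, g' (g x) = x) (hg'g : ∀ x, g (g' x) = x)

include hf hff' in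
theorem f_zero : f 0 = 0 := hua_zero f hf

include hf hff' in
theorem f_ne_zero {a : F} (ha : a ≠ 0) : f a ≠ 0 := by
  intro h
  apply ha
  have h0 : f 0 = 0 := hua_zero f hf
  calc a = f' (f a) := (hff' a).symm
    _ = f' (f 0) := by rw [h, h0]
    _ = 0 := hff' 0

include hf hf'f hff' in
theorem inv_add (x y : F) : f' (x + y) = f' x + f' y := by
  have : f (f' x + f' y) = x + y := by rw [hf, hf'f, hf'f]
  rw [← this, hff']

include hfg hf'f hgg' in
theorem inv_pair (a : F) : g' (a * s a) = f' a * s (f' a) := by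
  have := hfg (f' a)
  rw [hf'f] at this
  rw [← this, hgg']

include hs hf hg hfg hff' in
theorem mem_T_forward (u x : F) (hu : u ≠ 0) (hx : x * u⁻¹ ∈ Tsub s) :
    g x * (g u)⁻¹ ∈ Tsub s := by
  obtain ⟨t, ht⟩ := (mem_Tsub s _).1 hx
  obtain ⟨a, ha⟩ := nrm_surj s hs u
  have ha0 : a ≠ 0 := by
    rintro rfl
    rw [zero_mul] at ha
    exact hu ha.symm
  have hfa : f a ≠ 0 := f_ne_zero f f' hf hff' ha0
  obtain ⟨t', ht'⟩ := sub_step s f g hf hg hfg a hfa t
  have hx' : x = a * s a * (t + s t) := by
    rw [ht, ha]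
    field_simp
  have hgu : g u = f a * s (f a) := by rw [← ha, hfg]
  have hsfa : s (f a) ≠ 0 := (map_ne_zero s).2 hfa
  have hne : f a * s (f a) ≠ 0 := mul_ne_zero hfa hsfa
  rw [mem_Tsub]
  refine ⟨t', ?_⟩
  rw [hx', ht', hgu]
  field_simp

include hs hf hg hfg hff' hf'f hgg' hg'g in
theorem mem_T_iff (u x : F) (hu : u ≠ 0) :
    x * u⁻¹ ∈ Tsub s ↔ g x * (g u)⁻¹ ∈ Tsub s := by
  constructor
  · exact mem_T_forward s hs f g f' hf hg hfg hff' u x hu
  · intro h
    have hgu : g u ≠ 0 := f_ne_zero g g' hg hgg' hu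
    have := mem_T_forward s hs f' g' f (inv_add f f' hf hff' hf'f) (inv_add g g' hg hgg' hg'g)
      (inv_pair s f g f' g' hfg hf'f hgg') hf'f (g u) (g x) hgu h
    rwa [hgg', hgg'] at this

/-- the adjoint-inverse map -/
noncomputable def kmap (w : F) : F := (g w⁻¹)⁻¹

include hs hf hg hfg hff' hf'f hgg' hg'g in
theorem kmap_spec (w x : F) : w * x ∈ Tsub s ↔ kmap g w * g x ∈ Tsub s := by
  by_cases hw : w = 0
  · rw [hw, zero_mul]
    unfold kmap
    rw [inv_zero, hua_zero g hg, inv_zero, zero_mul]
  · have := mem_T_iff s hs f g f' g' hf hg hfg hff' hf'f hgg' hg'g w⁻¹ x (inv_ne_zero hw)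
    rw [inv_inv] at this
    unfold kmap
    rw [mul_comm w x, mul_comm _ (g x)]
    exact this

include hs h2 hf hg hfg hff' hf'f hgg' hg'g in
theorem kmap_add (w₁ w₂ : F) : kmap g (w₁ + w₂) = kmap g w₁ + kmap g w₂ := by
  have hidx := index_Tsub s hs h2
  set δ := kmap g (w₁ + w₂) + (kmap g w₁ + kmap g w₂) with hδ
  have hall : ∀ y : F, δ * y ∈ Tsub s := by
    intro y
    have hy : y = g (g' y) := (hg'g y).symm
    rw [hy, hδ, add_mul, add_mul]
    rw [AddSubgroup.add_mem_iff_of_index_two hidx, AddSubgroup.add_mem_iff_of_index_two hidx,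
      ← kmap_spec s hs f g f' g' hf hg hfg hff' hf'f hgg' hg'g,
      ← kmap_spec s hs f g f' g' hf hg hfg hff' hf'f hgg' hg'g,
      ← kmap_spec s hs f g f' g' hf hg hfg hff' hf'f hgg' hg'g,
      add_mul, AddSubgroup.add_mem_iff_of_index_two hidx]
  have hδ0 : δ = 0 := by
    by_contra hne
    have htop : Tsub s = ⊤ := by
      rw [eq_top_iff]
      intro y _
      have := hall (δ⁻¹ * y)
      rwa [← mul_assoc, mul_inv_cancel₀ hne, one_mul] at this
    rw [htop, AddSubgroup.index_top] at hidx
    norm_num at hidx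
  have : kmap g (w₁ + w₂) = -(kmap g w₁ + kmap g w₂) := eq_neg_of_add_eq_zero_left hδ0
  rw [this, neg_eq' h2]

include hs h2 hf hg hfg hff' hf'f hgg' hg'g in
/-- `g / g 1` is multiplicative -/
theorem g_mul (x y : F) : g (x * y) * g 1 = g x * g y := by
  have hc : g 1 ≠ 0 := f_ne_zero g g' hg hgg' one_ne_zero
  set G₁ : F → F := fun x => g x * (g 1)⁻¹ with hG₁
  have hadd : ∀ x y, G₁ (x + y) = G₁ x + G₁ y := by
    intro x y
    simp only [hG₁]
    rw [hg, add_mul]
  have hinj : Function.Injective G₁ := by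
    intro x y hxy
    simp only [hG₁] at hxy
    have := mul_right_cancel₀ (inv_ne_zero hc) hxy
    rw [← hgg' x, this, hgg']
  have hK : ∀ x y, (G₁ (x + y)⁻¹)⁻¹ = (G₁ x⁻¹)⁻¹ + (G₁ y⁻¹)⁻¹ := by
    intro x y
    have e : ∀ z, (G₁ z⁻¹)⁻¹ = kmap g z * g 1 := by
      intro z
      simp only [hG₁, kmap]
      rw [mul_inv, inv_inv]
    rw [e, e, e, kmap_add s hs h2 f g f' g' hf hg hfg hff' hf'f hgg' hg'g, add_mul]
  have h1 : G₁ 1 = 1 := by
    simp only [hG₁]
    exact mul_inv_cancel₀ hc
  have hsq : ∀ y : F, ∃ x, x * x = y := by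
    intro y
    have hsurj : Function.Surjective s := Finite.surjective_of_injective (RingHom.injective s)
    obtain ⟨w, hw⟩ := hsurj y
    obtain ⟨v, hv⟩ := hsurj w
    refine ⟨v, ?_⟩
    rw [← hw, ← hv, hs, pow_two]
  have := hua_mul G₁ hadd hinj hK h1 hsq x y
  simp only [hG₁] at this
  field_simp at this
  linear_combination this

end main

end Cfsg.Agent.Helper20.SuzAut
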