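import Mathlib
import Cfsg.Agent.Lib.Helper20.SuzAutB

set_option autoImplicit false

/-! Ring endomorphisms of a finite field of characteristic two are Frobenius powers; the
semilinearity theorem. -/

namespace Cfsg.Agent.Helper20.SuzAut

section frob

variable {F : Type*} [Field F] [Fintype F] (n : ℕ) (hF : Fintype.card F = 2 ^ n)
  (h2 : (2 : F) = 0)

include h2 in
theorem charP_two : CharP F 2 := CharTwo.of_one_ne_zero_of_two_eq_zero one_ne_zero h2

include hF h2 in
theorem finrank_eq :
    letI := charP_two h2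
    letI := ZMod.algebra F 2
    Module.finrank (ZMod 2) F = n := by
  letI := charP_two h2
  letI := ZMod.algebra F 2
  have h := Module.card_eq_pow_finrank (K := ZMod 2) (V := F)
  rw [hF, ZMod.card] at h
  exact (Nat.pow_right_injective (le_refl 2) h).symm

include hF h2 in
theorem exists_frob (φ : F →+* F) : ∃ i : Fin n, ∀ x, φ x = x ^ (2 ^ i.1) := by
  letI := charP_two h2
  letI := ZMod.algebra F 2
  have hfr := finrank_eq n hF h2
  let ψ : F →ₐ[ZMod 2] F :=
    { φ with
      commutes' := by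
        intro r
        have : φ.comp (algebraMap (ZMod 2) F) = algebraMap (ZMod 2) F := RingHom.ext_zmod _ _
        exact RingHom.congr_fun this r }
  obtain ⟨i, hi⟩ := (FiniteField.bijective_frobeniusAlgHom_pow (ZMod 2) F).2 ψ
  refine ⟨⟨i.1, by rw [← hfr]; exact i.2⟩, ?_⟩
  intro x
  have h1 : ψ x = φ x := rfl
  rw [← h1, ← hi]
  simp only [AlgHom.coe_pow, FiniteField.coe_frobeniusAlgHom, pow_iterate, ZMod.card]

include hF h2 in
theorem frob_inj (i j : Fin n) (h : ∀ x : F, x ^ (2 ^ i.1) = x ^ (2 ^ j.1)) : i = j := by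
  letI := charP_two h2
  letI := ZMod.algebra F 2
  have hfr := finrank_eq n hF h2
  have hinj := (FiniteField.bijective_frobeniusAlgHom_pow (ZMod 2) F).1
  have hi : i.1 < Module.finrank (ZMod 2) F := by rw [hfr]; exact i.2
  have hj : j.1 < Module.finrank (ZMod 2) F := by rw [hfr]; exact j.2
  have : (⟨i.1, hi⟩ : Fin (Module.finrank (ZMod 2) F)) = ⟨j.1, hj⟩ := by
    apply hinj
    apply AlgHom.ext
    intro x
    simp only [AlgHom.coe_pow, FiniteField.coe_frobeniusAlgHom, pow_iterate, ZMod.card]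
    exact h x
  apply Fin.ext
  exact congrArg (fun k : Fin (Module.finrank (ZMod 2) F) => k.1) this

end frob

section main

variable {F : Type*} [Field F] [Fintype F] (n : ℕ) (hF : Fintype.card F = 2 ^ n)
  (s : F →+* F) (hs : ∀ t, s (s t) = t ^ 2) (h2 : (2 : F) = 0)
  (f g f' g' : F → F) (hf : ∀ x y, f (x + y) = f x + f y) (hg : ∀ x y, g (x + y) = g x + g y)
  (hfg : ∀ a, g (a * s a) = f a * s (f a))
  (hff' : ∀ x, f' (f x) = x) (hf'f : ∀ x, f (f' x) = x)
  (hgg' : ∀ x, g' (g x) = x) (hg'g : ∀ x, g (g' x) = x)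

include hF hs h2 hf hg hfg hff' hf'f hgg' hg'g in
/-- **Semilinearity.** -/
theorem semilinear : ∃ i : Fin n, (∀ a, f a = f 1 * a ^ (2 ^ i.1)) ∧
    (∀ b, g b = f 1 * s (f 1) * b ^ (2 ^ i.1)) := by
  have hc : g 1 ≠ 0 := f_ne_zero g g' hg hgg' one_ne_zero
  have hmul := g_mul s hs h2 f g f' g' hf hg hfg hff' hf'f hgg' hg'g
  let φ : F →+* F :=
    { toFun := fun x => g x * (g 1)⁻¹
      map_one' := mul_inv_cancel₀ hc
      map_mul' := by
        intro x y
        have := hmul x y
        field_simp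
        linear_combination this
      map_zero' := by rw [hua_zero g hg, zero_mul]
      map_add' := by
        intro x y
        rw [hg, add_mul] }
  obtain ⟨i, hi⟩ := exists_frob n hF h2 φ
  have hg1 : g 1 = f 1 * s (f 1) := by
    have := hfg 1
    rwa [map_one, mul_one] at this
  have hgb : ∀ b, g b = g 1 * b ^ (2 ^ i.1) := by
    intro b
    have := hi b
    change g b * (g 1)⁻¹ = b ^ (2 ^ i.1) at this
    rw [← this]
    field_simp
  refine ⟨i, ?_, ?_⟩
  · intro a
    apply nrm_inj s hs
    rw [← hfg, hgb, hg1, map_mul, map_pow, mul_pow]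
    ring
  · intro b
    rw [hgb, hg1]

end main

end Cfsg.Agent.Helper20.SuzAut
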