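import Mathlib
import Cfsg.Agent.Lib.Helper17.HeisAut2
import Cfsg.Agent.Lib.Helper20.SuzAutC

/-!
# Bijective semisimilarities of the norm form of a quadratic extension in characteristic two

`A : F →+ F` and `C : K → K` additive injections with `C (N a) = N (A a)`, `N a = a φ a`:
then `A a = A 1 * a ^ (2 ^ i)` for a Frobenius power.
(Generalises helper17's `HeisAut2` from involutions to bijections.)
-/

set_option autoImplicit false

namespace Cfsg.Agent.Helper20.HsAut

open Cfsg.Agent.Helper11.Herm Cfsg.Agent.Helper17.HeisAut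

section Main

variable {F : Type*} [Field F] [Fintype F] [CharP F 2] {q : ℕ}
  (hF : Fintype.card F = q ^ 2) (φ : F →+* F) (hφ : ∀ x, φ x = x ^ q)
  (A : F →+ F) (C : F → F)
  (hAinj : ∀ a, A a = 0 → a = 0)
  (hCadd : ∀ s t, φ s = s → φ t = t → C (s + t) = C s + C t)
  (hCK : ∀ s, φ s = s → φ (C s) = C s)
  (hCinj : ∀ s, φ s = s → C s = 0 → s = 0)
  (hN : ∀ a, C (a * φ a) = A a * φ (A a))

include hF hφ hAinj hCadd hCinj hN in
theorem A_line' {a : F} (ha : a ≠ 0) (b : F) :
    (∃ l : F, φ l = l ∧ b = a * l) ↔ (∃ m : F, φ m = m ∧ A b = A a * m) := by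
  have hAa : A a ≠ 0 := fun h => ha (hAinj a h)
  rw [← line_iff hF φ hφ ha, ← line_iff hF φ hφ hAa, ← tr_compat hF φ hφ A C hCadd hN]
  constructor
  · intro h
    rw [h, C_zero φ C hCadd]
  · intro h
    exact hCinj _ (tr_fix hF φ hφ a b) h

include hF hφ hAinj hCadd hCinj hN in
theorem G_spec' {a : F} (ha : a ≠ 0) {l : F} (hl : φ l = l) :
    φ (G A a l) = G A a l ∧ A (a * l) = A a * G A a l := by
  have hAa : A a ≠ 0 := fun h => ha (hAinj a h)
  obtain ⟨m, hm, h⟩ := (A_line' hF φ hφ A C hAinj hCadd hCinj hN ha (a * l)).1 ⟨l, hl, rfl⟩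
  have : G A a l = m := by
    unfold G
    rw [h]
    field_simp
  rw [this]
  exact ⟨hm, h⟩

include hF hφ hAinj hCadd hCinj hN in
theorem G_indep' {a b : F} (ha : a ≠ 0) (hb : b ≠ 0) (hab : ¬ ∃ l : F, φ l = l ∧ b = a * l)
    {l : F} (hl : φ l = l) : G A a l = G A b l := by
  have hAa : A a ≠ 0 := fun h => ha (hAinj a h)
  have hAb : A b ≠ 0 := fun h => hb (hAinj b h)
  have hs : a + b ≠ 0 := by
    intro h
    apply hab
    refine ⟨1, map_one φ, ?_⟩
    rw [mul_one]
    exact (eq_of_add_eq_zero' h).symm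
  obtain ⟨ha1, ha2⟩ := G_spec' hF φ hφ A C hAinj hCadd hCinj hN ha hl
  obtain ⟨hb1, hb2⟩ := G_spec' hF φ hφ A C hAinj hCadd hCinj hN hb hl
  obtain ⟨hs1, hs2⟩ := G_spec' hF φ hφ A C hAinj hCadd hCinj hN hs hl
  rw [add_mul, map_add, map_add, ha2, hb2] at hs2
  have key : A a * (G A a l + G A (a + b) l) = A b * (G A b l + G A (a + b) l) := by
    have h1 := add_self' (A a * G A (a + b) l)
    have h2 := add_self' (A b * G A b l)
    linear_combination hs2 + h1 - h2
  by_cases hy : G A b l + G A (a + b) l = 0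
  · rw [hy, mul_zero] at key
    rcases mul_eq_zero.1 key with h | h
    · exact absurd h hAa
    · rw [eq_of_add_eq_zero' h, eq_of_add_eq_zero' hy]
  · exfalso
    apply hab
    rw [A_line' hF φ hφ A C hAinj hCadd hCinj hN ha b]
    refine ⟨(G A a l + G A (a + b) l) * (G A b l + G A (a + b) l)⁻¹, ?_, ?_⟩
    · rw [map_mul, map_inv₀, map_add, map_add, ha1, hb1, hs1]
    · field_simp
      linear_combination -key

include hF hφ hAinj hCadd hCinj hN in
theorem G_const' {a : F} (ha : a ≠ 0) {l : F} (hl : φ l = l) : G A a l = G A 1 l := by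
  obtain ⟨w, hw⟩ : ∃ w : F, φ w ≠ w := by
    by_contra h
    push Not at h
    exact frob_ne_id hF φ hφ (RingHom.ext h)
  have hw0 : w ≠ 0 := by
    rintro rfl
    exact hw (map_zero φ)
  have h1w : ¬ ∃ l : F, φ l = l ∧ w = 1 * l := by
    rintro ⟨l, hl, h⟩
    rw [one_mul] at h
    rw [h] at hw
    exact hw hl
  by_cases hak : ∃ l : F, φ l = l ∧ a = 1 * l
  · obtain ⟨k, hk, rfl⟩ := hak
    rw [one_mul] at ha ⊢
    have hkw : ¬ ∃ l : F, φ l = l ∧ w = k * l := by
      rintro ⟨l, hl, h⟩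
      apply hw
      rw [h, map_mul, hk, hl]
    rw [G_indep' hF φ hφ A C hAinj hCadd hCinj hN ha hw0 hkw hl,
      ← G_indep' hF φ hφ A C hAinj hCadd hCinj hN one_ne_zero hw0 h1w hl]
  · exact (G_indep' hF φ hφ A C hAinj hCadd hCinj hN one_ne_zero ha hak hl).symm

include hF hφ hAinj hCadd hCinj hN in
/-- semilinearity over the fixed field -/
theorem semilin' (a : F) {l : F} (hl : φ l = l) : A (a * l) = A a * G A 1 l := by
  by_cases ha : a = 0
  · rw [ha, zero_mul, map_zero, zero_mul]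
  · rw [← G_const' hF φ hφ A C hAinj hCadd hCinj hN ha hl]
    exact (G_spec' hF φ hφ A C hAinj hCadd hCinj hN ha hl).2

include hF hφ hAinj hCadd hCinj hN in
theorem g_fix' {l : F} (hl : φ l = l) : φ (G A 1 l) = G A 1 l :=
  (G_spec' hF φ hφ A C hAinj hCadd hCinj hN one_ne_zero hl).1

include hAinj in
omit [Fintype F] [CharP F 2] in
theorem A_one_ne_zero' : A 1 ≠ 0 := fun h => one_ne_zero (hAinj 1 h)

omit [Fintype F] [CharP F 2] in
theorem g_add' (s t : F) : G A 1 (s + t) = G A 1 s + G A 1 t := by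
  unfold G
  rw [mul_add, map_add, add_mul]

include hF hφ hAinj hCadd hCinj hN in
theorem g_mul' {s t : F} (hs : φ s = s) (ht : φ t = t) :
    G A 1 (s * t) = G A 1 s * G A 1 t := by
  have h1 := semilin' hF φ hφ A C hAinj hCadd hCinj hN (1 * s) ht
  have h2 := semilin' hF φ hφ A C hAinj hCadd hCinj hN 1 hs
  have h3 := semilin' hF φ hφ A C hAinj hCadd hCinj hN 1
    (show φ (s * t) = s * t by rw [map_mul, hs, ht])
  rw [h2, mul_assoc, h3] at h1
  have := A_one_ne_zero' A hAinj
  apply mul_left_cancel₀ this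
  rw [h1, mul_assoc]

include hAinj in
omit [Fintype F] [CharP F 2] in
theorem g_one' : G A 1 1 = 1 := by
  unfold G
  rw [mul_one, mul_inv_cancel₀ (A_one_ne_zero' A hAinj)]

include hF hφ hAinj hCadd hCinj hN in
/-- `C` is `g` up to the constant `C 1` -/
theorem C_eq' {m : F} (hm : φ m = m) : C m = C 1 * G A 1 m := by
  have hsurj : Function.Surjective (fun x : F => x * x) :=
    Finite.surjective_of_injective (fun x y h => sq_inj' h)
  obtain ⟨l, hl⟩ := hsurj m
  simp only at hl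
  have hlK : φ l = l := by
    apply sq_inj'
    rw [← map_mul, hl, hm]
  have h1 := hN l
  have h2 := semilin' hF φ hφ A C hAinj hCadd hCinj hN 1 hlK
  rw [one_mul] at h2
  have h3 := hN 1
  rw [map_one, mul_one] at h3
  rw [hlK, hl, h2, map_mul, g_fix' hF φ hφ A C hAinj hCadd hCinj hN hlK] at h1
  rw [h1, h3, ← hl, g_mul' hF φ hφ A C hAinj hCadd hCinj hN hlK hlK]
  ring

/-- the normalised map -/
noncomputable def fN (a : F) : F := A a * (A 1)⁻¹

include hAinj in
omit [Fintype F] [CharP F 2] in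
theorem fN_one : fN A 1 = 1 := by
  unfold fN
  exact mul_inv_cancel₀ (A_one_ne_zero' A hAinj)

omit [Fintype F] [CharP F 2] in
theorem fN_add (a b : F) : fN A (a + b) = fN A a + fN A b := by
  unfold fN
  rw [map_add, add_mul]

omit [Fintype F] [CharP F 2] in
theorem fN_eq_G (l : F) : fN A l = G A 1 l := by
  unfold fN G
  rw [one_mul]

include hF hφ hAinj hCadd hCinj hN in
theorem fN_semilin (a : F) {l : F} (hl : φ l = l) : fN A (a * l) = fN A a * fN A l := by
  unfold fN
  rw [semilin' hF φ hφ A C hAinj hCadd hCinj hN a hl]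
  unfold G
  rw [one_mul]
  ring

include hF hφ hAinj hCadd hCinj hN in
theorem fN_fix {l : F} (hl : φ l = l) : φ (fN A l) = fN A l := by
  rw [fN_eq_G]
  exact g_fix' hF φ hφ A C hAinj hCadd hCinj hN hl

include hF hφ hAinj hCadd hCinj hN in
theorem fN_norm (a : F) : fN A a * φ (fN A a) = fN A (a * φ a) := by
  have hC1 : C 1 ≠ 0 := fun h => one_ne_zero (hCinj 1 (map_one φ) h)
  have h1 := hN a
  rw [C_eq' hF φ hφ A C hAinj hCadd hCinj hN (nm_fix hF φ hφ a)] at h1
  have h3 := hN 1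
  rw [map_one, mul_one] at h3
  have hA1 := A_one_ne_zero' A hAinj
  have hφA1 : φ (A 1) ≠ 0 := (map_ne_zero φ).2 hA1
  rw [fN_eq_G A (a * φ a)]
  rw [h3] at h1 hC1
  unfold fN
  rw [map_mul, map_inv₀]
  field_simp
  linear_combination -h1

include hF hφ hAinj hCadd hCinj hN in
theorem fN_trace (a : F) : fN A a + φ (fN A a) = fN A (a + φ a) := by
  have h1 := fN_norm hF φ hφ A C hAinj hCadd hCinj hN (a + 1)
  have h2 := fN_norm hF φ hφ A C hAinj hCadd hCinj hN a
  have e : (a + 1) * φ (a + 1) = a * φ a + (a + φ a) + 1 := by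
    rw [map_add, map_one]; ring
  rw [e, fN_add, fN_add, fN_add, fN_one A hAinj, map_add, map_one, ← h2] at h1
  linear_combination h1

include hF hφ hAinj hCadd hCinj hN in
theorem fN_sq (w : F) : fN A (w * w) = fN A w * fN A w := by
  have e : w * w = w * (w + φ w) + 1 * (w * φ w) := by
    have := add_self' (w * φ w)
    linear_combination -this
  have hT : φ (w + φ w) = w + φ w := by
    rw [map_add, frob_frob hF φ hφ, add_comm]
  rw [e, fN_add, fN_semilin hF φ hφ A C hAinj hCadd hCinj hN w hT,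
    fN_semilin hF φ hφ A C hAinj hCadd hCinj hN 1 (nm_fix hF φ hφ w), fN_one A hAinj,
    ← fN_trace hF φ hφ A C hAinj hCadd hCinj hN, ← fN_norm hF φ hφ A C hAinj hCadd hCinj hN]
  have := add_self' (fN A w * φ (fN A w))
  linear_combination this

include hF hφ in
theorem decomp {w : F} (hw : φ w ≠ w) (a : F) :
    ∃ x y : F, φ x = x ∧ φ y = y ∧ a = x + w * y := by
  have hφφ := frob_frob hF φ hφ
  have hd : w + φ w ≠ 0 := fun h => hw (eq_of_add_eq_zero' h).symm
  have hdK : φ (w + φ w) = w + φ w := by rw [map_add, hφφ, add_comm]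
  have haK : φ (a + φ a) = a + φ a := by rw [map_add, hφφ, add_comm]
  obtain ⟨y, hy⟩ : ∃ y : F, y = (a + φ a) * (w + φ w)⁻¹ := ⟨_, rfl⟩
  have hyK : φ y = y := by rw [hy, map_mul, map_inv₀, hdK, haK]
  have hyd : y * (w + φ w) = a + φ a := by
    rw [hy]; field_simp
  refine ⟨a + w * y, y, ?_, hyK, ?_⟩
  · rw [map_add, map_mul, hyK]
    have := add_self' (w * y)
    have h2 := add_self' (φ a)
    linear_combination hyd + h2 - this
  · have := add_self' (w * y)
    linear_combination -this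

include hF hφ hAinj hCadd hCinj hN in
theorem fN_mul (a b : F) : fN A (a * b) = fN A a * fN A b := by
  obtain ⟨w, hw⟩ : ∃ w : F, φ w ≠ w := by
    by_contra h
    push Not at h
    exact frob_ne_id hF φ hφ (RingHom.ext h)
  obtain ⟨x, y, hx, hy, rfl⟩ := decomp hF φ hφ hw a
  obtain ⟨x', y', hx', hy', rfl⟩ := decomp hF φ hφ hw b
  have sl := fun (c : F) {l : F} (hl : φ l = l) =>
    fN_semilin hF φ hφ A C hAinj hCadd hCinj hN c hl
  have e : (x + w * y) * (x' + w * y') = 1 * (x * x') + w * (x * y' + x' * y) + w * w * (y * y') := by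
    ring
  have hxx' : φ (x * x') = x * x' := by rw [map_mul, hx, hx']
  have hyy' : φ (y * y') = y * y' := by rw [map_mul, hy, hy']
  have hmix : φ (x * y' + x' * y) = x * y' + x' * y := by
    rw [map_add, map_mul, map_mul, hx, hx', hy, hy']
  have h1x : ∀ {l : F}, φ l = l → ∀ l', φ l' = l' → fN A (l * l') = fN A l * fN A l' := by
    intro l hl l' hl'
    exact sl l hl'
  rw [e, fN_add, fN_add, sl 1 hxx', sl w hmix, sl (w * w) hyy', fN_one A hAinj,
    fN_sq hF φ hφ A C hAinj hCadd hCinj hN, fN_add, fN_add, fN_add, sl w hy, sl w hy',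
    sl x hx', sl y hy', sl x hy', sl x' hy]
  ring

end Main

section Frob

variable {F : Type*} [Field F] [Fintype F] [CharP F 2] (n : ℕ)
  (hF : Fintype.card F = (2 ^ n) ^ 2) (φ : F →+* F) (hφ : ∀ x, φ x = x ^ (2 ^ n))
  (A : F →+ F) (C : F → F)
  (hAinj : ∀ a, A a = 0 → a = 0)
  (hCadd : ∀ s t, φ s = s → φ t = t → C (s + t) = C s + C t)
  (hCK : ∀ s, φ s = s → φ (C s) = C s)
  (hCinj : ∀ s, φ s = s → C s = 0 → s = 0)
  (hN : ∀ a, C (a * φ a) = A a * φ (A a))

include hF hφ hAinj hCadd hCinj hN in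
/-- **Semilinearity.** -/
theorem semilinear_main : ∃ i : Fin (2 * n), (∀ a, A a = A 1 * a ^ (2 ^ i.1)) ∧
    (∀ m, φ m = m → C m = A 1 * φ (A 1) * m ^ (2 ^ i.1)) := by
  have hA1 := A_one_ne_zero' A hAinj
  have h2 : (2 : F) = 0 := CharTwo.two_eq_zero
  have hF' : Fintype.card F = 2 ^ (2 * n) := by rw [hF, ← pow_mul, mul_comm]
  let ρ : F →+* F :=
    { toFun := fN A
      map_one' := fN_one A hAinj
      map_mul' := fN_mul hF φ hφ A C hAinj hCadd hCinj hN
      map_zero' := by unfold fN; rw [map_zero, zero_mul]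
      map_add' := fN_add A }
  obtain ⟨i, hi⟩ := Cfsg.Agent.Helper20.SuzAut.exists_frob (2 * n) hF' h2 ρ
  have hfa : ∀ a, fN A a = a ^ (2 ^ i.1) := hi
  refine ⟨i, ?_, ?_⟩
  · intro a
    rw [← hfa a]
    unfold fN
    field_simp
  · intro m hm
    rw [C_eq' hF φ hφ A C hAinj hCadd hCinj hN hm, ← fN_eq_G, hfa]
    have h3 := hN 1
    rw [map_one, mul_one] at h3
    rw [h3]

end Frob

end Cfsg.Agent.Helper20.HsAut
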