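import Mathlib
import Cfsg.Agent.Lib.Helper17.HeisAut4
import Cfsg.Agent.Lib.Helper20.HsAutA

/-!
# Automorphisms of the Heisenberg-type group `Hs φ` in characteristic two: coordinates
-/

set_option autoImplicit false

namespace Cfsg.Agent.Helper20.HsAut

open Cfsg.Agent.Helper11.Herm Cfsg.Agent.Helper17.HeisAut

section coords

variable {F : Type*} [Field F] [Fintype F] [CharP F 2] {q : ℕ}
  (hF : Fintype.card F = q ^ 2) (φ : F →+* F) (hφ : ∀ x, φ x = x ^ q)
  [hφφ : Fact (∀ x : F, φ (φ x) = x)]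

/-- a lift of `a` -/
noncomputable def lift (a : F) : Hs φ := by
  classical
  exact if h : ∃ x : Hs φ, x.a = a then h.choose else 1

include hF hφ in
theorem lift_a (a : F) : (lift φ a).a = a := by
  classical
  have h := Hs.exists_a φ (frob_ne_id hF φ hφ) a
  unfold lift
  rw [dif_pos h]
  exact h.choose_spec

/-- the central element with second coordinate `s` (if `s` is fixed) -/
noncomputable def zc (s : F) : Hs φ := by
  classical
  exact if h : φ s = s then zK φ s h else 1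

omit [Fintype F] hφφ in
theorem zc_eq {s : F} (h : φ s = s) : zc φ s = zK φ s h := by
  classical
  unfold zc
  rw [dif_pos h]

omit [Fintype F] hφφ in
theorem zc_a (s : F) : (zc φ s).a = 0 := by
  classical
  unfold zc
  split_ifs with h
  · exact zK_a φ s h
  · rfl

omit [Fintype F] hφφ in
theorem zc_s {s : F} (h : φ s = s) : (zc φ s).s = s := by
  rw [zc_eq φ h, zK_s]

omit [Fintype F] hφφ in
theorem eq_zc (x : Hs φ) (h : x.a = 0) : x = zc φ x.s := by
  rw [zc_eq φ (Hs.fixed_of_a_eq_zero φ x h)]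
  exact eq_zK φ x h

include hF hφ in
theorem cen_a (τ : Hs φ ≃* Hs φ) {x : Hs φ} (hx : x.a = 0) : (τ x).a = 0 := by
  have hne := frob_ne_id hF φ hφ
  rw [← Hs.mem_center_iff φ hne] at hx ⊢
  rw [Subgroup.mem_center_iff] at hx ⊢
  intro y
  have h := hx (τ.symm y)
  have h2 := congrArg τ h
  rw [map_mul, map_mul, MulEquiv.apply_symm_apply] at h2
  exact h2

include hF hφ in
theorem a_compat (τ : Hs φ ≃* Hs φ) {x y : Hs φ} (hxy : x.a = y.a) : (τ x).a = (τ y).a := by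
  have h1 : (y⁻¹ * x).a = 0 := by
    rw [Hs.mul_a, Hs.inv_a, hxy]; ring
  have h2 := cen_a hF φ hφ τ h1
  rw [map_mul, map_inv, Hs.mul_a, Hs.inv_a] at h2
  linear_combination h2

/-- the action on the central quotient -/
noncomputable def fA (τ : Hs φ ≃* Hs φ) (a : F) : F := (τ (lift φ a)).a

/-- the action on the centre -/
noncomputable def gC (τ : Hs φ ≃* Hs φ) (s : F) : F := (τ (zc φ s)).s

include hF hφ in
theorem fA_spec (τ : Hs φ ≃* Hs φ) (x : Hs φ) : (τ x).a = fA φ τ x.a :=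
  a_compat hF φ hφ τ (lift_a hF φ hφ x.a).symm

include hF hφ in
theorem fA_add (τ : Hs φ ≃* Hs φ) (a b : F) : fA φ τ (a + b) = fA φ τ a + fA φ τ b := by
  have h : (lift φ (a + b)).a = (lift φ a * lift φ b).a := by
    rw [Hs.mul_a, lift_a hF φ hφ, lift_a hF φ hφ, lift_a hF φ hφ]
  have h2 := a_compat hF φ hφ τ h
  rw [map_mul, Hs.mul_a] at h2
  exact h2

include hF hφ in
theorem fA_mul (τ σ : MulAut (Hs φ)) (a : F) : fA φ (τ * σ) a = fA φ τ (fA φ σ a) := by
  have h : (τ * σ) (lift φ a) = τ (σ (lift φ a)) := rfl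
  have h2 := fA_spec hF φ hφ τ (σ (lift φ a))
  rw [← h] at h2
  exact h2

include hF hφ in
theorem fA_one (a : F) : fA φ (1 : MulAut (Hs φ)) a = a := lift_a hF φ hφ a

include hF hφ in
theorem fA_inv_left (τ : MulAut (Hs φ)) (a : F) : fA φ τ⁻¹ (fA φ τ a) = a := by
  rw [← fA_mul hF φ hφ, inv_mul_cancel, fA_one hF φ hφ]

include hF hφ in
theorem fA_inv_right (τ : MulAut (Hs φ)) (a : F) : fA φ τ (fA φ τ⁻¹ a) = a := by
  rw [← fA_mul hF φ hφ, mul_inv_cancel, fA_one hF φ hφ]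

include hF hφ in
theorem gC_spec (τ : Hs φ ≃* Hs φ) {x : Hs φ} (hx : x.a = 0) : (τ x).s = gC φ τ x.s := by
  unfold gC
  rw [← eq_zc φ x hx]

include hF hφ in
theorem gC_fix (τ : Hs φ ≃* Hs φ) (s : F) : φ (gC φ τ s) = gC φ τ s :=
  Hs.fixed_of_a_eq_zero φ _ (cen_a hF φ hφ τ (zc_a φ s))

include hF hφ in
theorem tau_zc (τ : Hs φ ≃* Hs φ) (s : F) : τ (zc φ s) = zc φ (gC φ τ s) :=
  eq_zc φ _ (cen_a hF φ hφ τ (zc_a φ s))

include hF hφ in
theorem gC_add (τ : Hs φ ≃* Hs φ) {s t : F} (hs : φ s = s) (ht : φ t = t) :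
    gC φ τ (s + t) = gC φ τ s + gC φ τ t := by
  have hst : φ (s + t) = s + t := by rw [map_add, hs, ht]
  have hmul : zc φ (s + t) = zc φ s * zc φ t := by
    ext
    · rw [Hs.mul_a, zc_a, zc_a, zc_a, add_zero]
    · rw [Hs.mul_s, zc_s φ hst, zc_s φ hs, zc_s φ ht, zc_a, zero_mul, sub_zero]
  unfold gC
  rw [hmul, map_mul, Hs.mul_s, cen_a hF φ hφ τ (zc_a φ t), zero_mul, sub_zero]

include hF hφ in
theorem gC_mul (τ σ : MulAut (Hs φ)) (s : F) : gC φ (τ * σ) s = gC φ τ (gC φ σ s) := by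
  have h : (τ * σ) (zc φ s) = τ (σ (zc φ s)) := rfl
  show ((τ * σ) (zc φ s)).s = (τ (zc φ (gC φ σ s))).s
  rw [h, tau_zc hF φ hφ σ]

omit [Fintype F] in
theorem gC_one {s : F} (hs : φ s = s) : gC φ (1 : MulAut (Hs φ)) s = s := zc_s φ hs

include hF hφ in
theorem gC_inv_left (τ : MulAut (Hs φ)) {s : F} (hs : φ s = s) :
    gC φ τ⁻¹ (gC φ τ s) = s := by
  rw [← gC_mul hF φ hφ, inv_mul_cancel, gC_one φ hs]

include hF hφ in
theorem gC_norm (τ : Hs φ ≃* Hs φ) (a : F) :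
    gC φ τ (a * φ a) = fA φ τ a * φ (fA φ τ a) := by
  have h1 : (lift φ a * lift φ a).a = 0 := by
    rw [Hs.mul_a, lift_a hF φ hφ, add_self']
  have h2 : (lift φ a * lift φ a).s = a * φ a := by
    rw [Hs.mul_s, lift_a hF φ hφ, add_self', zero_sub]
    have := add_self' (a * φ a)
    linear_combination -this
  have h3 := gC_spec hF φ hφ τ h1
  rw [h2, map_mul, Hs.mul_s, add_self', zero_sub, fA_spec hF φ hφ, lift_a hF φ hφ] at h3
  rw [← h3]
  have := add_self' (fA φ τ a * φ (fA φ τ a))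
  linear_combination -this

end coords

section semi

variable {F : Type*} [Field F] [Fintype F] [CharP F 2] (n : ℕ)
  (hF : Fintype.card F = (2 ^ n) ^ 2) (φ : F →+* F) (hφ : ∀ x, φ x = x ^ (2 ^ n))
  [hφφ : Fact (∀ x : F, φ (φ x) = x)]

include hF hφ in
/-- every automorphism is semilinear modulo the centre -/
theorem exists_semilinear (τ : MulAut (Hs φ)) : ∃ i : Fin (2 * n),
    (∀ a, fA φ τ a = fA φ τ 1 * a ^ (2 ^ i.1)) ∧
    (∀ m, φ m = m → gC φ τ m = fA φ τ 1 * φ (fA φ τ 1) * m ^ (2 ^ i.1)) := by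
  let A : F →+ F := AddMonoidHom.mk' (fA φ τ) (fA_add hF φ hφ τ)
  have hA : ∀ a, A a = fA φ τ a := fun a => rfl
  have hAinj : ∀ a, A a = 0 → a = 0 := by
    intro a ha
    rw [hA] at ha
    have h := fA_inv_left hF φ hφ τ a
    rw [ha] at h
    rw [← h]
    have h0 := fA_add hF φ hφ τ⁻¹ 0 0
    rw [add_zero] at h0
    exact left_eq_add.mp h0
  have hCinj : ∀ s, φ s = s → gC φ τ s = 0 → s = 0 := by
    intro s hs h
    have h1 := gC_inv_left hF φ hφ τ hs
    rw [h] at h1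
    rw [← h1]
    have h0 := gC_add hF φ hφ τ⁻¹ (map_zero φ) (map_zero φ)
    rw [add_zero] at h0
    exact left_eq_add.mp h0
  exact semilinear_main n hF φ hφ A (gC φ τ) hAinj
    (fun s t hs ht => gC_add hF φ hφ τ hs ht) hCinj (fun a => gC_norm hF φ hφ τ a)

include hF hφ in
theorem fA_one_ne_zero (τ : MulAut (Hs φ)) : fA φ τ 1 ≠ 0 := by
  intro h
  have h1 := fA_inv_left hF φ hφ τ 1
  rw [h] at h1
  have h0 := fA_add hF φ hφ τ⁻¹ 0 0
  rw [add_zero] at h0
  have : fA φ τ⁻¹ 0 = 0 := left_eq_add.mp h0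
  rw [this] at h1
  exact zero_ne_one h1

end semi

end Cfsg.Agent.Helper20.HsAut
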