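import Mathlib

/-!
# Counting additive maps between elementary abelian 2-groups
-/

set_option autoImplicit false

namespace Cfsg.Agent.Helper20.HsAut

theorem card_addHom_two {V W : Type*} [AddCommGroup V] [AddCommGroup W] [Finite V] [Finite W]
    (hV : ∀ v : V, 2 • v = 0) (hW : ∀ w : W, 2 • w = 0) (d : ℕ) (hd : Nat.card V = 2 ^ d) :
    Nat.card (V →+ W) = Nat.card W ^ d := by
  classical
  letI := AddCommGroup.zmodModule hV
  letI := AddCommGroup.zmodModule hW
  haveI : Fintype V := Fintype.ofFinite V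
  haveI : Fintype W := Fintype.ofFinite W
  haveI : Module.Finite (ZMod 2) V := Module.Finite.of_finite
  have hfr : Module.finrank (ZMod 2) V = d := by
    have h := Module.card_eq_pow_finrank (K := ZMod 2) (V := V)
    rw [← Nat.card_eq_fintype_card, hd, ZMod.card] at h
    exact (Nat.pow_right_injective (le_refl 2) h).symm
  let b := Module.finBasis (ZMod 2) V
  have e1 : (V →+ W) ≃ (V →ₗ[ZMod 2] W) := (AddMonoidHom.toZModLinearMapEquiv 2).toEquiv
  have e2 : (Fin (Module.finrank (ZMod 2) V) → W) ≃ (V →ₗ[ZMod 2] W) :=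
    (b.constr ℕ).toEquiv
  rw [Nat.card_congr e1, ← Nat.card_congr e2, Nat.card_fun, Nat.card_fin, hfr]

end Cfsg.Agent.Helper20.HsAut
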