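import Mathlib
import Cfsg.Agent.Lib.Helper20.HsAutB
import Cfsg.Agent.Lib.Helper20.HsAutC0

/-!
# Automorphisms of the Heisenberg-type group `Hs φ`: the kernel of the action on the central
quotient
-/

set_option autoImplicit false

namespace Cfsg.Agent.Helper20.HsAut

open Cfsg.Agent.Helper11.Herm Cfsg.Agent.Helper17.HeisAut

section ker

variable {F : Type*} [Field F] [Fintype F] [CharP F 2] {q : ℕ}
  (hF : Fintype.card F = q ^ 2) (φ : F →+* F) (hφ : ∀ x, φ x = x ^ q)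
  [hφφ : Fact (∀ x : F, φ (φ x) = x)]

/-- the induced permutation of the central quotient -/
noncomputable def psi : MulAut (Hs φ) →* Equiv.Perm F where
  toFun τ := ⟨fA φ τ, fA φ τ⁻¹, fA_inv_left hF φ hφ τ, fA_inv_right hF φ hφ τ⟩
  map_one' := Equiv.ext (fA_one hF φ hφ)
  map_mul' τ σ := Equiv.ext (fA_mul hF φ hφ τ σ)

theorem psi_apply (τ : MulAut (Hs φ)) (a : F) : psi hF φ hφ τ a = fA φ τ a := rfl

theorem mem_ker_iff (τ : MulAut (Hs φ)) : τ ∈ (psi hF φ hφ).ker ↔ ∀ a, fA φ τ a = a := by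
  rw [MonoidHom.mem_ker]
  constructor
  · intro h a
    rw [← psi_apply hF φ hφ, h]
    rfl
  · intro h
    apply Equiv.ext
    intro a
    rw [psi_apply, h]
    rfl

theorem ker_a (τ : MulAut (Hs φ)) (hτ : τ ∈ (psi hF φ hφ).ker) (x : Hs φ) : (τ x).a = x.a := by
  rw [fA_spec hF φ hφ, (mem_ker_iff hF φ hφ τ).1 hτ]

theorem ker_gC (τ : MulAut (Hs φ)) (hτ : τ ∈ (psi hF φ hφ).ker) {s : F} (hs : φ s = s) :
    gC φ τ s = s := by
  rw [mem_ker_iff] at hτ
  have hsurj : Function.Surjective (fun x : F => x * x) :=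
    Finite.surjective_of_injective (fun x y h => sq_inj' h)
  obtain ⟨l, hl⟩ := hsurj s
  simp only at hl
  have hlK : φ l = l := by
    apply sq_inj'
    rw [← map_mul, hl, hs]
  have h := gC_norm hF φ hφ τ l
  rw [hτ, hlK, hl] at h
  exact h

/-- the difference of the second coordinates -/
def dS (τ : MulAut (Hs φ)) (x : Hs φ) : F := (τ x).s + x.s

theorem dS_mul (τ : MulAut (Hs φ)) (hτ : τ ∈ (psi hF φ hφ).ker) (x y : Hs φ) :
    dS φ τ (x * y) = dS φ τ x + dS φ τ y := by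
  unfold dS
  rw [map_mul, Hs.mul_s, Hs.mul_s, ker_a hF φ hφ τ hτ, ker_a hF φ hφ τ hτ]
  have := add_self' (y.a * φ x.a)
  linear_combination -this

theorem dS_fix (τ : MulAut (Hs φ)) (hτ : τ ∈ (psi hF φ hφ).ker) (x : Hs φ) :
    φ (dS φ τ x) = dS φ τ x := by
  unfold dS
  have h1 := (τ x).h
  have h2 := x.h
  rw [ker_a hF φ hφ τ hτ] at h1
  rw [map_add]
  have h3 := add_self' ((τ x).s + x.s)
  have h4 := add_self' (x.a * φ x.a)
  linear_combination h1 + h2 - h3 - h4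

theorem dS_center (τ : MulAut (Hs φ)) (hτ : τ ∈ (psi hF φ hφ).ker) {x : Hs φ} (hx : x.a = 0) :
    dS φ τ x = 0 := by
  unfold dS
  rw [gC_spec hF φ hφ τ hx, ker_gC hF φ hφ τ hτ (Hs.fixed_of_a_eq_zero φ x hx)]
  exact add_self' _

theorem dS_compat (τ : MulAut (Hs φ)) (hτ : τ ∈ (psi hF φ hφ).ker) {x y : Hs φ}
    (hxy : x.a = y.a) : dS φ τ x = dS φ τ y := by
  have h1 : (y⁻¹ * x).a = 0 := by
    rw [Hs.mul_a, Hs.inv_a, hxy]; ring
  have h2 : x = y * (y⁻¹ * x) := by group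
  rw [h2, dS_mul hF φ hφ τ hτ, dS_center hF φ hφ τ hτ h1, add_zero]

/-- the additive map attached to an element of the kernel -/
noncomputable def hK (τ : MulAut (Hs φ)) (hτ : τ ∈ (psi hF φ hφ).ker) : F →+ fixK φ :=
  AddMonoidHom.mk' (fun a => ⟨dS φ τ (lift φ a), dS_fix hF φ hφ τ hτ _⟩) (by
    intro a b
    apply Subtype.ext
    show dS φ τ (lift φ (a + b)) = dS φ τ (lift φ a) + dS φ τ (lift φ b)
    rw [← dS_mul hF φ hφ τ hτ]
    apply dS_compat hF φ hφ τ hτ
    rw [Hs.mul_a, lift_a hF φ hφ, lift_a hF φ hφ, lift_a hF φ hφ])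

theorem hK_apply (τ : MulAut (Hs φ)) (hτ : τ ∈ (psi hF φ hφ).ker) (a : F) :
    ((hK hF φ hφ τ hτ a : fixK φ) : F) = dS φ τ (lift φ a) := rfl

theorem ker_s (τ : MulAut (Hs φ)) (hτ : τ ∈ (psi hF φ hφ).ker) (x : Hs φ) :
    (τ x).s = x.s + (hK hF φ hφ τ hτ x.a : fixK φ) := by
  rw [hK_apply, ← dS_compat hF φ hφ τ hτ (x := x) (lift_a hF φ hφ x.a).symm]
  unfold dS
  have := add_self' x.s
  linear_combination -this

/-- central automorphisms -/
def centralAut (h : F →+ fixK φ) : MulAut (Hs φ) where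
  toFun x := ⟨x.a, x.s + (h x.a : fixK φ), by
    have h1 := x.h
    have h2 : φ ((h x.a : fixK φ) : F) = (h x.a : fixK φ) := (h x.a).2
    rw [map_add, h2]
    have h3 := add_self' ((h x.a : fixK φ) : F)
    linear_combination h1 + h3⟩
  invFun x := ⟨x.a, x.s + (h x.a : fixK φ), by
    have h1 := x.h
    have h2 : φ ((h x.a : fixK φ) : F) = (h x.a : fixK φ) := (h x.a).2
    rw [map_add, h2]
    have h3 := add_self' ((h x.a : fixK φ) : F)
    linear_combination h1 + h3⟩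
  left_inv x := by
    ext
    · rfl
    · show x.s + (h x.a : fixK φ) + (h x.a : fixK φ) = x.s
      have h3 := add_self' ((h x.a : fixK φ) : F)
      linear_combination h3
  right_inv x := by
    ext
    · rfl
    · show x.s + (h x.a : fixK φ) + (h x.a : fixK φ) = x.s
      have h3 := add_self' ((h x.a : fixK φ) : F)
      linear_combination h3
  map_mul' x y := by
    ext
    · rfl
    · show (x * y).s + (h (x * y).a : fixK φ)
        = (x.s + (h x.a : fixK φ)) + (y.s + (h y.a : fixK φ)) - y.a * φ x.a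
      rw [Hs.mul_s, Hs.mul_a, map_add, AddSubgroup.coe_add]
      ring

omit [Fintype F] in
theorem centralAut_a (h : F →+ fixK φ) (x : Hs φ) : (centralAut φ h x).a = x.a := rfl

omit [Fintype F] in
theorem centralAut_s (h : F →+ fixK φ) (x : Hs φ) :
    (centralAut φ h x).s = x.s + (h x.a : fixK φ) := rfl

theorem centralAut_mem (h : F →+ fixK φ) : centralAut φ h ∈ (psi hF φ hφ).ker := by
  rw [mem_ker_iff]
  intro a
  unfold fA
  rw [centralAut_a, lift_a hF φ hφ]

/-- the kernel is parametrized by the additive maps into the fixed field -/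
noncomputable def kerEquiv : (psi hF φ hφ).ker ≃ (F →+ fixK φ) where
  toFun τ := hK hF φ hφ τ.1 τ.2
  invFun h := ⟨centralAut φ h, centralAut_mem hF φ hφ h⟩
  left_inv τ := by
    apply Subtype.ext
    apply MulEquiv.ext
    intro x
    ext
    · show (centralAut φ _ x).a = (τ.1 x).a
      rw [centralAut_a, ker_a hF φ hφ τ.1 τ.2]
    · show (centralAut φ _ x).s = (τ.1 x).s
      rw [centralAut_s, ker_s hF φ hφ τ.1 τ.2]
  right_inv h := by
    apply AddMonoidHom.ext
    intro a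
    apply Subtype.ext
    rw [hK_apply]
    unfold dS
    rw [centralAut_s, lift_a hF φ hφ]
    have h3 := add_self' (lift φ a).s
    linear_combination h3

include hF hφ in
theorem card_fixK : Nat.card (fixK φ) = q := by
  rw [← card_fixed hF]
  apply Nat.card_congr
  refine Equiv.subtypeEquivRight (fun c => ?_)
  rw [mem_fixK, hφ]

theorem ker_comm (τ σ : MulAut (Hs φ)) (hτ : τ ∈ (psi hF φ hφ).ker)
    (hσ : σ ∈ (psi hF φ hφ).ker) : τ * σ = σ * τ := by
  apply MulEquiv.ext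
  intro x
  show τ (σ x) = σ (τ x)
  ext
  · rw [ker_a hF φ hφ τ hτ, ker_a hF φ hφ σ hσ, ker_a hF φ hφ σ hσ, ker_a hF φ hφ τ hτ]
  · rw [ker_s hF φ hφ τ hτ, ker_s hF φ hφ σ hσ, ker_s hF φ hφ σ hσ, ker_s hF φ hφ τ hτ,
      ker_a hF φ hφ τ hτ, ker_a hF φ hφ σ hσ]
    ring

theorem ker_sq (τ : MulAut (Hs φ)) (hτ : τ ∈ (psi hF φ hφ).ker) : τ ^ 2 = 1 := by
  apply MulEquiv.ext
  intro x
  rw [pow_two]
  show τ (τ x) = x
  ext
  · rw [ker_a hF φ hφ τ hτ, ker_a hF φ hφ τ hτ]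
  · rw [ker_s hF φ hφ τ hτ, ker_s hF φ hφ τ hτ, ker_a hF φ hφ τ hτ]
    have h3 := add_self' ((hK hF φ hφ τ hτ x.a : fixK φ) : F)
    linear_combination h3

end ker

section kercard

variable {F : Type*} [Field F] [Fintype F] [CharP F 2] (n : ℕ)
  (hF : Fintype.card F = (2 ^ n) ^ 2) (φ : F →+* F) (hφ : ∀ x, φ x = x ^ (2 ^ n))
  [hφφ : Fact (∀ x : F, φ (φ x) = x)]

include hF hφ in
theorem card_addHom_fixK : Nat.card (F →+ fixK φ) = 2 ^ (2 * n ^ 2) := by
  have hV : ∀ v : F, 2 • v = 0 := by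
    intro v
    rw [two_nsmul]
    exact add_self' v
  have hW : ∀ w : fixK φ, 2 • w = 0 := by
    intro w
    apply Subtype.ext
    rw [two_nsmul]
    exact add_self' (w : F)
  have hd : Nat.card F = 2 ^ (2 * n) := by
    rw [Nat.card_eq_fintype_card, hF, ← pow_mul, mul_comm]
  rw [card_addHom_two hV hW (2 * n) hd, card_fixK hF φ hφ, ← pow_mul]
  congr 1
  ring

theorem card_ker : Nat.card (psi hF φ hφ).ker = 2 ^ (2 * n ^ 2) := by
  rw [Nat.card_congr (kerEquiv hF φ hφ), card_addHom_fixK n hF φ hφ]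

end kercard

end Cfsg.Agent.Helper20.HsAut
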