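import Mathlib
import Cfsg.Prelude.Def_Solvable
import Cfsg.Prelude.Def_Transfer
import Cfsg.Agent.Lib.Helper20.HsAutC

/-!
# Automorphisms of the Heisenberg-type group `Hs φ`: the image of the action on the central
quotient, the order of the automorphism group and its largest normal 2-subgroup
-/

set_option autoImplicit false

namespace Cfsg.Agent.Helper20.HsAut

open Cfsg.Agent.Helper11.Herm Cfsg.Agent.Helper17.HeisAut

section semi

variable {F : Type*} [Field F] [Fintype F] [CharP F 2] {q : ℕ}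
  (hF : Fintype.card F = q ^ 2) (φ : F →+* F) (hφ : ∀ x, φ x = x ^ q)
  [hφφ : Fact (∀ x : F, φ (φ x) = x)]

omit [Fintype F] in
theorem pow_add' (i : ℕ) (x y : F) : (x + y) ^ (2 ^ i) = x ^ (2 ^ i) + y ^ (2 ^ i) := by
  rw [← iterateFrobenius_def, ← iterateFrobenius_def, ← iterateFrobenius_def, map_add]

omit [Fintype F] in
theorem pow_sub' (i : ℕ) (x y : F) : (x - y) ^ (2 ^ i) = x ^ (2 ^ i) - y ^ (2 ^ i) := by
  rw [← iterateFrobenius_def, ← iterateFrobenius_def, ← iterateFrobenius_def, map_sub]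

omit [Fintype F] in
theorem pow_inj' (i : ℕ) {x y : F} (h : x ^ (2 ^ i) = y ^ (2 ^ i)) : x = y := by
  rw [← iterateFrobenius_def, ← iterateFrobenius_def] at h
  exact (iterateFrobenius F 2 i).injective h

/-- the semilinear endomorphisms -/
def semiHom (l : Fˣ) (i : ℕ) : Hs φ →* Hs φ :=
  MonoidHom.mk' (fun x => ⟨(l : F) * x.a ^ (2 ^ i), (l : F) * φ l * x.s ^ (2 ^ i), by
    have h1 := x.h
    have h2 : (x.s + φ x.s + x.a * φ x.a) ^ (2 ^ i) = 0 := by
      rw [h1, zero_pow (by positivity)]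
    rw [pow_add', pow_add', mul_pow] at h2
    simp only [map_mul, map_pow, hφφ.out]
    linear_combination ((l : F) * φ l) * h2⟩) (by
    intro x y
    ext
    · show (l : F) * (x * y).a ^ (2 ^ i) = (l : F) * x.a ^ (2 ^ i) + (l : F) * y.a ^ (2 ^ i)
      rw [Hs.mul_a, pow_add']
      ring
    · show (l : F) * φ l * (x * y).s ^ (2 ^ i)
        = (l : F) * φ l * x.s ^ (2 ^ i) + (l : F) * φ l * y.s ^ (2 ^ i)
          - (l : F) * y.a ^ (2 ^ i) * φ ((l : F) * x.a ^ (2 ^ i))
      rw [Hs.mul_s, pow_sub', pow_add', mul_pow, map_mul, map_pow]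
      ring)

omit [Fintype F] in
theorem semiHom_a (l : Fˣ) (i : ℕ) (x : Hs φ) :
    (semiHom φ l i x).a = (l : F) * x.a ^ (2 ^ i) := rfl

omit [Fintype F] in
theorem semiHom_s (l : Fˣ) (i : ℕ) (x : Hs φ) :
    (semiHom φ l i x).s = (l : F) * φ l * x.s ^ (2 ^ i) := rfl

theorem semiHom_bijective (l : Fˣ) (i : ℕ) : Function.Bijective (semiHom φ l i) := by
  apply Finite.injective_iff_bijective.mp
  intro x y hxy
  have hl : (l : F) * φ l ≠ 0 := mul_ne_zero l.ne_zero ((map_ne_zero φ).2 l.ne_zero)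
  ext
  · have h := congrArg Hs.a hxy
    rw [semiHom_a, semiHom_a] at h
    exact pow_inj' i (mul_left_cancel₀ l.ne_zero h)
  · have h := congrArg Hs.s hxy
    rw [semiHom_s, semiHom_s] at h
    exact pow_inj' i (mul_left_cancel₀ hl h)

/-- the semilinear automorphisms -/
noncomputable def semiAut (l : Fˣ) (i : ℕ) : MulAut (Hs φ) :=
  MulEquiv.ofBijective (semiHom φ l i) (semiHom_bijective φ l i)

theorem semiAut_a (l : Fˣ) (i : ℕ) (x : Hs φ) :
    (semiAut φ l i x).a = (l : F) * x.a ^ (2 ^ i) := rfl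

include hF hφ in
theorem fA_semiAut (l : Fˣ) (i : ℕ) (a : F) : fA φ (semiAut φ l i) a = (l : F) * a ^ (2 ^ i) := by
  unfold fA
  rw [semiAut_a, lift_a hF φ hφ]

end semi

section range

variable {F : Type*} [Field F] [Fintype F] [CharP F 2] (n : ℕ)
  (hF : Fintype.card F = (2 ^ n) ^ 2) (φ : F →+* F) (hφ : ∀ x, φ x = x ^ (2 ^ n))
  [hφφ : Fact (∀ x : F, φ (φ x) = x)]

include hF in
theorem card_eq' : Fintype.card F = 2 ^ (2 * n) := by rw [hF, ← pow_mul, mul_comm]

/-- the image is parametrized by the semilinear maps -/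
noncomputable def rangeEquiv : Fˣ × Fin (2 * n) ≃ (psi hF φ hφ).range := by
  refine Equiv.ofBijective (fun x => ⟨psi hF φ hφ (semiAut φ x.1 x.2.1), ⟨_, rfl⟩⟩) ⟨?_, ?_⟩
  · rintro ⟨l, i⟩ ⟨l', j⟩ h
    have h1 : psi hF φ hφ (semiAut φ l i.1) = psi hF φ hφ (semiAut φ l' j.1) :=
      congrArg Subtype.val h
    have h2 : ∀ a : F, (l : F) * a ^ (2 ^ i.1) = (l' : F) * a ^ (2 ^ j.1) := by
      intro a
      have := congrArg (fun σ : Equiv.Perm F => σ a) h1
      simp only [psi_apply, fA_semiAut hF φ hφ] at this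
      exact this
    have hl : l = l' := by
      apply Units.ext
      have := h2 1
      rwa [one_pow, one_pow, mul_one, mul_one] at this
    subst hl
    have hij : i = j := by
      apply Cfsg.Agent.Helper20.SuzAut.frob_inj (2 * n) (card_eq' n hF) CharTwo.two_eq_zero
      intro x
      exact mul_left_cancel₀ l.ne_zero (h2 x)
    rw [hij]
  · rintro ⟨σ, α, rfl⟩
    obtain ⟨i, hi, -⟩ := exists_semilinear n hF φ hφ α
    refine ⟨⟨Units.mk0 (fA φ α 1) (fA_one_ne_zero n hF φ hφ α), i⟩, ?_⟩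
    apply Subtype.ext
    apply Equiv.ext
    intro a
    show psi hF φ hφ (semiAut φ _ i.1) a = psi hF φ hφ α a
    rw [psi_apply, psi_apply, fA_semiAut hF φ hφ, hi a]
    rfl

theorem card_range :
    Nat.card (psi hF φ hφ).range = ((2 ^ n) ^ 2 - 1) * (2 * n) := by
  classical
  rw [← Nat.card_congr (rangeEquiv n hF φ hφ), Nat.card_prod, Nat.card_eq_fintype_card,
    Nat.card_eq_fintype_card, Fintype.card_fin, Fintype.card_units, hF]

include hF hφ in
/-- the order of the automorphism group -/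
theorem card_mulAut :
    Nat.card (MulAut (Hs φ)) = 2 ^ (2 * n ^ 2) * (2 * n * ((2 ^ n) ^ 2 - 1)) := by
  have h1 := Subgroup.card_mul_index (psi hF φ hφ).ker
  rw [Subgroup.index_ker, card_ker n hF φ hφ, card_range n hF φ hφ] at h1
  rw [← h1, mul_comm (2 * n)]

include hF hφ in
/-- normal 2-subgroups of the automorphism group act trivially on the central quotient -/
theorem le_ker_of_normal (N : Subgroup (MulAut (Hs φ))) [hN : N.Normal] (hp : IsPGroup 2 N) :
    N ≤ (psi hF φ hφ).ker := by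
  haveI : Fact (Nat.Prime 2) := ⟨Nat.prime_two⟩
  letI : MulAction N F := MulAction.compHom F ((psi hF φ hφ).comp N.subtype)
  have hsm : ∀ (ν : N) (a : F), ν • a = fA φ ν.1 a := fun ν a => rfl
  have h2 : 2 ∣ Nat.card F := by
    rw [Nat.card_eq_fintype_card, card_eq' n hF]
    exact dvd_pow_self 2 (by
      intro h0
      have hn : n = 0 := by omega
      have hne := frob_ne_id hF φ hφ
      apply hne
      apply RingHom.ext
      intro x
      rw [hφ, hn, pow_zero, pow_one]
      rfl)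
  have h0 : (0 : F) ∈ MulAction.fixedPoints N F := by
    intro ν
    rw [hsm]
    have h := fA_add hF φ hφ ν.1 0 0
    rw [add_zero] at h
    exact left_eq_add.mp h
  obtain ⟨a₀, ha₀, hne⟩ := hp.exists_fixed_point_of_prime_dvd_card_of_fixed_point F h2 h0
  have ha₀' : ∀ ν : MulAut (Hs φ), ν ∈ N → fA φ ν a₀ = a₀ := by
    intro ν hν
    have := ha₀ ⟨ν, hν⟩
    rwa [hsm] at this
  intro ν hν
  rw [mem_ker_iff]
  intro b
  by_cases hb : b = 0
  · rw [hb]
    have h := fA_add hF φ hφ ν 0 0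
    rw [add_zero] at h
    exact left_eq_add.mp h
  · have ha0 : a₀ ≠ 0 := fun h => hne h.symm
    have ht : b / a₀ ≠ 0 := div_ne_zero hb ha0
    set α : MulAut (Hs φ) := semiAut φ (Units.mk0 (b / a₀) ht) 0 with hα
    have hαa : ∀ a, fA φ α a = b / a₀ * a := by
      intro a
      rw [hα, fA_semiAut hF φ hφ, pow_zero, pow_one]
      rfl
    have hconj : α⁻¹ * ν * α ∈ N := by
      have := hN.conj_mem ν hν α⁻¹
      rwa [inv_inv] at this
    have h1 := ha₀' _ hconj
    have hb' : b = fA φ α a₀ := by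
      rw [hαa]
      field_simp
    have h3 : fA φ (α * (α⁻¹ * ν * α)) a₀ = fA φ (ν * α) a₀ := by
      congr 1
      group
    rw [fA_mul hF φ hφ, h1, fA_mul hF φ hφ, ← hb'] at h3
    exact h3.symm

end range

end Cfsg.Agent.Helper20.HsAut
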