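import Mathlib
import Cfsg.Prelude.Def_Solvable
import Cfsg.Prelude.Def_Transfer
import Cfsg.Agent.Lib.Helper20.HsAutD

/-!
# The automorphism group of the Heisenberg-type group `Hs φ` (Sylow 2-subgroup of `SU_3(2^n)`)
-/

set_option autoImplicit false

namespace Cfsg.Agent.Helper20.HsAut

open Cfsg.Agent.Helper11.Herm Cfsg.Agent.Helper17.HeisAut

section structure'

variable {F : Type*} [Field F] [Fintype F] [CharP F 2] (n : ℕ)
  (hF : Fintype.card F = (2 ^ n) ^ 2) (φ : F →+* F) (hφ : ∀ x, φ x = x ^ (2 ^ n))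
  [hφφ : Fact (∀ x : F, φ (φ x) = x)]

include hF hφ in
theorem pCore_eq_ker : Cfsg.pCore 2 (MulAut (Hs φ)) = (psi hF φ hφ).ker := by
  have hkerP : IsPGroup 2 (psi hF φ hφ).ker := IsPGroup.of_card (card_ker n hF φ hφ)
  apply le_antisymm
  · apply sSup_le
    rintro N ⟨hNn, hNp⟩
    exact le_ker_of_normal n hF φ hφ N hNp
  · exact le_sSup ⟨MonoidHom.normal_ker _, hkerP⟩

include hF hφ in
/-- the structure of the automorphism group -/
theorem aut_structure :
    Cfsg.IsElementaryAbelian 2 (Cfsg.pCore 2 (MulAut (Hs φ))) ∧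
      Nat.card ↥(Cfsg.pCore 2 (MulAut (Hs φ))) = 2 ^ (2 * n ^ 2) ∧
      Nat.card (MulAut (Hs φ)) = 2 ^ (2 * n ^ 2) * (2 * n * ((2 ^ n) ^ 2 - 1)) := by
  rw [pCore_eq_ker n hF φ hφ]
  refine ⟨⟨⟨⟨fun α β => Subtype.ext (ker_comm hF φ hφ α.1 β.1 α.2 β.2)⟩⟩, ?_⟩,
    card_ker n hF φ hφ, card_mulAut n hF φ hφ⟩
  intro α hα
  exact ker_sq hF φ hφ α hα

end structure'

section transport

variable {A B : Type*} [Group A] [Group B]

theorem map_pCore_le (p : ℕ) (E : A ≃* B) :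
    (Cfsg.pCore p A).map E.toMonoidHom ≤ Cfsg.pCore p B := by
  rw [Subgroup.map_le_iff_le_comap]
  unfold Cfsg.pCore
  apply sSup_le
  rintro N ⟨hNn, hN⟩
  rw [← Subgroup.map_le_iff_le_comap]
  apply le_sSup
  exact ⟨hNn.map E.toMonoidHom E.surjective, hN.map E.toMonoidHom⟩

theorem mem_pCore_iff (p : ℕ) (E : A ≃* B) (a : A) :
    E a ∈ Cfsg.pCore p B ↔ a ∈ Cfsg.pCore p A := by
  constructor
  · intro h
    have h1 := map_pCore_le p E.symm (Subgroup.mem_map_of_mem E.symm.toMonoidHom h)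
    simpa using h1
  · intro h
    exact map_pCore_le p E (Subgroup.mem_map_of_mem E.toMonoidHom h)

theorem transport (E : A ≃* B) (x y : ℕ)
    (h : Cfsg.IsElementaryAbelian 2 (Cfsg.pCore 2 B) ∧ Nat.card ↥(Cfsg.pCore 2 B) = x ∧
      Nat.card B = y) :
    Cfsg.IsElementaryAbelian 2 (Cfsg.pCore 2 A) ∧ Nat.card ↥(Cfsg.pCore 2 A) = x ∧
      Nat.card A = y := by
  obtain ⟨⟨hc, he⟩, h2, h3⟩ := h
  refine ⟨⟨⟨⟨fun a b => ?_⟩⟩, ?_⟩, ?_, ?_⟩
  · apply Subtype.ext
    apply E.injective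
    have ha : E a.1 ∈ Cfsg.pCore 2 B := (mem_pCore_iff 2 E a.1).2 a.2
    have hb : E b.1 ∈ Cfsg.pCore 2 B := (mem_pCore_iff 2 E b.1).2 b.2
    have := hc.is_comm.comm ⟨E a.1, ha⟩ ⟨E b.1, hb⟩
    have h' := congrArg Subtype.val this
    simpa using h'
  · intro a ha
    apply E.injective
    rw [map_pow, map_one]
    exact he _ ((mem_pCore_iff 2 E a).2 ha)
  · rw [← h2]
    apply Nat.card_congr
    exact
      { toFun := fun a => ⟨E a.1, (mem_pCore_iff 2 E a.1).2 a.2⟩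
        invFun := fun b => ⟨E.symm b.1, (mem_pCore_iff 2 E _).1 (by simpa using b.2)⟩
        left_inv := fun a => by simp
        right_inv := fun b => by simp }
  · rw [← h3]
    exact Nat.card_congr E.toEquiv

end transport

end Cfsg.Agent.Helper20.HsAut
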