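import Mathlib

set_option autoImplicit false

namespace Cfsg.Agent.Helper20

/-- An involutory endomorphism of a finite group `M` preserving a normal subgroup `Q` with `M ⧸ Q`
a nontrivial `p`-group centralizes or inverts some element of order `p` of `M ⧸ Q`. -/
theorem exists_fixed_or_inverted_mod {M : Type*} [Group M] [Finite M] (p : ℕ) [Fact p.Prime]
    (Q : Subgroup M) [Q.Normal] (hMQ : IsPGroup p (M ⧸ Q)) (hne : Q ≠ ⊤)
    (τ : M →* M) (hτ2 : ∀ m, τ (τ m) = m) (hτQ : ∀ q ∈ Q, τ q ∈ Q) :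
    ∃ x : M, x ∉ Q ∧ x ^ p ∈ Q ∧ (τ x * x⁻¹ ∈ Q ∨ τ x * x ∈ Q) := by
  have hp : p.Prime := Fact.out
  let τbar : M ⧸ Q →* M ⧸ Q := QuotientGroup.map Q Q τ (fun q hq => hτQ q hq)
  have hτbar : ∀ m : M, τbar (m : M ⧸ Q) = ((τ m : M) : M ⧸ Q) := fun m => rfl
  have hinv : Function.Involutive τbar := by
    intro g
    obtain ⟨m, rfl⟩ := QuotientGroup.mk_surjective g
    rw [hτbar, hτbar, hτ2]
  have hnt : Nontrivial (M ⧸ Q) := by
    rw [← not_subsingleton_iff_nontrivial]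
    intro hs
    apply hne
    rw [eq_top_iff]
    intro m _
    rw [← QuotientGroup.eq_one_iff]
    exact Subsingleton.elim _ _
  by_cases hfpf : MonoidHom.FixedPointFree τbar
  · -- τbar is inversion
    have hcoe := hfpf.coe_eq_inv_of_involutive hinv
    have hdvd : p ∣ Nat.card (M ⧸ Q) := by
      obtain ⟨k, hk0, hk⟩ := hMQ.nontrivial_iff_card.mp hnt
      rw [hk]; exact dvd_pow_self p hk0.ne'
    obtain ⟨g, hg⟩ := exists_prime_orderOf_dvd_card' (G := M ⧸ Q) p hdvd
    obtain ⟨x, rfl⟩ := QuotientGroup.mk_surjective g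
    refine ⟨x, ?_, ?_, Or.inr ?_⟩
    · intro hx
      rw [(QuotientGroup.eq_one_iff x).mpr hx, orderOf_one] at hg
      exact hp.one_lt.ne hg
    · rw [← QuotientGroup.eq_one_iff, QuotientGroup.mk_pow, ← hg, pow_orderOf_eq_one]
    · rw [← QuotientGroup.eq_one_iff, QuotientGroup.mk_mul, ← hτbar]
      have := congrFun hcoe (x : M ⧸ Q)
      rw [this, inv_mul_cancel]
  · -- a nontrivial fixed point
    unfold MonoidHom.FixedPointFree at hfpf
    simp only [not_forall] at hfpf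
    obtain ⟨g, hgfix, hg1⟩ := hfpf
    obtain ⟨k, hk⟩ := (IsPGroup.iff_orderOf.mp hMQ) g
    have hk0 : k ≠ 0 := by
      rintro rfl
      rw [pow_zero, orderOf_eq_one_iff] at hk
      exact hg1 hk
    obtain ⟨l, rfl⟩ : ∃ l, k = l + 1 := ⟨k - 1, by omega⟩
    set h := g ^ (p ^ l) with hh
    have hho : orderOf h = p := by
      rw [hh, orderOf_pow' g (pow_ne_zero l hp.ne_zero), hk, Nat.gcd_eq_right (pow_dvd_pow p (Nat.le_succ l)),
        pow_succ, Nat.mul_div_cancel_left _ (pow_pos hp.pos l)]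
    have hhfix : τbar h = h := by rw [hh, map_pow, hgfix]
    obtain ⟨x, hx⟩ := QuotientGroup.mk_surjective h
    refine ⟨x, ?_, ?_, Or.inl ?_⟩
    · intro hxQ
      rw [← hx, (QuotientGroup.eq_one_iff x).mpr hxQ, orderOf_one] at hho
      exact hp.one_lt.ne hho
    · rw [← QuotientGroup.eq_one_iff, QuotientGroup.mk_pow, hx, ← hho, pow_orderOf_eq_one]
    · rw [← QuotientGroup.eq_one_iff, QuotientGroup.mk_mul, ← hτbar, hx, hhfix, QuotientGroup.mk_inv,
        hx, mul_inv_cancel]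

/-- Normalizers grow in `p`-groups (subgroup form). -/
theorem exists_mem_normalizer_not_mem_of_lt {G : Type*} [Group G] {p : ℕ} [Fact p.Prime]
    {Q R : Subgroup G} [Finite R] (hR : IsPGroup p R) (hQR : Q < R) :
    ∃ x ∈ R, x ∈ Subgroup.normalizer (Q : Set G) ∧ x ∉ Q := by
  have hnil : Group.IsNilpotent R := hR.isNilpotent
  have hQ' : Q.subgroupOf R < ⊤ := by
    rw [lt_top_iff_ne_top, Ne, Subgroup.subgroupOf_eq_top]
    exact fun h => hQR.not_ge h
  have hnc : NormalizerCondition R := Group.normalizerCondition_of_isNilpotent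
  obtain ⟨x', hx'N, hx'Q⟩ := SetLike.exists_of_lt (hnc (Q.subgroupOf R) hQ')
  refine ⟨(x' : G), x'.2, ?_, fun h => hx'Q (Subgroup.mem_subgroupOf.mpr h)⟩
  rw [Subgroup.mem_set_normalizer_iff]
  intro h
  rw [Subgroup.mem_set_normalizer_iff] at hx'N
  constructor
  · intro hh
    have hhR : h ∈ R := hQR.le hh
    have := (hx'N ⟨h, hhR⟩).mp (Subgroup.mem_subgroupOf.mpr hh)
    exact Subgroup.mem_subgroupOf.mp this
  · intro hh
    have hR1 : (x' : G) * h * (x' : G)⁻¹ ∈ R := hQR.le hh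
    have hhR : h ∈ R := by
      have : h = (x' : G)⁻¹ * ((x' : G) * h * (x' : G)⁻¹) * (x' : G) := by group
      rw [this]
      exact R.mul_mem (R.mul_mem (R.inv_mem x'.2) hR1) x'.2
    have := (hx'N ⟨h, hhR⟩).mpr (Subgroup.mem_subgroupOf.mpr hh)
    exact Subgroup.mem_subgroupOf.mp this

end Cfsg.Agent.Helper20
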