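import Mathlib
import Cfsg.Prelude.Def_CaseTheorems
import Cfsg.Agent.S0016
import Cfsg.Agent.S0126
import Cfsg.Agent.S0519
import Cfsg.Agent.Lib.Helper16.NormalFourC
import Cfsg.Agent.Lib.Helper15.StronglyEmbedded
import Cfsg.Agent.Lib.Helper20.Basic

set_option autoImplicit false

namespace Cfsg.Agent.Helper20.IrrP

variable {G : Type*} [Group G] [Finite G]

/-- In a `2`-group all of whose abelian subgroups are cyclic there is at most one subgroup of
order `2`. -/
theorem subgroup_card_two_unique (hG : IsPGroup 2 G)
    (hab : ∀ B : Subgroup G, IsMulCommutative B → IsCyclic B) :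
    ∀ H K : Subgroup G, Nat.card H = 2 → Nat.card K = 2 → H = K := by
  classical
  haveI : Fact (Nat.Prime 2) := ⟨Nat.prime_two⟩
  intro H K hH hK
  haveI : Nontrivial G := by
    have : 1 < Nat.card G := lt_of_lt_of_le (by rw [hH]; norm_num) (Subgroup.card_le_card_group H)
    exact Finite.one_lt_card_iff_nontrivial.1 this
  haveI : Nontrivial (Subgroup.center G) := hG.center_nontrivial
  obtain ⟨n, hn0, hn⟩ := (hG.to_subgroup (Subgroup.center G)).nontrivial_iff_card.1 inferInstance
  have h2 : 2 ∣ Nat.card (Subgroup.center G) := by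
    rw [hn]; exact dvd_pow_self 2 (by omega)
  obtain ⟨c, hc⟩ := exists_prime_orderOf_dvd_card' (G := Subgroup.center G) 2 h2
  have hc' : orderOf (c : G) = 2 := by rw [Subgroup.orderOf_coe]; exact hc
  have hcc : ∀ g : G, g * (c : G) = (c : G) * g := fun g => Subgroup.mem_center_iff.1 c.2 g
  -- every element of order two equals `c`
  have key : ∀ a : G, orderOf a = 2 → a = c := by
    intro a ha
    by_contra hac
    have hcomm : ∀ x ∈ ({a, (c : G)} : Set G), ∀ y ∈ ({a, (c : G)} : Set G), x * y = y * x := by
      intro x hx y hy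
      rcases hx with rfl | rfl <;> rcases hy with rfl | rfl
      · rfl
      · exact hcc _
      · exact (hcc _).symm
      · rfl
    have hBc : IsMulCommutative (Subgroup.closure ({a, (c : G)} : Set G)) :=
      Subgroup.isMulCommutative_closure hcomm
    haveI := hab _ hBc
    haveI : Fintype (Subgroup.closure ({a, (c : G)} : Set G)) := Fintype.ofFinite _
    have hle := IsCyclic.card_pow_eq_one_le (α := Subgroup.closure ({a, (c : G)} : Set G))
      (n := 2) (by norm_num)
    have haB : a ∈ Subgroup.closure ({a, (c : G)} : Set G) := Subgroup.subset_closure (by simp)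
    have hcB : (c : G) ∈ Subgroup.closure ({a, (c : G)} : Set G) :=
      Subgroup.subset_closure (by simp)
    have ha2 : a ^ 2 = 1 := by rw [← ha]; exact pow_orderOf_eq_one a
    have hc2 : (c : G) ^ 2 = 1 := by rw [← hc']; exact pow_orderOf_eq_one _
    have ha1 : a ≠ 1 := by
      intro h; rw [h, orderOf_one] at ha; omega
    have hc1 : (c : G) ≠ 1 := by
      intro h; rw [h, orderOf_one] at hc'; omega
    have hsub : ({1, ⟨a, haB⟩, ⟨(c : G), hcB⟩} : Finset (Subgroup.closure ({a, (c : G)} : Set G))) ⊆
        Finset.univ.filter (fun x => x ^ 2 = 1) := by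
      intro x hx
      simp only [Finset.mem_insert, Finset.mem_singleton] at hx
      simp only [Finset.mem_filter, Finset.mem_univ, true_and]
      rcases hx with rfl | rfl | rfl
      · simp
      · exact Subtype.ext ha2
      · exact Subtype.ext hc2
    have hcard3 : ({1, ⟨a, haB⟩, ⟨(c : G), hcB⟩} :
        Finset (Subgroup.closure ({a, (c : G)} : Set G))).card = 3 := by
      rw [Finset.card_insert_of_notMem, Finset.card_insert_of_notMem, Finset.card_singleton]
      · simp only [Finset.mem_singleton]
        intro h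
        exact hac (congrArg Subtype.val h)
      · simp only [Finset.mem_insert, Finset.mem_singleton, not_or]
        constructor
        · intro h
          exact ha1 (congrArg Subtype.val h).symm
        · intro h
          exact hc1 (congrArg Subtype.val h).symm
    have := Finset.card_le_card hsub
    omega
  -- subgroups of order two
  have hsub : ∀ L : Subgroup G, Nat.card L = 2 → L = Subgroup.zpowers (c : G) := by
    intro L hL
    haveI : Nontrivial L := Finite.one_lt_card_iff_nontrivial.1 (by rw [hL]; norm_num)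
    obtain ⟨a, ha⟩ := exists_ne (1 : L)
    have ha2 : a ^ 2 = 1 := by
      rw [← hL]; exact pow_card_eq_one'
    have hao : orderOf (a : G) = 2 := by
      rw [Subgroup.orderOf_coe]
      exact orderOf_eq_prime ha2 ha
    have hac := key a hao
    symm
    apply Subgroup.eq_of_le_of_card_ge
    · rw [Subgroup.zpowers_le, ← hac]; exact a.2
    · rw [Nat.card_zpowers, hc', hL]
  rw [hsub H hH, hsub K hK]

/-- A `p`-group that is not cyclic, generalized quaternion, dihedral or quasi-dihedral has a normal
elementary abelian subgroup of order `p ^ 2`. -/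
theorem exists_normal_sq (p : ℕ) [Fact p.Prime] (hG : IsPGroup p G)
    (hnc : ¬ IsCyclic G) (hnq : ∀ n : ℕ, ¬ Nonempty (G ≃* QuaternionGroup n))
    (hnd : ∀ n : ℕ, ¬ Nonempty (G ≃* DihedralGroup n)) (hnsd : ¬ Cfsg.IsQuasiDihedral G) :
    ∃ E : Subgroup G, E.Normal ∧ Nat.card E = p ^ 2 ∧ ∀ e ∈ E, e ^ p = 1 := by
  by_cases hp2 : p = 2
  · subst hp2
    by_cases hn : ∀ A : Subgroup G, A.Normal → IsMulCommutative A → IsCyclic A
    · exfalso
      by_cases hm : ∃ B : Subgroup G, IsMulCommutative B ∧ ¬ IsCyclic B
      · obtain ⟨-, h | h | h⟩ := Cfsg.Agent.S0519.result 2 hG hn hm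
        · obtain ⟨n, hn'⟩ := h
          exact hnq n hn'
        · obtain ⟨n, -, hn'⟩ := h
          exact hnd n hn'
        · exact hnsd h
      · push Not at hm
        have huniq := subgroup_card_two_unique hG hm
        rcases Cfsg.Agent.S0016.result 2 hG huniq with h | ⟨-, n, hn'⟩
        · exact hnc h
        · exact hnq _ hn'
    · push Not at hn
      obtain ⟨N, hNn, hNc, hNnc⟩ := hn
      haveI := hNn
      have hNc' : ∀ x ∈ N, ∀ y ∈ N, x * y = y * x := by
        intro x hx y hy
        have := hNc.is_comm.comm ⟨x, hx⟩ ⟨y, hy⟩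
        exact congrArg Subtype.val this
      obtain ⟨U, hUn, hU4, hU2⟩ := Cfsg.Agent.Helper16.NormalFour.noncyclic_case hG N hNc' hNnc
      exact ⟨U, hUn, by rw [hU4]; norm_num, hU2⟩
  · obtain ⟨A, hAn, ⟨-, hAe⟩, hAcard⟩ := Cfsg.Agent.S0126.result hp2 hG hnc
    exact ⟨A, hAn, hAcard, hAe⟩

end Cfsg.Agent.Helper20.IrrP
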