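import Mathlib
import Cfsg.Agent.Lib.Helper15.StronglyEmbedded
import Cfsg.Agent.Lib.Helper20.Basic

set_option autoImplicit false

namespace Cfsg.Agent.Helper20.IrrP

variable {G : Type*} [Group G] [Finite G]

/-- Structure of a non-central normal subgroup of order `p ^ 2` and exponent `p` in a `p`-group. -/
theorem exists_pair (p : ℕ) [Fact p.Prime] (hG : IsPGroup p G) (E : Subgroup G) [hEn : E.Normal]
    (hEcard : Nat.card E = p ^ 2) (hEexp : ∀ e ∈ E, e ^ p = 1) (hEc : ¬ E ≤ Subgroup.center G) :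
    ∃ z x : G, z ∈ Subgroup.center G ∧ z ≠ 1 ∧ z ^ p = 1 ∧ x ^ p = 1 ∧ x ∉ Subgroup.center G ∧
      ∀ g : G, ∃ b : ℕ, b < p ∧ g * x * g⁻¹ = x * z ^ b := by
  classical
  have hp : p.Prime := Fact.out
  have hEne : E ≠ ⊥ := by
    intro h
    rw [h, Subgroup.card_bot] at hEcard
    have : 1 < p ^ 2 := Nat.one_lt_pow (by norm_num) hp.one_lt
    omega
  have h1 := Cfsg.Agent.Helper15.normal_inf_center_ne_bot' hG E hEne
  obtain ⟨z, hz, hz1⟩ := (Subgroup.ne_bot_iff_exists_ne_one).1 h1 |> fun ⟨a, ha⟩ =>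
    (⟨a.1, a.2, fun h => ha (Subtype.ext h)⟩ : ∃ z : G, z ∈ E ⊓ Subgroup.center G ∧ z ≠ 1)
  have hzE : z ∈ E := hz.1
  have hzc : z ∈ Subgroup.center G := hz.2
  have hzcomm : ∀ g : G, g * z = z * g := fun g => Subgroup.mem_center_iff.1 hzc g
  have hzp : z ^ p = 1 := hEexp z hzE
  have hzo : orderOf z = p := orderOf_eq_prime hzp hz1
  set N : Subgroup G := Subgroup.zpowers z with hN
  have hNcard : Nat.card N = p := by rw [hN, Nat.card_zpowers, hzo]
  have hNc : N ≤ Subgroup.center G := by
    rw [hN, Subgroup.zpowers_le]; exact hzc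
  haveI hNn : N.Normal := by
    constructor
    intro n hn g
    have := Subgroup.mem_center_iff.1 (hNc hn) g
    rw [this, mul_inv_cancel_right]
    exact hn
  have hNE : N ≤ E := by
    rw [hN, Subgroup.zpowers_le]; exact hzE
  -- the quotient
  have hQ : IsPGroup p (G ⧸ N) := hG.to_quotient N
  set Eb : Subgroup (G ⧸ N) := E.map (QuotientGroup.mk' N) with hEb
  haveI hEbn : Eb.Normal := hEn.map (QuotientGroup.mk' N) (QuotientGroup.mk'_surjective N)
  have hEbne : Eb ≠ ⊥ := by
    intro h
    have hle : E ≤ N := by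
      intro e he
      have : QuotientGroup.mk' N e ∈ Eb := Subgroup.mem_map_of_mem _ he
      rw [h, Subgroup.mem_bot] at this
      exact (QuotientGroup.eq_one_iff e).1 this
    have := Subgroup.card_le_of_le hle
    rw [hEcard, hNcard] at this
    have : p < p ^ 2 := by
      rw [pow_two]; exact lt_mul_of_one_lt_left hp.pos hp.one_lt
    omega
  have h2 := Cfsg.Agent.Helper15.normal_inf_center_ne_bot' hQ Eb hEbne
  obtain ⟨yb, hyb, hyb1⟩ := (Subgroup.ne_bot_iff_exists_ne_one).1 h2 |> fun ⟨a, ha⟩ =>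
    (⟨a.1, a.2, fun h => ha (Subtype.ext h)⟩ :
      ∃ yb : G ⧸ N, yb ∈ Eb ⊓ Subgroup.center (G ⧸ N) ∧ yb ≠ 1)
  obtain ⟨y, hyE, rfl⟩ := Subgroup.mem_map.1 hyb.1
  have hyc := hyb.2
  have hyN : y ∉ N := by
    intro h
    apply hyb1
    exact (QuotientGroup.eq_one_iff y).2 h
  have hcomm : ∀ g : G, g * y * g⁻¹ * y⁻¹ ∈ N := by
    intro g
    rw [← QuotientGroup.eq_one_iff]
    have := Subgroup.mem_center_iff.1 hyc (QuotientGroup.mk' N g)
    have h3 : ((g * y * g⁻¹ * y⁻¹ : G) : G ⧸ N) =
        QuotientGroup.mk' N g * QuotientGroup.mk' N y * (QuotientGroup.mk' N g)⁻¹ *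
          (QuotientGroup.mk' N y)⁻¹ := by
      simp
    rw [h3, this]
    group
  -- E = N ⊔ zpowers y
  have hsup : N ⊔ Subgroup.zpowers y = E := by
    apply Subgroup.eq_of_le_of_card_ge
    · exact sup_le hNE (by rw [Subgroup.zpowers_le]; exact hyE)
    · have hlt : N < N ⊔ Subgroup.zpowers y := by
        apply lt_of_le_of_ne le_sup_left
        intro h
        apply hyN
        rw [h]
        exact (le_sup_right : Subgroup.zpowers y ≤ _) (Subgroup.mem_zpowers y)
      have hclt : Nat.card N < Nat.card (N ⊔ Subgroup.zpowers y : Subgroup G) := by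
        apply lt_of_le_of_ne (Subgroup.card_le_of_le hlt.le)
        intro heq
        exact hlt.ne (Subgroup.eq_of_le_of_card_ge hlt.le heq.ge)
      obtain ⟨k, hk⟩ := (IsPGroup.iff_card (p := p)).1
        (hG.to_subgroup (N ⊔ Subgroup.zpowers y))
      rw [hk, hNcard] at hclt
      rw [hEcard, hk]
      have hk2 : 2 ≤ k := by
        by_contra hlt2
        have : k ≤ 1 := by omega
        have := Nat.pow_le_pow_right hp.pos this
        rw [pow_one] at this
        omega
      exact Nat.pow_le_pow_right hp.pos hk2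
  have hync : y ∉ Subgroup.center G := by
    intro hy
    apply hEc
    rw [← hsup]
    exact sup_le hNc (by rw [Subgroup.zpowers_le]; exact hy)
  refine ⟨z, y, hzc, hz1, hzp, hEexp y hyE, hync, ?_⟩
  intro g
  have h4 := hcomm g
  rw [hN, mem_zpowers_iff_mem_range_orderOf, hzo] at h4
  obtain ⟨b, hb, hbz⟩ := Finset.mem_image.1 h4
  rw [Finset.mem_range] at hb
  refine ⟨b, hb, ?_⟩
  have h5 : z ^ b = g * y * g⁻¹ * y⁻¹ := hbz
  have h6 : y * z ^ b = z ^ b * y := by
    have := Subgroup.mem_center_iff.1 (Subgroup.pow_mem _ hzc b) y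
    exact this
  rw [h6, h5]
  group

/-- The centralizer of the non-central element of `exists_pair` has index `p`. -/
theorem index_centralizer (p : ℕ) [Fact p.Prime] (hG : IsPGroup p G) (z x : G)
    (hx : x ∉ Subgroup.center G) (hconj : ∀ g : G, ∃ b : ℕ, b < p ∧ g * x * g⁻¹ = x * z ^ b) :
    (Subgroup.centralizer ({x} : Set G)).index = p := by
  classical
  have hp : p.Prime := Fact.out
  obtain ⟨k, hk⟩ := hG.index (Subgroup.centralizer ({x} : Set G))
  have hne1 : (Subgroup.centralizer ({x} : Set G)).index ≠ 1 := by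
    intro h
    rw [Subgroup.index_eq_one] at h
    apply hx
    rw [Subgroup.mem_center_iff]
    intro g
    have : g ∈ Subgroup.centralizer ({x} : Set G) := by rw [h]; trivial
    have := Subgroup.mem_centralizer_iff.1 this x (Set.mem_singleton x)
    exact this.symm
  have hle : (Subgroup.centralizer ({x} : Set G)).index ≤ p := by
    rw [← ncard_isConj_eq_index]
    have hsub : {h : G | IsConj x h} ⊆ ((Finset.range p).image (fun b => x * z ^ b) : Finset G) := by
      intro h hh
      obtain ⟨c, hc⟩ := isConj_iff.1 hh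
      obtain ⟨b, hb, hbx⟩ := hconj c
      simp only [Finset.coe_image, Finset.coe_range, Set.mem_image, Set.mem_Iio]
      exact ⟨b, hb, by rw [← hbx, hc]⟩
    calc {h : G | IsConj x h}.ncard
        ≤ (((Finset.range p).image (fun b => x * z ^ b) : Finset G) : Set G).ncard :=
          Set.ncard_le_ncard hsub (Finset.finite_toSet _)
      _ = ((Finset.range p).image (fun b => x * z ^ b)).card := Set.ncard_coe_finset _
      _ ≤ (Finset.range p).card := Finset.card_image_le
      _ = p := Finset.card_range p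
  rw [hk] at hne1 hle ⊢
  have hk0 : k ≠ 0 := by
    rintro rfl
    exact hne1 (pow_zero p)
  have hk1 : k ≤ 1 := by
    by_contra hlt
    have h2 : 2 ≤ k := by omega
    have := Nat.pow_le_pow_right hp.pos h2
    have : p < p ^ 2 := by
      rw [pow_two]; exact lt_mul_of_one_lt_left hp.pos hp.one_lt
    omega
  have : k = 1 := by omega
  rw [this, pow_one]

end Cfsg.Agent.Helper20.IrrP
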