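import Mathlib

set_option autoImplicit false

namespace Cfsg.Agent.Helper20.IrrP

open Finset

variable {q : ℕ} [Fact q.Prime] {V : Type*} [AddCommGroup V] [Module (ZMod q) V]
  {G : Type*} [Group G] (ρ : G →* (V ≃ₗ[ZMod q] V))

/-- The submodule of vectors fixed by `a`. -/
def fixedSub (a : G) : Submodule (ZMod q) V where
  carrier := {v | ρ a v = v}
  add_mem' := by
    intro u v hu hv
    simp only [Set.mem_ofPred_eq] at *
    rw [map_add, hu, hv]
  zero_mem' := by simp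
  smul_mem' := by
    intro c v hv
    simp only [Set.mem_ofPred_eq] at *
    rw [map_smul, hv]

theorem mem_fixedSub (a : G) (v : V) : v ∈ fixedSub ρ a ↔ ρ a v = v := Iff.rfl

theorem rho_mul_apply (a b : G) (v : V) : ρ (a * b) v = ρ a (ρ b v) := by
  rw [map_mul]; rfl

theorem rho_pow_fixed (a : G) (v : V) (h : ρ a v = v) (j : ℕ) : ρ (a ^ j) v = v := by
  induction j with
  | zero => rw [pow_zero, map_one]; rfl
  | succ n ih => rw [pow_succ, rho_mul_apply, h, ih]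

/-- The fixed submodule of a nontrivial central element is trivial. -/
theorem fixedSub_eq_bot (hρ : Function.Injective ρ)
    (hirr : ∀ W : Submodule (ZMod q) V, (∀ g : G, ∀ w ∈ W, ρ g w ∈ W) → W = ⊥ ∨ W = ⊤)
    (c : G) (hc : c ∈ Subgroup.center G) (hc1 : c ≠ 1) : fixedSub ρ c = ⊥ := by
  have hinv : ∀ g : G, ∀ w ∈ fixedSub ρ c, ρ g w ∈ fixedSub ρ c := by
    intro g w hw
    rw [mem_fixedSub] at hw ⊢
    rw [← rho_mul_apply, ← Subgroup.mem_center_iff.1 hc g, rho_mul_apply, hw]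
  rcases hirr _ hinv with h | h
  · exact h
  · exfalso
    apply hc1
    apply hρ
    rw [map_one]
    ext v
    have : v ∈ fixedSub ρ c := by rw [h]; trivial
    exact this

theorem shift (p : ℕ) (a : G) (ha : a ^ p = 1) (v : V) :
    ρ a (∑ j ∈ range p, ρ (a ^ j) v) = ∑ j ∈ range p, ρ (a ^ j) v := by
  rw [map_sum]
  have h1 : ∀ j, ρ a (ρ (a ^ j) v) = ρ (a ^ (j + 1)) v := by
    intro j
    rw [← rho_mul_apply, ← pow_succ']
  simp only [h1]
  have h2 := Finset.sum_range_succ' (fun j => ρ (a ^ j) v) p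
  have h3 := Finset.sum_range_succ (fun j => ρ (a ^ j) v) p
  rw [h3] at h2
  simp only [ha, pow_zero] at h2
  exact (add_right_cancel h2).symm

theorem sum_central_eq_zero (hρ : Function.Injective ρ)
    (hirr : ∀ W : Submodule (ZMod q) V, (∀ g : G, ∀ w ∈ W, ρ g w ∈ W) → W = ⊥ ∨ W = ⊤)
    (p : ℕ) (c : G) (hc : c ∈ Subgroup.center G) (hc1 : c ≠ 1) (hcp : c ^ p = 1) (v : V) :
    ∑ j ∈ range p, ρ (c ^ j) v = 0 := by
  have h1 : (∑ j ∈ range p, ρ (c ^ j) v) ∈ fixedSub ρ c := shift ρ p c hcp v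
  rw [fixedSub_eq_bot ρ hρ hirr c hc hc1, Submodule.mem_bot] at h1
  exact h1

/-- The averaging operator along `x * z ^ k`. -/
noncomputable def T (p : ℕ) (x z : G) (k : ℕ) : V →ₗ[ZMod q] V :=
  ∑ j ∈ range p, ((ρ ((x * z ^ k) ^ j) : V ≃ₗ[ZMod q] V) : V →ₗ[ZMod q] V)

theorem T_apply (p : ℕ) (x z : G) (k : ℕ) (v : V) :
    T ρ p x z k v = ∑ j ∈ range p, ρ ((x * z ^ k) ^ j) v := by
  unfold T
  rw [LinearMap.sum_apply]
  rfl

theorem sum_T (hρ : Function.Injective ρ)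
    (hirr : ∀ W : Submodule (ZMod q) V, (∀ g : G, ∀ w ∈ W, ρ g w ∈ W) → W = ⊥ ∨ W = ⊤)
    (p : ℕ) (hp0 : 0 < p) (x z : G) (hz : z ∈ Subgroup.center G) (hzo : orderOf z = p) (v : V) :
    ∑ k ∈ range p, T ρ p x z k v = p • v := by
  have hzp : z ^ p = 1 := by rw [← hzo]; exact pow_orderOf_eq_one z
  have hcomm : ∀ k : ℕ, Commute x (z ^ k) := by
    intro k
    exact (Subgroup.mem_center_iff.1 (Subgroup.pow_mem _ hz k) x)
  simp only [T_apply]
  rw [Finset.sum_comm]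
  have hterm : ∀ j ∈ range p, ∑ k ∈ range p, ρ ((x * z ^ k) ^ j) v = if j = 0 then p • v else 0 := by
    intro j hj
    rw [Finset.mem_range] at hj
    have h1 : ∀ k, ρ ((x * z ^ k) ^ j) v = ρ (x ^ j) (ρ ((z ^ j) ^ k) v) := by
      intro k
      rw [← rho_mul_apply, (hcomm k).mul_pow, ← pow_mul, ← pow_mul, mul_comm k j]
    simp only [h1]
    rw [← map_sum]
    by_cases hj0 : j = 0
    · subst hj0
      simp
    · rw [if_neg hj0]
      have hzj1 : z ^ j ≠ 1 := by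
        apply pow_ne_one_of_lt_orderOf hj0
        rw [hzo]; exact hj
      have hzjp : (z ^ j) ^ p = 1 := by
        rw [← pow_mul, mul_comm, pow_mul, hzp, one_pow]
      rw [sum_central_eq_zero ρ hρ hirr p (z ^ j) (Subgroup.pow_mem _ hz j) hzj1 hzjp v, map_zero]
  rw [Finset.sum_congr rfl hterm, Finset.sum_ite_eq' (range p) 0 (fun _ => p • v)]
  rw [if_pos]
  rw [Finset.mem_range]
  exact hp0

theorem T_mem (p : ℕ) (x z : G) (hz : z ∈ Subgroup.center G) (hxp : x ^ p = 1) (hzp : z ^ p = 1)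
    (k : ℕ) (v : V) : T ρ p x z k v ∈ fixedSub ρ (x * z ^ k) := by
  rw [mem_fixedSub, T_apply]
  apply shift
  have hcomm : Commute x (z ^ k) := (Subgroup.mem_center_iff.1 (Subgroup.pow_mem _ hz k) x)
  rw [hcomm.mul_pow, hxp, ← pow_mul, mul_comm, pow_mul, hzp, one_pow, one_mul]

theorem T_of_mem (p : ℕ) (x z : G) (k : ℕ) (w : V) (hw : w ∈ fixedSub ρ (x * z ^ k)) :
    T ρ p x z k w = p • w := by
  rw [T_apply]
  have : ∀ j ∈ range p, ρ ((x * z ^ k) ^ j) w = w := fun j _ => rho_pow_fixed ρ _ w hw j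
  rw [Finset.sum_congr rfl this, Finset.sum_const, Finset.card_range]

theorem T_of_mem_ne (hρ : Function.Injective ρ)
    (hirr : ∀ W : Submodule (ZMod q) V, (∀ g : G, ∀ w ∈ W, ρ g w ∈ W) → W = ⊥ ∨ W = ⊤)
    (p : ℕ) (x z : G) (hz : z ∈ Subgroup.center G) (hzo : orderOf z = p)
    (i k : ℕ) (hi : i < p) (hk : k < p) (hik : i ≠ k) (w : V) (hw : w ∈ fixedSub ρ (x * z ^ i)) :
    T ρ p x z k w = 0 := by
  have hzp : z ^ p = 1 := by rw [← hzo]; exact pow_orderOf_eq_one z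
  set c : G := z ^ k * (z ^ i)⁻¹ with hc
  have hcc : c ∈ Subgroup.center G :=
    Subgroup.mul_mem _ (Subgroup.pow_mem _ hz k) (Subgroup.inv_mem _ (Subgroup.pow_mem _ hz i))
  have hc1 : c ≠ 1 := by
    intro h
    rw [hc, mul_inv_eq_one] at h
    have h2 := pow_injOn_Iio_orderOf (x := z) (by rw [hzo]; exact hk) (by rw [hzo]; exact hi) h
    exact hik h2.symm
  have hcp : c ^ p = 1 := by
    have hcm : Commute (z ^ k) ((z ^ i)⁻¹) := ((Commute.refl z).pow_pow k i).inv_right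
    rw [hc, hcm.mul_pow, inv_pow, ← pow_mul, ← pow_mul, mul_comm k p, mul_comm i p, pow_mul, pow_mul,
      hzp, one_pow, one_pow, inv_one, mul_one]
  have hxk : x * z ^ k = c * (x * z ^ i) := by
    have h1 := Subgroup.mem_center_iff.1 hcc (x * z ^ i)
    rw [← h1, hc]
    group
  rw [T_apply]
  have hterm : ∀ j ∈ range p, ρ ((x * z ^ k) ^ j) w = ρ (c ^ j) w := by
    intro j _
    have hcm : Commute c (x * z ^ i) := (Subgroup.mem_center_iff.1 hcc (x * z ^ i)).symm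
    rw [hxk, hcm.mul_pow, rho_mul_apply, rho_pow_fixed ρ _ w hw j]
  rw [Finset.sum_congr rfl hterm]
  exact sum_central_eq_zero ρ hρ hirr p c hcc hc1 hcp w

/-- `p • v = 0` forces `v = 0` when `p ≠ q`. -/
theorem eq_zero_of_nsmul (p : ℕ) (hp : p.Prime) (hpq : q ≠ p) (v : V) (h : p • v = 0) : v = 0 := by
  rw [← Nat.cast_smul_eq_nsmul (ZMod q)] at h
  have hne : (p : ZMod q) ≠ 0 := by
    intro h0
    rw [ZMod.natCast_eq_zero_iff] at h0
    exact hpq ((Nat.prime_dvd_prime_iff_eq (Fact.out : q.Prime) hp).1 h0)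
  exact (smul_eq_zero.1 h).resolve_left hne

/-- The decomposition of `V` into the fixed spaces of the elements `x * z ^ k`. -/
theorem decomposition (hρ : Function.Injective ρ)
    (hirr : ∀ W : Submodule (ZMod q) V, (∀ g : G, ∀ w ∈ W, ρ g w ∈ W) → W = ⊥ ∨ W = ⊤)
    (p : ℕ) (hp : p.Prime) (hpq : q ≠ p) (x z : G) (hz : z ∈ Subgroup.center G) (hzo : orderOf z = p)
    (hxp : x ^ p = 1) :
    (⨆ k : Fin p, fixedSub ρ (x * z ^ (k : ℕ))) = ⊤ ∧
      iSupIndep (fun k : Fin p => fixedSub ρ (x * z ^ (k : ℕ))) := by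
  have hzp : z ^ p = 1 := by rw [← hzo]; exact pow_orderOf_eq_one z
  constructor
  · rw [eq_top_iff]
    intro v _
    have h1 := sum_T ρ hρ hirr p hp.pos x z hz hzo v
    rw [Finset.sum_range] at h1
    have h2 : p • v ∈ ⨆ k : Fin p, fixedSub ρ (x * z ^ (k : ℕ)) := by
      rw [← h1]
      apply Submodule.sum_mem
      intro k _
      exact (le_iSup (fun k : Fin p => fixedSub ρ (x * z ^ (k : ℕ))) k)
        (T_mem ρ p x z hz hxp hzp k v)
    rw [← Nat.cast_smul_eq_nsmul (ZMod q)] at h2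
    have hne : (p : ZMod q) ≠ 0 := by
      intro h0
      rw [ZMod.natCast_eq_zero_iff] at h0
      exact hpq ((Nat.prime_dvd_prime_iff_eq (Fact.out : q.Prime) hp).1 h0)
    have h3 := Submodule.smul_mem _ ((p : ZMod q)⁻¹) h2
    rw [smul_smul, inv_mul_cancel₀ hne, one_smul] at h3
    exact h3
  · rw [iSupIndep_def]
    intro k
    rw [Submodule.disjoint_def]
    intro v hv hv'
    have hle : (⨆ (j : Fin p) (_ : j ≠ k), fixedSub ρ (x * z ^ (j : ℕ))) ≤
        LinearMap.ker (T ρ p x z (k : ℕ)) := by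
      apply iSup_le
      intro j
      apply iSup_le
      intro hj
      intro w hw
      rw [LinearMap.mem_ker]
      apply T_of_mem_ne ρ hρ hirr p x z hz hzo j k j.2 k.2 _ w hw
      intro h
      exact hj (Fin.ext h)
    have h1 : T ρ p x z (k : ℕ) v = 0 := LinearMap.mem_ker.1 (hle hv')
    rw [T_of_mem ρ p x z k v hv] at h1
    exact eq_zero_of_nsmul p hp hpq v h1

end Cfsg.Agent.Helper20.IrrP
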