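import Mathlib
import Cfsg.Agent.Lib.Helper20.PowSubOne

set_option autoImplicit false

namespace Cfsg.Agent.Helper20.TransVec

variable {q : ℕ} [Fact q.Prime] {V : Type*} [AddCommGroup V] [Module (ZMod q) V]
  {G : Type*} [Group G] (ρ : G →* (V ≃ₗ[ZMod q] V))

/-- The action of `G` on `V` through `ρ`. -/
@[reducible] def act : MulAction G V := MulAction.compHom V ρ

theorem act_smul (g : G) (v : V) : (letI := act ρ; g • v) = ρ g v := rfl

theorem index_stabilizer [Finite V]
    (htrans : ∀ v w : V, v ≠ 0 → w ≠ 0 → ∃ g : G, ρ g v = w) (v : V) (hv : v ≠ 0) :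
    (letI := act ρ; (MulAction.stabilizer G v).index) = Nat.card V - 1 := by
  letI := act ρ
  rw [MulAction.index_stabilizer]
  have horb : MulAction.orbit G v = ({0} : Set V)ᶜ := by
    ext w
    constructor
    · rintro ⟨g, rfl⟩
      simp only [Set.mem_compl_iff, Set.mem_singleton_iff]
      change ρ g v ≠ 0
      intro h
      exact hv ((ρ g).map_eq_zero_iff.1 h)
    · intro hw
      obtain ⟨g, hg⟩ := htrans v w hv (by simpa using hw)
      exact ⟨g, hg⟩
  rw [horb, Set.ncard_compl ({0} : Set V) (Set.finite_singleton 0) (Set.toFinite _), Set.ncard_singleton]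

theorem card_eq [Finite V] [Finite G]
    (htrans : ∀ v w : V, v ≠ 0 → w ≠ 0 → ∃ g : G, ρ g v = w) (v : V) (hv : v ≠ 0) :
    Nat.card G = (Nat.card V - 1) * (letI := act ρ; Nat.card (MulAction.stabilizer G v)) := by
  letI := act ρ
  rw [← index_stabilizer ρ htrans v hv, mul_comm]
  exact (Subgroup.card_mul_index _).symm

theorem three_le_card [Finite V] [Nontrivial G] (hρ : Function.Injective ρ) : 3 ≤ Nat.card V := by
  obtain ⟨g, hg⟩ := exists_ne (1 : G)
  have hne : ρ g ≠ 1 := by
    intro h
    apply hg
    apply hρ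
    rw [h, map_one]
  have : ∃ v, ρ g v ≠ v := by
    by_contra hcon
    push Not at hcon
    apply hne
    ext v
    exact hcon v
  obtain ⟨v, hv⟩ := this
  have hv0 : v ≠ 0 := by
    rintro rfl
    exact hv (map_zero _)
  have hgv0 : ρ g v ≠ 0 := fun h => hv0 ((ρ g).map_eq_zero_iff.1 h)
  classical
  haveI := Fintype.ofFinite V
  have hsub : ({0, v, ρ g v} : Finset V).card = 3 := by
    rw [Finset.card_insert_of_notMem, Finset.card_insert_of_notMem, Finset.card_singleton]
    · simpa using hv.symm
    · simp only [Finset.mem_insert, Finset.mem_singleton, not_or]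
      exact ⟨hv0.symm, hgv0.symm⟩
  rw [Nat.card_eq_fintype_card, ← hsub]
  exact Finset.card_le_univ _

/-- If `V` has exactly `q` elements then every vector is a multiple of a given nonzero vector. -/
theorem exists_smul_eq [Finite V] (hV : Nat.card V = q) (v : V) (hv : v ≠ 0) (w : V) :
    ∃ c : ZMod q, c • v = w := by
  have hinj : Function.Injective (fun c : ZMod q => c • v) := smul_left_injective (ZMod q) hv
  have hcard : Nat.card V ≤ Nat.card (ZMod q) := by
    rw [hV, Nat.card_zmod]
  haveI : Finite (ZMod q) := by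
    haveI : NeZero q := ⟨(Fact.out : q.Prime).ne_zero⟩
    infer_instance
  have hbij := Function.Injective.bijective_of_nat_card_le hinj hcard
  exact hbij.2 w

theorem eq_one_of_fix [Finite V] (hρ : Function.Injective ρ) (hV : Nat.card V = q) (v : V) (hv : v ≠ 0)
    (g : G) (hg : ρ g v = v) : g = 1 := by
  apply hρ
  rw [map_one]
  ext w
  obtain ⟨c, rfl⟩ := exists_smul_eq hV v hv w
  rw [map_smul, hg]
  rfl

theorem card_eq_of_card_V [Finite V] [Finite G] (hρ : Function.Injective ρ)
    (htrans : ∀ v w : V, v ≠ 0 → w ≠ 0 → ∃ g : G, ρ g v = w) (hV : Nat.card V = q) [Nontrivial V] :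
    Nat.card G = q - 1 := by
  obtain ⟨v, hv⟩ := exists_ne (0 : V)
  rw [card_eq ρ htrans v hv, hV]
  letI := act ρ
  have : MulAction.stabilizer G v = ⊥ := by
    rw [eq_bot_iff]
    intro g hg
    rw [Subgroup.mem_bot]
    exact eq_one_of_fix ρ hρ hV v hv g hg
  rw [this, Subgroup.card_bot, mul_one]

theorem isCyclic_of_card_V [Finite V] [Finite G] (hρ : Function.Injective ρ)
    (hV : Nat.card V = q) [Nontrivial V] : IsCyclic G := by
  obtain ⟨v, hv⟩ := exists_ne (0 : V)
  have hinj : Function.Injective (fun c : ZMod q => c • v) := smul_left_injective (ZMod q) hv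
  choose φ hφ using fun g : G => exists_smul_eq hV v hv (ρ g v)
  have hmul : ∀ g h : G, φ (g * h) = φ g * φ h := by
    intro g h
    apply hinj
    change φ (g * h) • v = (φ g * φ h) • v
    rw [hφ, map_mul, LinearEquiv.mul_apply, ← hφ h, map_smul, ← hφ g, smul_smul, mul_comm]
  have hone : φ 1 = 1 := by
    apply hinj
    change φ 1 • v = (1 : ZMod q) • v
    rw [hφ, map_one, one_smul]
    rfl
  let f : G →* ZMod q := { toFun := φ, map_one' := hone, map_mul' := hmul }
  have hf : Function.Injective f := by
    intro g h hgh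
    have h1 : ρ g v = ρ h v := by
      rw [← hφ g, ← hφ h]
      change f g • v = f h • v
      rw [hgh]
    have h2 : ρ (h⁻¹ * g) v = v := by
      rw [map_mul, LinearEquiv.mul_apply, h1, ← LinearEquiv.mul_apply, ← map_mul, inv_mul_cancel, map_one]
      rfl
    have := eq_one_of_fix ρ hρ hV v hv _ h2
    rw [inv_mul_eq_one] at this
    exact this.symm
  exact isCyclic_of_injective_ringHom f hf

/-- the case `q = 2`: a `p`-group acting faithfully on `p + 1` points has order at most `p`. -/
theorem card_le_of_perm [Finite V] [Finite G] (hρ : Function.Injective ρ) (p : ℕ) (hp : p.Prime)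
    (hG : IsPGroup p G) (hV : Nat.card V = p + 1) [Nontrivial G] : Nat.card G = p := by
  haveI : Fact p.Prime := ⟨hp⟩
  obtain ⟨k, hk⟩ := (IsPGroup.iff_card (p := p) (G := G)).1 hG
  have hk0 : k ≠ 0 := by
    rintro rfl
    rw [pow_zero] at hk
    have := Finite.one_lt_card (α := G)
    omega
  -- embed into Perm V
  let f : G →* Equiv.Perm V :=
    { toFun := fun g => (ρ g).toEquiv
      map_one' := by ext v; simp
      map_mul' := by intro g h; ext v; simp }
  have hf : Function.Injective f := by
    intro g h hgh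
    apply hρ
    ext v
    have := congrArg (fun e : Equiv.Perm V => e v) hgh
    exact this
  have hdvd : Nat.card G ∣ Nat.card (Equiv.Perm V) := Subgroup.card_dvd_of_injective f hf
  rw [Nat.card_perm, hV, hk] at hdvd
  have hk1 : k = 1 := by
    by_contra hk1
    have hk2 : 2 ≤ k := by omega
    have h2 : p ^ 2 ∣ (p + 1).factorial := dvd_trans (Nat.pow_dvd_pow p hk2) hdvd
    have hfac : (p + 1).factorial = p * ((p + 1) * (p - 1).factorial) := by
      have hp1 : p - 1 + 1 = p := Nat.sub_add_cancel hp.one_lt.le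
      rw [Nat.factorial_succ]
      nth_rewrite 2 [← hp1]
      rw [Nat.factorial_succ, hp1]
      ring
    rw [hfac, pow_two] at h2
    have h3 : p ∣ (p + 1) * (p - 1).factorial := Nat.dvd_of_mul_dvd_mul_left hp.pos h2
    rcases (Nat.Prime.dvd_mul hp).1 h3 with h4 | h4
    · have : p ∣ 1 := (Nat.dvd_add_right (dvd_refl p)).1 h4
      exact hp.one_lt.ne' (Nat.dvd_one.1 this)
    · have := (Nat.Prime.dvd_factorial hp).1 h4
      have := hp.one_lt
      omega
  rw [hk, hk1, pow_one]

end Cfsg.Agent.Helper20.TransVec
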