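import Mathlib
import Cfsg.Agent.Lib.Helper20.IrrP3
import Cfsg.Agent.Lib.Helper20.TransVec1

set_option autoImplicit false

namespace Cfsg.Agent.Helper20.IrrP

open Finset

variable {q : ℕ} [Fact q.Prime] {V : Type*} [AddCommGroup V] [Module (ZMod q) V]
  {G : Type*} [Group G] (ρ : G →* (V ≃ₗ[ZMod q] V))

/-- A nontrivially acting irreducible `p`-group lives in characteristic different from `p`. -/
theorem char_ne [Finite V] [Nontrivial V] [Finite G] (p : ℕ) [Fact p.Prime] (hG : IsPGroup p G)
    (hρ : Function.Injective ρ)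
    (hirr : ∀ W : Submodule (ZMod q) V, (∀ g : G, ∀ w ∈ W, ρ g w ∈ W) → W = ⊥ ∨ W = ⊤)
    (hnc : ¬ IsCyclic G) : q ≠ p := by
  intro hqp
  haveI : Module.Finite (ZMod q) V := Module.Finite.of_finite
  have hVcard : Nat.card V = q ^ Module.finrank (ZMod q) V := by
    rw [Module.natCard_eq_pow_finrank (K := ZMod q), Nat.card_zmod]
  have hdvd : p ∣ Nat.card V := by
    rw [hVcard, ← hqp]
    apply dvd_pow_self
    intro h0
    rw [h0, pow_zero] at hVcard
    have := Finite.one_lt_card (α := V)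
    omega
  letI := Cfsg.Agent.Helper20.TransVec.act ρ
  have h0 : (0 : V) ∈ MulAction.fixedPoints G V := by
    intro g
    change ρ g 0 = 0
    exact map_zero _
  obtain ⟨b, hb, hb0⟩ := hG.exists_fixed_point_of_prime_dvd_card_of_fixed_point (α := V) hdvd h0
  -- the submodule of fixed vectors
  let W : Submodule (ZMod q) V := ⨅ g : G, fixedSub ρ g
  have hW : ∀ v, v ∈ W ↔ ∀ g : G, ρ g v = v := by
    intro v
    simp only [W, Submodule.mem_iInf, mem_fixedSub]
  have hinv : ∀ g : G, ∀ w ∈ W, ρ g w ∈ W := by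
    intro g w hw
    rw [(hW w).1 hw g]
    exact hw
  have hbW : b ∈ W := (hW b).2 (fun g => hb g)
  rcases hirr W hinv with h | h
  · rw [h, Submodule.mem_bot] at hbW
    exact hb0 hbW.symm
  · apply hnc
    have : ∀ g : G, g = 1 := by
      intro g
      apply hρ
      rw [map_one]
      ext v
      have : v ∈ W := by rw [h]; trivial
      exact (hW v).1 this g
    haveI : Subsingleton G := ⟨fun a b => by rw [this a, this b]⟩
    exact isCyclic_of_subsingleton

/-- A normal subgroup of order `p ^ 2` and exponent `p` of a faithful irreducible group is not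
central. -/
theorem not_le_center [Finite G] [Nontrivial V] (p : ℕ) [Fact p.Prime]
    (hρ : Function.Injective ρ)
    (hirr : ∀ W : Submodule (ZMod q) V, (∀ g : G, ∀ w ∈ W, ρ g w ∈ W) → W = ⊥ ∨ W = ⊤)
    (hpq : q ≠ p) (E : Subgroup G) (hEcard : Nat.card E = p ^ 2) (hEexp : ∀ e ∈ E, e ^ p = 1) :
    ¬ E ≤ Subgroup.center G := by
  intro hEc
  have hp : p.Prime := Fact.out
  have hlt : p < p ^ 2 := by
    rw [pow_two]; exact lt_mul_of_one_lt_left hp.pos hp.one_lt
  -- a nontrivial element
  haveI : Nontrivial E := Finite.one_lt_card_iff_nontrivial.1 (by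
    rw [hEcard]; have := hp.one_lt; omega)
  obtain ⟨z', hz'⟩ := exists_ne (1 : E)
  set z : G := (z' : G) with hzdef
  have hzE : z ∈ E := z'.2
  have hz1 : z ≠ 1 := fun h => hz' (Subtype.ext h)
  have hzp : z ^ p = 1 := hEexp z hzE
  have hzo : orderOf z = p := orderOf_eq_prime hzp hz1
  have hzc : z ∈ Subgroup.center G := hEc hzE
  -- an element outside `zpowers z`
  have hex : ∃ y ∈ E, y ∉ Subgroup.zpowers z := by
    by_contra hcon
    push Not at hcon
    have hle : E ≤ Subgroup.zpowers z := hcon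
    have := Subgroup.card_le_of_le hle
    rw [hEcard, Nat.card_zpowers, hzo] at this
    omega
  obtain ⟨y, hyE, hyz⟩ := hex
  have hyp : y ^ p = 1 := hEexp y hyE
  -- all operators vanish
  obtain ⟨v, hv⟩ := exists_ne (0 : V)
  apply hv
  apply eq_zero_of_nsmul p hp hpq
  rw [← sum_T ρ hρ hirr p hp.pos y z hzc hzo v]
  apply Finset.sum_eq_zero
  intro k _
  rw [T_apply]
  have hak : y * z ^ k ∈ Subgroup.center G := hEc (E.mul_mem hyE (E.pow_mem hzE k))
  have hak1 : y * z ^ k ≠ 1 := by
    intro h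
    apply hyz
    have : y = (z ^ k)⁻¹ := eq_inv_of_mul_eq_one_left h
    rw [this]
    exact Subgroup.inv_mem _ (Subgroup.pow_mem _ (Subgroup.mem_zpowers z) k)
  have hakp : (y * z ^ k) ^ p = 1 := hEexp _ (E.mul_mem hyE (E.pow_mem hzE k))
  exact sum_central_eq_zero ρ hρ hirr p _ hak hak1 hakp v

end Cfsg.Agent.Helper20.IrrP
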