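import Mathlib
import Cfsg.Agent.Lib.Helper3.LSDefs

/-!
S5286 piece LS-FREE (helper20 for helper3): the kernel of the projection of `D.G` to `Sg` is a free
normal subgroup of index dividing `Nat.card Sg`.
-/

noncomputable section

namespace Cfsg.Agent.Helper3.LS

universe u

variable {Sg : Type u} [Group Sg] (D : Data Sg)

/-- The range of `inl` is a free group. -/
theorem lsfree_range_inl_free :
    IsFreeGroup ↥(SemidirectProduct.inl : FreeGroup D.X →* D.W).range :=
  IsFreeGroup.ofMulEquiv
    (MonoidHom.ofInjective (f := (SemidirectProduct.inl : FreeGroup D.X →* D.W))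
      SemidirectProduct.inl_injective)

/-- (M4) -/
theorem free_kernel [Finite Sg] :
    ∃ N : Subgroup D.G, N.Normal ∧ IsFreeGroup N ∧ N.index ∣ Nat.card Sg := by
  classical
  let π : D.W →* Sg := SemidirectProduct.rightHom
  let f : ↥D.G →* Sg := π.comp D.G.subtype
  refine ⟨f.ker, inferInstance, ?_, ?_⟩
  · -- freeness
    let R : Subgroup D.W := (SemidirectProduct.inl : FreeGroup D.X →* D.W).range
    haveI : IsFreeGroup ↥R := lsfree_range_inl_free D
    let N' : Subgroup D.W := f.ker.map D.G.subtype
    have hN'R : N' ≤ R := by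
      intro w hw
      obtain ⟨n, hn, rfl⟩ := Subgroup.mem_map.mp hw
      have h1 : f n = 1 := MonoidHom.mem_ker.mp hn
      have h2 : (D.G.subtype n) ∈ π.ker := MonoidHom.mem_ker.mpr h1
      have h3 : (SemidirectProduct.inl : FreeGroup D.X →* D.W).range = π.ker :=
        SemidirectProduct.range_inl_eq_ker_rightHom
      show D.G.subtype n ∈ (SemidirectProduct.inl : FreeGroup D.X →* D.W).range
      rw [h3]
      exact h2
    haveI : IsFreeGroup ↥(N'.subgroupOf R) := subgroupIsFreeOfIsFree _
    have e1 : ↥f.ker ≃* ↥N' :=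
      Subgroup.equivMapOfInjective f.ker D.G.subtype (Subgroup.subtype_injective _)
    have e2 : ↥(N'.subgroupOf R) ≃* ↥N' := Subgroup.subgroupOfEquivOfLe hN'R
    exact IsFreeGroup.ofMulEquiv (e2.trans e1.symm)
  · -- index
    rw [Subgroup.index_ker]
    exact Subgroup.card_subgroup_dvd_card _

end Cfsg.Agent.Helper3.LS
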