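import Mathlib

/-!
# Levi's theorem on 2-Engel groups (helper20)

If every element of a group commutes with all its conjugates then `⁅⁅a, b⁆, c⁆ ^ 3 = 1`.
-/

set_option autoImplicit false

namespace Cfsg.Agent.Helper20

namespace Levi

open scoped commutatorElement

variable {K : Type*} [Group K]

/-- the 2-Engel condition: every element commutes with all its conjugates -/
def Engel2 (K : Type*) [Group K] : Prop := ∀ a g : K, Commute a (g * a * g⁻¹)

variable (hE : Engel2 K)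
include hE

theorem conj_commute (a g h : K) : Commute (g * a * g⁻¹) (h * a * h⁻¹) := by
  have h1 := hE (g * a * g⁻¹) (h * g⁻¹)
  have h2 : h * g⁻¹ * (g * a * g⁻¹) * (h * g⁻¹)⁻¹ = h * a * h⁻¹ := by group
  rwa [h2] at h1

/-- the normal closure of an element is abelian -/
theorem ncl_commute (a : K) {y z : K} (hy : y ∈ Subgroup.normalClosure ({a} : Set K))
    (hz : z ∈ Subgroup.normalClosure ({a} : Set K)) : Commute y z := by
  have h1 : Subgroup.normalClosure ({a} : Set K) ≤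
      Subgroup.centralizer (Group.conjugatesOfSet ({a} : Set K)) := by
    rw [Subgroup.normalClosure, Subgroup.closure_le]
    intro w hw
    rw [Group.mem_conjugatesOfSet_iff] at hw
    obtain ⟨a', ha', hw⟩ := hw
    rw [Set.mem_singleton_iff] at ha'
    subst ha'
    obtain ⟨g, rfl⟩ := isConj_iff.mp hw
    rw [SetLike.mem_coe, Subgroup.mem_centralizer_iff]
    intro w' hw'
    rw [Group.mem_conjugatesOfSet_iff] at hw'
    obtain ⟨a', ha', hw'⟩ := hw'
    rw [Set.mem_singleton_iff] at ha'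
    subst ha'
    obtain ⟨g', rfl⟩ := isConj_iff.mp hw'
    exact (conj_commute hE a' g' g).eq
  have h2 : Subgroup.centralizer (Group.conjugatesOfSet ({a} : Set K)) =
      Subgroup.centralizer ((Subgroup.normalClosure ({a} : Set K) : Subgroup K) : Set K) := by
    rw [Subgroup.normalClosure, Subgroup.centralizer_closure]
  rw [h2] at h1
  have h3 := h1 hy
  rw [Subgroup.mem_centralizer_iff] at h3
  exact (h3 z hz).symm

omit hE in
theorem comm_mem_ncl_left (a b : K) : ⁅a, b⁆ ∈ Subgroup.normalClosure ({a} : Set K) := by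
  have h1 : a ∈ Subgroup.normalClosure ({a} : Set K) :=
    Subgroup.subset_normalClosure (Set.mem_singleton a)
  have h2 : ⁅a, b⁆ = a * (b * a⁻¹ * b⁻¹) := by
    rw [commutatorElement_def]; group
  rw [h2]
  exact Subgroup.mul_mem _ h1
    (Subgroup.normalClosure_normal.conj_mem _ (Subgroup.inv_mem _ h1) b)

omit hE in
theorem comm_mem_ncl_right (a b : K) : ⁅a, b⁆ ∈ Subgroup.normalClosure ({b} : Set K) := by
  have h1 : b ∈ Subgroup.normalClosure ({b} : Set K) :=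
    Subgroup.subset_normalClosure (Set.mem_singleton b)
  have h2 : ⁅a, b⁆ = (a * b * a⁻¹) * b⁻¹ := by
    rw [commutatorElement_def]
  rw [h2]
  exact Subgroup.mul_mem _ (Subgroup.normalClosure_normal.conj_mem _ h1 a)
    (Subgroup.inv_mem _ h1)

omit hE in
theorem comm_mem_of_mem (N : Subgroup K) [hN : N.Normal] {y : K} (hy : y ∈ N) (c : K) :
    ⁅y, c⁆ ∈ N := by
  have h2 : ⁅y, c⁆ = y * (c * y⁻¹ * c⁻¹) := by
    rw [commutatorElement_def]; group
  rw [h2]
  exact N.mul_mem hy (hN.conj_mem _ (N.inv_mem hy) c)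

/-- `⁅a, b⁆` commutes with `a` -/
theorem comm_commute_left (a b : K) : Commute ⁅a, b⁆ a :=
  ncl_commute hE a (comm_mem_ncl_left a b) (Subgroup.subset_normalClosure (Set.mem_singleton a))

/-- `⁅a, b⁆` commutes with `b` -/
theorem comm_commute_right (a b : K) : Commute ⁅a, b⁆ b :=
  ncl_commute hE b (comm_mem_ncl_right a b) (Subgroup.subset_normalClosure (Set.mem_singleton b))

theorem triple_commute_1 (a b c : K) : Commute ⁅⁅a, b⁆, c⁆ a :=
  ncl_commute hE a (comm_mem_of_mem _ (comm_mem_ncl_left a b) c)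
    (Subgroup.subset_normalClosure (Set.mem_singleton a))

theorem triple_commute_2 (a b c : K) : Commute ⁅⁅a, b⁆, c⁆ b :=
  ncl_commute hE b (comm_mem_of_mem _ (comm_mem_ncl_right a b) c)
    (Subgroup.subset_normalClosure (Set.mem_singleton b))

theorem triple_commute_3 (a b c : K) : Commute ⁅⁅a, b⁆, c⁆ c :=
  comm_commute_right hE _ c

/-- Hall–Witt in a 2-Engel group -/
theorem hall_witt (a b c : K) : ⁅⁅a, b⁆, c⁆ * ⁅⁅b, c⁆, a⁆ * ⁅⁅c, a⁆, b⁆ = 1 := by
  have key : ∀ a b c : K, ⁅⁅a, b⁆, b * c * b⁻¹⁆ = ⁅⁅a, b⁆, c⁆ := by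
    intro a b c
    have h1 : Commute ⁅a, b⁆ b := comm_commute_right hE a b
    have h2 : ⁅⁅a, b⁆, b * c * b⁻¹⁆ = b * ⁅⁅a, b⁆, c⁆ * b⁻¹ := by
      have h3 : ⁅a, b⁆ = b * ⁅a, b⁆ * b⁻¹ := by
        rw [← h1.eq, mul_inv_cancel_right]
      conv_lhs => rw [h3]
      rw [commutatorElement_def, commutatorElement_def ⁅a, b⁆ c]
      group
    rw [h2, ← (triple_commute_2 hE a b c).eq, mul_inv_cancel_right]
  have h := commutatorElement_commutatorElement_conj_mul a b c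
  rwa [key a b c, key b c a, key c a b] at h

/-- antisymmetry in the last two arguments -/
theorem triple_swap_23 (a b c : K) : ⁅⁅a, b⁆, c⁆ * ⁅⁅a, c⁆, b⁆ = 1 := by
  set u := ⁅a, b⁆ with hu
  set v := ⁅a, c⁆ with hv
  set f := ⁅u, c⁆ with hf
  set f' := ⁅v, b⁆ with hf'
  have hub : Commute u b := comm_commute_right hE a b
  have hvc : Commute v c := comm_commute_right hE a c
  have hfb : Commute f b := triple_commute_2 hE a b c
  have hf'b : Commute f' b := triple_commute_3 hE a c b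
  have hf'c : Commute f' c := triple_commute_2 hE a c b
  have hfu : Commute f u := comm_commute_left hE u c
  have hW : Commute ⁅a, b * c⁆ (b * c) := comm_commute_right hE a (b * c)
  have hWe : ⁅a, b * c⁆ = u * (f'⁻¹ * v) := by
    simp only [hu, hv, hf', commutatorElement_def]
    group
  -- conjugation by `b * c`
  have e1 : (b * c) * u * (b * c)⁻¹ = f⁻¹ * u := by
    have h1 : c * u * c⁻¹ = f⁻¹ * u := by
      simp only [hf, commutatorElement_def]; group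
    calc (b * c) * u * (b * c)⁻¹ = b * (c * u * c⁻¹) * b⁻¹ := by group
      _ = b * (f⁻¹ * u) * b⁻¹ := by rw [h1]
      _ = f⁻¹ * u := by
          have h2 : Commute (f⁻¹ * u) b := (hfb.inv_left).mul_left hub
          rw [← h2.eq, mul_inv_cancel_right]
  have e2 : (b * c) * f'⁻¹ * (b * c)⁻¹ = f'⁻¹ := by
    have h2 : Commute f'⁻¹ (b * c) := (hf'b.mul_right hf'c).inv_left
    rw [← h2.eq, mul_inv_cancel_right]
  have e3 : (b * c) * v * (b * c)⁻¹ = f'⁻¹ * v := by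
    have h1 : c * v * c⁻¹ = v := by rw [← hvc.eq, mul_inv_cancel_right]
    calc (b * c) * v * (b * c)⁻¹ = b * (c * v * c⁻¹) * b⁻¹ := by group
      _ = b * v * b⁻¹ := by rw [h1]
      _ = f'⁻¹ * v := by simp only [hf', commutatorElement_def]; group
  have e4 : (b * c) * ⁅a, b * c⁆ * (b * c)⁻¹ = ⁅a, b * c⁆ := by
    rw [← hW.eq, mul_inv_cancel_right]
  rw [hWe] at e4
  have e5 : (b * c) * (u * (f'⁻¹ * v)) * (b * c)⁻¹ =
      ((b * c) * u * (b * c)⁻¹) * (((b * c) * f'⁻¹ * (b * c)⁻¹) * ((b * c) * v * (b * c)⁻¹)) := by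
    group
  rw [e5, e1, e2, e3] at e4
  -- f⁻¹ * u * (f'⁻¹ * (f'⁻¹ * v)) = u * (f'⁻¹ * v)
  have e6 : f⁻¹ * u = u * f⁻¹ := (hfu.inv_left).eq
  rw [e6, mul_assoc, mul_right_inj, ← mul_assoc, ← mul_assoc, mul_left_inj, mul_assoc] at e4
  -- f⁻¹ * (f'⁻¹ * f'⁻¹) = f'⁻¹
  have e7 : f⁻¹ * f'⁻¹ = 1 := by
    have := congrArg (fun z => z * f') e4
    simpa [mul_assoc] using this
  have e8 : (f' * f)⁻¹ = 1 := by rw [mul_inv_rev]; exact e7
  rw [inv_eq_one] at e8
  -- f' * f = 1 → f * f' = 1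
  exact mul_eq_one_comm.mp e8

/-- antisymmetry in the first two arguments -/
theorem triple_swap_12 (a b c : K) : ⁅⁅b, a⁆, c⁆ = ⁅⁅a, b⁆, c⁆⁻¹ := by
  have h1 : ⁅b, a⁆ = ⁅a, b⁆⁻¹ := (commutatorElement_inv a b).symm
  rw [h1]
  set u := ⁅a, b⁆ with hu
  have hfu : Commute ⁅u, c⁆ u := comm_commute_left hE u c
  have h2 : ⁅u⁻¹, c⁆ = u⁻¹ * ⁅u, c⁆⁻¹ * u := by
    simp only [commutatorElement_def]; group
  rw [h2]
  have h3 : Commute ⁅u, c⁆⁻¹ u := hfu.inv_left
  rw [mul_assoc, h3.eq, inv_mul_cancel_left]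

/-- **Levi**: in a 2-Engel group, `⁅⁅a, b⁆, c⁆ ^ 3 = 1`. -/
theorem triple_pow_three (a b c : K) : ⁅⁅a, b⁆, c⁆ ^ 3 = 1 := by
  have h1 := hall_witt hE a b c
  -- ⁅⁅b,c⁆,a⁆ = ⁅⁅a,b⁆,c⁆
  have h2 : ⁅⁅b, c⁆, a⁆ = ⁅⁅a, b⁆, c⁆ := by
    have e1 := triple_swap_23 hE b c a
    have e2 := triple_swap_12 hE a b c
    -- ⁅⁅b,c⁆,a⁆ * ⁅⁅b,a⁆,c⁆ = 1
    rw [e2] at e1
    exact mul_inv_eq_one.mp e1
  have h3 : ⁅⁅c, a⁆, b⁆ = ⁅⁅a, b⁆, c⁆ := by
    have e1 := triple_swap_12 hE a c b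
    have e2 := triple_swap_23 hE a b c
    -- ⁅⁅c,a⁆,b⁆ = ⁅⁅a,c⁆,b⁆⁻¹ ; ⁅⁅a,b⁆,c⁆ * ⁅⁅a,c⁆,b⁆ = 1
    rw [e1]
    exact (eq_inv_of_mul_eq_one_left e2).symm
  rw [h2, h3] at h1
  rw [pow_succ, pow_two]
  exact h1

end Levi

end Cfsg.Agent.Helper20
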