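import Mathlib

/-!
# Fixed vectors of `p`-groups in characteristic `p` (helper20)

`exists_fixed_vector`: a finite `p`-group acting linearly on a nontrivial vector space over a
field of characteristic `p` fixes a nonzero vector.
-/

set_option autoImplicit false

namespace Cfsg.Agent.Helper20.LinP

variable {P : Type*} [Group P] [Finite P] {p : ℕ} [Fact p.Prime]
variable {K : Type*} [Field K] {V : Type*} [AddCommGroup V] [Module K V]

/-- A finite `p`-group acting linearly on a nontrivial module over a field in which `p = 0`
fixes a nonzero vector. -/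
theorem exists_fixed_vector (hP : IsPGroup p P) (hK : (p : K) = 0) (ρ : P →* Module.End K V)
    [Nontrivial V] : ∃ v : V, v ≠ 0 ∧ ∀ g : P, ρ g v = v := by
  have hp : p.Prime := Fact.out
  obtain ⟨m0, hm0⟩ := exists_ne (0 : V)
  have hpV : ∀ v : V, p • v = 0 := by
    intro v
    rw [← Nat.cast_smul_eq_nsmul K, hK, zero_smul]
  set S : AddSubgroup V := AddSubgroup.closure (Set.range fun g : P => ρ g m0) with hS
  have hinv : ∀ (g : P) (s : V), s ∈ S → ρ g s ∈ S := by
    intro g s hs
    induction hs using AddSubgroup.closure_induction with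
    | mem x hx =>
      obtain ⟨h, rfl⟩ := hx
      apply AddSubgroup.subset_closure
      refine ⟨g * h, ?_⟩
      simp only [map_mul, Module.End.mul_apply]
    | zero => rw [map_zero]; exact S.zero_mem
    | add x y _ _ hx hy => rw [map_add]; exact S.add_mem hx hy
    | neg x _ hx => rw [map_neg]; exact S.neg_mem hx
  have hm0S : m0 ∈ S := by
    apply AddSubgroup.subset_closure
    exact ⟨1, by simp⟩
  haveI : Finite (Set.range fun g : P => ρ g m0) := Set.finite_range _
  haveI : AddGroup.FG S := AddGroup.closure_finite_fg _
  haveI : Finite S := by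
    apply AddCommGroup.finite_of_fg_isAddTorsion
    intro s
    rw [isOfFinAddOrder_iff_nsmul_eq_zero]
    refine ⟨p, hp.pos, ?_⟩
    apply Subtype.ext
    simpa using hpV s.1
  letI : MulAction P S :=
    { smul := fun g s => ⟨ρ g s.1, hinv g s.1 s.2⟩
      one_smul := fun s => by
        apply Subtype.ext
        show ρ 1 s.1 = s.1
        simp
      mul_smul := fun g h s => by
        apply Subtype.ext
        show ρ (g * h) s.1 = ρ g (ρ h s.1)
        simp only [map_mul, Module.End.mul_apply] }
  have hsmul : ∀ (g : P) (s : S), ((g • s : S) : V) = ρ g s.1 := fun _ _ => rfl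
  have h0 : (0 : S) ∈ MulAction.fixedPoints P S := by
    intro g
    apply Subtype.ext
    rw [hsmul]
    simp
  have hdvd : p ∣ Nat.card S := by
    have h1 : addOrderOf (⟨m0, hm0S⟩ : S) = p := by
      apply addOrderOf_eq_prime
      · apply Subtype.ext
        simpa using hpV m0
      · intro h
        apply hm0
        simpa using congrArg Subtype.val h
    rw [← h1]
    exact addOrderOf_dvd_natCard _
  obtain ⟨b, hb, hb0⟩ := hP.exists_fixed_point_of_prime_dvd_card_of_fixed_point S hdvd h0
  refine ⟨b.1, ?_, ?_⟩
  · intro h
    apply hb0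
    apply Subtype.ext
    simpa using h.symm
  · intro g
    have := hb g
    rw [← hsmul, this]

end Cfsg.Agent.Helper20.LinP
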