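import Mathlib
import Cfsg.Agent.Lib.Helper20.LinP1

/-!
# Unipotent `p`-groups: derived length (helper20)

The ascending fixed-point filtration `fil ρ` of a representation, its "level" subgroups `lvl ρ k`
(elements `g` with `(g - 1) Z_{i+k} ≤ Z_i`), and the bound
`derivedSeries_eq_bot_of_char`: a finite `p`-group acting faithfully on a vector space of
dimension at most `2 ^ m` in characteristic `p` has derived length at most `m`.
-/

set_option autoImplicit false

namespace Cfsg.Agent.Helper20.LinP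

open scoped commutatorElement

variable {P : Type*} [Group P] {K : Type*} [Field K] {V : Type*} [AddCommGroup V] [Module K V]

/-- The ascending fixed-point filtration: `Z₀ = 0`, `Z_{k+1} = {v | ∀ g, g v - v ∈ Z_k}`. -/
def fil (ρ : P →* Module.End K V) : ℕ → Submodule K V
  | 0 => ⊥
  | (k + 1) => ⨅ g : P, (fil ρ k).comap (ρ g - 1)

theorem fil_zero (ρ : P →* Module.End K V) : fil ρ 0 = ⊥ := rfl

theorem mem_fil_succ (ρ : P →* Module.End K V) (k : ℕ) (v : V) :
    v ∈ fil ρ (k + 1) ↔ ∀ g, ρ g v - v ∈ fil ρ k := by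
  simp [fil, Submodule.mem_iInf]

theorem fil_invariant (ρ : P →* Module.End K V) (k : ℕ) :
    ∀ (h : P) (v : V), v ∈ fil ρ k → ρ h v ∈ fil ρ k := by
  induction k with
  | zero =>
    intro h v hv
    rw [fil_zero, Submodule.mem_bot] at hv ⊢
    rw [hv, map_zero]
  | succ k ih =>
    intro h v hv
    rw [mem_fil_succ] at hv ⊢
    intro g
    have h1 : ρ g (ρ h v) - ρ h v = ρ h (ρ (h⁻¹ * g * h) v - v) := by
      rw [map_sub]
      congr 1
      rw [← Module.End.mul_apply, ← Module.End.mul_apply, ← map_mul, ← map_mul]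
      congr 2
      group
    rw [h1]
    exact ih h _ (hv _)

theorem fil_le_succ (ρ : P →* Module.End K V) (k : ℕ) : fil ρ k ≤ fil ρ (k + 1) := by
  induction k with
  | zero => rw [fil_zero]; exact bot_le
  | succ k ih =>
    intro v hv
    rw [mem_fil_succ] at hv ⊢
    intro g
    exact ih (hv g)

theorem fil_mono (ρ : P →* Module.End K V) : Monotone (fil ρ) :=
  monotone_nat_of_le_succ (fil_le_succ ρ)

/-- The representation induced on the quotient by an invariant submodule. -/
def quotRep (ρ : P →* Module.End K V) (Z : Submodule K V)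
    (hZ : ∀ (h : P) (v : V), v ∈ Z → ρ h v ∈ Z) : P →* Module.End K (V ⧸ Z) where
  toFun g := Z.mapQ Z (ρ g) (fun v hv => hZ g v hv)
  map_one' := by
    ext v
    simp
  map_mul' := by
    intro g h
    ext v
    simp

theorem quotRep_mk (ρ : P →* Module.End K V) (Z : Submodule K V)
    (hZ : ∀ (h : P) (v : V), v ∈ Z → ρ h v ∈ Z) (g : P) (v : V) :
    quotRep ρ Z hZ g (Submodule.Quotient.mk v) = Submodule.Quotient.mk (ρ g v) := rfl

theorem fil_lt_succ [Finite P] {p : ℕ} [Fact p.Prime] (hP : IsPGroup p P) (hK : (p : K) = 0)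
    (ρ : P →* Module.End K V) (k : ℕ) (hk : fil ρ k ≠ ⊤) : fil ρ k < fil ρ (k + 1) := by
  refine lt_of_le_of_ne (fil_le_succ ρ k) ?_
  intro heq
  haveI : Nontrivial (V ⧸ fil ρ k) := Submodule.Quotient.nontrivial_iff.mpr hk
  obtain ⟨q, hq0, hq⟩ := exists_fixed_vector hP hK (quotRep ρ (fil ρ k) (fil_invariant ρ k))
  obtain ⟨v, rfl⟩ := Submodule.Quotient.mk_surjective _ q
  apply hq0
  rw [Submodule.Quotient.mk_eq_zero, heq, mem_fil_succ]
  intro g
  have := hq g
  rw [quotRep_mk, Submodule.Quotient.eq] at this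
  exact this

theorem fil_eq_top [Finite P] {p : ℕ} [Fact p.Prime] (hP : IsPGroup p P) (hK : (p : K) = 0)
    (ρ : P →* Module.End K V) [FiniteDimensional K V] (k : ℕ) (hk : Module.finrank K V ≤ k) :
    fil ρ k = ⊤ := by
  have key : ∀ j : ℕ, fil ρ j = ⊤ ∨ j ≤ Module.finrank K (fil ρ j) := by
    intro j
    induction j with
    | zero => right; exact Nat.zero_le _
    | succ j ih =>
      by_cases hj : fil ρ j = ⊤
      · left
        exact top_le_iff.mp (hj ▸ fil_le_succ ρ j)
      · right
        have h1 := ih.resolve_left hj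
        have h2 := Submodule.finrank_lt_finrank_of_lt (fil_lt_succ hP hK ρ j hj)
        omega
  rcases key k with h | h
  · exact h
  · apply Submodule.eq_top_of_finrank_eq
    have := Submodule.finrank_le (fil ρ k)
    omega

/-- The subgroup of elements `g` with `(g - 1) Z_{i+k} ≤ Z_i` for all `i`. -/
def lvl (ρ : P →* Module.End K V) (k : ℕ) : Subgroup P where
  carrier := {g | ∀ i, ∀ v ∈ fil ρ (i + k), ρ g v - v ∈ fil ρ i}
  one_mem' := by
    intro i v _
    simp
  mul_mem' := by
    intro g h hg hh i v hv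
    have h1 : ρ (g * h) v - v = ρ g (ρ h v - v) + (ρ g v - v) := by
      rw [map_mul, Module.End.mul_apply, map_sub]
      abel
    rw [h1]
    exact (fil ρ i).add_mem (fil_invariant ρ i g _ (hh i v hv)) (hg i v hv)
  inv_mem' := by
    intro g hg i v hv
    have h1 : ρ g⁻¹ v - v = - ρ g⁻¹ (ρ g v - v) := by
      rw [map_sub, ← Module.End.mul_apply, ← map_mul, inv_mul_cancel, map_one,
        Module.End.one_apply]
      abel
    rw [h1]
    exact (fil ρ i).neg_mem (fil_invariant ρ i g⁻¹ _ (hg i v hv))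

theorem mem_lvl (ρ : P →* Module.End K V) (k : ℕ) (g : P) :
    g ∈ lvl ρ k ↔ ∀ i, ∀ v ∈ fil ρ (i + k), ρ g v - v ∈ fil ρ i := Iff.rfl

theorem commutator_mem_lvl (ρ : P →* Module.End K V) {j k : ℕ} {g h : P}
    (hg : g ∈ lvl ρ j) (hh : h ∈ lvl ρ k) : ⁅g, h⁆ ∈ lvl ρ (j + k) := by
  intro i v hv
  set w := ρ (g⁻¹ * h⁻¹) v with hw
  have hwm : w ∈ fil ρ (i + (j + k)) := fil_invariant ρ _ _ _ hv
  have h1 : ρ ⁅g, h⁆ v - v = ρ g (ρ h w) - ρ h (ρ g w) := by
    have e1 : ρ ⁅g, h⁆ v = ρ g (ρ h w) := by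
      rw [hw, ← Module.End.mul_apply, ← Module.End.mul_apply, ← map_mul, ← map_mul,
        commutatorElement_def]
      congr 2
      group
    have e2 : v = ρ h (ρ g w) := by
      rw [hw, ← Module.End.mul_apply, ← Module.End.mul_apply, ← map_mul, ← map_mul]
      have : h * g * (g⁻¹ * h⁻¹) = 1 := by group
      rw [this, map_one, Module.End.one_apply]
    rw [e1]
    conv_lhs => rw [e2]
  have h2 : ρ g (ρ h w) - ρ h (ρ g w) =
      (ρ g (ρ h w - w) - (ρ h w - w)) - (ρ h (ρ g w - w) - (ρ g w - w)) := by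
    rw [map_sub, map_sub]
    abel
  rw [h1, h2]
  have hu1 : ρ h w - w ∈ fil ρ (i + j) := by
    apply hh (i + j) w
    rw [add_assoc]
    exact hwm
  have hu2 : ρ g w - w ∈ fil ρ (i + k) := by
    apply hg (i + k) w
    have : i + k + j = i + (j + k) := by ring
    rw [this]
    exact hwm
  exact (fil ρ i).sub_mem (hg i _ hu1) (hh i _ hu2)

theorem derivedSeries_le_lvl (ρ : P →* Module.End K V) (m : ℕ) :
    derivedSeries P m ≤ lvl ρ (2 ^ m) := by
  induction m with
  | zero =>
    intro g _ i v hv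
    rw [pow_zero] at hv
    exact (mem_fil_succ ρ i v).mp hv g
  | succ m ih =>
    rw [derivedSeries_succ, Subgroup.commutator_le]
    intro g hg h hh
    have := commutator_mem_lvl ρ (ih hg) (ih hh)
    rw [pow_succ, mul_two]
    exact this

/-- A finite `p`-group acting faithfully on a vector space of dimension at most `2 ^ m` over a
field of characteristic `p` has derived length at most `m`. -/
theorem derivedSeries_eq_bot_of_char [Finite P] {p : ℕ} [Fact p.Prime] (hP : IsPGroup p P)
    (hK : (p : K) = 0) (ρ : P →* Module.End K V) (hρ : Function.Injective ρ)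
    [FiniteDimensional K V] (m : ℕ) (hm : Module.finrank K V ≤ 2 ^ m) :
    derivedSeries P m = ⊥ := by
  rw [eq_bot_iff]
  intro g hg
  have h1 := derivedSeries_le_lvl ρ m hg
  rw [Subgroup.mem_bot]
  apply hρ
  rw [map_one]
  apply LinearMap.ext
  intro v
  have h2 := h1 0 v (by rw [zero_add, fil_eq_top hP hK ρ _ hm]; exact Submodule.mem_top)
  rw [fil_zero, Submodule.mem_bot, sub_eq_zero] at h2
  rw [h2, Module.End.one_apply]

end Cfsg.Agent.Helper20.LinP
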