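import Mathlib
import Cfsg.Agent.Lib.Helper1.PGroupCoatom

set_option autoImplicit false

namespace Cfsg.Agent.Helper20

universe u v

open scoped commutatorElement

/-- If `G' ≤ H` then the `(n+1)`-st derived subgroup of `G` lies in the image of the `n`-th derived
subgroup of `H`. -/
theorem derivedSeries_succ_le_map_of_commutator_le {G : Type*} [Group G] (H : Subgroup G)
    (hH : commutator G ≤ H) (n : ℕ) :
    derivedSeries G (n + 1) ≤ (derivedSeries H n).map H.subtype := by
  induction n with
  | zero =>
    rw [derivedSeries_zero, ← MonoidHom.range_eq_map, Subgroup.range_subtype]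
    exact hH
  | succ n ih =>
    rw [derivedSeries_succ, derivedSeries_succ (G := H), Subgroup.map_commutator]
    exact Subgroup.commutator_mono ih ih

/-- If `H ≤ G'` then the image of the `n`-th derived subgroup of `H` lies in the `(n+1)`-st
derived subgroup of `G`. -/
theorem map_derivedSeries_le_succ_of_le_commutator {G : Type*} [Group G] (H : Subgroup G)
    (hH : H ≤ commutator G) (n : ℕ) :
    (derivedSeries H n).map H.subtype ≤ derivedSeries G (n + 1) := by
  induction n with
  | zero =>
    rw [derivedSeries_zero, ← MonoidHom.range_eq_map, Subgroup.range_subtype]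
    exact hH
  | succ n ih =>
    rw [derivedSeries_succ (G := G), derivedSeries_succ (G := H), Subgroup.map_commutator]
    exact Subgroup.commutator_mono ih ih

/-- The derived subgroup lies in every normal subgroup of prime index. -/
theorem commutator_le_of_normal_index_prime {G : Type*} [Group G] {p : ℕ} [Fact p.Prime]
    (M : Subgroup G) [M.Normal] (hi : M.index = p) : commutator G ≤ M := by
  have hcard : Nat.card (G ⧸ M) = p := by rw [← Subgroup.index_eq_card, hi]
  haveI : IsCyclic (G ⧸ M) := isCyclic_of_prime_card hcard
  rw [commutator_eq_closure, Subgroup.closure_le]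
  rintro _ ⟨a, b, rfl⟩
  rw [SetLike.mem_coe, ← QuotientGroup.eq_one_iff]
  show QuotientGroup.mk' M ⁅a, b⁆ = 1
  rw [map_commutatorElement, commutatorElement_eq_one_iff_commute]
  exact (IsCyclic.isMulCommutative (α := G ⧸ M)).is_comm.comm _ _

/-- In a `p`-group acting on a set, the `m`-th derived subgroup fixes every point whose orbit has
`p ^ m` elements. -/
theorem derivedSeries_le_stabilizer {p : ℕ} [Fact p.Prime] :
    ∀ (m : ℕ) {P : Type u} [Group P] [Finite P] (_ : IsPGroup p P) {α : Type v} [MulAction P α]
      (a : α), Nat.card (MulAction.orbit P a) = p ^ m →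
      derivedSeries P m ≤ MulAction.stabilizer P a := by
  intro m
  induction m with
  | zero =>
    intro P _ _ hP α _ a h
    have h1 : (MulAction.stabilizer P a).index = 1 := by
      rw [MulAction.index_stabilizer, ← Nat.card_coe_set_eq, h, pow_zero]
    rw [Subgroup.index_eq_one] at h1
    rw [h1]; exact le_top
  | succ m ih =>
    intro P _ _ hP α _ a h
    have hp := (Fact.out : p.Prime)
    set S := MulAction.stabilizer P a with hS
    have hSi : S.index = p ^ (m + 1) := by
      rw [MulAction.index_stabilizer, ← Nat.card_coe_set_eq, h]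
    have hSt : S ≠ ⊤ := by
      intro h1
      rw [h1, Subgroup.index_top] at hSi
      exact (Nat.one_lt_pow (Nat.succ_ne_zero m) hp.one_lt).ne hSi
    obtain ⟨M, hMc, hSM⟩ := (eq_top_or_exists_le_coatom S).resolve_left hSt
    obtain ⟨hMn, hMi⟩ := Cfsg.Agent.Helper1.coatom_normal_index_of_isPGroup hP M hMc
    haveI := hMn
    have hcomm : commutator P ≤ M := commutator_le_of_normal_index_prime M hMi
    -- orbit of a under M
    have hstab : MulAction.stabilizer M a = S.subgroupOf M := by
      ext x
      simp only [MulAction.mem_stabilizer_iff, Subgroup.mem_subgroupOf, hS]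
      rfl
    have horb : Nat.card (MulAction.orbit M a) = p ^ m := by
      rw [Nat.card_coe_set_eq, ← MulAction.index_stabilizer, hstab]
      have h1 : S.relIndex M * M.index = S.index := Subgroup.relIndex_mul_index hSM
      rw [hMi, hSi, pow_succ] at h1
      exact Nat.eq_of_mul_eq_mul_right hp.pos h1
    have hM' : IsPGroup p M := hP.to_subgroup M
    have h2 := ih hM' a horb
    refine (derivedSeries_succ_le_map_of_commutator_le M hcomm m).trans ?_
    rintro _ ⟨x, hx, rfl⟩
    have h3 := h2 hx
    rw [MulAction.mem_stabilizer_iff] at h3 ⊢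
    exact h3

/-- A `p`-subgroup of `Perm (Fin n)` has derived length at most `log_p n`. -/
theorem derivedSeries_log_eq_bot_of_isPGroup {p : ℕ} [Fact p.Prime] (n : ℕ)
    (P : Subgroup (Equiv.Perm (Fin n))) (hP : IsPGroup p P) :
    derivedSeries P (Nat.log p n) = ⊥ := by
  have hp := (Fact.out : p.Prime)
  rw [eq_bot_iff]
  intro g hg
  rw [Subgroup.mem_bot]
  apply Subtype.ext
  apply Equiv.ext
  intro a
  obtain ⟨m, hm⟩ := hP.card_orbit (α := Fin n) a
  have hle : p ^ m ≤ n := by
    rw [← hm]
    calc Nat.card (MulAction.orbit P a) ≤ Nat.card (Fin n) :=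
          Nat.card_le_card_of_injective _ Subtype.val_injective
      _ = n := Nat.card_fin n
  have hn0 : n ≠ 0 := by
    intro h0; subst h0; exact a.elim0
  have hmlog : m ≤ Nat.log p n := Nat.le_log_of_pow_le hp.one_lt hle
  have h1 := derivedSeries_le_stabilizer m hP a hm (derivedSeries_antitone _ hmlog hg)
  rw [MulAction.mem_stabilizer_iff] at h1
  exact h1

end Cfsg.Agent.Helper20
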