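import Mathlib
import Cfsg.Agent.Lib.Helper1.MaxAbelianBound
import Cfsg.Agent.Lib.Helper20.PermDerived1

/-!
# Linear `p`-groups in characteristic different from `p`: derived length (helper20)

`derivedSeries_eq_bot_of_ne_char`: a finite `p`-group acting faithfully on a vector space of
dimension at most `n` over an algebraically closed field of characteristic different from `p`
has derived length at most `log₂ n + 1` (the group is monomial: the weight spaces of a maximal
normal abelian subgroup are permuted with abelian kernel).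
-/

set_option autoImplicit false

namespace Cfsg.Agent.Helper20.LinP

open scoped commutatorElement

variable {P : Type*} [Group P] {K : Type*} [Field K] {V : Type*} [AddCommGroup V] [Module K V]

/-- The simultaneous eigenspace of `A` for the weight `χ`. -/
def wsp (ρ : P →* Module.End K V) (A : Subgroup P) (χ : A → K) : Submodule K V :=
  ⨅ a : A, Module.End.eigenspace (ρ a) (χ a)

theorem mem_wsp (ρ : P →* Module.End K V) (A : Subgroup P) (χ : A → K) (v : V) :
    v ∈ wsp ρ A χ ↔ ∀ a : A, ρ a v = χ a • v := by
  simp [wsp, Submodule.mem_iInf]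

/-- The conjugation action of `P` on the weights of a normal subgroup. -/
@[reducible] def wtAct (A : Subgroup P) [A.Normal] (K : Type*) : MulAction P (A → K) where
  smul g χ := fun a => χ (MulAut.conjNormal g⁻¹ a)
  one_smul χ := by
    funext a
    show χ (MulAut.conjNormal (1 : P)⁻¹ a) = χ a
    simp
  mul_smul g h χ := by
    funext a
    show χ (MulAut.conjNormal (g * h)⁻¹ a) = χ (MulAut.conjNormal h⁻¹ (MulAut.conjNormal g⁻¹ a))
    rw [mul_inv_rev, map_mul, MulAut.mul_apply]

theorem wtAct_apply (A : Subgroup P) [A.Normal] (g : P) (χ : A → K) (a : A) :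
    (letI := wtAct A K; g • χ) a = χ (MulAut.conjNormal g⁻¹ a) := rfl

theorem map_mem_wsp (ρ : P →* Module.End K V) (A : Subgroup P) [A.Normal] (χ : A → K) (g : P)
    (v : V) (hv : v ∈ wsp ρ A χ) : ρ g v ∈ wsp ρ A (letI := wtAct A K; g • χ) := by
  rw [mem_wsp] at hv ⊢
  intro a
  rw [wtAct_apply]
  have h1 : (a : P) * g = g * ((MulAut.conjNormal g⁻¹ a : A) : P) := by
    rw [MulAut.conjNormal_apply]
    group
  rw [← Module.End.mul_apply, ← map_mul, h1, map_mul, Module.End.mul_apply, hv, map_smul]

theorem derivedSeries_eq_bot_of_ne_char [Finite P] {p : ℕ} [Fact p.Prime] (hP : IsPGroup p P)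
    [IsAlgClosed K] (hK : (p : K) ≠ 0) (ρ : P →* Module.End K V) (hρ : Function.Injective ρ)
    [FiniteDimensional K V] (n : ℕ) (hn : Module.finrank K V ≤ n) :
    derivedSeries P (Nat.log 2 n + 1) = ⊥ := by
  have hp : p.Prime := Fact.out
  -- a maximal normal abelian subgroup
  have hfin : {B : Subgroup P | B.Normal ∧ IsMulCommutative B}.Finite := Set.toFinite _
  have hne : {B : Subgroup P | B.Normal ∧ IsMulCommutative B}.Nonempty :=
    ⟨⊥, inferInstance, ⟨⟨fun a b => Subsingleton.elim _ _⟩⟩⟩
  obtain ⟨A, hA⟩ := hfin.exists_maximal hne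
  haveI hAn : A.Normal := hA.prop.1
  have hAc : IsMulCommutative A := hA.prop.2
  have hcent : Subgroup.centralizer (A : Set P) = A :=
    Cfsg.Agent.Helper1.centralizer_eq_of_max_normal_abelian hP A hAc
      (fun B hBn hBc hAB => le_antisymm (hA.le_of_ge ⟨hBn, hBc⟩ hAB) hAB)
  -- semisimplicity
  obtain ⟨k, hk⟩ := IsPGroup.iff_card.mp hP
  have hpow : ∀ g : P, (ρ g) ^ (p ^ k) = 1 := by
    intro g
    rw [← map_pow, ← hk, pow_card_eq_one', map_one]
  have hss : ∀ g : P, (ρ g).IsSemisimple := by
    intro g
    apply Module.End.isSemisimple_of_squarefree_aeval_eq_zero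
      (p := Polynomial.X ^ (p ^ k) - Polynomial.C (1 : K))
    · apply Polynomial.Separable.squarefree
      apply Polynomial.separable_X_pow_sub_C
      · rw [Nat.cast_pow]
        exact pow_ne_zero _ hK
      · exact one_ne_zero
    · simp [hpow g]
  have hcomm : ∀ a b : A, Commute (ρ a) (ρ b) := by
    intro a b
    show ρ a * ρ b = ρ b * ρ a
    rw [← map_mul, ← map_mul]
    congr 1
    have := hAc.is_comm.comm a b
    exact congrArg Subtype.val this
  have hgen : ∀ (a : A) (μ : K), (ρ a).maxGenEigenspace μ = (ρ a).eigenspace μ := fun a μ =>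
    (hss a).isFinitelySemisimple.maxGenEigenspace_eq_eigenspace μ
  have htop : ⨆ χ : A → K, wsp ρ A χ = ⊤ := by
    have := Module.End.iSup_iInf_maxGenEigenspace_eq_top_of_iSup_maxGenEigenspace_eq_top_of_commute
      (fun a : A => ρ a) (fun a b _ => hcomm a b)
      (fun a => Module.End.iSup_maxGenEigenspace_eq_top _)
    simp_rw [hgen] at this
    exact this
  have hind : iSupIndep (wsp ρ A) := by
    have := Module.End.independent_iInf_maxGenEigenspace_of_forall_mapsTo
      (fun a : A => ρ a)
      (fun i j φ => Module.End.mapsTo_maxGenEigenspace_of_comm (hcomm j i) φ)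
    simp_rw [hgen] at this
    exact this
  have hOfin : Set.Finite {χ : A → K | wsp ρ A χ ≠ ⊥} :=
    WellFoundedGT.finite_ne_bot_of_iSupIndep hind
  have hOcard : Nat.card {χ : A → K | wsp ρ A χ ≠ ⊥} ≤ n := by
    haveI : Fintype {χ : A → K // wsp ρ A χ ≠ ⊥} := hOfin.fintype
    have := hind.subtype_ne_bot_le_finrank
    rw [← Nat.card_eq_fintype_card] at this
    exact this.trans hn
  letI := wtAct A K
  -- the derived series term lies in every stabilizer
  have hstab : ∀ χ : A → K, wsp ρ A χ ≠ ⊥ →
      derivedSeries P (Nat.log 2 n) ≤ MulAction.stabilizer P χ := by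
    intro χ hχ
    haveI : Finite (MulAction.orbit P χ) := Set.finite_range _
    obtain ⟨m, hm⟩ := hP.card_orbit χ
    have hsub : MulAction.orbit P χ ⊆ {χ : A → K | wsp ρ A χ ≠ ⊥} := by
      rintro _ ⟨g, rfl⟩
      show wsp ρ A (g • χ) ≠ ⊥
      obtain ⟨v, hv, hv0⟩ := Submodule.exists_mem_ne_zero_of_ne_bot hχ
      intro hbot
      have h1 := map_mem_wsp ρ A χ g v hv
      rw [hbot, Submodule.mem_bot] at h1
      apply hv0
      have h2 : ρ g⁻¹ (ρ g v) = v := by
        rw [← Module.End.mul_apply, ← map_mul, inv_mul_cancel, map_one, Module.End.one_apply]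
      rw [← h2, h1, map_zero]
    have hle : p ^ m ≤ n := by
      rw [← hm]
      exact (Nat.card_mono hOfin hsub).trans hOcard
    have hn0 : n ≠ 0 := by
      intro h0
      rw [h0] at hle
      exact (Nat.pos_of_ne_zero (pow_ne_zero m hp.pos.ne')).ne' (Nat.le_zero.mp hle)
    have hmlog : m ≤ Nat.log 2 n := by
      apply Nat.le_log_of_pow_le (by norm_num)
      exact (Nat.pow_le_pow_left hp.two_le m).trans hle
    exact (derivedSeries_antitone _ hmlog).trans (derivedSeries_le_stabilizer m hP χ hm)
  -- hence in the centralizer of `A`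
  have hD : derivedSeries P (Nat.log 2 n) ≤ A := by
    rw [← hcent]
    intro g hg
    rw [Subgroup.mem_centralizer_iff]
    intro a ha
    set b : A := MulAut.conjNormal g⁻¹ ⟨a, ha⟩ with hb
    have h1 : a * g = g * (b : P) := by
      rw [hb, MulAut.conjNormal_apply]
      group
    have h2 : ρ (b : P) = ρ a := by
      have hle : (⊤ : Submodule K V) ≤ LinearMap.eqLocus (ρ (b : P)) (ρ a) := by
        rw [← htop]
        apply iSup_le
        intro χ v hv
        rw [LinearMap.mem_eqLocus]
        by_cases hχ : wsp ρ A χ = ⊥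
        · rw [hχ, Submodule.mem_bot] at hv
          rw [hv, map_zero, map_zero]
        · have h3 := hstab χ hχ hg
          rw [MulAction.mem_stabilizer_iff] at h3
          have h4 : χ b = χ ⟨a, ha⟩ := by
            have := congrFun h3 ⟨a, ha⟩
            rw [wtAct_apply] at this
            exact this
          rw [mem_wsp] at hv
          rw [hv b, h4]
          exact (hv ⟨a, ha⟩).symm
      apply LinearMap.ext
      intro v
      exact hle (Submodule.mem_top : v ∈ ⊤)
    apply hρ
    rw [h1, map_mul, map_mul, h2]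
  rw [derivedSeries_succ, eq_bot_iff]
  refine (Subgroup.commutator_mono hD hD).trans ?_
  rw [le_bot_iff, Subgroup.commutator_eq_bot_iff_le_centralizer, hcent]

end Cfsg.Agent.Helper20.LinP
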