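import Mathlib
import Cfsg.Agent.Lib.Helper20.LinP3

/-!
# Weights of abelian normal subgroups of linear `p`-groups, coprime characteristic (helper20)

Refactored pieces of `LinP3`: semisimplicity, the weight decomposition for a commutative
subgroup, finiteness and number of weights, and the criterion
`derivedSeries_succ_eq_bot_of_stab`: if `D^k(P)` stabilizes every weight of every normal abelian
subgroup then `D^{k+1}(P) = 1`.
-/

set_option autoImplicit false

namespace Cfsg.Agent.Helper20.LinP

open scoped commutatorElement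

variable {P : Type*} [Group P] {K : Type*} [Field K] {V : Type*} [AddCommGroup V] [Module K V]

section

variable [Finite P] {p : ℕ} [Fact p.Prime]

theorem isSemisimple_of_isPGroup (hP : IsPGroup p P) (hK : (p : K) ≠ 0)
    (ρ : P →* Module.End K V) (g : P) : (ρ g).IsSemisimple := by
  obtain ⟨k, hk⟩ := IsPGroup.iff_card.mp hP
  have hpow : (ρ g) ^ (p ^ k) = 1 := by
    rw [← map_pow, ← hk, pow_card_eq_one', map_one]
  apply Module.End.isSemisimple_of_squarefree_aeval_eq_zero
    (p := Polynomial.X ^ (p ^ k) - Polynomial.C (1 : K))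
  · apply Polynomial.Separable.squarefree
    apply Polynomial.separable_X_pow_sub_C
    · rw [Nat.cast_pow]
      exact pow_ne_zero _ hK
    · exact one_ne_zero
  · simp [hpow]

omit [Finite P] in
theorem commute_of_isMulCommutative (ρ : P →* Module.End K V) (A : Subgroup P)
    (hAc : IsMulCommutative A) (a b : A) : Commute (ρ a) (ρ b) := by
  show ρ a * ρ b = ρ b * ρ a
  rw [← map_mul, ← map_mul]
  congr 1
  have := hAc.is_comm.comm a b
  exact congrArg Subtype.val this

theorem iSup_wsp_eq_top (hP : IsPGroup p P) (hK : (p : K) ≠ 0) [IsAlgClosed K]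
    [FiniteDimensional K V] (ρ : P →* Module.End K V) (A : Subgroup P)
    (hAc : IsMulCommutative A) : ⨆ χ : A → K, wsp ρ A χ = ⊤ := by
  have hgen : ∀ (a : A) (μ : K), (ρ a).maxGenEigenspace μ = (ρ a).eigenspace μ := fun a μ =>
    (isSemisimple_of_isPGroup hP hK ρ a).isFinitelySemisimple.maxGenEigenspace_eq_eigenspace μ
  have := Module.End.iSup_iInf_maxGenEigenspace_eq_top_of_iSup_maxGenEigenspace_eq_top_of_commute
    (fun a : A => ρ a) (fun a b _ => commute_of_isMulCommutative ρ A hAc a b)
    (fun a => Module.End.iSup_maxGenEigenspace_eq_top _)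
  simp_rw [hgen] at this
  exact this

theorem iSupIndep_wsp (hP : IsPGroup p P) (hK : (p : K) ≠ 0)
    (ρ : P →* Module.End K V) (A : Subgroup P)
    (hAc : IsMulCommutative A) : iSupIndep (wsp ρ A) := by
  have hgen : ∀ (a : A) (μ : K), (ρ a).maxGenEigenspace μ = (ρ a).eigenspace μ := fun a μ =>
    (isSemisimple_of_isPGroup hP hK ρ a).isFinitelySemisimple.maxGenEigenspace_eq_eigenspace μ
  have := Module.End.independent_iInf_maxGenEigenspace_of_forall_mapsTo
    (fun a : A => ρ a)
    (fun i j φ => Module.End.mapsTo_maxGenEigenspace_of_comm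
      (commute_of_isMulCommutative ρ A hAc j i) φ)
  simp_rw [hgen] at this
  exact this

theorem weights_finite (hP : IsPGroup p P) (hK : (p : K) ≠ 0) [FiniteDimensional K V]
    (ρ : P →* Module.End K V) (A : Subgroup P) (hAc : IsMulCommutative A) :
    Set.Finite {χ : A → K | wsp ρ A χ ≠ ⊥} :=
  WellFoundedGT.finite_ne_bot_of_iSupIndep (iSupIndep_wsp hP hK ρ A hAc)

theorem weights_card_le (hP : IsPGroup p P) (hK : (p : K) ≠ 0) [FiniteDimensional K V]
    (ρ : P →* Module.End K V) (A : Subgroup P) (hAc : IsMulCommutative A) :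
    Nat.card {χ : A → K | wsp ρ A χ ≠ ⊥} ≤ Module.finrank K V := by
  haveI : Fintype {χ : A → K // wsp ρ A χ ≠ ⊥} := (weights_finite hP hK ρ A hAc).fintype
  have := (iSupIndep_wsp hP hK ρ A hAc).subtype_ne_bot_le_finrank
  rw [← Nat.card_eq_fintype_card] at this
  exact this

theorem weight_pow_card (ρ : P →* Module.End K V) (A : Subgroup P) (χ : A → K)
    (hχ : wsp ρ A χ ≠ ⊥) (a : A) : χ a ^ Nat.card P = 1 := by
  obtain ⟨v, hv, hv0⟩ := Submodule.exists_mem_ne_zero_of_ne_bot hχ
  rw [mem_wsp] at hv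
  have h1 : ∀ j : ℕ, ρ ((a : P) ^ j) v = χ a ^ j • v := by
    intro j
    induction j with
    | zero => simp
    | succ j ih =>
      rw [pow_succ, map_mul, Module.End.mul_apply, hv a, map_smul, ih, smul_smul, pow_succ,
        mul_comm]
  have h2 := h1 (Nat.card P)
  rw [pow_card_eq_one', map_one, Module.End.one_apply] at h2
  by_contra hne
  have h3 : (χ a ^ Nat.card P - 1) • v = 0 := by
    rw [sub_smul, one_smul, ← h2, sub_self]
  rcases smul_eq_zero.mp h3 with h4 | h4
  · exact hne (sub_eq_zero.mp h4)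
  · exact hv0 h4

omit [Finite P] in
theorem wsp_smul_ne_bot (ρ : P →* Module.End K V) (A : Subgroup P) [A.Normal] (χ : A → K)
    (hχ : wsp ρ A χ ≠ ⊥) (g : P) : wsp ρ A (letI := wtAct A K; g • χ) ≠ ⊥ := by
  obtain ⟨v, hv, hv0⟩ := Submodule.exists_mem_ne_zero_of_ne_bot hχ
  intro hbot
  have h1 := map_mem_wsp ρ A χ g v hv
  rw [hbot, Submodule.mem_bot] at h1
  apply hv0
  have h2 : ρ g⁻¹ (ρ g v) = v := by
    rw [← Module.End.mul_apply, ← map_mul, inv_mul_cancel, map_one, Module.End.one_apply]
  rw [← h2, h1, map_zero]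

/-- If `D^k(P)` stabilizes every weight of every normal abelian subgroup, `D^{k+1}(P) = 1`. -/
theorem derivedSeries_succ_eq_bot_of_stab (hP : IsPGroup p P)
    [IsAlgClosed K] (hK : (p : K) ≠ 0) (ρ : P →* Module.End K V) (hρ : Function.Injective ρ)
    [FiniteDimensional K V] (k : ℕ)
    (hyp : ∀ (A : Subgroup P) [A.Normal], IsMulCommutative A → ∀ χ : A → K, wsp ρ A χ ≠ ⊥ →
      ∀ g ∈ derivedSeries P k, ∀ a : A, χ (MulAut.conjNormal g⁻¹ a) = χ a) :
    derivedSeries P (k + 1) = ⊥ := by
  have hfin : {B : Subgroup P | B.Normal ∧ IsMulCommutative B}.Finite := Set.toFinite _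
  have hne : {B : Subgroup P | B.Normal ∧ IsMulCommutative B}.Nonempty :=
    ⟨⊥, inferInstance, ⟨⟨fun a b => Subsingleton.elim _ _⟩⟩⟩
  obtain ⟨A, hA⟩ := hfin.exists_maximal hne
  haveI hAn : A.Normal := hA.prop.1
  have hAc : IsMulCommutative A := hA.prop.2
  have hcent : Subgroup.centralizer (A : Set P) = A :=
    Cfsg.Agent.Helper1.centralizer_eq_of_max_normal_abelian hP A hAc
      (fun B hBn hBc hAB => le_antisymm (hA.le_of_ge ⟨hBn, hBc⟩ hAB) hAB)
  have htop := iSup_wsp_eq_top hP hK ρ A hAc
  have hD : derivedSeries P k ≤ A := by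
    rw [← hcent]
    intro g hg
    rw [Subgroup.mem_centralizer_iff]
    intro a ha
    set b : A := MulAut.conjNormal g⁻¹ ⟨a, ha⟩ with hb
    have h1 : a * g = g * (b : P) := by
      rw [hb, MulAut.conjNormal_apply]
      group
    have h2 : ρ (b : P) = ρ a := by
      have hle : (⊤ : Submodule K V) ≤ LinearMap.eqLocus (ρ (b : P)) (ρ a) := by
        rw [← htop]
        apply iSup_le
        intro χ v hv
        rw [LinearMap.mem_eqLocus]
        by_cases hχ : wsp ρ A χ = ⊥
        · rw [hχ, Submodule.mem_bot] at hv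
          rw [hv, map_zero, map_zero]
        · have h4 : χ b = χ ⟨a, ha⟩ := hyp A hAc χ hχ g hg ⟨a, ha⟩
          rw [mem_wsp] at hv
          rw [hv b, h4]
          exact (hv ⟨a, ha⟩).symm
      apply LinearMap.ext
      intro v
      exact hle (Submodule.mem_top : v ∈ ⊤)
    apply hρ
    rw [h1, map_mul, map_mul, h2]
  rw [derivedSeries_succ, eq_bot_iff]
  refine (Subgroup.commutator_mono hD hD).trans ?_
  rw [le_bot_iff, Subgroup.commutator_eq_bot_iff_le_centralizer, hcent]

end

end Cfsg.Agent.Helper20.LinP
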