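import Mathlib
import Cfsg.Agent.Lib.Helper20.LinP4

/-!
# Linear `p`-groups over a finite field, coprime characteristic: Galois-twisted orbits (helper20)

`mul_card_orbit_le`: abstract counting lemma for an injective self-map commuting with a group
action.  `extRep`: base change of a matrix representation.  `wsp_frob_ne_bot`: weights of a
representation defined over a finite field `F` are closed under `χ ↦ χ ^ #F`.
`orbit_exponent_le`: the orbit of a weight under `P` has size `p ^ m` with
`m ≤ log_p (n / e)`, `e` the order of `#F` modulo `p`.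
-/

set_option autoImplicit false

namespace Cfsg.Agent.Helper20.LinP

theorem mul_card_orbit_le {P X : Type*} [Group P] [MulAction P X] (Fr : X → X)
    (hFr : Function.Injective Fr) (hcomm : ∀ (g : P) (x : X), Fr (g • x) = g • Fr x)
    (Ω : Set X) (hΩ : Ω.Finite) (hΩP : ∀ g : P, ∀ x ∈ Ω, g • x ∈ Ω) (hΩF : ∀ x ∈ Ω, Fr x ∈ Ω)
    (χ : X) (hχ : χ ∈ Ω) (e : ℕ)
    (hne : ∀ i, 0 < i → i < e → Fr^[i] χ ∉ MulAction.orbit P χ) :
    e * Nat.card (MulAction.orbit P χ) ≤ Nat.card Ω := by
  have hcommi : ∀ (i : ℕ) (g : P) (x : X), Fr^[i] (g • x) = g • Fr^[i] x := by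
    intro i
    induction i with
    | zero => intro g x; rfl
    | succ i ih =>
      intro g x
      rw [Function.iterate_succ_apply', Function.iterate_succ_apply', ih, hcomm]
  have hΩFi : ∀ (i : ℕ), ∀ x ∈ Ω, Fr^[i] x ∈ Ω := by
    intro i
    induction i with
    | zero => intro x hx; exact hx
    | succ i ih =>
      intro x hx
      rw [Function.iterate_succ_apply']
      exact hΩF _ (ih x hx)
  have horbΩ : ∀ ψ ∈ MulAction.orbit P χ, ψ ∈ Ω := by
    rintro _ ⟨g, rfl⟩
    exact hΩP g χ hχ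
  have aux : ∀ (i j : ℕ) (ψ ψ' : X), i ≤ j → j < e → ψ ∈ MulAction.orbit P χ →
      ψ' ∈ MulAction.orbit P χ → Fr^[i] ψ = Fr^[j] ψ' → i = j ∧ ψ = ψ' := by
    intro i j ψ ψ' hij hj hψ hψ' heq
    obtain ⟨d, rfl⟩ := Nat.exists_eq_add_of_le hij
    rw [Function.iterate_add_apply] at heq
    have h1 := hFr.iterate i heq
    rcases Nat.eq_zero_or_pos d with hd | hd
    · subst hd
      exact ⟨rfl, h1⟩
    · exfalso
      obtain ⟨g, rfl⟩ := hψ
      obtain ⟨h, rfl⟩ := hψ'
      apply hne d hd (by omega)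
      refine ⟨h⁻¹ * g, ?_⟩
      show (h⁻¹ * g) • χ = Fr^[d] χ
      have h1' : g • χ = Fr^[d] (h • χ) := h1
      rw [mul_smul, h1', hcommi, inv_smul_smul]
  haveI : Finite Ω := hΩ
  let f : Fin e × MulAction.orbit P χ → Ω := fun x =>
    ⟨Fr^[(x.1 : ℕ)] (x.2 : X), hΩFi _ _ (horbΩ _ x.2.2)⟩
  have hf : Function.Injective f := by
    rintro ⟨i, ψ⟩ ⟨j, ψ'⟩ h
    have h' : Fr^[(i : ℕ)] (ψ : X) = Fr^[(j : ℕ)] (ψ' : X) := congrArg Subtype.val h
    rcases le_total (i : ℕ) (j : ℕ) with hij | hij
    · obtain ⟨h1, h2⟩ := aux i j ψ ψ' hij j.2 ψ.2 ψ'.2 h'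
      exact Prod.ext (Fin.ext h1) (Subtype.ext h2)
    · obtain ⟨h1, h2⟩ := aux j i ψ' ψ hij i.2 ψ'.2 ψ.2 h'.symm
      exact Prod.ext (Fin.ext h1.symm) (Subtype.ext h2.symm)
  have := Nat.card_le_card_of_injective f hf
  rw [Nat.card_prod, Nat.card_fin] at this
  exact this

section ext

variable {P : Type*} [Group P] {F : Type*} [Field F] {n : ℕ}

/-- Base change of a matrix representation to an extension field, as a linear representation. -/
noncomputable def extRep (K : Type*) [Field K] [Algebra F K]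
    (ρ : P →* Matrix.GeneralLinearGroup (Fin n) F) : P →* Module.End K (Fin n → K) :=
  ((Matrix.toLinAlgEquiv' : Matrix (Fin n) (Fin n) K ≃ₐ[K] Module.End K (Fin n → K)) :
      Matrix (Fin n) (Fin n) K →* Module.End K (Fin n → K)).comp
    ((Units.coeHom (Matrix (Fin n) (Fin n) K)).comp
      ((Matrix.GeneralLinearGroup.map (algebraMap F K)).comp ρ))

variable {K : Type*} [Field K] [Algebra F K]

theorem extRep_apply (ρ : P →* Matrix.GeneralLinearGroup (Fin n) F) (g : P) (v : Fin n → K) :
    extRep K ρ g v = ((ρ g : Matrix (Fin n) (Fin n) F).map (algebraMap F K)).mulVec v := rfl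

theorem extRep_injective (ρ : P →* Matrix.GeneralLinearGroup (Fin n) F)
    (hρ : Function.Injective ρ) : Function.Injective (extRep K ρ) := by
  intro g h hgh
  apply hρ
  have h1 : ((Matrix.GeneralLinearGroup.map (algebraMap F K) (ρ g) : GL (Fin n) K) :
      Matrix (Fin n) (Fin n) K) = (Matrix.GeneralLinearGroup.map (algebraMap F K) (ρ h) :
      GL (Fin n) K) := by
    apply (Matrix.toLinAlgEquiv' : Matrix (Fin n) (Fin n) K ≃ₐ[K]
      Module.End K (Fin n → K)).injective
    exact hgh
  apply Units.ext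
  ext i j
  have h2 := congrFun (congrFun h1 i) j
  rw [Matrix.GeneralLinearGroup.map_apply, Matrix.GeneralLinearGroup.map_apply] at h2
  exact (algebraMap F K).injective h2

theorem wsp_frob_ne_bot [Fintype F] (ρ : P →* Matrix.GeneralLinearGroup (Fin n) F)
    (A : Subgroup P) (χ : A → K) (hχ : wsp (extRep K ρ) A χ ≠ ⊥) :
    wsp (extRep K ρ) A (fun a => χ a ^ Fintype.card F) ≠ ⊥ := by
  obtain ⟨v, hv, hv0⟩ := Submodule.exists_mem_ne_zero_of_ne_bot hχ
  rw [mem_wsp] at hv
  set φ : K →+* K := (FiniteField.frobeniusAlgHom F K : K →+* K) with hφ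
  have hφa : ∀ x : K, φ x = x ^ Fintype.card F := fun x => rfl
  have hφF : ∀ x : F, φ (algebraMap F K x) = algebraMap F K x := by
    intro x
    rw [hφa, ← map_pow, FiniteField.pow_card]
  intro hbot
  have hmem : (φ ∘ v) ∈ wsp (extRep K ρ) A (fun a => χ a ^ Fintype.card F) := by
    rw [mem_wsp]
    intro a
    funext i
    have h1 := hv a
    rw [extRep_apply] at h1 ⊢
    have h2 := RingHom.map_mulVec φ
      ((ρ (a : P) : Matrix (Fin n) (Fin n) F).map (algebraMap F K)) v i
    have h3 : ((ρ (a : P) : Matrix (Fin n) (Fin n) F).map (algebraMap F K)).map φ =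
        (ρ (a : P) : Matrix (Fin n) (Fin n) F).map (algebraMap F K) := by
      ext i j
      simp only [Matrix.map_apply]
      exact hφF _
    rw [h3, h1] at h2
    rw [← h2]
    simp only [Pi.smul_apply, smul_eq_mul, Function.comp_apply, hφa, mul_pow]
  rw [hbot, Submodule.mem_bot] at hmem
  apply hv0
  funext i
  have := congrFun hmem i
  simp only [Function.comp_apply, Pi.zero_apply, hφa] at this
  exact pow_eq_zero_iff (Fintype.card_pos.ne') |>.mp this

end ext

end Cfsg.Agent.Helper20.LinP
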