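import Mathlib
import Cfsg.Agent.Lib.Helper20.LinP5

/-!
# `p`-subgroups of `GL_n(q)`, `p ∤ q`: derived length at most `log_p (n / e) + 1` (helper20)
-/

set_option autoImplicit false

namespace Cfsg.Agent.Helper20.LinP

variable {P : Type*} [Group P] {F : Type*} [Field F] {n : ℕ}
variable {K : Type*} [Field K] [Algebra F K]

theorem orderOf_card_pos {p : ℕ} [Fact p.Prime] (q : ℕ) (hpq : ¬ p ∣ q) :
    0 < orderOf (q : ZMod p) := by
  have hq0 : (q : ZMod p) ≠ 0 := by
    intro h
    exact hpq ((ZMod.natCast_eq_zero_iff q p).mp h)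
  rw [orderOf_pos_iff, isOfFinOrder_iff_pow_eq_one]
  exact ⟨p - 1, Nat.sub_pos_of_lt (Fact.out : p.Prime).one_lt, ZMod.pow_card_sub_one_eq_one hq0⟩

theorem orderOf_card_coprime {p : ℕ} [Fact p.Prime] (q : ℕ) (hpq : ¬ p ∣ q) :
    Nat.Coprime (orderOf (q : ZMod p)) p := by
  have hp : p.Prime := Fact.out
  have hq0 : (q : ZMod p) ≠ 0 := by
    intro h
    exact hpq ((ZMod.natCast_eq_zero_iff q p).mp h)
  have h1 : orderOf (q : ZMod p) ∣ p - 1 := ZMod.orderOf_dvd_card_sub_one hq0
  have h2 : orderOf (q : ZMod p) ≤ p - 1 := Nat.le_of_dvd (Nat.sub_pos_of_lt hp.one_lt) h1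
  apply Nat.Coprime.symm
  rw [hp.coprime_iff_not_dvd]
  intro h3
  have h4 := Nat.le_of_dvd (orderOf_card_pos q hpq) h3
  have := hp.one_lt
  omega

theorem orbit_exponent_le [Finite P] {p : ℕ} [Fact p.Prime] (hP : IsPGroup p P) [Fintype F]
    (hK : (p : K) ≠ 0) (hpq : ¬ p ∣ Fintype.card F)
    (ρ : P →* Matrix.GeneralLinearGroup (Fin n) F) (A : Subgroup P) [A.Normal]
    (hAc : IsMulCommutative A) (χ : A → K) (hχ : wsp (extRep K ρ) A χ ≠ ⊥)
    (hn : orderOf ((Fintype.card F : ℕ) : ZMod p) ≤ n) (m : ℕ)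
    (hm : Nat.card (@MulAction.orbit P (A → K) (wtAct A K).toSMul χ) = p ^ m) :
    m ≤ Nat.log p (n / orderOf ((Fintype.card F : ℕ) : ZMod p)) := by
  have hp : p.Prime := Fact.out
  letI := wtAct A K
  set q := Fintype.card F with hq
  set e := orderOf ((q : ℕ) : ZMod p) with he
  have he0 : 0 < e := orderOf_card_pos q hpq
  rcases Nat.eq_zero_or_pos m with hm0 | hm0
  · rw [hm0]
    exact Nat.zero_le _
  obtain ⟨s, hs⟩ := IsPGroup.iff_card.mp hP
  have hcard0 : Nat.card P ≠ 0 := Nat.card_pos.ne'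
  let Fr : (A → K) → (A → K) := fun ψ a => ψ a ^ q
  have hFr : Function.Injective Fr := by
    intro ψ ψ' h
    funext a
    have h1 := congrFun h a
    exact (FiniteField.frobeniusAlgHom F K : K →+* K).injective h1
  have hFri : ∀ (i : ℕ) (ψ : A → K), Fr^[i] ψ = fun a => ψ a ^ (q ^ i) := by
    intro i
    induction i with
    | zero => intro ψ; funext a; simp
    | succ i ih =>
      intro ψ
      rw [Function.iterate_succ_apply', ih]
      funext a
      show (ψ a ^ q ^ i) ^ q = ψ a ^ q ^ (i + 1)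
      rw [← pow_mul, pow_succ]
  have hne : ∀ i, 0 < i → i < e → Fr^[i] χ ∉ MulAction.orbit P χ := by
    intro i hi0 hie hmem
    obtain ⟨g, hg⟩ := hmem
    have hg' : g • χ = Fr^[i] χ := hg
    have hB : ∀ j : ℕ, g ^ j • χ = fun a => χ a ^ ((q ^ i) ^ j) := by
      intro j
      induction j with
      | zero => funext a; simp
      | succ j ih =>
        rw [pow_succ, mul_smul, hg', hFri]
        have h1 : g ^ j • (fun a => χ a ^ (q ^ i)) = fun a => (g ^ j • χ) a ^ (q ^ i) := rfl
        rw [h1, ih]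
        funext a
        show (χ a ^ (q ^ i) ^ j) ^ q ^ i = χ a ^ (q ^ i) ^ (j + 1)
        rw [← pow_mul, ← pow_succ]
    have hC : ∀ a, χ a ^ ((q ^ i) ^ Nat.card P) = χ a := by
      intro a
      have h1 := congrFun (hB (Nat.card P)) a
      rw [pow_card_eq_one', one_smul] at h1
      exact h1.symm
    set N := (q ^ i) ^ Nat.card P with hN
    have hNpos : 0 < N := by
      rw [hN]
      exact pow_pos (pow_pos Fintype.card_pos _) _
    by_cases hpN : p ∣ N - 1
    · have h1 : ((N - 1 : ℕ) : ZMod p) = 0 := (ZMod.natCast_eq_zero_iff _ _).mpr hpN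
      rw [Nat.cast_sub hNpos, sub_eq_zero, hN, Nat.cast_pow, Nat.cast_pow, ← pow_mul,
        Nat.cast_one] at h1
      have h2 : e ∣ i * Nat.card P := orderOf_dvd_of_pow_eq_one h1
      have h3 : Nat.Coprime e (Nat.card P) := by
        rw [hs]
        exact Nat.Coprime.pow_right _ (orderOf_card_coprime q hpq)
      have h4 : e ∣ i := Nat.Coprime.dvd_of_dvd_mul_right h3 h2
      have := Nat.le_of_dvd hi0 h4
      omega
    · have hχ1 : ∀ a, χ a = 1 := by
        intro a
        have hx1 := weight_pow_card (extRep K ρ) A χ hχ a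
        have hx0 : χ a ≠ 0 := by
          intro h0
          rw [h0, zero_pow hcard0] at hx1
          exact zero_ne_one hx1
        have hx2 : χ a ^ (N - 1) = 1 := by
          have h1 := hC a
          have h2 : N = (N - 1) + 1 := by omega
          rw [h2, pow_succ] at h1
          exact mul_right_cancel₀ hx0 (h1.trans (one_mul _).symm)
        have hcop : Nat.Coprime (N - 1) (Nat.card P) := by
          rw [hs]
          apply Nat.Coprime.pow_right
          exact ((hp.coprime_iff_not_dvd).mpr hpN).symm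
        have h3 := pow_gcd_eq_one.mpr ⟨hx2, hx1⟩
        rw [Nat.Coprime] at hcop
        rw [hcop, pow_one] at h3
        exact h3
      have hfix : ∀ g' : P, g' • χ = χ := by
        intro g'
        funext a
        show χ (MulAut.conjNormal g'⁻¹ a) = χ a
        rw [hχ1, hχ1]
      have horb : MulAction.orbit P χ = {χ} := by
        ext ψ
        simp only [MulAction.mem_orbit_iff, Set.mem_singleton_iff, hfix]
        constructor
        · rintro ⟨_, h⟩
          exact h.symm
        · intro h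
          exact ⟨1, h.symm⟩
      have hm' : Nat.card (MulAction.orbit P χ) = p ^ m := hm
      rw [horb, Nat.card_unique] at hm'
      have := Nat.one_lt_pow hm0.ne' hp.one_lt
      omega
  have hmain := mul_card_orbit_le (P := P) Fr hFr (fun g x => rfl)
    {χ : A → K | wsp (extRep K ρ) A χ ≠ ⊥} (weights_finite hP hK (extRep K ρ) A hAc)
    (fun g x hx => wsp_smul_ne_bot (extRep K ρ) A x hx g)
    (fun x hx => wsp_frob_ne_bot ρ A x hx) χ hχ e hne
  have hm' : Nat.card (MulAction.orbit P χ) = p ^ m := hm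
  rw [hm'] at hmain
  have hle := weights_card_le hP hK (extRep K ρ) A hAc
  rw [Module.finrank_fin_fun] at hle
  have h5 : p ^ m ≤ n / e := by
    rw [Nat.le_div_iff_mul_le he0, mul_comm]
    exact hmain.trans hle
  exact Nat.le_log_of_pow_le hp.one_lt h5

theorem derivedSeries_eq_bot_of_finite_field [Finite P] {p : ℕ} [Fact p.Prime]
    (hP : IsPGroup p P) [Fintype F] (hpq : ¬ p ∣ Fintype.card F)
    (ρ : P →* Matrix.GeneralLinearGroup (Fin n) F) (hρ : Function.Injective ρ)
    (hn : orderOf ((Fintype.card F : ℕ) : ZMod p) ≤ n) :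
    derivedSeries P (Nat.log p (n / orderOf ((Fintype.card F : ℕ) : ZMod p)) + 1) = ⊥ := by
  have hp : p.Prime := Fact.out
  have hK : (p : AlgebraicClosure F) ≠ 0 := by
    obtain ⟨ℓ, hℓ⟩ := CharP.exists F
    obtain ⟨f, hℓp, hcard⟩ := FiniteField.card F ℓ
    haveI : CharP (AlgebraicClosure F) ℓ :=
      charP_of_injective_algebraMap (algebraMap F (AlgebraicClosure F)).injective ℓ
    intro h0
    have h1 : ℓ ∣ p := (CharP.cast_eq_zero_iff (AlgebraicClosure F) ℓ p).mp h0
    have h2 : ℓ = p := (Nat.prime_dvd_prime_iff_eq hℓp hp).mp h1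
    apply hpq
    rw [hcard, h2]
    exact dvd_pow_self p f.pos.ne'
  apply derivedSeries_succ_eq_bot_of_stab hP hK (extRep (AlgebraicClosure F) ρ)
    (extRep_injective ρ hρ)
  intro A hAn hAc χ hχ g hg a
  letI := wtAct A (AlgebraicClosure F)
  haveI : Finite (MulAction.orbit P χ) := Set.finite_range _
  obtain ⟨m, hm⟩ := hP.card_orbit χ
  have hmk := orbit_exponent_le hP hK hpq ρ A hAc χ hχ hn m hm
  have h1 := derivedSeries_le_stabilizer m hP χ hm (derivedSeries_antitone _ hmk hg)
  rw [MulAction.mem_stabilizer_iff] at h1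
  exact congrFun h1 a

end Cfsg.Agent.Helper20.LinP
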