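import Mathlib

/-!
# The induced (monomial) representation of a regular wreath product (helper20)

For `ρ : D →* End F U`, `wreathRep ρ : D ≀ᵣ Q →* End F (Q → U)` is
`(w • f) x = ρ (w.left x) (f (w.right⁻¹ * x))`; it is faithful when `ρ` is and `U` is nontrivial.
-/

set_option autoImplicit false

namespace Cfsg.Agent.Helper20.LinW

variable {F : Type*} [Field F] {D Q : Type*} [Group D] [Group Q]
variable {U : Type*} [AddCommGroup U] [Module F U]

/-- The monomial representation of `D ≀ᵣ Q` on `Q → U` induced by a representation of `D`. -/
def wreathRep (ρ : D →* Module.End F U) : D ≀ᵣ Q →* Module.End F (Q → U) where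
  toFun w :=
    { toFun := fun f x => ρ (w.left x) (f (w.right⁻¹ * x))
      map_add' := fun f f' => by
        funext x
        simp
      map_smul' := fun c f => by
        funext x
        simp }
  map_one' := by
    apply LinearMap.ext
    intro f
    funext x
    simp
  map_mul' := by
    intro w w'
    apply LinearMap.ext
    intro f
    funext x
    simp [mul_assoc]

theorem wreathRep_apply (ρ : D →* Module.End F U) (w : D ≀ᵣ Q) (f : Q → U) (x : Q) :
    wreathRep ρ w f x = ρ (w.left x) (f (w.right⁻¹ * x)) := rfl

theorem wreathRep_injective [Nontrivial U] (ρ : D →* Module.End F U)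
    (hρ : Function.Injective ρ) : Function.Injective (wreathRep (Q := Q) ρ) := by
  classical
  rw [injective_iff_map_eq_one]
  intro w hw
  have hinv : ∀ (d : D) (u : U), ρ d u = 0 → u = 0 := by
    intro d u h
    have h2 : ρ d⁻¹ (ρ d u) = u := by
      rw [← Module.End.mul_apply, ← map_mul, inv_mul_cancel, map_one, Module.End.one_apply]
    rw [← h2, h, map_zero]
  have key : ∀ (f : Q → U) (x : Q), ρ (w.left x) (f (w.right⁻¹ * x)) = f x := by
    intro f x
    have := congrFun (congrArg (fun T : Module.End F (Q → U) => T f) hw) x
    simpa [wreathRep_apply] using this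
  obtain ⟨u0, hu0⟩ := exists_ne (0 : U)
  have hr : w.right = 1 := by
    by_contra hne
    have h1 := key (Pi.single 1 u0) w.right
    rw [inv_mul_cancel, Pi.single_eq_same, Pi.single_eq_of_ne hne] at h1
    exact hu0 (hinv _ _ h1)
  have hl : ∀ x, w.left x = 1 := by
    intro x
    apply hρ
    rw [map_one]
    apply LinearMap.ext
    intro u
    have h1 := key (Pi.single x u) x
    rw [hr, inv_one, one_mul, Pi.single_eq_same] at h1
    rw [h1, Module.End.one_apply]
  ext x
  · rw [hl x]
    rfl
  · exact hr

theorem finrank_wreath [Fintype Q] [FiniteDimensional F U] :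
    Module.finrank F (Q → U) = Fintype.card Q * Module.finrank F U := by
  rw [Module.finrank_pi_fintype]
  simp

end Cfsg.Agent.Helper20.LinW
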