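import Mathlib
import Cfsg.Agent.Lib.Helper20.PermDerived1

set_option autoImplicit false

namespace Cfsg.Agent.Helper20

universe u

open scoped commutatorElement

section wreath

variable {D Q : Type*} [Group D] [Group Q]

/-- Projection of the base group of a regular wreath product onto the coordinate `1`. -/
def wreathBaseProj : (RegularWreathProduct.rightHom (D := D) (Q := Q)).ker →* D where
  toFun g := (g : D ≀ᵣ Q).left 1
  map_one' := rfl
  map_mul' a b := by
    have ha : (a : D ≀ᵣ Q).right = 1 := a.2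
    show ((a : D ≀ᵣ Q) * (b : D ≀ᵣ Q)).left 1 = _
    rw [RegularWreathProduct.mul_left]
    simp [ha]

theorem derivedSeries_wreath_ne_bot [Nontrivial Q] (j : ℕ) (h : derivedSeries D j ≠ ⊥) :
    derivedSeries (D ≀ᵣ Q) (j + 1) ≠ ⊥ := by
  set B : Subgroup (D ≀ᵣ Q) := (RegularWreathProduct.rightHom (D := D) (Q := Q)).ker with hB
  set H : Subgroup (D ≀ᵣ Q) := commutator (D ≀ᵣ Q) ⊓ B with hH
  let φ : ↥H →* D := wreathBaseProj.comp (Subgroup.inclusion (inf_le_right : H ≤ B))
  have hφ : Function.Surjective φ := by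
    intro d
    classical
    obtain ⟨q, hq⟩ := exists_ne (1 : Q)
    let b : D ≀ᵣ Q := ⟨Pi.mulSingle 1 d, 1⟩
    let s : D ≀ᵣ Q := RegularWreathProduct.inl q
    have hmem : ⁅b, s⁆ ∈ H := by
      refine ⟨Subgroup.commutator_mem_commutator (Subgroup.mem_top b) (Subgroup.mem_top s), ?_⟩
      show RegularWreathProduct.rightHom (⁅b, s⁆ : D ≀ᵣ Q) = 1
      rw [map_commutatorElement]
      simp [b, s, commutatorElement_def]
    refine ⟨⟨⁅b, s⁆, hmem⟩, ?_⟩
    show (⁅b, s⁆ : D ≀ᵣ Q).left 1 = d
    simp [b, s, commutatorElement_def, RegularWreathProduct.mul_left,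
      RegularWreathProduct.inv_left, Pi.mulSingle_apply, hq]
  intro hbot
  have h1 : (derivedSeries ↥H j).map H.subtype ≤ derivedSeries (D ≀ᵣ Q) (j + 1) :=
    map_derivedSeries_le_succ_of_le_commutator H inf_le_left j
  rw [hbot, le_bot_iff, Subgroup.map_eq_bot_iff_of_injective _ H.subtype_injective] at h1
  have h2 := map_derivedSeries_eq hφ j
  rw [h1, Subgroup.map_bot] at h2
  exact h h2.symm

end wreath

theorem derivedSeries_iterated_ne_bot (A : Type u) [Group A] [Nontrivial A] :
    ∀ k : ℕ, derivedSeries (IteratedWreathProduct A (k + 1)) k ≠ ⊥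
  | 0 => by
      rw [derivedSeries_zero]
      haveI : Nontrivial (IteratedWreathProduct A 1) := by
        obtain ⟨a, ha⟩ := exists_ne (1 : A)
        refine ⟨⟨(RegularWreathProduct.inl a : PUnit ≀ᵣ A), 1, ?_⟩⟩
        intro h
        exact ha (congrArg RegularWreathProduct.right h)
      exact top_ne_bot
  | k + 1 => by
      have ih := derivedSeries_iterated_ne_bot A k
      exact derivedSeries_wreath_ne_bot (D := IteratedWreathProduct A (k + 1)) (Q := A) k ih

end Cfsg.Agent.Helper20
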