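import Mathlib
import Cfsg.Agent.Lib.Helper20.LinW1
import Cfsg.Agent.Lib.Helper20.PermDerived2

/-!
# Iterated wreath products inside `GL_n(F)` (helper20)

`exists_hom_GL_of_rep`: a faithful representation on a space of dimension at most `n` gives an
injective homomorphism to `GL (Fin n) F`.  `exists_wreath_tower`: starting from a nontrivial
`p`-group with a faithful `e`-dimensional representation, iterating the wreath product with the
cyclic group of order `p` gives `p`-groups with `D^j ≠ 1` and faithful representations of dimension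
`e * p ^ j`.
-/

set_option autoImplicit false

namespace Cfsg.Agent.Helper20.LinW

universe u

theorem exists_hom_GL_of_rep {F : Type*} [Field F] {W : Type*} [Group W] {U : Type*}
    [AddCommGroup U] [Module F U] [FiniteDimensional F U] (ρ : W →* Module.End F U)
    (hρ : Function.Injective ρ) (n : ℕ) (hn : Module.finrank F U ≤ n) :
    ∃ f : W →* Matrix.GeneralLinearGroup (Fin n) F, Function.Injective f := by
  classical
  set r := n - Module.finrank F U with hr
  have hfr : Module.finrank F (U × (Fin r → F)) = Module.finrank F (Fin n → F) := by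
    rw [Module.finrank_prod, Module.finrank_fin_fun, Module.finrank_fin_fun]
    omega
  let ε : (U × (Fin r → F)) ≃ₗ[F] (Fin n → F) := LinearEquiv.ofFinrankEq _ _ hfr
  let ρ1 : W →* Module.End F (U × (Fin r → F)) :=
    (RingHom.toMonoidHom (LinearMap.prodMapRingHom F U (Fin r → F))).comp
      (ρ.prod (1 : W →* Module.End F (Fin r → F)))
  have hρ1 : Function.Injective ρ1 := by
    intro a b hab
    apply hρ
    apply LinearMap.ext
    intro u
    have h1 := congrArg (fun T : Module.End F (U × (Fin r → F)) => (T (u, 0)).1) hab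
    simpa [ρ1] using h1
  let c : Module.End F (U × (Fin r → F)) →* Matrix (Fin n) (Fin n) F :=
    ((Matrix.toLinAlgEquiv'.symm : Module.End F (Fin n → F) ≃ₐ[F] Matrix (Fin n) (Fin n) F) :
      Module.End F (Fin n → F) →* Matrix (Fin n) (Fin n) F).comp
    ((ε.conjAlgEquiv F : Module.End F (U × (Fin r → F)) ≃ₐ[F] Module.End F (Fin n → F)) :
      Module.End F (U × (Fin r → F)) →* Module.End F (Fin n → F))
  have hc : Function.Injective c := by
    intro a b hab
    have h1 := (Matrix.toLinAlgEquiv'.symm : Module.End F (Fin n → F) ≃ₐ[F]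
      Matrix (Fin n) (Fin n) F).injective hab
    exact (ε.conjAlgEquiv F : Module.End F (U × (Fin r → F)) ≃ₐ[F]
      Module.End F (Fin n → F)).injective h1
  refine ⟨(c.comp ρ1).toHomUnits, ?_⟩
  intro a b hab
  have h1 : (c.comp ρ1) a = (c.comp ρ1) b := by
    have h2 := congrArg Units.val hab
    rw [MonoidHom.coe_toHomUnits, MonoidHom.coe_toHomUnits] at h2
    exact h2
  exact hρ1 (hc h1)

theorem exists_wreath_tower (p : ℕ) [Fact p.Prime] (F : Type u) [Field F] (e : ℕ)
    (W₀ : Type u) [Group W₀] [Finite W₀] [Nontrivial W₀] (hW₀ : IsPGroup p W₀)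
    (ρ₀ : W₀ →* Module.End F (Fin e → F)) (hρ₀ : Function.Injective ρ₀) (he : 0 < e) :
    ∀ j : ℕ, ∃ (W : Type u) (_ : Group W) (_ : Finite W), IsPGroup p W ∧
      derivedSeries W j ≠ ⊥ ∧
      ∃ (U : Type u) (_ : AddCommGroup U) (_ : Module F U) (_ : FiniteDimensional F U),
        Module.finrank F U = e * p ^ j ∧ ∃ ρ : W →* Module.End F U, Function.Injective ρ := by
  have hp : p.Prime := Fact.out
  intro j
  induction j with
  | zero =>
    refine ⟨W₀, inferInstance, inferInstance, hW₀, ?_, Fin e → F, inferInstance, inferInstance,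
      inferInstance, ?_, ρ₀, hρ₀⟩
    · rw [derivedSeries_zero]
      exact top_ne_bot
    · rw [Module.finrank_fin_fun, pow_zero, mul_one]
  | succ j ih =>
    obtain ⟨W, iG, iF, hW, hd, U, i1, i2, i3, hfr, ρ, hρ⟩ := ih
    haveI : Nontrivial U := by
      apply Module.nontrivial_of_finrank_pos (R := F)
      rw [hfr]
      exact Nat.mul_pos he (pow_pos hp.pos _)
    refine ⟨W ≀ᵣ Multiplicative (ZMod p), inferInstance, inferInstance, ?_, ?_,
      Multiplicative (ZMod p) → U, inferInstance, inferInstance, inferInstance, ?_,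
      wreathRep ρ, wreathRep_injective ρ hρ⟩
    · obtain ⟨s, hs⟩ := IsPGroup.iff_card.mp hW
      apply IsPGroup.of_card (n := s * p + 1)
      rw [RegularWreathProduct.card, hs, Nat.card_eq_fintype_card (α := Multiplicative (ZMod p)),
        Fintype.card_multiplicative, ZMod.card, ← pow_mul, pow_succ]
    · exact Cfsg.Agent.Helper20.derivedSeries_wreath_ne_bot j hd
    · rw [finrank_wreath, hfr, Fintype.card_multiplicative, ZMod.card, pow_succ]
      ring

end Cfsg.Agent.Helper20.LinW
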