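import Mathlib
import Cfsg.Agent.Lib.Helper20.ProdStem3

set_option autoImplicit false

namespace Cfsg.Agent.Helper20

section

variable {Δ Q : Type*} [Group Δ] [Group Q] (τ : Δ →* Q) (hτ : Function.Surjective τ)

/-- a section of `τ` -/
noncomputable def monoSec (q : Q) : Δ := Function.surjInv hτ q

theorem tau_monoSec (q : Q) : τ (monoSec τ hτ q) = q := Function.surjInv_eq hτ q

/-- the factor set `s(q) g = k(q, g) s(q τ(g))` -/
noncomputable def monoK (q : Q) (g : Δ) : τ.ker :=
  ⟨monoSec τ hτ q * g * (monoSec τ hτ (q * τ g))⁻¹, by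
    rw [MonoidHom.mem_ker, map_mul, map_mul, map_inv, tau_monoSec, tau_monoSec, mul_inv_cancel]⟩

theorem monoK_coe (q : Q) (g : Δ) :
    (monoK τ hτ q g : Δ) = monoSec τ hτ q * g * (monoSec τ hτ (q * τ g))⁻¹ := rfl

theorem monoK_mul (q : Q) (g h : Δ) :
    monoK τ hτ q (g * h) = monoK τ hτ q g * monoK τ hτ (q * τ g) h := by
  apply Subtype.ext
  rw [Subgroup.coe_mul, monoK_coe, monoK_coe, monoK_coe, map_mul, ← mul_assoc q]
  group

theorem monoK_one (q : Q) : monoK τ hτ q 1 = 1 := by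
  apply Subtype.ext
  rw [monoK_coe, map_one, mul_one, mul_one, mul_inv_cancel]
  rfl

theorem monoK_of_mem_ker (hc : τ.ker ≤ Subgroup.center Δ) (q : Q) (k : τ.ker) :
    monoK τ hτ q (k : Δ) = k := by
  apply Subtype.ext
  have hk : τ (k : Δ) = 1 := k.2
  have hz := Subgroup.mem_center_iff.mp (hc k.2) (monoSec τ hτ q)
  rw [monoK_coe, hk, mul_one, hz, mul_assoc, mul_inv_cancel, mul_one]

variable [Fintype Q] [DecidableEq Q] (lam : τ.ker →* ℂˣ)

/-- the monomial matrix of `g` -/
noncomputable def monoMat (g : Δ) : Matrix Q Q ℂ :=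
  fun q q' => if q' = q * τ g then ((lam (monoK τ hτ q g) : ℂˣ) : ℂ) else 0

theorem monoMat_apply (g : Δ) (q q' : Q) :
    monoMat τ hτ lam g q q' =
      if q' = q * τ g then ((lam (monoK τ hτ q g) : ℂˣ) : ℂ) else 0 := rfl

theorem monoMat_mul (g h : Δ) :
    monoMat τ hτ lam (g * h) = monoMat τ hτ lam g * monoMat τ hτ lam h := by
  ext q q''
  rw [Matrix.mul_apply, Finset.sum_eq_single (q * τ g)]
  · rw [monoMat_apply, monoMat_apply, monoMat_apply, if_pos rfl, map_mul, ← mul_assoc q]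
    by_cases hq : q'' = q * τ g * τ h
    · rw [if_pos hq, if_pos hq, monoK_mul, map_mul, Units.val_mul]
    · rw [if_neg hq, if_neg hq, mul_zero]
  · intro q' _ hq'
    rw [monoMat_apply, if_neg hq', zero_mul]
  · intro hq
    exact absurd (Finset.mem_univ _) hq

theorem monoMat_one : monoMat τ hτ lam 1 = 1 := by
  ext q q'
  rw [monoMat_apply, Matrix.one_apply, map_one, mul_one, monoK_one, map_one, Units.val_one]
  by_cases hq : q = q'
  · rw [if_pos hq, if_pos hq.symm]
  · rw [if_neg hq, if_neg (fun h => hq h.symm)]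

/-- the monomial representation with values in matrices -/
noncomputable def monoHom : Δ →* Matrix Q Q ℂ where
  toFun := monoMat τ hτ lam
  map_one' := monoMat_one τ hτ lam
  map_mul' := monoMat_mul τ hτ lam

/-- the monomial representation -/
noncomputable def monoRep : Δ →* GL Q ℂ := (monoHom τ hτ lam).toHomUnits

theorem monoRep_val (g : Δ) : ((monoRep τ hτ lam g : GL Q ℂ) : Matrix Q Q ℂ) =
    monoMat τ hτ lam g := rfl

theorem monoRep_of_mem_ker (hc : τ.ker ≤ Subgroup.center Δ) (k : τ.ker) :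
    ((monoRep τ hτ lam (k : Δ) : GL Q ℂ) : Matrix Q Q ℂ) = ((lam k : ℂˣ) : ℂ) • 1 := by
  ext q q'
  have hk : τ (k : Δ) = 1 := k.2
  rw [monoRep_val, monoMat_apply, monoK_of_mem_ker τ hτ hc, hk, mul_one, Matrix.smul_apply,
    Matrix.one_apply, smul_eq_mul]
  by_cases hq : q = q'
  · rw [if_pos hq, if_pos hq.symm, mul_one]
  · rw [if_neg hq, if_neg (fun h => hq h.symm), mul_zero]

theorem monoRep_mem_center (hc : τ.ker ≤ Subgroup.center Δ) (k : τ.ker) :
    monoRep τ hτ lam (k : Δ) ∈ Subgroup.center (GL Q ℂ) := by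
  rw [Subgroup.mem_center_iff]
  intro g
  apply Units.ext
  rw [Units.val_mul, Units.val_mul, monoRep_of_mem_ker τ hτ lam hc, mul_smul_comm, mul_one,
    smul_mul_assoc, one_mul]

theorem monoRep_ne_one (hc : τ.ker ≤ Subgroup.center Δ) (k : τ.ker) (hk : lam k ≠ 1) :
    monoRep τ hτ lam (k : Δ) ≠ 1 := by
  intro h
  have h1 := congrArg (fun u : GL Q ℂ => (u : Matrix Q Q ℂ) 1 1) h
  simp only [monoRep_of_mem_ker τ hτ lam hc, Matrix.smul_apply, Matrix.one_apply_eq, smul_eq_mul,
    mul_one, Units.val_one] at h1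
  exact hk (Units.ext h1)

end

end Cfsg.Agent.Helper20
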