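import Mathlib
import Cfsg.Agent.Lib.Helper20.MonomialRep

set_option autoImplicit false

namespace Cfsg.Agent.Helper20

theorem mulEquiv_mem_center {G H : Type*} [Group G] [Group H] (E : G ≃* H) {x : G}
    (hx : x ∈ Subgroup.center G) : E x ∈ Subgroup.center H := by
  rw [Subgroup.mem_center_iff] at hx ⊢
  intro g
  have h1 := hx (E.symm g)
  have h2 := congrArg E h1
  rw [map_mul, map_mul, E.apply_symm_apply] at h2
  exact h2

/-- For a finite central extension and a nontrivial element `a` of its kernel there is a complex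
matrix representation mapping the kernel into the centre and `a` to a nontrivial element. -/
theorem exists_rep_nontrivial_on {Δ Q : Type*} [Group Δ] [Group Q] [Finite Q] [Finite Δ]
    (τ : Δ →* Q) (hτ : Function.Surjective τ) (hc : τ.ker ≤ Subgroup.center Δ) (a : Δ)
    (ha : a ∈ τ.ker) (ha1 : a ≠ 1) :
    ∃ (n : ℕ) (ρ : Δ →* GL (Fin n) ℂ),
      (∀ k ∈ τ.ker, ρ k ∈ Subgroup.center (GL (Fin n) ℂ)) ∧ ρ a ≠ 1 := by
  classical
  have : Fintype Q := Fintype.ofFinite Q
  let _ : CommGroup τ.ker := kerCommGroup τ hc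
  have hne : NeZero (Monoid.exponent τ.ker) := ⟨Monoid.exponent_ne_zero_of_finite⟩
  have hne' : NeZero ((Monoid.exponent τ.ker : ℕ) : ℂ) := NeZero.charZero
  have ha' : (⟨a, ha⟩ : τ.ker) ≠ 1 := fun h => ha1 (congrArg Subtype.val h)
  obtain ⟨lam, hlam⟩ := CommGroup.exists_apply_ne_one_of_hasEnoughRootsOfUnity τ.ker ℂ ha'
  let e : Q ≃ Fin (Fintype.card Q) := Fintype.equivFin Q
  let E : GL Q ℂ ≃* GL (Fin (Fintype.card Q)) ℂ :=
    Units.mapEquiv (Matrix.reindexAlgEquiv ℂ ℂ e).toMulEquiv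
  refine ⟨Fintype.card Q, E.toMonoidHom.comp (monoRep τ hτ lam), ?_, ?_⟩
  · intro k hk
    exact mulEquiv_mem_center E (monoRep_mem_center τ hτ lam hc ⟨k, hk⟩)
  · intro h
    have h1 : E (monoRep τ hτ lam a) = E 1 := by
      rw [map_one]
      exact h
    exact monoRep_ne_one τ hτ lam hc ⟨a, ha⟩ hlam (E.injective h1)

end Cfsg.Agent.Helper20
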