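import Mathlib
import Cfsg.Agent.Lib.Helper20.NilpotentMax
import Cfsg.Agent.S0659
import Cfsg.Agent.Lib.Helper1.CoprimeSylow

set_option autoImplicit false

namespace Cfsg.Agent.Helper20

open Cfsg.Agent.Helper1

section

variable {G : Type*} [Group G] [Finite G]

/-- in the core-free case, `G` has a normal `p`-complement for every prime `p` dividing `|M|` -/
theorem exists_normal_complement_of_prime (M : Subgroup G) (hmax : IsCoatom M)
    (hnil : Group.IsNilpotent M) (hodd : Odd (Nat.card M))
    (hcore : ∀ L : Subgroup G, L.Normal → L ≤ M → L = ⊥) (p : ℕ) [Fact p.Prime]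
    (hp : p ∣ Nat.card M) :
    ∃ K : Subgroup G, K.Normal ∧ ¬ p ∣ Nat.card K ∧
      K.index = p ^ (Nat.card M).factorization p := by
  have hpp : p.Prime := Fact.out
  let PM : Sylow p M := default
  set P : Subgroup G := (PM : Subgroup M).map M.subtype with hPdef
  have hPM : P ≤ M := Subgroup.map_subtype_le _
  have hPp : IsPGroup p P := PM.2.map M.subtype
  have hPcard : Nat.card P = p ^ (Nat.card M).factorization p := by
    rw [hPdef, Subgroup.card_map_of_injective M.subtype_injective]
    exact PM.card_eq_multiplicity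
  have hf1 : 1 ≤ (Nat.card M).factorization p :=
    (hpp.dvd_iff_one_le_factorization Nat.card_pos.ne').mp hp
  have hP1 : P ≠ ⊥ := by
    intro h
    rw [h, Subgroup.card_bot] at hPcard
    have : 1 < p ^ (Nat.card M).factorization p := Nat.one_lt_pow (by omega) hpp.one_lt
    omega
  have hPMn : (PM : Subgroup M).Normal :=
    ((Group.isNilpotent_of_finite_tfae (G := M)).out 0 3 rfl rfl).mp hnil p inferInstance PM
  have hconj : ∀ m ∈ M, ∀ x ∈ P, m * x * m⁻¹ ∈ P := by
    rintro m hm _ ⟨y, hy, rfl⟩
    exact ⟨⟨m, hm⟩ * y * ⟨m, hm⟩⁻¹, hPMn.conj_mem y hy ⟨m, hm⟩, rfl⟩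
  have hMN : M ≤ Subgroup.normalizer (P : Set G) := by
    intro m hm
    rw [Subgroup.mem_normalizer_iff]
    intro x
    constructor
    · exact hconj m hm x
    · intro hx
      have := hconj m⁻¹ (M.inv_mem hm) _ hx
      have h2 : m⁻¹ * (m * x * m⁻¹) * m⁻¹⁻¹ = x := by group
      rwa [h2] at this
  have hcoatom : ∀ U : Subgroup G, M ≤ U → ¬ U.Normal ∨ True → (U ≠ ⊤ → U = M) := by
    intro U hU _ hne
    rcases hmax.le_iff.mp hU with h | h
    · exact absurd h hne
    · exact h
  have hNP : Subgroup.normalizer (P : Set G) = M := by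
    apply hcoatom _ hMN (Or.inr trivial)
    intro htop
    have hn : P.Normal := Subgroup.normalizer_eq_top_iff.mp htop
    exact hP1 (hcore P hn hPM)
  have hidx : ¬ p ∣ P.index := by
    apply not_dvd_index_of_not_dvd_relIndex_normalizer hPp
    have h1 : P.subgroupOf M = (PM : Subgroup M) :=
      Subgroup.comap_map_eq_self_of_injective M.subtype_injective _
    rw [hNP, Subgroup.relIndex, h1]
    exact PM.not_dvd_index
  let PG : Sylow p G := hPp.toSylow hidx
  have hPG : (PG : Subgroup G) = P := rfl
  set ZJ : Subgroup G := Cfsg.centerThompsonAOf P with hZJ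
  have hZJ1 : ZJ ≠ ⊥ := Cfsg.Agent.S0658.centerThompsonAOf_ne_bot P hPp hP1
  have hZJP : ZJ ≤ P :=
    (inf_le_left : Cfsg.centerThompsonAOf P ≤ Cfsg.thompsonSubgroupAOf P).trans
      (Subgroup.map_subtype_le _)
  have hMZJ : M ≤ Subgroup.normalizer (ZJ : Set G) := by
    intro m hm
    apply mem_normalizer_of_map_conj_eq
    have h1 := map_conj_eq_of_mem_normalizer (hMN hm)
    have h2 := Cfsg.Agent.Helper4.ZJ.centerThompsonAOf_map_of_injOn (MulAut.conj m).toMonoidHom P
      ((MulAut.conj m).injective.injOn)
    rw [h1] at h2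
    exact h2.symm
  have hNZJ : Subgroup.normalizer (ZJ : Set G) = M := by
    apply hcoatom _ hMZJ (Or.inr trivial)
    intro htop
    have hn : ZJ.Normal := Subgroup.normalizer_eq_top_iff.mp htop
    exact hZJ1 (hcore ZJ hn (hZJP.trans hPM))
  have hN : Cfsg.HasNormalPComplement p ↥(Subgroup.normalizer (ZJ : Set G)) := by
    have key : ∀ U : Subgroup G, U = M → Cfsg.HasNormalPComplement p ↥U := by
      rintro U rfl
      exact hasNormalPComplement_of_isNilpotent hnil p
    exact key _ hNZJ
  have hp2 : p ≠ 2 := by
    rintro rfl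
    exact (Nat.not_even_iff_odd.mpr hodd) (even_iff_two_dvd.mpr hp)
  obtain ⟨P', K, hKn, hKc⟩ := Cfsg.Agent.S0659.result hp2 PG hN
  refine ⟨K, hKn, ?_, ?_⟩
  · rw [← hKc.index_eq_card]
    exact P'.not_dvd_index
  · rw [hKc.symm.index_eq_card, P'.card_eq_multiplicity]
    congr 1
    have h1 : Nat.card G = Nat.card P * P.index := (Subgroup.card_mul_index P).symm
    rw [h1, hPcard, Nat.factorization_mul (pow_ne_zero _ hpp.ne_zero)
      (Subgroup.index_ne_zero_of_finite), Finsupp.add_apply, hpp.factorization_pow,
      Nat.factorization_eq_zero_of_not_dvd hidx]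
    simp

/-- a normal complement to `M` -/
theorem exists_normal_complement (M : Subgroup G) (hmax : IsCoatom M)
    (hnil : Group.IsNilpotent M) (hodd : Odd (Nat.card M))
    (hcore : ∀ L : Subgroup G, L.Normal → L ≤ M → L = ⊥) :
    ∃ K : Subgroup G, K.Normal ∧ (Nat.card M).Coprime (Nat.card K) ∧ K.IsComplement' M := by
  classical
  have hex : ∀ p : {p // p ∈ (Nat.card M).primeFactors}, ∃ K : Subgroup G, K.Normal ∧
      ¬ (p : ℕ) ∣ Nat.card K ∧ K.index = (p : ℕ) ^ (Nat.card M).factorization p := by
    intro p
    have hp := Nat.mem_primeFactors.mp p.2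
    have : Fact (p : ℕ).Prime := ⟨hp.1⟩
    exact exists_normal_complement_of_prime M hmax hnil hodd hcore p hp.2.1
  choose Kf hKn hKp hKi using hex
  set K : Subgroup G := ⨅ p, Kf p with hK
  have hKnorm : K.Normal := Subgroup.normal_iInf_normal hKn
  have hidx : K.index ≤ Nat.card M := by
    calc K.index ≤ ∏ p, (Kf p).index := Subgroup.index_iInf_le Kf
      _ = ∏ p : {p // p ∈ (Nat.card M).primeFactors}, (p : ℕ) ^ (Nat.card M).factorization p :=
          Finset.prod_congr rfl (fun p _ => hKi p)
      _ = ∏ p ∈ (Nat.card M).primeFactors, p ^ (Nat.card M).factorization p :=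
          Finset.prod_coe_sort (Nat.card M).primeFactors
            (fun p => p ^ (Nat.card M).factorization p)
      _ = Nat.card M := by
          have := Nat.prod_factorization_pow_eq_self (Nat.card_pos (α := M)).ne'
          rw [Finsupp.prod, Nat.support_factorization] at this
          exact this
  have hcop : (Nat.card M).Coprime (Nat.card K) := by
    by_contra hc
    obtain ⟨p, hp, h1, h2⟩ := Nat.Prime.not_coprime_iff_dvd.mp hc
    have hpm : p ∈ (Nat.card M).primeFactors :=
      Nat.mem_primeFactors.mpr ⟨hp, h1, Nat.card_pos.ne'⟩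
    have hle : K ≤ Kf ⟨p, hpm⟩ := iInf_le _ _
    exact hKp ⟨p, hpm⟩ (h2.trans (Subgroup.card_dvd_of_le hle))
  have hdisj : Disjoint K M := Subgroup.disjoint_of_coprime_natCard hcop.symm
  refine ⟨K, hKnorm, hcop, ?_⟩
  apply Subgroup.isComplement'_of_card_mul_and_disjoint _ hdisj
  apply le_antisymm
  · have h1 := Nat.card_le_card_of_injective _ (Subgroup.mul_injective_of_disjoint hdisj)
    rwa [Nat.card_prod] at h1
  · rw [← Subgroup.card_mul_index K]
    exact Nat.mul_le_mul_left _ hidx

/-- the core-free case of Thompson's theorem -/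
theorem isSolvable_of_coatom_nilpotent_odd_corefree (M : Subgroup G) (hmax : IsCoatom M)
    (hnil : Group.IsNilpotent M) (hodd : Odd (Nat.card M))
    (hcore : ∀ L : Subgroup G, L.Normal → L ≤ M → L = ⊥) : Group.IsSolvable G := by
  obtain ⟨K, hKn, hcop, hc⟩ := exists_normal_complement M hmax hnil hodd hcore
  have hKM : K ⊓ M = ⊥ := hc.disjoint.eq_bot
  have hMsolv : Group.IsSolvable M := by
    have := hnil
    infer_instance
  -- `K` is solvable
  have hKsolv : Group.IsSolvable K := by
    by_cases hK1 : K = ⊥
    · have : Subsingleton K := by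
        rw [hK1]
        infer_instance
      infer_instance
    have hcard : Nat.card K ≠ 1 := fun h => hK1 (Subgroup.card_eq_one.mp h)
    obtain ⟨q, hq, hqK⟩ := Nat.exists_prime_and_dvd hcard
    have : Fact q.Prime := ⟨hq⟩
    have hMK : M ≤ Subgroup.normalizer (K : Set G) := by
      rw [Subgroup.normalizer_eq_top_iff.mpr hKn]
      exact le_top
    obtain ⟨Q, hQ⟩ := exists_invariant_sylow (p := q) M hMK hcop (Or.inl hMsolv)
    set Q' : Subgroup G := (Q : Subgroup K).map K.subtype with hQ'
    have hQ'K : Q' ≤ K := Subgroup.map_subtype_le _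
    have hQ'1 : Q' ≠ ⊥ := by
      intro h
      have h1 : Nat.card Q' = q ^ (Nat.card K).factorization q := by
        rw [hQ', Subgroup.card_map_of_injective K.subtype_injective]
        exact Q.card_eq_multiplicity
      rw [h, Subgroup.card_bot] at h1
      have hf1 : 1 ≤ (Nat.card K).factorization q :=
        (hq.dvd_iff_one_le_factorization Nat.card_pos.ne').mp hqK
      have : 1 < q ^ (Nat.card K).factorization q := Nat.one_lt_pow (by omega) hq.one_lt
      omega
    have hQ'M : ¬ Q' ≤ M := by
      intro h
      apply hQ'1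
      rw [eq_bot_iff, ← hKM]
      exact le_inf hQ'K h
    -- `Q'` is normal in `G`
    have hQ'n : Q'.Normal := by
      rw [← Subgroup.normalizer_eq_top_iff]
      rcases hmax.le_iff.mp hQ with h | h
      · exact h
      · exfalso
        apply hQ'M
        rw [← h]
        exact Subgroup.le_normalizer
    have htop : M ⊔ Q' = ⊤ := by
      rcases hmax.le_iff.mp (le_sup_left : M ≤ M ⊔ Q') with h | h
      · exact h
      · exfalso
        apply hQ'M
        rw [← h]
        exact le_sup_right
    have hKQ : K ≤ Q' := by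
      intro k hk
      have h1 : k ∈ M ⊔ Q' := by
        rw [htop]
        exact Subgroup.mem_top k
      rw [Subgroup.mem_sup_of_normal_right] at h1
      obtain ⟨m, hm, u, hu, rfl⟩ := h1
      have h2 : m ∈ K ⊓ M := by
        refine ⟨?_, hm⟩
        have : m = m * u * u⁻¹ := by group
        rw [this]
        exact K.mul_mem hk (K.inv_mem (hQ'K hu))
      rw [hKM, Subgroup.mem_bot] at h2
      rw [h2, one_mul]
      exact hu
    have hKq : IsPGroup q K := by
      have h1 : IsPGroup q Q' := Q.2.map K.subtype
      exact h1.to_le hKQ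
    have := hKq.isNilpotent
    infer_instance
  -- `G ⧸ K` is solvable
  have hGK : Group.IsSolvable (G ⧸ K) :=
    Group.isSolvable_of_isSolvable_injective (f := hc.symm.QuotientMulEquiv.toMonoidHom)
      hc.symm.QuotientMulEquiv.injective
  exact Group.isSolvable_of_ker_le_range K.subtype (QuotientGroup.mk' K)
    (by rw [QuotientGroup.ker_mk', Subgroup.range_subtype])

/-- **Thompson**: a finite group with a nilpotent maximal subgroup of odd order is solvable -/
theorem isSolvable_of_coatom_nilpotent_odd (M : Subgroup G) (hmax : IsCoatom M)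
    (hnil : Group.IsNilpotent M) (hodd : Odd (Nat.card M)) : Group.IsSolvable G := by
  set N : Subgroup G := M.normalCore with hN
  have hNM : N ≤ M := Subgroup.normalCore_le M
  set f := QuotientGroup.mk' N with hf
  have hfs : Function.Surjective f := QuotientGroup.mk'_surjective N
  set Mb : Subgroup (G ⧸ N) := M.map f with hMb
  have hcomap : Mb.comap f = M := by
    rw [hMb, Subgroup.comap_map_eq_self]
    rw [hf, QuotientGroup.ker_mk']
    exact hNM
  have hcoatom : IsCoatom Mb := by
    constructor
    · intro h
      apply hmax.1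
      rw [← hcomap, h, Subgroup.comap_top]
    · intro L hL
      have h1 : Mb.comap f < L.comap f := by
        refine lt_of_le_of_ne (Subgroup.comap_mono hL.le) ?_
        intro h
        have h2 := congrArg (Subgroup.map f) h
        rw [Subgroup.map_comap_eq_self_of_surjective hfs,
          Subgroup.map_comap_eq_self_of_surjective hfs] at h2
        exact hL.ne h2
      rw [hcomap] at h1
      have h2 := hmax.2 _ h1
      have h3 := congrArg (Subgroup.map f) h2
      rw [Subgroup.map_comap_eq_self_of_surjective hfs, Subgroup.map_top_of_surjective f hfs] at h3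
      exact h3
  have hnilb : Group.IsNilpotent Mb := by
    have := hnil
    exact Group.nilpotent_of_surjective (f.subgroupMap M) (f.subgroupMap_surjective M)
  have hoddb : Odd (Nat.card Mb) := by
    have h1 : Nat.card Mb ∣ Nat.card M := Subgroup.card_map_dvd M f
    exact Odd.of_dvd_nat hodd h1
  have hcore : ∀ L : Subgroup (G ⧸ N), L.Normal → L ≤ Mb → L = ⊥ := by
    intro L hLn hLM
    have h1 : (L.comap f).Normal := hLn.comap f
    have h2 : L.comap f ≤ M := by
      have h4 : L.comap f ≤ Mb.comap f := Subgroup.comap_mono hLM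
      rwa [hcomap] at h4
    have h3 : L.comap f ≤ N := (Subgroup.normal_le_normalCore).mpr h2
    rw [eq_bot_iff]
    intro x hx
    obtain ⟨g, rfl⟩ := hfs x
    have : g ∈ N := h3 hx
    rw [Subgroup.mem_bot, hf, QuotientGroup.mk'_apply]
    exact (QuotientGroup.eq_one_iff g).mpr this
  have hQ : Group.IsSolvable (G ⧸ N) :=
    isSolvable_of_coatom_nilpotent_odd_corefree Mb hcoatom hnilb hoddb hcore
  have hNs : Group.IsSolvable N := by
    have : Group.IsSolvable M := by
      have := hnil
      infer_instance
    exact Group.isSolvable_of_isSolvable_injective (f := Subgroup.inclusion hNM)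
      (Subgroup.inclusion_injective hNM)
  exact Group.isSolvable_of_ker_le_range N.subtype f
    (by rw [hf, QuotientGroup.ker_mk', Subgroup.range_subtype])

end

end Cfsg.Agent.Helper20
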