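import Mathlib

/-!
# Groups whose element orders lie in `{1, 2, 3, 4}`: basic lemmas (helper20)
-/

set_option autoImplicit false

namespace Cfsg.Agent.Helper20

/-- all element orders are in `{1, 2, 3, 4}` -/
def Ord4 (G : Type*) [Group G] : Prop :=
  ∀ g : G, orderOf g = 1 ∨ orderOf g = 2 ∨ orderOf g = 3 ∨ orderOf g = 4

namespace Ord4

variable {G : Type*} [Group G]

theorem pow_three_or_pow_four (h : Ord4 G) (g : G) : g ^ 3 = 1 ∨ g ^ 4 = 1 := by
  rcases h g with h1 | h1 | h1 | h1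
  · left; rw [orderOf_eq_one_iff.mp h1, one_pow]
  · right
    have := pow_orderOf_eq_one g
    rw [h1] at this
    rw [show 4 = 2 * 2 from rfl, pow_mul, this, one_pow]
  · left
    have := pow_orderOf_eq_one g
    rwa [h1] at this
  · right
    have := pow_orderOf_eq_one g
    rwa [h1] at this

theorem not_six_dvd (h : Ord4 G) (g : G) : ¬ 6 ∣ orderOf g := by
  intro hd
  rcases h g with h1 | h1 | h1 | h1 <;> rw [h1] at hd <;> omega

theorem eq_three_of_three_dvd (h : Ord4 G) (g : G) (hd : 3 ∣ orderOf g) : orderOf g = 3 := by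
  rcases h g with h1 | h1 | h1 | h1 <;> rw [h1] at hd ⊢ <;> omega

theorem quotient (h : Ord4 G) (N : Subgroup G) [N.Normal] : Ord4 (G ⧸ N) := by
  intro q
  obtain ⟨g, rfl⟩ := QuotientGroup.mk_surjective q
  have hd : orderOf ((QuotientGroup.mk' N) g) ∣ orderOf g := orderOf_map_dvd _ g
  change orderOf ((QuotientGroup.mk' N) g) = 1 ∨ orderOf ((QuotientGroup.mk' N) g) = 2 ∨
    orderOf ((QuotientGroup.mk' N) g) = 3 ∨ orderOf ((QuotientGroup.mk' N) g) = 4
  generalize orderOf ((QuotientGroup.mk' N) g) = m at hd ⊢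
  rcases h g with h1 | h1 | h1 | h1 <;> rw [h1] at hd
  · have hle := Nat.le_of_dvd (by norm_num) hd
    interval_cases m <;> omega
  · have hle := Nat.le_of_dvd (by norm_num) hd
    interval_cases m <;> omega
  · have hle := Nat.le_of_dvd (by norm_num) hd
    interval_cases m <;> omega
  · have hle := Nat.le_of_dvd (by norm_num) hd
    interval_cases m <;> omega

theorem not_commute_three_two (h : Ord4 G) {x y : G} (hx : orderOf x = 3) (hy : orderOf y = 2)
    (hc : Commute x y) : False := by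
  have h1 := hc.orderOf_mul_eq_mul_orderOf_of_coprime (by rw [hx, hy]; norm_num)
  rw [hx, hy] at h1
  exact h.not_six_dvd (x * y) (by rw [h1])

theorem eq_one_of_commute_of_pow_four (h : Ord4 G) {x y : G} (hx : orderOf x = 3)
    (hy : y ^ 4 = 1) (hc : Commute x y) : y = 1 := by
  have hd : orderOf y ∣ 2 ^ 2 := orderOf_dvd_of_pow_eq_one hy
  obtain ⟨j, hj, hj2⟩ := (Nat.dvd_prime_pow Nat.prime_two).mp hd
  interval_cases j
  · rw [pow_zero] at hj2
    exact orderOf_eq_one_iff.mp hj2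
  · exact (h.not_commute_three_two hx (by simpa using hj2) hc).elim
  · exfalso
    have h2 : orderOf (y ^ 2) = 2 := by
      rw [orderOf_pow' y (by norm_num : (2 : ℕ) ≠ 0), hj2]
      norm_num
    exact h.not_commute_three_two hx h2 (hc.pow_right 2)

theorem eq_one_of_commute_of_pow_three (h : Ord4 G) {x y : G} (hy : orderOf y = 2)
    (hx : x ^ 3 = 1) (hc : Commute x y) : x = 1 := by
  have hd : orderOf x ∣ 3 := orderOf_dvd_of_pow_eq_one hx
  rcases (Nat.dvd_prime Nat.prime_three).mp hd with h1 | h1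
  · exact orderOf_eq_one_iff.mp h1
  · exact (h.not_commute_three_two h1 hy hc).elim

/-- multiplying an element of order 3 by an element of a normal `2`-subgroup gives an element
of order 3 -/
theorem orderOf_mul_eq_three (h : Ord4 G) (N : Subgroup G) [N.Normal] (hN : ∀ n ∈ N, n ^ 4 = 1)
    {y k : G} (hy : orderOf y = 3) (hk : k ∈ N) : orderOf (k * y) = 3 := by
  apply h.eq_three_of_three_dvd
  have hyN : y ∉ N := by
    intro hyN
    have h4 := hN y hyN
    have h3 : y ^ 3 = 1 := by rw [← hy]; exact pow_orderOf_eq_one y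
    have : y = 1 := by
      calc y = y ^ 4 * (y ^ 3)⁻¹ := by group
        _ = 1 := by rw [h4, h3]; simp
    rw [this, orderOf_one] at hy
    omega
  have h1 : (QuotientGroup.mk' N) (k * y) = (QuotientGroup.mk' N) y := by
    have hk1 : (QuotientGroup.mk' N) k = 1 := (QuotientGroup.eq_one_iff k).mpr hk
    rw [map_mul, hk1, one_mul]
  have h2 : orderOf ((QuotientGroup.mk' N) y) = 3 := by
    have hd : orderOf ((QuotientGroup.mk' N) y) ∣ 3 := by
      rw [← hy]; exact orderOf_map_dvd _ y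
    rcases (Nat.dvd_prime Nat.prime_three).mp hd with h3 | h3
    · exfalso
      rw [orderOf_eq_one_iff] at h3
      exact hyN ((QuotientGroup.eq_one_iff y).mp h3)
    · exact h3
  rw [← h2, ← h1]
  exact orderOf_map_dvd _ _

/-- for `y` of order 3 and `k` in a normal `2`-subgroup, `k * k^y * k^(y^2) = 1` -/
theorem mul_conj_mul_conj (h : Ord4 G) (N : Subgroup G) [N.Normal] (hN : ∀ n ∈ N, n ^ 4 = 1)
    {y k : G} (hy : orderOf y = 3) (hk : k ∈ N) :
    k * (y * k * y⁻¹) * (y⁻¹ * k * y) = 1 := by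
  have h1 : (k * y) ^ 3 = 1 := by
    rw [← h.orderOf_mul_eq_three N hN hy hk]
    exact pow_orderOf_eq_one _
  have h3 : y ^ 3 = 1 := by rw [← hy]; exact pow_orderOf_eq_one y
  have h5 : y⁻¹ * y⁻¹ = y := by
    calc y⁻¹ * y⁻¹ = y ^ 3 * (y⁻¹ * y⁻¹) := by rw [h3, one_mul]
      _ = y := by group
  calc k * (y * k * y⁻¹) * (y⁻¹ * k * y) = k * y * k * (y⁻¹ * y⁻¹) * k * y := by
        simp only [mul_assoc]
    _ = (k * y) ^ 3 := by
        rw [h5]
        simp only [pow_succ, pow_zero, one_mul, mul_assoc]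
    _ = 1 := h1

/-- for `y` of order 3 and `k` in a normal `2`-subgroup, `k` commutes with its conjugate by `y` -/
theorem commute_conj (h : Ord4 G) (N : Subgroup G) [N.Normal] (hN : ∀ n ∈ N, n ^ 4 = 1)
    {y k : G} (hy : orderOf y = 3) (hk : k ∈ N) : Commute k (y * k * y⁻¹) := by
  have h1 := h.mul_conj_mul_conj N hN hy hk
  have hy' : orderOf y⁻¹ = 3 := by rw [orderOf_inv, hy]
  have h2 := h.mul_conj_mul_conj N hN hy' hk
  rw [inv_inv] at h2
  -- u = y k y⁻¹, v = y⁻¹ k y : k u v = 1 and k v u = 1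
  have h3 : (y * k * y⁻¹) * (y⁻¹ * k * y) = (y⁻¹ * k * y) * (y * k * y⁻¹) := by
    have e1 : (y * k * y⁻¹) * (y⁻¹ * k * y) = k⁻¹ :=
      eq_inv_of_mul_eq_one_right (by rw [← mul_assoc]; exact h1)
    have e2 : (y⁻¹ * k * y) * (y * k * y⁻¹) = k⁻¹ :=
      eq_inv_of_mul_eq_one_right (by rw [← mul_assoc]; exact h2)
    rw [e1, e2]
  -- conjugate by y⁻¹ … : apply to y⁻¹ * _ * y
  have h4 : y⁻¹ * ((y * k * y⁻¹) * (y⁻¹ * k * y)) * y = y⁻¹ * ((y⁻¹ * k * y) * (y * k * y⁻¹)) * y := by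
    rw [h3]
  have h3' : y ^ 3 = 1 := by rw [← hy]; exact pow_orderOf_eq_one y
  have h5 : y⁻¹ * y⁻¹ = y := by
    calc y⁻¹ * y⁻¹ = y ^ 3 * (y⁻¹ * y⁻¹) := by rw [h3', one_mul]
      _ = y := by group
  -- y⁻¹ (y k y⁻¹)(y⁻¹ k y) y = k * (y⁻¹ y⁻¹ k y y) = k * (y k y⁻¹)
  have h5' : y * y = y⁻¹ := by
    rw [eq_inv_iff_mul_eq_one, ← pow_two, ← pow_succ]
    exact h3'
  have h6 : y⁻¹ * ((y * k * y⁻¹) * (y⁻¹ * k * y)) * y = k * (y * k * y⁻¹) := by
    calc y⁻¹ * ((y * k * y⁻¹) * (y⁻¹ * k * y)) * y = k * ((y⁻¹ * y⁻¹) * k * (y * y)) := by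
          simp only [mul_assoc, inv_mul_cancel_left]
      _ = k * (y * k * y⁻¹) := by rw [h5, h5']
  have h7 : y⁻¹ * ((y⁻¹ * k * y) * (y * k * y⁻¹)) * y = (y * k * y⁻¹) * k := by
    calc y⁻¹ * ((y⁻¹ * k * y) * (y * k * y⁻¹)) * y = ((y⁻¹ * y⁻¹) * k * (y * y)) * k := by
          simp only [mul_assoc, inv_mul_cancel, mul_one]
      _ = (y * k * y⁻¹) * k := by rw [h5, h5']
  rw [h6, h7] at h4
  exact h4

end Ord4

end Cfsg.Agent.Helper20
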