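import Mathlib
import Cfsg.Prelude.Def_Transfer
import Cfsg.Agent.Lib.Helper20.Ord4Basic
import Cfsg.Agent.Lib.Helper20.UniqueInvolution

/-!
# Element orders `{1,2,3,4}`: the case of a nontrivial normal 3-subgroup (helper20)
-/

set_option autoImplicit false

namespace Cfsg.Agent.Helper20

namespace Ord4

variable {G : Type*} [Group G]

theorem pow_three_of_isPGroup (h : Ord4 G) (K : Subgroup G) (hK : IsPGroup 3 K) :
    ∀ n ∈ K, n ^ 3 = 1 := by
  intro n hn
  obtain ⟨k, hk⟩ := hK ⟨n, hn⟩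
  have hk' : n ^ 3 ^ k = 1 := by
    have := congrArg Subtype.val hk
    simpa using this
  have hd : orderOf n ∣ 3 ^ k := orderOf_dvd_of_pow_eq_one hk'
  obtain ⟨j, -, hj⟩ := (Nat.dvd_prime_pow Nat.prime_three).mp hd
  rcases h n with h1 | h1 | h1 | h1
  · rw [orderOf_eq_one_iff.mp h1, one_pow]
  · exfalso
    rw [h1] at hj
    have h3 : (2 : ℕ) ∣ 3 ^ j := by rw [← hj]
    have := (Nat.Prime.dvd_of_dvd_pow Nat.prime_two h3)
    omega
  · have := pow_orderOf_eq_one n
    rwa [h1] at this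
  · exfalso
    rw [h1] at hj
    have h3 : (2 : ℕ) ∣ 3 ^ j := by rw [← hj]; norm_num
    have := (Nat.Prime.dvd_of_dvd_pow Nat.prime_two h3)
    omega

/-- an involution inverts every normal subgroup of exponent 3 -/
theorem inverts (h : Ord4 G) (H : Subgroup G) [hHn : H.Normal] (hH3 : ∀ n ∈ H, n ^ 3 = 1)
    {z : G} (hz : orderOf z = 2) : ∀ c ∈ H, z * c * z⁻¹ = c⁻¹ := by
  intro c hc
  have hz2 : z ^ 2 = 1 := by rw [← hz]; exact pow_orderOf_eq_one z
  have hzinv : z⁻¹ = z := by rw [inv_eq_iff_mul_eq_one, ← pow_two]; exact hz2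
  have hzH : z ∉ H := by
    intro hzH
    have h3 := hH3 z hzH
    have : z = 1 := by
      calc z = z ^ 3 * (z ^ 2)⁻¹ := by group
        _ = 1 := by rw [h3, hz2]; simp
    rw [this, orderOf_one] at hz
    omega
  have hw : (z * c) ^ 2 = z * c * z⁻¹ * c := by
    rw [pow_two, hzinv]; group
  have hwH : (z * c) ^ 2 ∈ H := by
    rw [hw]; exact H.mul_mem (hHn.conj_mem _ hc z) hc
  rcases h.pow_three_or_pow_four (z * c) with h3 | h4
  · exfalso
    apply hzH
    have h6 : z = ((z * c) ^ 2)⁻¹ * c⁻¹ := by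
      have : (z * c) ^ 2 * (z * c) = 1 := by rw [← pow_succ]; exact h3
      calc z = ((z * c) ^ 2)⁻¹ * ((z * c) ^ 2 * (z * c)) * c⁻¹ := by group
        _ = ((z * c) ^ 2)⁻¹ * c⁻¹ := by rw [this, mul_one]
    rw [h6]
    exact H.mul_mem (H.inv_mem hwH) (H.inv_mem hc)
  · have e2 : ((z * c) ^ 2) ^ 2 = 1 := by rw [← pow_mul]; exact h4
    have e3 := hH3 _ hwH
    have e1 : (z * c) ^ 2 = 1 := by
      calc (z * c) ^ 2 = ((z * c) ^ 2) ^ 3 * (((z * c) ^ 2) ^ 2)⁻¹ := by group
        _ = 1 := by rw [e2, e3]; simp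
    rw [hw] at e1
    exact eq_inv_of_mul_eq_one_left e1

/-- the case of a nontrivial normal `3`-subgroup -/
theorem caseA [Finite G] (h : Ord4 G) (N₀ : Subgroup G) [hN₀n : N₀.Normal]
    (hN₀ : IsPGroup 3 N₀) (hN₀b : N₀ ≠ ⊥) {z g4 : G} (hz : orderOf z = 2)
    (hg4 : orderOf g4 = 4) :
    ∃ (N : Subgroup G) (_ : N.Normal), Cfsg.IsElementaryAbelian 3 N ∧
      ((IsCyclic (G ⧸ N) ∧ N.index = 4) ∨ Nonempty (G ⧸ N ≃* QuaternionGroup 2)) := by
  have hN₀3 := h.pow_three_of_isPGroup N₀ hN₀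
  set N := Subgroup.centralizer (N₀ : Set G) with hN
  haveI hNn : N.Normal := Subgroup.normal_centralizer
  refine ⟨N, hNn, ?_⟩
  -- an element of order 3 in N₀
  obtain ⟨⟨y, hyN₀⟩, hy1⟩ := (Subgroup.ne_bot_iff_exists_ne_one).mp hN₀b
  have hy1' : y ≠ 1 := fun hh => hy1 (Subtype.ext hh)
  have hy3 : orderOf y = 3 := by
    have hd : orderOf y ∣ 3 := orderOf_dvd_of_pow_eq_one (hN₀3 y hyN₀)
    rcases (Nat.dvd_prime Nat.prime_three).mp hd with h1 | h1
    · exact absurd (orderOf_eq_one_iff.mp h1) hy1'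
    · exact h1
  -- elements of N have cube 1
  have hN3 : ∀ c ∈ N, c ^ 3 = 1 := by
    intro c hc
    have hcy : Commute y c := by
      rw [hN, Subgroup.mem_centralizer_iff] at hc
      exact hc y hyN₀
    rcases h.pow_three_or_pow_four c with h3 | h4
    · exact h3
    · rw [h.eq_one_of_commute_of_pow_four hy3 h4 hcy, one_pow]
  have hinvN := h.inverts N hN3 hz
  have hinvN₀ := fun {z' : G} (hz' : orderOf z' = 2) => h.inverts N₀ hN₀3 hz'
  -- N is abelian
  have hNc : ∀ a ∈ N, ∀ b ∈ N, a * b = b * a := by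
    intro a ha b hb
    have e1 := hinvN (a * b) (N.mul_mem ha hb)
    have e2 : z * (a * b) * z⁻¹ = (z * a * z⁻¹) * (z * b * z⁻¹) := by group
    rw [e2, hinvN a ha, hinvN b hb, mul_inv_rev] at e1
    have e3 : (a⁻¹ * b⁻¹)⁻¹ = (b⁻¹ * a⁻¹)⁻¹ := by rw [e1]
    rw [mul_inv_rev, mul_inv_rev, inv_inv, inv_inv] at e3
    exact e3.symm
  have hEA : Cfsg.IsElementaryAbelian 3 N := by
    refine ⟨?_, hN3⟩
    constructor
    constructor
    intro a b
    exact Subtype.ext (hNc a a.2 b b.2)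
  refine ⟨hEA, ?_⟩
  -- two involutions are congruent modulo N
  have hinvol : ∀ z' : G, orderOf z' = 2 → z' * z ∈ N := by
    intro z' hz'
    rw [hN, Subgroup.mem_centralizer_iff]
    intro n hn
    have e1 := hinvN₀ hz n hn
    have e2 := hinvN₀ hz' n⁻¹ (N₀.inv_mem hn)
    rw [inv_inv] at e2
    have e3 : (z' * z) * n * (z' * z)⁻¹ = n := by
      calc (z' * z) * n * (z' * z)⁻¹ = z' * (z * n * z⁻¹) * z'⁻¹ := by group
        _ = n := by rw [e1, e2]
    calc n * (z' * z) = ((z' * z) * n * (z' * z)⁻¹) * (z' * z) := by rw [e3]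
      _ = z' * z * n := by group
  have hz2 : z ^ 2 = 1 := by rw [← hz]; exact pow_orderOf_eq_one z
  have hzN : z ∉ N := by
    intro hzN
    have h3 := hN3 z hzN
    have : z = 1 := by
      calc z = z ^ 3 * (z ^ 2)⁻¹ := by group
        _ = 1 := by rw [h3, hz2]; simp
    rw [this, orderOf_one] at hz
    omega
  set π := QuotientGroup.mk' N with hπ
  have hker : ∀ g : G, π g = 1 ↔ g ∈ N := fun g => QuotientGroup.eq_one_iff g
  have hzb1 : π z ≠ 1 := fun hh => hzN ((hker z).mp hh)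
  have hzb2 : (π z) ^ 2 = 1 := by rw [← map_pow, hz2, map_one]
  have hzbinv : (π z)⁻¹ = π z := by rw [inv_eq_iff_mul_eq_one, ← pow_two]; exact hzb2
  -- uniqueness of the involution of the quotient
  have huniq : ∀ q : G ⧸ N, q ^ 2 = 1 → q = 1 ∨ q = π z := by
    intro q hq
    obtain ⟨g, rfl⟩ := QuotientGroup.mk'_surjective N q
    have hg2 : g ^ 2 ∈ N := by rw [← hker, map_pow]; exact hq
    rcases h g with h1 | h1 | h1 | h1
    · left
      rw [orderOf_eq_one_iff.mp h1, map_one]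
    · right
      have := hinvol g h1
      rw [← hker, map_mul] at this
      rw [← hzbinv]
      exact eq_inv_of_mul_eq_one_left this
    · left
      rw [hker]
      have h3 : g ^ 3 = 1 := by rw [← h1]; exact pow_orderOf_eq_one g
      have : g = (g ^ 2) ^ 2 * (g ^ 3)⁻¹ := by group
      rw [this, h3, inv_one, mul_one]
      exact N.pow_mem hg2 2
    · exfalso
      have h4 : g ^ 4 = 1 := by rw [← h1]; exact pow_orderOf_eq_one g
      have e2 : (g ^ 2) ^ 2 = 1 := by rw [← pow_mul]; exact h4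
      have e3 := hN3 _ hg2
      have e1 : g ^ 2 = 1 := by
        calc g ^ 2 = (g ^ 2) ^ 3 * ((g ^ 2) ^ 2)⁻¹ := by group
          _ = 1 := by rw [e2, e3]; simp
      have := orderOf_dvd_of_pow_eq_one e1
      rw [h1] at this
      omega
  -- the involution is central
  have hzc : ∀ q : G ⧸ N, Commute q (π z) := by
    intro q
    have h1 : (q * π z * q⁻¹) ^ 2 = 1 := by rw [conj_pow, hzb2]; group
    rcases huniq _ h1 with h2 | h2
    · exfalso
      apply hzb1
      have : π z = q⁻¹ * (q * π z * q⁻¹) * q := by group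
      rw [this, h2]; group
    · show q * π z = π z * q
      calc q * π z = (q * π z * q⁻¹) * q := by group
        _ = π z * q := by rw [h2]
  have hzb_ord : orderOf (π z) = 2 := by
    have hd : orderOf (π z) ∣ 2 := orderOf_dvd_of_pow_eq_one hzb2
    rcases (Nat.dvd_prime Nat.prime_two).mp hd with h1 | h1
    · exact absurd (orderOf_eq_one_iff.mp h1) hzb1
    · exact h1
  have hQ4 := h.quotient N
  -- all fourth powers are trivial
  have hpow4 : ∀ q : G ⧸ N, q ^ 4 = 1 := by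
    intro q
    obtain ⟨g, rfl⟩ := QuotientGroup.mk'_surjective N q
    rcases h.pow_three_or_pow_four g with h3 | h4
    · have h3' : (π g) ^ 3 = 1 := by rw [← map_pow, h3, map_one]
      have := hQ4.eq_one_of_commute_of_pow_three hzb_ord h3' (hzc (π g))
      show (π g) ^ 4 = 1
      rw [this, one_pow]
    · show (π g) ^ 4 = 1
      rw [← map_pow, h4, map_one]
  -- the image of the element of order 4
  have hg4' : orderOf (π g4) = 4 := by
    have h4 : g4 ^ 4 = 1 := by rw [← hg4]; exact pow_orderOf_eq_one g4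
    have hnot : ¬ (π g4) ^ 2 ^ 1 = 1 := by
      intro hh
      rw [pow_one, ← map_pow, hker] at hh
      have e2 : (g4 ^ 2) ^ 2 = 1 := by rw [← pow_mul]; exact h4
      have e3 := hN3 _ hh
      have e1 : g4 ^ 2 = 1 := by
        calc g4 ^ 2 = (g4 ^ 2) ^ 3 * ((g4 ^ 2) ^ 2)⁻¹ := by group
          _ = 1 := by rw [e2, e3]; simp
      have := orderOf_dvd_of_pow_eq_one e1
      rw [hg4] at this
      omega
    have hfin : (π g4) ^ 2 ^ (1 + 1) = 1 := by
      show (π g4) ^ 4 = 1
      exact hpow4 _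
    have := orderOf_eq_prime_pow hnot hfin
    simpa using this
  have hdvd : 4 ∣ Nat.card (G ⧸ N) := by
    rw [← hg4']; exact orderOf_dvd_natCard _
  by_cases hc4 : Nat.card (G ⧸ N) = 4
  · left
    refine ⟨isCyclic_of_orderOf_eq_card (π g4) (by rw [hg4', hc4]), ?_⟩
    rw [Subgroup.index_eq_card, hc4]
  · right
    have hpos : 0 < Nat.card (G ⧸ N) := Nat.card_pos
    have hlt : 4 < Nat.card (G ⧸ N) := by
      obtain ⟨k, hk⟩ := hdvd
      rw [hk] at hc4 hpos ⊢
      omega
    exact nonempty_mulEquiv_quaternion_of_unique_involution (π z) hzb1 hzb2 huniq hpow4 hlt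

end Ord4

end Cfsg.Agent.Helper20
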