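import Mathlib
import Cfsg.Agent.Lib.Helper20.Ord4Basic
import Cfsg.Agent.Lib.Helper20.Levi

/-!
# Element orders `{1,2,3,4}`: a normal 2-subgroup normalized by an element of order 3
has class at most 2 (helper20)
-/

set_option autoImplicit false

namespace Cfsg.Agent.Helper20

open scoped commutatorElement

namespace Ord4

variable {G : Type*} [Group G]

/-- a normal `2`-subgroup of a group with element orders in `{1,2,3,4}` containing an element of
order 3 is a 2-Engel group -/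
theorem engel2 (h : Ord4 G) (N : Subgroup G) [N.Normal] (hN : ∀ n ∈ N, n ^ 4 = 1)
    {x : G} (hx : orderOf x = 3) : Levi.Engel2 N := by
  intro a g
  have key : ∀ k ∈ N, ∀ g ∈ N, Commute k (g * k * g⁻¹) := by
    intro k hk g hg
    -- S1
    have s1 : ∀ y : G, orderOf y = 3 → Commute k (g * (y * k * y⁻¹) * g⁻¹) := by
      intro y hy
      have h1 := h.commute_conj N hN (h.orderOf_mul_eq_three N hN hy hg) hk
      have h2 : g * y * k * (g * y)⁻¹ = g * (y * k * y⁻¹) * g⁻¹ := by group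
      rwa [h2] at h1
    have hx' : orderOf x⁻¹ = 3 := by rw [orderOf_inv, hx]
    have c1 := s1 x hx
    have c2 := s1 x⁻¹ hx'
    rw [inv_inv] at c2
    have f1 := h.mul_conj_mul_conj N hN hx hk
    have f2 : (x * k * x⁻¹) * (x⁻¹ * k * x) = k⁻¹ :=
      eq_inv_of_mul_eq_one_right (by rw [← mul_assoc]; exact f1)
    have f3 : g * k⁻¹ * g⁻¹ = (g * (x * k * x⁻¹) * g⁻¹) * (g * (x⁻¹ * k * x) * g⁻¹) := by
      rw [← f2]; group
    have c3 : Commute k (g * k⁻¹ * g⁻¹) := by
      rw [f3]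
      exact c1.mul_right c2
    have f4 : g * k * g⁻¹ = (g * k⁻¹ * g⁻¹)⁻¹ := by group
    rw [f4]
    exact c3.inv_right
  have h1 := key a a.2 g g.2
  apply Subtype.ext
  have h2 := h1.eq
  simpa using h2

/-- triple commutators are trivial -/
theorem triple_comm_eq_one (h : Ord4 G) (N : Subgroup G) [N.Normal] (hN : ∀ n ∈ N, n ^ 4 = 1)
    {x : G} (hx : orderOf x = 3) (a b c : N) : ⁅⁅a, b⁆, c⁆ = 1 := by
  have h3 := Levi.triple_pow_three (h.engel2 N hN hx) a b c
  have h4 : ⁅⁅a, b⁆, c⁆ ^ 4 = 1 := by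
    apply Subtype.ext
    have := hN _ (⁅⁅a, b⁆, c⁆ : N).2
    simpa using this
  calc ⁅⁅a, b⁆, c⁆ = ⁅⁅a, b⁆, c⁆ ^ 4 * (⁅⁅a, b⁆, c⁆ ^ 3)⁻¹ := by group
    _ = 1 := by rw [h3, h4]; simp

theorem nilpotencyClass_le_two [Finite G] (h : Ord4 G) (N : Subgroup G) [N.Normal]
    (hN : IsPGroup 2 N) {x : G} (hx : orderOf x = 3) : Group.nilpotencyClass N ≤ 2 := by
  haveI : Fact (Nat.Prime 2) := ⟨Nat.prime_two⟩
  haveI : Group.IsNilpotent N := hN.isNilpotent
  have hN4 : ∀ n ∈ N, n ^ 4 = 1 := by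
    intro n hn
    obtain ⟨k, hk⟩ := hN ⟨n, hn⟩
    have hk' : n ^ 2 ^ k = 1 := by
      have := congrArg Subtype.val hk
      simpa using this
    have hd : orderOf n ∣ 2 ^ k := orderOf_dvd_of_pow_eq_one hk'
    obtain ⟨j, -, hj⟩ := (Nat.dvd_prime_pow Nat.prime_two).mp hd
    rcases h n with h1 | h1 | h1 | h1
    · rw [orderOf_eq_one_iff.mp h1, one_pow]
    · have := pow_orderOf_eq_one n
      rw [h1] at this
      rw [show 4 = 2 * 2 from rfl, pow_mul, this, one_pow]
    · exfalso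
      rw [h1] at hj
      have h3 : (3 : ℕ) ∣ 2 ^ j := by rw [← hj]
      have := (Nat.Prime.dvd_of_dvd_pow Nat.prime_three h3)
      omega
    · have := pow_orderOf_eq_one n
      rwa [h1] at this
  rw [← Subgroup.upperCentralSeries_eq_top_iff_nilpotencyClass_le, eq_top_iff]
  intro a _
  rw [show (2 : ℕ) = 1 + 1 from rfl, Subgroup.mem_upperCentralSeries_succ_iff]
  intro b
  rw [Subgroup.upperCentralSeries_one, Subgroup.mem_center_iff]
  intro c
  have h1 := h.triple_comm_eq_one N hN4 hx a b c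
  rw [commutatorElement_eq_one_iff_mul_comm] at h1
  exact h1.symm

end Ord4

end Cfsg.Agent.Helper20
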