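import Mathlib
import Cfsg.Agent.Lib.Helper20.Ord4Basic

/-!
# Element orders `{1,2,3,4}`: the `S₃` case, core computation (helper20)
-/

set_option autoImplicit false

namespace Cfsg.Agent.Helper20

namespace Ord4

variable {G : Type*} [Group G]

/-- `t ∉ K` when `t` inverts an element of order 3 and `K` is a normal 2-group -/
theorem not_mem_of_inverts (K : Subgroup G) [hKn : K.Normal] (hK4 : ∀ n ∈ K, n ^ 4 = 1)
    {x t : G} (hx : orderOf x = 3) (htx : t * x * t⁻¹ = x⁻¹) : t ∉ K := by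
  intro htK
  have hx3 : x ^ 3 = 1 := by rw [← hx]; exact pow_orderOf_eq_one x
  have h1 : t * (x * t⁻¹ * x⁻¹) ∈ K := K.mul_mem htK (hKn.conj_mem _ (K.inv_mem htK) x)
  have h2 : t * (x * t⁻¹ * x⁻¹) = x := by
    calc t * (x * t⁻¹ * x⁻¹) = (t * x * t⁻¹) * x⁻¹ := by group
      _ = x⁻¹ * x⁻¹ := by rw [htx]
      _ = x ^ 3 * (x⁻¹ * x⁻¹) := by rw [hx3, one_mul]
      _ = x := by group
  rw [h2] at h1
  have h4 := hK4 x h1
  have : x = 1 := by
    calc x = x ^ 4 * (x ^ 3)⁻¹ := by group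
      _ = 1 := by rw [h4, hx3]; simp
  rw [this, orderOf_one] at hx
  omega

/-- for `k ∈ K`, `(t k t⁻¹ k)^2 = 1` -/
theorem conj_mul_sq (h : Ord4 G) (K : Subgroup G) [hKn : K.Normal] (hK4 : ∀ n ∈ K, n ^ 4 = 1)
    {x t : G} (hx : orderOf x = 3) (ht : t ^ 2 = 1) (htx : t * x * t⁻¹ = x⁻¹)
    {k : G} (hk : k ∈ K) : (t * k * t⁻¹ * k) ^ 2 = 1 := by
  have htK := not_mem_of_inverts K hK4 hx htx
  have htinv : t⁻¹ = t := by
    rw [inv_eq_iff_mul_eq_one, ← pow_two]; exact ht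
  have h1 : (t * k) ^ 2 = t * k * t⁻¹ * k := by
    rw [pow_two, htinv]
    group
  rcases h.pow_three_or_pow_four (t * k) with h3 | h4
  · exfalso
    apply htK
    have h5 : (t * k) ^ 2 ∈ K := by
      rw [h1]
      exact K.mul_mem (hKn.conj_mem _ hk t) hk
    have h6 : t = ((t * k) ^ 2)⁻¹ * k⁻¹ := by
      have : (t * k) ^ 2 * (t * k) = 1 := by rw [← pow_succ]; exact h3
      calc t = ((t * k) ^ 2)⁻¹ * ((t * k) ^ 2 * (t * k)) * k⁻¹ := by group
        _ = ((t * k) ^ 2)⁻¹ * k⁻¹ := by rw [this, mul_one]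
    rw [h6]
    exact K.mul_mem (K.inv_mem h5) (K.inv_mem hk)
  · rw [← h1, ← pow_mul]
    exact h4

end Ord4

end Cfsg.Agent.Helper20
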