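import Mathlib
import Cfsg.Agent.Lib.Helper20.Ord4Basic
import Cfsg.Agent.Lib.Helper20.Ord4B2a

/-!
# Element orders `{1,2,3,4}`: the `S₃` case, core lemma (helper20)
-/

set_option autoImplicit false

namespace Cfsg.Agent.Helper20

namespace Ord4

variable {G : Type*} [Group G]

section Core

variable (h : Ord4 G) (K M : Subgroup G) [hKn : K.Normal] [hMn : M.Normal]
  (hK4 : ∀ n ∈ K, n ^ 4 = 1) (hMK : M ≤ K)
  (hMc : ∀ m ∈ M, ∀ k ∈ K, m * k = k * m) (hM2 : ∀ m ∈ M, m ^ 2 = 1)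
  {x t : G} (hx : orderOf x = 3) (ht : t ^ 2 = 1) (htx : t * x * t⁻¹ = x⁻¹)

include h hK4 hMK hMc hM2 hx ht htx

/-- elements of `K` fixed by `t` modulo `M` are involutions -/
theorem sq_eq_one_of_fixed {a : G} (ha : a ∈ K) (hfix : t * a * t⁻¹ * a⁻¹ ∈ M) : a ^ 2 = 1 := by
  have hx' : orderOf x⁻¹ = 3 := by rw [orderOf_inv, hx]
  set m := t * a * t⁻¹ * a⁻¹ with hm
  have e1 : t * a * t⁻¹ = m * a := by rw [hm]; group
  have hk : x * a * x⁻¹ ∈ K := hKn.conj_mem _ ha x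
  have f3 := h.conj_mul_sq K hK4 hx ht htx hk
  have e2 : t * (x * a * x⁻¹) * t⁻¹ = x⁻¹ * (m * a) * x := by
    calc t * (x * a * x⁻¹) * t⁻¹ = (t * x * t⁻¹) * (t * a * t⁻¹) * (t * x * t⁻¹)⁻¹ := by group
      _ = x⁻¹ * (m * a) * x := by rw [htx, e1, inv_inv]
  have f1 := h.mul_conj_mul_conj K hK4 hx' ha
  rw [inv_inv] at f1
  have e3 : (x⁻¹ * a * x) * (x * a * x⁻¹) = a⁻¹ :=
    eq_inv_of_mul_eq_one_right (by rw [← mul_assoc]; exact f1)
  set m' := x⁻¹ * m * x with hm'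
  have hm'M : m' ∈ M := by
    have := hMn.conj_mem _ hfix x⁻¹
    rwa [inv_inv] at this
  have e4 : t * (x * a * x⁻¹) * t⁻¹ * (x * a * x⁻¹) = m' * a⁻¹ := by
    rw [e2, ← e3, hm']
    group
  rw [e4] at f3
  have hc : m' * a⁻¹ = a⁻¹ * m' := hMc m' hm'M a⁻¹ (K.inv_mem ha)
  have e5 : (m' * a⁻¹) ^ 2 = (a ^ 2)⁻¹ := by
    calc (m' * a⁻¹) ^ 2 = m' * (a⁻¹ * m') * a⁻¹ := by rw [pow_two]; group
      _ = m' * (m' * a⁻¹) * a⁻¹ := by rw [hc]
      _ = m' ^ 2 * (a ^ 2)⁻¹ := by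
          rw [pow_two, pow_two, mul_inv_rev]
          simp only [mul_assoc]
      _ = (a ^ 2)⁻¹ := by rw [hM2 m' hm'M, one_mul]
  rw [e5, inv_eq_one] at f3
  exact f3

omit h hK4 hMK hM2 hx ht htx hMn in
/-- the elements fixed by `t` modulo `M` are closed under products -/
theorem fixed_mul {a b : G} (ha : a ∈ K) (_hb : b ∈ K) (hfa : t * a * t⁻¹ * a⁻¹ ∈ M)
    (hfb : t * b * t⁻¹ * b⁻¹ ∈ M) : t * (a * b) * t⁻¹ * (a * b)⁻¹ ∈ M := by
  have hc := hMc _ hfb (t * a * t⁻¹) (hKn.conj_mem _ ha t)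
  have e : t * (a * b) * t⁻¹ * (a * b)⁻¹ = (t * b * t⁻¹ * b⁻¹) * (t * a * t⁻¹ * a⁻¹) := by
    calc t * (a * b) * t⁻¹ * (a * b)⁻¹ = (t * a * t⁻¹) * (t * b * t⁻¹ * b⁻¹) * a⁻¹ := by group
      _ = (t * b * t⁻¹ * b⁻¹) * (t * a * t⁻¹) * a⁻¹ := by rw [hc]
      _ = (t * b * t⁻¹ * b⁻¹) * (t * a * t⁻¹ * a⁻¹) := by group
  rw [e]
  exact M.mul_mem hfb hfa

/-- the elements fixed by `t` modulo `M` commute -/
theorem fixed_comm {a b : G} (ha : a ∈ K) (hb : b ∈ K) (hfa : t * a * t⁻¹ * a⁻¹ ∈ M)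
    (hfb : t * b * t⁻¹ * b⁻¹ ∈ M) : a * b = b * a := by
  have h1 := sq_eq_one_of_fixed h K M hK4 hMK hMc hM2 hx ht htx ha hfa
  have h2 := sq_eq_one_of_fixed h K M hK4 hMK hMc hM2 hx ht htx hb hfb
  have h3 := sq_eq_one_of_fixed h K M hK4 hMK hMc hM2 hx ht htx (K.mul_mem ha hb)
    (fixed_mul K M hMc ha hb hfa hfb)
  have ha' : a⁻¹ = a := by rw [inv_eq_iff_mul_eq_one, ← pow_two]; exact h1
  have hb' : b⁻¹ = b := by rw [inv_eq_iff_mul_eq_one, ← pow_two]; exact h2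
  have h4 : (a * b)⁻¹ = a * b := by rw [inv_eq_iff_mul_eq_one, ← pow_two]; exact h3
  rw [mul_inv_rev, ha', hb'] at h4
  exact h4.symm

/-- `b` commutes with the conjugates of `a` under `x` and `x⁻¹` for `a`, `b` fixed by `t`
modulo `M` -/
theorem fixed_commute_conj (hP1 : ∀ a ∈ K, ∀ b ∈ K, a * b * a⁻¹ * b⁻¹ ∈ M) {a b : G}
    (ha : a ∈ K) (hb : b ∈ K) (hfa : t * a * t⁻¹ * a⁻¹ ∈ M) (hfb : t * b * t⁻¹ * b⁻¹ ∈ M) :
    Commute b (x * a * x⁻¹) ∧ Commute b (x⁻¹ * a * x) := by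
  have hx' : orderOf x⁻¹ = 3 := by rw [orderOf_inv, hx]
  have hx3 : x ^ 3 = 1 := by rw [← hx]; exact pow_orderOf_eq_one x
  have hxx : x * x = x⁻¹ := by
    rw [eq_inv_iff_mul_eq_one, ← pow_two, ← pow_succ]
    exact hx3
  have hxx' : x⁻¹ * x⁻¹ = x := by
    calc x⁻¹ * x⁻¹ = x ^ 3 * (x⁻¹ * x⁻¹) := by rw [hx3, one_mul]
      _ = x := by group
  obtain ⟨q, hq⟩ : ∃ q, q = x⁻¹ * b * x := ⟨_, rfl⟩
  obtain ⟨r, hr⟩ : ∃ r, r = x * a * x⁻¹ := ⟨_, rfl⟩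
  have hqK : q ∈ K := by
    have := hKn.conj_mem _ hb x⁻¹
    rw [inv_inv] at this
    rwa [hq]
  have hrK : r ∈ K := by rw [hr]; exact hKn.conj_mem _ ha x
  have hpr : Commute a r := by rw [hr]; exact h.commute_conj K hK4 hx ha
  have hqs : Commute q b := by
    have := h.commute_conj K hK4 hx' hb
    rw [inv_inv] at this
    rw [hq]
    exact this.symm
  have hps : Commute a b := fixed_comm h K M hK4 hMK hMc hM2 hx ht htx ha hb hfa hfb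
  have hpqrs : Commute (a * q) (r * b) := by
    have := h.commute_conj K hK4 hx (K.mul_mem ha hqK)
    have e : x * (a * q) * x⁻¹ = r * b := by
      rw [hq, hr]; group
    rwa [e] at this
  obtain ⟨c, hc⟩ : ∃ c, c = q * r * q⁻¹ * r⁻¹ := ⟨_, rfl⟩
  have hcM : c ∈ M := by rw [hc]; exact hP1 q hqK r hrK
  have hqr : q * r = c * r * q := by rw [hc]; group
  have hcp : c * a = a * c := hMc c hcM a ha
  have e1 : c * ((r * b) * (a * q)) = (r * b) * (a * q) := by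
    calc c * ((r * b) * (a * q)) = c * (r * (b * a) * q) := by simp only [mul_assoc]
      _ = c * (r * (a * b) * q) := by rw [hps.eq]
      _ = c * ((r * a) * (b * q)) := by simp only [mul_assoc]
      _ = c * ((a * r) * (q * b)) := by rw [hpr.eq, hqs.eq]
      _ = (c * a) * (r * q) * b := by simp only [mul_assoc]
      _ = (a * c) * (r * q) * b := by rw [hcp]
      _ = a * (c * r * q) * b := by simp only [mul_assoc]
      _ = a * (q * r) * b := by rw [hqr]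
      _ = (a * q) * (r * b) := by simp only [mul_assoc]
      _ = (r * b) * (a * q) := hpqrs.eq
  have hc1 : c = 1 := mul_eq_right.mp e1
  rw [hc1, one_mul] at hqr
  -- conjugate by x
  have e2 : b * (x⁻¹ * a * x) = (x⁻¹ * a * x) * b := by
    have e3 : x * (q * r) * x⁻¹ = b * ((x * x) * a * (x⁻¹ * x⁻¹)) := by
      rw [hq, hr]; simp only [mul_assoc, mul_inv_cancel_left]
    have e4 : x * (r * q) * x⁻¹ = ((x * x) * a * (x⁻¹ * x⁻¹)) * b := by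
      rw [hq, hr]; simp only [mul_assoc, mul_inv_cancel, mul_one]
    rw [hqr, e4, hxx, hxx'] at e3
    exact e3.symm
  have c2 : Commute b (x⁻¹ * a * x) := e2
  refine ⟨?_, c2⟩
  have f1 := h.mul_conj_mul_conj K hK4 hx ha
  -- x a x⁻¹ = a⁻¹ * (x⁻¹ a x)⁻¹
  have e5 : x * a * x⁻¹ = a⁻¹ * (x⁻¹ * a * x)⁻¹ := by
    have : a * (x * a * x⁻¹) = (x⁻¹ * a * x)⁻¹ := eq_inv_of_mul_eq_one_left f1
    rw [← this]; group
  rw [e5]
  exact (hps.symm.inv_right).mul_right c2.inv_right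

/-- the core lemma: `K` is elementary abelian -/
theorem elemAb_core (hP1 : ∀ a ∈ K, ∀ b ∈ K, a * b * a⁻¹ * b⁻¹ ∈ M)
    (hdec : ∀ k ∈ K, ∃ a ∈ K, ∃ b ∈ K, t * a * t⁻¹ * a⁻¹ ∈ M ∧ t * b * t⁻¹ * b⁻¹ ∈ M ∧
      (a * (x * b * x⁻¹))⁻¹ * k ∈ M) :
    (∀ a ∈ K, ∀ b ∈ K, a * b = b * a) ∧ ∀ a ∈ K, a ^ 2 = 1 := by
  have hsq := fun {a : G} (ha : a ∈ K) (hfa : t * a * t⁻¹ * a⁻¹ ∈ M) =>
    sq_eq_one_of_fixed h K M hK4 hMK hMc hM2 hx ht htx ha hfa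
  have hcomm := fun {a b : G} (ha : a ∈ K) (hb : b ∈ K) (hfa : t * a * t⁻¹ * a⁻¹ ∈ M)
    (hfb : t * b * t⁻¹ * b⁻¹ ∈ M) =>
    fixed_comm h K M hK4 hMK hMc hM2 hx ht htx ha hb hfa hfb
  have hcc := fun {a b : G} (ha : a ∈ K) (hb : b ∈ K) (hfa : t * a * t⁻¹ * a⁻¹ ∈ M)
    (hfb : t * b * t⁻¹ * b⁻¹ ∈ M) =>
    (fixed_commute_conj h K M hK4 hMK hMc hM2 hx ht htx hP1 ha hb hfa hfb).1
  constructor
  · intro k hk k' hk'
    obtain ⟨a, ha, b, hb, hfa, hfb, hm⟩ := hdec k hk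
    obtain ⟨a', ha', b', hb', hfa', hfb', hm'⟩ := hdec k' hk'
    set m := (a * (x * b * x⁻¹))⁻¹ * k with hmdef
    set m' := (a' * (x * b' * x⁻¹))⁻¹ * k' with hm'def
    have ek : k = a * (x * b * x⁻¹) * m := by rw [hmdef]; group
    have ek' : k' = a' * (x * b' * x⁻¹) * m' := by rw [hm'def]; group
    have hσb : x * b * x⁻¹ ∈ K := hKn.conj_mem _ hb x
    have hσb' : x * b' * x⁻¹ ∈ K := hKn.conj_mem _ hb' x
    have c_aa' : Commute a a' := hcomm ha ha' hfa hfa'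
    have c_aσb' : Commute a (x * b' * x⁻¹) := hcc hb' ha hfb' hfa
    have c_am' : Commute a m' := (hMc m' hm' a ha).symm
    have c_σba' : Commute (x * b * x⁻¹) a' := (hcc hb ha' hfb hfa').symm
    have c_σbσb' : Commute (x * b * x⁻¹) (x * b' * x⁻¹) := by
      have e : b * b' = b' * b := hcomm hb hb' hfb hfb'
      show (x * b * x⁻¹) * (x * b' * x⁻¹) = (x * b' * x⁻¹) * (x * b * x⁻¹)
      calc (x * b * x⁻¹) * (x * b' * x⁻¹) = x * (b * b') * x⁻¹ := by group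
        _ = x * (b' * b) * x⁻¹ := by rw [e]
        _ = (x * b' * x⁻¹) * (x * b * x⁻¹) := by group
    have c_σbm' : Commute (x * b * x⁻¹) m' := (hMc m' hm' _ hσb).symm
    have c_ma' : Commute m a' := hMc m hm a' ha'
    have c_mσb' : Commute m (x * b' * x⁻¹) := hMc m hm _ hσb'
    have c_mm' : Commute m m' := hMc m hm m' (hMK hm')
    have c1 : Commute a (a' * (x * b' * x⁻¹) * m') := (c_aa'.mul_right c_aσb').mul_right c_am'
    have c2 : Commute (x * b * x⁻¹) (a' * (x * b' * x⁻¹) * m') :=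
      (c_σba'.mul_right c_σbσb').mul_right c_σbm'
    have c3 : Commute m (a' * (x * b' * x⁻¹) * m') := (c_ma'.mul_right c_mσb').mul_right c_mm'
    rw [ek, ek']
    exact ((c1.mul_left c2).mul_left c3).eq
  · intro k hk
    obtain ⟨a, ha, b, hb, hfa, hfb, hm⟩ := hdec k hk
    set m := (a * (x * b * x⁻¹))⁻¹ * k with hmdef
    have ek : k = a * (x * b * x⁻¹) * m := by rw [hmdef]; group
    have hσb : x * b * x⁻¹ ∈ K := hKn.conj_mem _ hb x
    have c_aσb : Commute a (x * b * x⁻¹) := hcc hb ha hfb hfa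
    have c_am : Commute a m := (hMc m hm a ha).symm
    have c_σbm : Commute (x * b * x⁻¹) m := (hMc m hm _ hσb).symm
    have c4 : Commute (a * (x * b * x⁻¹)) m := c_am.mul_left c_σbm
    have e1 : (x * b * x⁻¹) ^ 2 = 1 := by
      rw [conj_pow, hsq hb hfb]; group
    rw [ek, c4.mul_pow, c_aσb.mul_pow, hsq ha hfa, e1, hM2 m hm]
    simp

end Core

end Ord4

end Cfsg.Agent.Helper20
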