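import Mathlib
import Cfsg.Agent.Lib.Helper20.Ord4Basic
import Cfsg.Agent.Lib.Helper20.Ord4B2a
import Cfsg.Agent.Lib.Helper20.Ord4B2b

/-!
# Element orders `{1,2,3,4}`: the `S₃` case (helper20)

A normal 2-subgroup `K` of a group with element orders in `{1,2,3,4}` is elementary abelian as
soon as the group contains an element of order 3 inverted by an involution.
-/

set_option autoImplicit false

namespace Cfsg.Agent.Helper20

namespace Ord4

universe u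

section General

variable {G : Type*} [Group G]

theorem pow_four_of_isPGroup (h : Ord4 G) (K : Subgroup G) (hK : IsPGroup 2 K) :
    ∀ n ∈ K, n ^ 4 = 1 := by
  intro n hn
  obtain ⟨k, hk⟩ := hK ⟨n, hn⟩
  have hk' : n ^ 2 ^ k = 1 := by
    have := congrArg Subtype.val hk
    simpa using this
  have hd : orderOf n ∣ 2 ^ k := orderOf_dvd_of_pow_eq_one hk'
  obtain ⟨j, -, hj⟩ := (Nat.dvd_prime_pow Nat.prime_two).mp hd
  rcases h n with h1 | h1 | h1 | h1
  · rw [orderOf_eq_one_iff.mp h1, one_pow]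
  · have := pow_orderOf_eq_one n
    rw [h1] at this
    rw [show 4 = 2 * 2 from rfl, pow_mul, this, one_pow]
  · exfalso
    rw [h1] at hj
    have h3 : (3 : ℕ) ∣ 2 ^ j := by rw [← hj]
    have := (Nat.Prime.dvd_of_dvd_pow Nat.prime_three h3)
    omega
  · have := pow_orderOf_eq_one n
    rwa [h1] at this

/-- `Ω₁(Z(K))` as a subgroup of the ambient group -/
def omegaCenter (K : Subgroup G) : Subgroup G where
  carrier := {z | z ∈ K ∧ (∀ k ∈ K, z * k = k * z) ∧ z ^ 2 = 1}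
  one_mem' := ⟨K.one_mem, fun k _ => by simp, one_pow 2⟩
  mul_mem' := by
    rintro a b ⟨ha, hac, ha2⟩ ⟨hb, hbc, hb2⟩
    refine ⟨K.mul_mem ha hb, ?_, ?_⟩
    · intro k hk
      rw [mul_assoc, hbc k hk, ← mul_assoc, hac k hk, mul_assoc]
    · have hab : Commute a b := hac b hb
      rw [hab.mul_pow, ha2, hb2, one_mul]
  inv_mem' := by
    rintro a ⟨ha, hac, ha2⟩
    refine ⟨K.inv_mem ha, ?_, ?_⟩
    · intro k hk
      have := hac k hk
      calc a⁻¹ * k = a⁻¹ * (k * a) * a⁻¹ := by group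
        _ = a⁻¹ * (a * k) * a⁻¹ := by rw [this]
        _ = k * a⁻¹ := by group
    · rw [inv_pow, ha2, inv_one]

theorem mem_omegaCenter {K : Subgroup G} {z : G} :
    z ∈ omegaCenter K ↔ z ∈ K ∧ (∀ k ∈ K, z * k = k * z) ∧ z ^ 2 = 1 := Iff.rfl

instance omegaCenter_normal (K : Subgroup G) [hKn : K.Normal] : (omegaCenter K).Normal := by
  constructor
  intro z hz g
  obtain ⟨hzK, hzc, hz2⟩ := hz
  refine ⟨hKn.conj_mem _ hzK g, ?_, ?_⟩
  · intro k hk
    have hk' : g⁻¹ * k * g ∈ K := by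
      have := hKn.conj_mem _ hk g⁻¹
      rwa [inv_inv] at this
    have := hzc _ hk'
    calc g * z * g⁻¹ * k = g * (z * (g⁻¹ * k * g)) * g⁻¹ := by group
      _ = g * ((g⁻¹ * k * g) * z) * g⁻¹ := by rw [this]
      _ = k * (g * z * g⁻¹) := by group
  · rw [conj_pow, hz2]; group

theorem omegaCenter_ne_bot [Finite G] (h : Ord4 G) (K : Subgroup G) (hK : IsPGroup 2 K)
    (hKb : K ≠ ⊥) : omegaCenter K ≠ ⊥ := by
  haveI : Fact (Nat.Prime 2) := ⟨Nat.prime_two⟩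
  haveI : Nontrivial K := (Subgroup.nontrivial_iff_ne_bot K).mpr hKb
  haveI := hK.center_nontrivial
  obtain ⟨⟨z, hzc⟩, hz1⟩ := exists_ne (1 : Subgroup.center K)
  have hz1' : (z : G) ≠ 1 := by
    intro hh
    apply hz1
    apply Subtype.ext
    apply Subtype.ext
    exact hh
  have hzc' : ∀ k ∈ K, (z : G) * k = k * z := by
    intro k hk
    have := Subgroup.mem_center_iff.mp hzc ⟨k, hk⟩
    have := congrArg Subtype.val this
    simpa using this.symm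
  have hz4 := h.pow_four_of_isPGroup K hK z z.2
  intro hbot
  by_cases hz2 : (z : G) ^ 2 = 1
  · have : (z : G) ∈ omegaCenter K := ⟨z.2, hzc', hz2⟩
    rw [hbot, Subgroup.mem_bot] at this
    exact hz1' this
  · have : (z : G) ^ 2 ∈ omegaCenter K := by
      refine ⟨K.pow_mem z.2 2, ?_, ?_⟩
      · intro k hk
        have hc : Commute (z : G) k := hzc' k hk
        exact (hc.pow_left 2).eq
      · rw [← pow_mul]; exact hz4
    rw [hbot, Subgroup.mem_bot] at this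
    exact hz2 this

/-- decomposition of an `S₃`-module with `x` acting fixed point freely -/
theorem module_decomp (h : Ord4 G) (V : Subgroup G) [hVn : V.Normal]
    (hVc : ∀ a ∈ V, ∀ b ∈ V, a * b = b * a) (hV2 : ∀ a ∈ V, a ^ 2 = 1)
    {x t : G} (hx : orderOf x = 3) (ht : t ^ 2 = 1) (htx : t * x * t⁻¹ = x⁻¹)
    {v : G} (hv : v ∈ V) :
    ∃ a ∈ V, ∃ b ∈ V, t * a * t⁻¹ = a ∧ t * b * t⁻¹ = b ∧ v = a * (x * b * x⁻¹) := by
  have hV4 : ∀ n ∈ V, n ^ 4 = 1 := by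
    intro n hn
    rw [show 4 = 2 * 2 from rfl, pow_mul, hV2 n hn, one_pow]
  have hinv : ∀ a ∈ V, a⁻¹ = a := by
    intro a ha
    rw [inv_eq_iff_mul_eq_one, ← pow_two]; exact hV2 a ha
  have htinv : t⁻¹ = t := by
    rw [inv_eq_iff_mul_eq_one, ← pow_two]; exact ht
  have hx' : orderOf x⁻¹ = 3 := by rw [orderOf_inv, hx]
  obtain ⟨w1, hw1⟩ : ∃ w1, w1 = t * v * t⁻¹ := ⟨_, rfl⟩
  obtain ⟨s0, hs0⟩ : ∃ s0, s0 = x * v * x⁻¹ := ⟨_, rfl⟩
  obtain ⟨s1, hs1⟩ : ∃ s1, s1 = x * w1 * x⁻¹ := ⟨_, rfl⟩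
  obtain ⟨p0, hp0⟩ : ∃ p0, p0 = x⁻¹ * v * x := ⟨_, rfl⟩
  obtain ⟨p1, hp1⟩ : ∃ p1, p1 = x⁻¹ * w1 * x := ⟨_, rfl⟩
  have hw1V : w1 ∈ V := by rw [hw1]; exact hVn.conj_mem _ hv t
  have hs0V : s0 ∈ V := by rw [hs0]; exact hVn.conj_mem _ hv x
  have hs1V : s1 ∈ V := by rw [hs1]; exact hVn.conj_mem _ hw1V x
  have hp0V : p0 ∈ V := by
    rw [hp0]
    have := hVn.conj_mem _ hv x⁻¹
    rwa [inv_inv] at this
  have hp1V : p1 ∈ V := by
    rw [hp1]
    have := hVn.conj_mem _ hw1V x⁻¹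
    rwa [inv_inv] at this
  -- fixed point free identities
  have f0 : v * s0 * p0 = 1 := by
    rw [hs0, hp0]; exact h.mul_conj_mul_conj V hV4 hx hv
  have f1 : w1 * s1 * p1 = 1 := by
    rw [hs1, hp1]; exact h.mul_conj_mul_conj V hV4 hx hw1V
  have g0 : v * s0 = p0 := by
    have := eq_inv_of_mul_eq_one_left f0
    rw [hinv p0 hp0V] at this
    exact this
  have g1 : s1 = w1 * p1 := by
    have e1 : w1 * s1 = p1 := by
      have := eq_inv_of_mul_eq_one_left f1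
      rw [hinv p1 hp1V] at this
      exact this
    calc s1 = w1⁻¹ * (w1 * s1) := by group
      _ = w1 * p1 := by rw [e1, hinv w1 hw1V]
  -- conjugation by t
  have t_w1 : t * w1 * t⁻¹ = v := by
    rw [hw1, htinv]
    calc t * (t * v * t) * t = (t ^ 2) * v * (t ^ 2) := by rw [pow_two]; simp only [mul_assoc]
      _ = v := by rw [ht, one_mul, mul_one]
  have t_s0 : t * s0 * t⁻¹ = p1 := by
    rw [hs0, hp1, hw1]
    calc t * (x * v * x⁻¹) * t⁻¹ = (t * x * t⁻¹) * (t * v * t⁻¹) * (t * x * t⁻¹)⁻¹ := by group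
      _ = x⁻¹ * (t * v * t⁻¹) * x := by rw [htx, inv_inv]
  have t_s1 : t * s1 * t⁻¹ = p0 := by
    rw [hs1, hp0]
    calc t * (x * w1 * x⁻¹) * t⁻¹ = (t * x * t⁻¹) * (t * w1 * t⁻¹) * (t * x * t⁻¹)⁻¹ := by group
      _ = x⁻¹ * v * x := by rw [htx, inv_inv, t_w1]
  refine ⟨v * (s0 * s1), V.mul_mem hv (V.mul_mem hs0V hs1V), v * w1, V.mul_mem hv hw1V,
    ?_, ?_, ?_⟩
  · -- t a t⁻¹ = w1 * p1 * p0 and a = p0 * (w1 * p1)
    have e1 : t * (v * (s0 * s1)) * t⁻¹ = w1 * (p1 * p0) := by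
      calc t * (v * (s0 * s1)) * t⁻¹ = (t * v * t⁻¹) * ((t * s0 * t⁻¹) * (t * s1 * t⁻¹)) := by
            group
        _ = w1 * (p1 * p0) := by rw [← hw1, t_s0, t_s1]
    have e2 : v * (s0 * s1) = p0 * (w1 * p1) := by
      rw [← mul_assoc, g0, g1]
    rw [e1, e2]
    rw [hVc p0 hp0V (w1 * p1) (V.mul_mem hw1V hp1V), mul_assoc]
  · calc t * (v * w1) * t⁻¹ = (t * v * t⁻¹) * (t * w1 * t⁻¹) := by group
      _ = w1 * v := by rw [← hw1, t_w1]
      _ = v * w1 := hVc w1 hw1V v hv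
  · have e1 : x * (v * w1) * x⁻¹ = s0 * s1 := by
      rw [hs0, hs1]; group
    rw [e1]
    have e2 : (s0 * s1) * (s0 * s1) = 1 := by
      rw [← pow_two]; exact hV2 _ (V.mul_mem hs0V hs1V)
    rw [mul_assoc, e2, mul_one]

end General

end Ord4

end Cfsg.Agent.Helper20
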