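import Mathlib
import Cfsg.Agent.Lib.Helper20.Ord4Basic
import Cfsg.Agent.Lib.Helper20.Ord4B2a
import Cfsg.Agent.Lib.Helper20.Ord4B2b
import Cfsg.Agent.Lib.Helper20.Ord4B2c

/-!
# Element orders `{1,2,3,4}`: the `S₃` case, induction (helper20)
-/

set_option autoImplicit false

namespace Cfsg.Agent.Helper20

namespace Ord4

universe u

theorem elemAb_aux (n : ℕ) : ∀ {G : Type u} [Group G] [Finite G] (_h : Ord4 G) (K : Subgroup G)
    [K.Normal] (_hK : IsPGroup 2 K) (x t : G) (_hx : orderOf x = 3) (_ht : t ^ 2 = 1)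
    (_htx : t * x * t⁻¹ = x⁻¹), Nat.card K = n →
    (∀ a ∈ K, ∀ b ∈ K, a * b = b * a) ∧ ∀ a ∈ K, a ^ 2 = 1 := by
  induction n using Nat.strong_induction_on with
  | _ n ih =>
    intro G _ _ h K hKn hK x t hx ht htx hcard
    by_cases hKb : K = ⊥
    · subst hKb
      constructor
      · intro a ha b hb
        rw [Subgroup.mem_bot] at ha hb
        rw [ha, hb]
      · intro a ha
        rw [Subgroup.mem_bot] at ha
        rw [ha, one_pow]
    have hK4 := h.pow_four_of_isPGroup K hK
    set M := omegaCenter K with hM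
    have hMK : M ≤ K := fun z hz => hz.1
    have hMc : ∀ m ∈ M, ∀ k ∈ K, m * k = k * m := fun m hm => hm.2.1
    have hM2 : ∀ m ∈ M, m ^ 2 = 1 := fun m hm => hm.2.2
    have hMb : M ≠ ⊥ := omegaCenter_ne_bot h K hK hKb
    set π := QuotientGroup.mk' M with hπ
    have hπs : Function.Surjective π := QuotientGroup.mk'_surjective M
    have hker : ∀ g : G, π g = 1 ↔ g ∈ M := fun g => QuotientGroup.eq_one_iff g
    set Kq := K.map π with hKq
    haveI hKqn : Kq.Normal := hKn.map π hπs
    have hKqp : IsPGroup 2 Kq := hK.map π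
    -- the order drops
    have hlt : Nat.card Kq < n := by
      classical
      rw [← hcard]
      letI : Fintype K := Fintype.ofFinite K
      letI : Fintype Kq := Fintype.ofFinite Kq
      rw [Nat.card_eq_fintype_card, Nat.card_eq_fintype_card]
      let f : K → Kq := fun k => ⟨π k, Subgroup.mem_map_of_mem π k.2⟩
      apply Fintype.card_lt_of_surjective_not_injective f
      · rintro ⟨q, k, hk, rfl⟩
        exact ⟨⟨k, hk⟩, rfl⟩
      · intro hinj
        apply hMb
        rw [eq_bot_iff]
        intro m hm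
        have h1 : f ⟨m, hMK hm⟩ = f 1 := by
          apply Subtype.ext
          show π m = π 1
          rw [(hker m).mpr hm, map_one]
        have h2 := hinj h1
        have h3 := congrArg Subtype.val h2
        rw [Subgroup.mem_bot]
        exact h3
    -- the images of x and t
    have hxK : x ∉ K := by
      intro hxK
      have h4 := hK4 x hxK
      have h3 : x ^ 3 = 1 := by rw [← hx]; exact pow_orderOf_eq_one x
      have : x = 1 := by
        calc x = x ^ 4 * (x ^ 3)⁻¹ := by group
          _ = 1 := by rw [h4, h3]; simp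
      rw [this, orderOf_one] at hx
      omega
    have hx' : orderOf (π x) = 3 := by
      have hd : orderOf (π x) ∣ 3 := by
        rw [← hx]; exact orderOf_map_dvd _ x
      rcases (Nat.dvd_prime Nat.prime_three).mp hd with h3 | h3
      · exfalso
        rw [orderOf_eq_one_iff, hker] at h3
        exact hxK (hMK h3)
      · exact h3
    have ht' : (π t) ^ 2 = 1 := by rw [← map_pow, ht, map_one]
    have htx' : π t * π x * (π t)⁻¹ = (π x)⁻¹ := by
      rw [← map_inv, ← map_mul, ← map_mul, htx, map_inv]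
    obtain ⟨ihc, ih2⟩ := ih (Nat.card Kq) hlt (h.quotient M) Kq hKqp (π x) (π t) hx' ht' htx' rfl
    -- pull back
    have hP1 : ∀ a ∈ K, ∀ b ∈ K, a * b * a⁻¹ * b⁻¹ ∈ M := by
      intro a ha b hb
      rw [← hker]
      have := ihc (π a) (Subgroup.mem_map_of_mem π ha) (π b) (Subgroup.mem_map_of_mem π hb)
      rw [map_mul, map_mul, map_mul, map_inv, map_inv, this]
      group
    have hdec : ∀ k ∈ K, ∃ a ∈ K, ∃ b ∈ K, t * a * t⁻¹ * a⁻¹ ∈ M ∧ t * b * t⁻¹ * b⁻¹ ∈ M ∧
        (a * (x * b * x⁻¹))⁻¹ * k ∈ M := by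
      intro k hk
      obtain ⟨a', ha', b', hb', hta, htb, hv⟩ :=
        module_decomp (h.quotient M) Kq ihc ih2 hx' ht' htx' (Subgroup.mem_map_of_mem π hk)
      obtain ⟨a, ha, rfl⟩ := ha'
      obtain ⟨b, hb, rfl⟩ := hb'
      refine ⟨a, ha, b, hb, ?_, ?_, ?_⟩
      · rw [← hker, map_mul, map_mul, map_mul, map_inv, map_inv, hta]
        group
      · rw [← hker, map_mul, map_mul, map_mul, map_inv, map_inv, htb]
        group
      · rw [← hker, map_mul, map_inv, map_mul, map_mul, map_mul, map_inv, hv]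
        group
    exact elemAb_core h K M hK4 hMK hMc hM2 hx ht htx hP1 hdec

/-- A normal 2-subgroup `K` of a finite group with element orders in `{1,2,3,4}` is elementary
abelian as soon as the group contains an element of order 3 inverted by an involution. -/
theorem elemAb {G : Type u} [Group G] [Finite G] (h : Ord4 G) (K : Subgroup G)
    [K.Normal] (hK : IsPGroup 2 K) {x t : G} (hx : orderOf x = 3) (ht : t ^ 2 = 1)
    (htx : t * x * t⁻¹ = x⁻¹) :
    (∀ a ∈ K, ∀ b ∈ K, a * b = b * a) ∧ ∀ a ∈ K, a ^ 2 = 1 :=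
  elemAb_aux _ h K hK x t hx ht htx rfl

end Ord4

end Cfsg.Agent.Helper20
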