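import Mathlib
import Cfsg.Prelude.Def_Transfer
import Cfsg.Agent.S0144
import Cfsg.Agent.Lib.Helper1.SolvableBasic
import Cfsg.Agent.Lib.Helper1.FpfAction
import Cfsg.Agent.Lib.Helper20.Ord4Basic
import Cfsg.Agent.Lib.Helper20.Ord4B1
import Cfsg.Agent.Lib.Helper20.Ord4B2c
import Cfsg.Agent.Lib.Helper20.Ord4B2d
import Cfsg.Agent.Lib.Helper20.Ord4A

/-!
# Element orders `{1,2,3,4}`: the case of a nontrivial normal 2-subgroup (helper20)
-/

set_option autoImplicit false

namespace Cfsg.Agent.Helper20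

namespace Ord4

universe u

variable {G : Type u} [Group G] [Finite G]

/-- a number with only the prime divisors 2 and 3 -/
theorem eq_two_pow_mul_three_pow {n : ℕ} (hn : n ≠ 0)
    (hp : ∀ p : ℕ, p.Prime → p ∣ n → p = 2 ∨ p = 3) : ∃ a b : ℕ, n = 2 ^ a * 3 ^ b := by
  obtain ⟨a, m, hm, rfl⟩ := Nat.exists_eq_two_pow_mul_odd hn
  refine ⟨a, m.primeFactorsList.length, ?_⟩
  congr 1
  apply Nat.eq_prime_pow_of_unique_prime_dvd
  · intro h0
    rw [h0] at hm
    exact (Nat.not_odd_iff_even.mpr (by decide)) hm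
  · intro d hd hdm
    rcases hp d hd (Dvd.dvd.mul_left hdm _) with h2 | h3
    · exfalso
      rw [h2] at hdm
      exact (Nat.not_even_iff_odd.mpr hm) (even_iff_two_dvd.mpr hdm)
    · exact h3

/-- prime divisors of the order are 2 or 3 -/
theorem prime_dvd_card (h : Ord4 G) {p : ℕ} (hp : p.Prime) (hd : p ∣ Nat.card G) :
    p = 2 ∨ p = 3 := by
  haveI : Fact p.Prime := ⟨hp⟩
  obtain ⟨g, hg⟩ := exists_prime_orderOf_dvd_card' p hd
  rcases h g with h1 | h1 | h1 | h1 <;> rw [hg] at h1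
  · exact absurd h1 hp.one_lt.ne'
  · exact Or.inl h1
  · exact Or.inr h1
  · rw [h1] at hp
    exact absurd hp (by decide)

theorem isSolvable (h : Ord4 G) : Group.IsSolvable G := by
  obtain ⟨a, b, hab⟩ := eq_two_pow_mul_three_pow (Nat.card_pos (α := G)).ne'
    (fun p hp hd => h.prime_dvd_card hp hd)
  exact Cfsg.Agent.S0144.result 2 3 a b Nat.prime_two Nat.prime_three hab

/-- a Sylow 3-subgroup acting on a nontrivial normal 2-subgroup is cyclic of order 3 -/
theorem sylow_three_eq_zpowers (h : Ord4 G) (K₁ : Subgroup G) [K₁.Normal] (hK₁ : IsPGroup 2 K₁)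
    (hK₁b : K₁ ≠ ⊥) (S : Sylow 3 G) (hS : (S : Subgroup G) ≠ ⊥) :
    ∃ x ∈ (S : Subgroup G), orderOf x = 3 ∧ (S : Subgroup G) = Subgroup.zpowers x := by
  haveI : Fact (Nat.Prime 3) := ⟨Nat.prime_three⟩
  have hS3 := h.pow_three_of_isPGroup S S.2
  have hK4 := h.pow_four_of_isPGroup K₁ hK₁
  haveI : Nontrivial (S : Subgroup G) := (Subgroup.nontrivial_iff_ne_bot _).mpr hS
  haveI := S.2.center_nontrivial
  obtain ⟨⟨z0, hz0c⟩, hz01⟩ := exists_ne (1 : Subgroup.center (S : Subgroup G))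
  have hx1 : (z0 : G) ≠ 1 := by
    intro hh
    apply hz01
    apply Subtype.ext
    apply Subtype.ext
    exact hh
  have hord : ∀ w ∈ (S : Subgroup G), w ≠ 1 → orderOf w = 3 := by
    intro w hw hw1
    have hd : orderOf w ∣ 3 := orderOf_dvd_of_pow_eq_one (hS3 w hw)
    rcases (Nat.dvd_prime Nat.prime_three).mp hd with h1 | h1
    · exact absurd (orderOf_eq_one_iff.mp h1) hw1
    · exact h1
  have hx3 : orderOf (z0 : G) = 3 := hord _ z0.2 hx1
  have hzc : ∀ q ∈ (S : Subgroup G), (z0 : G) * q = q * z0 := by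
    intro q hq
    have := Subgroup.mem_center_iff.mp hz0c ⟨q, hq⟩
    have := congrArg Subtype.val this
    simpa using this.symm
  have hfpf : ∀ h' ∈ (S : Subgroup G), h' ≠ 1 → K₁ ⊓ Subgroup.centralizer {h'} = ⊥ := by
    intro h' hh' hh'1
    rw [eq_bot_iff]
    intro k hk
    rw [Subgroup.mem_inf] at hk
    obtain ⟨hkK, hkc⟩ := hk
    rw [Subgroup.mem_centralizer_iff] at hkc
    have hc : Commute h' k := hkc h' (Set.mem_singleton h')
    rw [Subgroup.mem_bot]
    exact h.eq_one_of_commute_of_pow_four (hord h' hh' hh'1) (hK4 k hkK) hc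
  refine ⟨z0, z0.2, hx3, ?_⟩
  apply le_antisymm
  · intro w hw
    by_cases hw1 : w = 1
    · rw [hw1]; exact Subgroup.one_mem _
    · exact Cfsg.Agent.Helper1.mem_zpowers_of_fpf hK₁b hfpf (S : Subgroup G) le_rfl S.2 z0.2 hx3
        hzc hw (hord w hw hw1)
  · rw [Subgroup.zpowers_le]
    exact z0.2

end Ord4

end Cfsg.Agent.Helper20
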