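import Mathlib
import Cfsg.Prelude.Def_Transfer
import Cfsg.Agent.Lib.Helper20.Ord4Main

/-!
# Element orders `{1,2,3,4}`: the case of a nontrivial normal 2-subgroup, structure (helper20)
-/

set_option autoImplicit false

namespace Cfsg.Agent.Helper20

namespace Ord4

universe u

variable {G : Type u} [Group G] [Finite G]

/-- the index of a Sylow 2-subgroup is 3 -/
theorem sylow_two_index (h : Ord4 G) (S : Sylow 3 G) (hScard : Nat.card S = 3) (T : Sylow 2 G)
    {x3 : G} (hx3 : orderOf x3 = 3) : (T : Subgroup G).index = 3 := by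
  haveI : Fact (Nat.Prime 2) := ⟨Nat.prime_two⟩
  haveI : Fact (Nat.Prime 3) := ⟨Nat.prime_three⟩
  have hidx0 : (T : Subgroup G).index ≠ 0 := Subgroup.index_ne_zero_of_finite
  have hpow : (T : Subgroup G).index = 3 ^ ((T : Subgroup G).index).primeFactorsList.length := by
    apply Nat.eq_prime_pow_of_unique_prime_dvd hidx0
    intro d hd hdi
    rcases h.prime_dvd_card hd (hdi.trans (Subgroup.index_dvd_card _)) with h2 | h3
    · exfalso
      rw [h2] at hdi
      exact T.not_dvd_index hdi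
    · exact h3
  set e := ((T : Subgroup G).index).primeFactorsList.length with he
  have h1 : 3 ^ e ∣ Nat.card S := by
    apply S.pow_dvd_card_of_pow_dvd_card
    rw [← hpow]
    exact Subgroup.index_dvd_card _
  rw [hScard] at h1
  have he1 : e ≤ 1 := by
    have h2 : 3 ^ e ∣ 3 ^ 1 := by rw [pow_one]; exact h1
    exact (Nat.pow_dvd_pow_iff_le_right (by norm_num : 1 < 3)).mp h2
  have he0 : e ≠ 0 := by
    intro h0
    rw [h0, pow_zero] at hpow
    have htop : (T : Subgroup G) = ⊤ := Subgroup.index_eq_one.mp hpow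
    have hx3T : x3 ∈ (T : Subgroup G) := by rw [htop]; exact Subgroup.mem_top _
    have h4 := h.pow_four_of_isPGroup T T.2 x3 hx3T
    have h3 : x3 ^ 3 = 1 := by rw [← hx3]; exact pow_orderOf_eq_one x3
    have : x3 = 1 := by
      calc x3 = x3 ^ 4 * (x3 ^ 3)⁻¹ := by group
        _ = 1 := by rw [h4, h3]; simp
    rw [this, orderOf_one] at hx3
    omega
  have : e = 1 := by omega
  rw [hpow, this, pow_one]

omit [Finite G] in
/-- if the normalizer of `⟨x⟩` does not centralize it, some involution inverts `x` -/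
theorem exists_inverting_involution (h : Ord4 G) (S : Subgroup G) {x : G}
    (hx : orderOf x = 3) (hSx : S = Subgroup.zpowers x)
    (hnot : ¬ Subgroup.normalizer (S : Set G) ≤ Subgroup.centralizer (S : Set G)) :
    ∃ t : G, t ^ 2 = 1 ∧ t * x * t⁻¹ = x⁻¹ := by
  have hx3 : x ^ 3 = 1 := by rw [← hx]; exact pow_orderOf_eq_one x
  have hxne : x ≠ x⁻¹ := by
    intro hh
    have h2 : x ^ 2 = 1 := by
      rw [pow_two]
      nth_rewrite 2 [hh]
      exact mul_inv_cancel x
    have := orderOf_dvd_of_pow_eq_one h2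
    rw [hx] at this
    omega
  have hx1 : x ≠ 1 := by
    intro hh
    rw [hh, orderOf_one] at hx
    omega
  rw [SetLike.not_le_iff_exists] at hnot
  obtain ⟨g, hgN, hgC⟩ := hnot
  have hxS : x ∈ S := by rw [hSx]; exact Subgroup.mem_zpowers x
  have hgx : g * x * g⁻¹ ∈ Subgroup.zpowers x := by
    rw [← hSx]
    exact (Subgroup.mem_normalizer_iff.mp hgN x).mp hxS
  have hgx1 : g * x * g⁻¹ ≠ x := by
    intro hh
    apply hgC
    rw [Subgroup.mem_centralizer_iff]
    intro s hs
    rw [SetLike.mem_coe, hSx] at hs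
    obtain ⟨k, rfl⟩ := Subgroup.mem_zpowers_iff.mp hs
    have hc : Commute g x := by
      show g * x = x * g
      calc g * x = (g * x * g⁻¹) * g := by group
        _ = x * g := by rw [hh]
    exact (hc.zpow_right k).eq.symm
  obtain ⟨k, hk⟩ := Subgroup.mem_zpowers_iff.mp hgx
  have hk' : x ^ (k % 3) = g * x * g⁻¹ := by
    rw [← hk]
    have := zpow_mod_orderOf x k
    rw [hx] at this
    exact_mod_cast this
  have hr0 : 0 ≤ k % 3 := Int.emod_nonneg k (by norm_num)
  have hr3 : k % 3 < 3 := Int.emod_lt_of_pos k (by norm_num)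
  have hinv : g * x * g⁻¹ = x⁻¹ := by
    generalize k % 3 = r at hk' hr0 hr3
    interval_cases r
    · exfalso
      rw [zpow_zero] at hk'
      apply hx1
      calc x = g⁻¹ * (g * x * g⁻¹) * g := by group
        _ = 1 := by rw [← hk']; group
    · exfalso
      rw [zpow_one] at hk'
      exact hgx1 hk'.symm
    · rw [← hk']
      rw [eq_inv_iff_mul_eq_one]
      have : x ^ (2 : ℤ) * x = x ^ 3 := by
        rw [show (2 : ℤ) = ((2 : ℕ) : ℤ) from rfl, zpow_natCast, ← pow_succ]
      rw [this, hx3]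
  have hg2 : g ^ 2 * x * (g ^ 2)⁻¹ = x := by
    calc g ^ 2 * x * (g ^ 2)⁻¹ = g * (g * x * g⁻¹) * g⁻¹ := by
          rw [pow_two, mul_inv_rev]; simp only [mul_assoc]
      _ = g * x⁻¹ * g⁻¹ := by rw [hinv]
      _ = (g * x * g⁻¹)⁻¹ := by group
      _ = x := by rw [hinv, inv_inv]
  rcases h g with h1 | h1 | h1 | h1
  · exfalso
    rw [orderOf_eq_one_iff] at h1
    rw [h1] at hinv
    apply hxne
    simpa using hinv
  · refine ⟨g, ?_, hinv⟩
    rw [← h1]; exact pow_orderOf_eq_one g
  · exfalso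
    have hg3 : g ^ 3 = 1 := by rw [← h1]; exact pow_orderOf_eq_one g
    have e1 : g ^ 3 * x * (g ^ 3)⁻¹ = x⁻¹ := by
      calc g ^ 3 * x * (g ^ 3)⁻¹ = g * (g ^ 2 * x * (g ^ 2)⁻¹) * g⁻¹ := by
            rw [pow_succ' g 2, mul_inv_rev]; simp only [mul_assoc]
        _ = x⁻¹ := by rw [hg2, hinv]
    rw [hg3] at e1
    apply hxne
    simpa using e1
  · exfalso
    have h2 : orderOf (g ^ 2) = 2 := by
      rw [orderOf_pow' g (by norm_num : (2 : ℕ) ≠ 0), h1]
      norm_num
    have hc : Commute x (g ^ 2) := by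
      show x * g ^ 2 = g ^ 2 * x
      calc x * g ^ 2 = (g ^ 2 * x * (g ^ 2)⁻¹) * g ^ 2 := by rw [hg2]
        _ = g ^ 2 * x := by group
    exact h.not_commute_three_two hx h2 hc

end Ord4

end Cfsg.Agent.Helper20
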