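import Mathlib
import Cfsg.Prelude.Def_Transfer
import Cfsg.Agent.Lib.Helper20.Ord4Main
import Cfsg.Agent.Lib.Helper20.Ord4Main2

/-!
# Element orders `{1,2,3,4}`: the case of a nontrivial normal 2-subgroup, conclusion (helper20)
-/

set_option autoImplicit false

namespace Cfsg.Agent.Helper20

namespace Ord4

universe u

variable {G : Type u} [Group G] [Finite G]

theorem caseB (h : Ord4 G) (K₁ : Subgroup G) [K₁.Normal] (hK₁ : IsPGroup 2 K₁) (hK₁b : K₁ ≠ ⊥)
    {x3 g4 : G} (hx3 : orderOf x3 = 3) (hg4 : orderOf g4 = 4) :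
    ∃ (N : Subgroup G) (_ : N.Normal),
      (IsPGroup 2 ↥N ∧ Monoid.exponent ↥N = 4 ∧ Group.nilpotencyClass ↥N ≤ 2 ∧ N.index = 3) ∨
      (Cfsg.IsElementaryAbelian 2 N ∧ Nonempty (G ⧸ N ≃* Equiv.Perm (Fin 3))) := by
  haveI : Fact (Nat.Prime 2) := ⟨Nat.prime_two⟩
  haveI : Fact (Nat.Prime 3) := ⟨Nat.prime_three⟩
  obtain ⟨S⟩ : Nonempty (Sylow 3 G) := inferInstance
  have hSb : (S : Subgroup G) ≠ ⊥ := by
    apply S.ne_bot_of_dvd_card
    rw [← hx3]; exact orderOf_dvd_natCard x3
  obtain ⟨x, hxS, hx, hSx⟩ := h.sylow_three_eq_zpowers K₁ hK₁ hK₁b S hSb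
  have hScard : Nat.card S = 3 := by
    show Nat.card (S : Subgroup G) = 3
    rw [hSx, Nat.card_zpowers, hx]
  obtain ⟨T⟩ : Nonempty (Sylow 2 G) := inferInstance
  have hTidx := h.sylow_two_index S hScard T hx3
  set φ := MulAction.toPermHom G (G ⧸ (T : Subgroup G)) with hφ
  set N := φ.ker with hN
  haveI hNn : N.Normal := MonoidHom.normal_ker φ
  have hNcore : (T : Subgroup G).normalCore = N := Subgroup.normalCore_eq_ker _
  have hNT : N ≤ (T : Subgroup G) := by rw [← hNcore]; exact Subgroup.normalCore_le _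
  have hNp : IsPGroup 2 N := T.2.to_le hNT
  have hN4 := h.pow_four_of_isPGroup N hNp
  have hd3 : 3 ∣ N.index := by rw [← hTidx]; exact Subgroup.index_dvd_of_le hNT
  have hcardQ : Nat.card (G ⧸ (T : Subgroup G)) = 3 := by
    rw [← Subgroup.index_eq_card]; exact hTidx
  have hcardP : Nat.card (Equiv.Perm (G ⧸ (T : Subgroup G))) = 6 := by
    rw [Nat.card_perm, hcardQ]; rfl
  have hidx : N.index = Nat.card φ.range := Subgroup.index_ker φ
  have hd6 : N.index ∣ 6 := by
    rw [hidx, ← hcardP]; exact Subgroup.card_subgroup_dvd_card _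
  have hcases : N.index = 3 ∨ N.index = 6 := by
    have hle := Nat.le_of_dvd (by norm_num) hd6
    generalize N.index = m at hd3 hd6 hle
    interval_cases m <;> omega
  refine ⟨N, hNn, ?_⟩
  rcases hcases with h3 | h6
  · left
    refine ⟨hNp, ?_, h.nilpotencyClass_le_two N hNp hx3, h3⟩
    -- the exponent
    have hg4N : g4 ∈ N := by
      rw [← QuotientGroup.eq_one_iff, ← orderOf_eq_one_iff]
      have hd1 : orderOf ((g4 : G) : G ⧸ N) ∣ 4 := by
        rw [← hg4]; exact orderOf_map_dvd (QuotientGroup.mk' N) g4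
      have hd2 : orderOf ((g4 : G) : G ⧸ N) ∣ 3 := by
        rw [← h3, Subgroup.index_eq_card]; exact orderOf_dvd_natCard _
      have := Nat.dvd_gcd hd1 hd2
      simpa using this
    apply Nat.dvd_antisymm
    · apply Monoid.exponent_dvd_of_forall_pow_eq_one
      intro n
      apply Subtype.ext
      have := hN4 n n.2
      simpa using this
    · have : orderOf (⟨g4, hg4N⟩ : N) = 4 := by
        rw [← hg4, ← Subgroup.orderOf_coe]
      rw [← this]
      exact Monoid.order_dvd_exponent _
  · right
    have hnot : ¬ Subgroup.normalizer ((S : Subgroup G) : Set G) ≤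
        Subgroup.centralizer ((S : Subgroup G) : Set G) := by
      intro hle
      have hle' : Subgroup.normalizer (S : Set G) ≤ Subgroup.centralizer (S : Set G) := hle
      have hcompl := MonoidHom.ker_transferSylow_isComplement' S hle'
      obtain ⟨Kc, hKc⟩ : ∃ Kc : Subgroup G, Kc = (MonoidHom.transferSylow S hle').ker := ⟨_, rfl⟩
      rw [← hKc] at hcompl
      haveI hKcn : Kc.Normal := by rw [hKc]; exact MonoidHom.normal_ker _
      have hc1 : Nat.card Kc * Nat.card (S : Subgroup G) = Nat.card G := hcompl.card_mul_card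
      have hc2 : Nat.card (T : Subgroup G) * 3 = Nat.card G := by
        rw [← hTidx]; exact Subgroup.card_mul_index _
      have hc3 : Nat.card Kc = Nat.card (T : Subgroup G) := by
        have hS' : Nat.card (S : Subgroup G) = 3 := hScard
        rw [hS'] at hc1
        omega
      have hKidx : Kc.index = 3 := by
        have h5 := Kc.card_mul_index
        rw [hc3, ← hc2] at h5
        exact Nat.eq_of_mul_eq_mul_left Nat.card_pos h5
      have hTK : (T : Subgroup G) ≤ Kc := by
        intro g hg
        rw [← QuotientGroup.eq_one_iff, ← orderOf_eq_one_iff]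
        have hd1 : orderOf ((g : G) : G ⧸ Kc) ∣ 4 := by
          have h4 := h.pow_four_of_isPGroup T T.2 g hg
          apply orderOf_dvd_of_pow_eq_one
          rw [← QuotientGroup.mk_pow, h4]; rfl
        have hd2 : orderOf ((g : G) : G ⧸ Kc) ∣ 3 := by
          rw [← hKidx, Subgroup.index_eq_card]; exact orderOf_dvd_natCard _
        have := Nat.dvd_gcd hd1 hd2
        simpa using this
      have hTeq : (T : Subgroup G) = Kc := Subgroup.eq_of_le_of_card_ge hTK (by rw [hc3])
      haveI : (T : Subgroup G).Normal := by rw [hTeq]; exact hKcn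
      have h7 : (T : Subgroup G).normalCore = T := Subgroup.normalCore_eq_self _
      rw [hNcore] at h7
      rw [h7, hTidx] at h6
      omega
    obtain ⟨t, ht, htx⟩ := h.exists_inverting_involution (S : Subgroup G) hx hSx hnot
    obtain ⟨hc, h2⟩ := h.elemAb N hNp hx ht htx
    refine ⟨⟨?_, h2⟩, ?_⟩
    · constructor
      constructor
      intro a b
      exact Subtype.ext (hc a a.2 b b.2)
    · have hrange : φ.range = ⊤ := by
        apply Subgroup.eq_top_of_card_eq
        rw [← hidx, h6, hcardP]
      have hsurj : Function.Surjective φ := MonoidHom.range_eq_top.mp hrange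
      let e1 : G ⧸ N ≃* Equiv.Perm (G ⧸ (T : Subgroup G)) :=
        QuotientGroup.quotientKerEquivOfSurjective φ hsurj
      let e2 : (G ⧸ (T : Subgroup G)) ≃ Fin 3 :=
        (Finite.equivFin (G ⧸ (T : Subgroup G))).trans (finCongr hcardQ)
      exact ⟨e1.trans e2.permCongrHom⟩

end Ord4

end Cfsg.Agent.Helper20
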