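import Mathlib
import Cfsg.Agent.Lib.Lead.SylowTools

/-! General counting tools for "no simple group of order N" arguments. -/

namespace Cfsg.Agent.Helper20.OrdSimple

open Subgroup

variable {G : Type*} [Group G]

/-- if all Sylow `p`-subgroups have order `p`, there are at least `n_p (p-1)` elements of order `p` -/
theorem card_sylow_mul_le_card_orderOf [Finite G] {p : ℕ} [hp : Fact p.Prime]
    (hP : ∀ P : Sylow p G, Nat.card (P : Subgroup G) = p) :
    Nat.card (Sylow p G) * (p - 1) ≤ Nat.card {g : G // orderOf g = p} := by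
  classical
  have key : ∀ (P : Sylow p G) (x : G), x ∈ (P : Subgroup G) → x ≠ 1 →
      orderOf x = p ∧ zpowers x = (P : Subgroup G) := by
    intro P x hx hx1
    have h1 : orderOf x ∣ p := by
      have := orderOf_dvd_natCard (⟨x, hx⟩ : (P : Subgroup G))
      rw [hP P] at this
      rwa [Subgroup.orderOf_mk] at this
    have h2 : orderOf x = p := by
      rcases (Nat.dvd_prime hp.out).1 h1 with h | h
      · exact absurd (orderOf_eq_one_iff.1 h) hx1
      · exact h
    refine ⟨h2, ?_⟩
    apply Subgroup.eq_of_le_of_card_ge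
    · rw [zpowers_le]; exact hx
    · rw [Nat.card_zpowers, h2, hP P]
  let f : (Σ P : Sylow p G, {x : (P : Subgroup G) // x ≠ 1}) → {g : G // orderOf g = p} :=
    fun a => ⟨(a.2.1 : G), (key a.1 _ a.2.1.2 (fun h => a.2.2 (Subtype.ext h))).1⟩
  have hf : Function.Injective f := by
    rintro ⟨P, x, hx⟩ ⟨P', x', hx'⟩ h
    have h1 : (x : G) = (x' : G) := congrArg Subtype.val h
    have hPP' : P = P' := by
      apply Sylow.ext
      rw [← (key P _ x.2 (fun h => hx (Subtype.ext h))).2,
        ← (key P' _ x'.2 (fun h => hx' (Subtype.ext h))).2, h1]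
    subst hPP'
    have : x = x' := Subtype.ext h1
    subst this
    rfl
  have hcard := Nat.card_le_card_of_injective f hf
  haveI : Fintype (Sylow p G) := Fintype.ofFinite _
  rw [Nat.card_sigma] at hcard
  have h3 : ∀ P : Sylow p G, Nat.card {x : (P : Subgroup G) // x ≠ 1} = p - 1 := by
    intro P
    haveI : Fintype (P : Subgroup G) := Fintype.ofFinite _
    rw [Nat.card_eq_fintype_card, Fintype.card_subtype_compl, Fintype.card_subtype_eq,
      ← Nat.card_eq_fintype_card, hP P]
  simp only [h3, Finset.sum_const, Finset.card_univ, smul_eq_mul] at hcard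
  rw [Nat.card_eq_fintype_card]
  exact hcard

/-- in a simple group, a prime divisor of the order is at most the index of a proper subgroup -/
theorem prime_le_index [Finite G] [IsSimpleGroup G] (H : Subgroup G) (hH : H ≠ ⊤) {p : ℕ}
    (hp : p.Prime) (hpG : p ∣ Nat.card G) : p ≤ H.index := by
  have h1 := Cfsg.Agent.Lead.card_dvd_factorial_index H hH
  exact (hp.dvd_factorial).1 (hpG.trans h1)

/-- the numbers of elements of the orders in a finite set of naturals add up to at most `|G|` -/
theorem sum_card_orderOf_le [Finite G] (T : Finset ℕ) :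
    ∑ m ∈ T, Nat.card {g : G // orderOf g = m} ≤ Nat.card G := by
  classical
  haveI : Fintype G := Fintype.ofFinite _
  have h1 : ∀ m : ℕ, Nat.card {g : G // orderOf g = m} =
      (Finset.univ.filter (fun g : G => orderOf g = m)).card := by
    intro m
    rw [Nat.card_eq_fintype_card, Fintype.card_subtype]
  simp only [h1]
  rw [← Finset.card_biUnion]
  · rw [Nat.card_eq_fintype_card]
    exact Finset.card_le_univ _
  · intro a _ b _ hab
    rw [Function.onFun, Finset.disjoint_left]
    intro g hg hg'
    rw [Finset.mem_filter] at hg hg'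
    exact hab (hg.2.symm.trans hg'.2)

/-- a Sylow subgroup contained in the normalizer of another one is equal to it -/
theorem sylow_eq_of_le_normalizer [Finite G] {p : ℕ} [Fact p.Prime] (Q Q' : Sylow p G)
    (h : (Q' : Subgroup G) ≤ normalizer ((Q : Subgroup G) : Set G)) : Q' = Q := by
  have h1 : IsPGroup p ((Q' : Subgroup G) ⊔ (Q : Subgroup G) : Subgroup G) :=
    IsPGroup.to_sup_of_normal_right' Q'.2 Q.2 h
  have h2 : (Q' : Subgroup G) ⊔ (Q : Subgroup G) = (Q : Subgroup G) :=
    Q.is_maximal' h1 le_sup_right
  have h3 : (Q' : Subgroup G) ≤ (Q : Subgroup G) := by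
    rw [← h2]; exact le_sup_left
  exact Sylow.ext (Q'.is_maximal' Q.2 h3).symm

end Cfsg.Agent.Helper20.OrdSimple
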