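import Mathlib
import Cfsg.Agent.Lib.Lead.SylowTools
import Cfsg.Agent.Lib.Lead.SimpleTools
import Cfsg.Agent.Lib.Helper20.OrdSimpleA

/-! No simple group of order `1004913 = 3^3 * 7 * 13 * 409`. -/

namespace Cfsg.Agent.Helper20.OrdSimple

open Subgroup
open scoped Pointwise

variable {G : Type*} [Group G] [Finite G]

/-- if Sylow `p`-subgroups have order `p` and `p` divides `|H|` then `H` contains a Sylow -/
theorem exists_sylow_le_of_dvd {p : ℕ} [hp : Fact p.Prime]
    (hP : ∀ P : Sylow p G, Nat.card (P : Subgroup G) = p) (H : Subgroup G)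
    (hH : p ∣ Nat.card H) : ∃ Q : Sylow p G, (Q : Subgroup G) ≤ H := by
  obtain ⟨x, hx⟩ := exists_prime_orderOf_dvd_card' (G := H) p hH
  have hxG : orderOf (x : G) = p := by rw [Subgroup.orderOf_coe, hx]
  have hz : IsPGroup p (Subgroup.zpowers (x : G)) := by
    apply IsPGroup.of_card (n := 1)
    rw [Nat.card_zpowers, hxG, pow_one]
  obtain ⟨Q, hQ⟩ := hz.exists_le_sylow
  refine ⟨Q, ?_⟩
  have heq : Subgroup.zpowers (x : G) = (Q : Subgroup G) := by
    apply Subgroup.eq_of_le_of_card_ge hQ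
    rw [hP Q, Nat.card_zpowers, hxG]
  rw [← heq, Subgroup.zpowers_le]
  exact x.2

theorem n409_cases {n : ℕ} (h : n ∣ 2457) (hm : n % 409 = 1) : n = 1 ∨ n = 819 := by
  have hle : n ≤ 2457 := Nat.le_of_dvd (by norm_num) h
  have : n = 1 ∨ n = 410 ∨ n = 819 ∨ n = 1228 ∨ n = 1637 ∨ n = 2046 ∨ n = 2455 := by omega
  rcases this with rfl | rfl | rfl | rfl | rfl | rfl | rfl
  · left; rfl
  · exfalso; norm_num at h
  · right; rfl
  · exfalso; norm_num at h
  · exfalso; norm_num at h
  · exfalso; norm_num at h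
  · exfalso; norm_num at h

theorem dvd27_cases {k : ℕ} (h : k ∣ 27) : k = 1 ∨ k = 3 ∨ k = 9 ∨ k = 27 := by
  have hle : k ≤ 27 := Nat.le_of_dvd (by norm_num) h
  interval_cases k <;> omega

theorem n13_cases {n : ℕ} (h : n ∣ 77301) (hm : n % 13 = 1) :
    n = 1 ∨ n = 27 ∨ n = 25767 := by
  have e : (77301 : ℕ) = 27 * (7 * 409) := by norm_num
  rw [e] at h
  obtain ⟨k1, k2, h1, h2, rfl⟩ := (Nat.dvd_mul).1 h
  obtain ⟨k3, k4, h3, h4, rfl⟩ := (Nat.dvd_mul).1 h2
  rcases dvd27_cases h1 with rfl | rfl | rfl | rfl <;>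
  rcases (Nat.dvd_prime (by norm_num : Nat.Prime 7)).1 h3 with rfl | rfl <;>
  rcases (Nat.dvd_prime (by norm_num : Nat.Prime 409)).1 h4 with rfl | rfl <;>
  omega

theorem n7_cases {n : ℕ} (h : n ∣ 143559) (hm : n % 7 = 1) :
    n = 1 ∨ n = 351 ∨ n = 47853 := by
  have e : (143559 : ℕ) = 27 * (13 * 409) := by norm_num
  rw [e] at h
  obtain ⟨k1, k2, h1, h2, rfl⟩ := (Nat.dvd_mul).1 h
  obtain ⟨k3, k4, h3, h4, rfl⟩ := (Nat.dvd_mul).1 h2
  rcases dvd27_cases h1 with rfl | rfl | rfl | rfl <;>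
  rcases (Nat.dvd_prime (by norm_num : Nat.Prime 13)).1 h3 with rfl | rfl <;>
  rcases (Nat.dvd_prime (by norm_num : Nat.Prime 409)).1 h4 with rfl | rfl <;>
  omega

section main

variable [IsSimpleGroup G]

theorem nonab_A (h : Nat.card G = 1004913) : ∃ x y : G, x * y ≠ y * x :=
  Cfsg.Agent.Lead.nonabelian_of_not_prime (by rw [h]; norm_num)

theorem le_card_sylow_A (h : Nat.card G = 1004913) (p : ℕ) [Fact p.Prime]
    (hp : p ∣ Nat.card G) : 409 ≤ Nat.card (Sylow p G) := by
  obtain ⟨P⟩ : Nonempty (Sylow p G) := inferInstance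
  rw [P.card_eq_index_normalizer]
  exact prime_le_index _ (Cfsg.Agent.Lead.sylow_normalizer_ne_top (nonab_A h) hp P)
    (by norm_num) (by rw [h]; norm_num)

theorem n409_A (h : Nat.card G = 1004913) [Fact (Nat.Prime 409)] :
    Nat.card (Sylow 409 G) = 819 ∧ ∀ Q : Sylow 409 G, Nat.card (Q : Subgroup G) = 409 := by
  obtain ⟨hc, hdvd, hmod⟩ := Cfsg.Agent.Lead.sylow_facts (G := G) (p := 409) (k := 1) (m := 2457)
    (by rw [h]; norm_num) (by norm_num)
  have hge := le_card_sylow_A h 409 (by rw [h]; norm_num)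
  refine ⟨?_, fun Q => by rw [hc Q, pow_one]⟩
  rcases n409_cases hdvd hmod with h1 | h1
  · omega
  · exact h1

theorem n13_A (h : Nat.card G = 1004913) [Fact (Nat.Prime 13)] :
    Nat.card (Sylow 13 G) = 25767 ∧ ∀ Q : Sylow 13 G, Nat.card (Q : Subgroup G) = 13 := by
  obtain ⟨hc, hdvd, hmod⟩ := Cfsg.Agent.Lead.sylow_facts (G := G) (p := 13) (k := 1) (m := 77301)
    (by rw [h]; norm_num) (by norm_num)
  have hge := le_card_sylow_A h 13 (by rw [h]; norm_num)
  refine ⟨?_, fun Q => by rw [hc Q, pow_one]⟩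
  rcases n13_cases hdvd hmod with h1 | h1 | h1
  · omega
  · omega
  · exact h1

theorem n7_A (h : Nat.card G = 1004913) [Fact (Nat.Prime 7)] :
    Nat.card (Sylow 7 G) = 47853 ∧ ∀ Q : Sylow 7 G, Nat.card (Q : Subgroup G) = 7 := by
  obtain ⟨hc, hdvd, hmod⟩ := Cfsg.Agent.Lead.sylow_facts (G := G) (p := 7) (k := 1) (m := 143559)
    (by rw [h]; norm_num) (by norm_num)
  have hge := le_card_sylow_A h 7 (by rw [h]; norm_num)
  refine ⟨?_, fun Q => by rw [hc Q, pow_one]⟩
  rcases n7_cases hdvd hmod with h1 | h1 | h1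
  · omega
  · omega
  · exact h1

theorem card_normalizer_A (h : Nat.card G = 1004913) [Fact (Nat.Prime 409)] (Q : Sylow 409 G) :
    Nat.card (normalizer ((Q : Subgroup G) : Set G)) = 1227 := by
  have := Cfsg.Agent.Lead.card_sylow_mul_card_normalizer Q
  rw [(n409_A h).1, h] at this
  omega

/-- no element of order 3 centralizes a Sylow 409-subgroup -/
theorem not_centralize_A (h : Nat.card G = 1004913) [Fact (Nat.Prime 409)] (Q : Sylow 409 G)
    (x : G) (hx : orderOf x = 3) (hc : ∀ q ∈ (Q : Subgroup G), x * q = q * x) : False := by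
  haveI : Fact (Nat.Prime 3) := ⟨by norm_num⟩
  set M := normalizer ((zpowers x : Subgroup G) : Set G) with hM
  have hQM : (Q : Subgroup G) ≤ M := by
    intro q hq
    apply Subgroup.centralizer_le_normalizer
    rw [Subgroup.mem_centralizer_iff]
    intro y hy
    obtain ⟨k, rfl⟩ := Subgroup.mem_zpowers_iff.1 hy
    have : Commute x q := hc q hq
    exact (this.zpow_left k).eq
  have h409 : 409 ∣ Nat.card M := by
    have := Subgroup.card_dvd_of_le hQM
    rwa [(n409_A h).2 Q] at this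
  have h9 : 9 ∣ Nat.card M := by
    have hz : Nat.card (zpowers x) = 3 ^ 1 := by rw [Nat.card_zpowers, hx, pow_one]
    have := Sylow.card_normalizer_modEq_card (G := G) hz
    rw [h] at this
    have h2 : Nat.card M % 9 = 1004913 % 9 := this
    omega
  have h3681 : 3681 ∣ Nat.card M := by
    have : Nat.Coprime 9 409 := by norm_num
    exact this.mul_dvd_of_dvd_of_dvd h9 h409
  have hidx : M.index ≤ 273 := by
    obtain ⟨k, hk⟩ := h3681
    have := Subgroup.card_mul_index M
    rw [h, hk] at this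
    have hk0 : 0 < k := by
      rcases Nat.eq_zero_or_pos k with h0 | h0
      · rw [h0] at this; omega
      · exact h0
    have h1 : k * M.index = 273 := by
      have : 3681 * (k * M.index) = 3681 * 273 := by rw [← mul_assoc]; omega
      exact Nat.eq_of_mul_eq_mul_left (by norm_num) this
    nlinarith
  have hne : M ≠ ⊤ := by
    apply Cfsg.Agent.Lead.normalizer_ne_top_of_simple
    · intro hb
      have : x ∈ (zpowers x : Subgroup G) := Subgroup.mem_zpowers x
      rw [hb, Subgroup.mem_bot] at this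
      rw [this, orderOf_one] at hx
      omega
    · intro ht
      have : Nat.card (zpowers x) = 3 := by rw [Nat.card_zpowers, hx]
      rw [ht, Subgroup.card_top, h] at this
      omega
  have := prime_le_index M hne (by norm_num : Nat.Prime 409) (by rw [h]; norm_num)
  omega

/-- a nonidentity element of a Sylow 409 does not commute with an element of order 3 -/
theorem not_commute_A (h : Nat.card G = 1004913) [Fact (Nat.Prime 409)] (Q : Sylow 409 G)
    (x : G) (hx : orderOf x = 3) (r : G) (hr : r ∈ (Q : Subgroup G)) (hxr : x * r = r * x) :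
    r = 1 := by
  by_contra hr1
  have hzr : zpowers r = (Q : Subgroup G) := by
    apply Subgroup.eq_of_le_of_card_ge
    · rw [zpowers_le]; exact hr
    · rw [(n409_A h).2 Q, Nat.card_zpowers]
      have h1 : orderOf r ∣ 409 := by
        have := orderOf_dvd_natCard (⟨r, hr⟩ : (Q : Subgroup G))
        rw [(n409_A h).2 Q] at this
        rwa [Subgroup.orderOf_mk] at this
      rcases (Nat.dvd_prime (by norm_num : Nat.Prime 409)).1 h1 with h2 | h2
      · exact absurd (orderOf_eq_one_iff.1 h2) hr1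
      · rw [h2]
  apply not_centralize_A h Q x hx
  intro q hq
  rw [← hzr] at hq
  obtain ⟨k, rfl⟩ := Subgroup.mem_zpowers_iff.1 hq
  have : Commute x r := hxr
  exact (this.zpow_right k).eq

theorem key_fix_A (h : Nat.card G = 1004913) [Fact (Nat.Prime 409)] (Q Q' : Sylow 409 G)
    (hQQ' : Q' ≠ Q) (x : G) (hx : orderOf x = 3)
    (hxQ : x ∈ normalizer ((Q : Subgroup G) : Set G))
    (hxQ' : x ∈ normalizer ((Q' : Subgroup G) : Set G)) (q : G) (hq : q ∈ (Q : Subgroup G))
    (hxq : x ∈ normalizer (((q • Q' : Sylow 409 G) : Subgroup G) : Set G)) : q = 1 := by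
  set y := q⁻¹ * x * q with hy
  have hyQ' : y ∈ normalizer ((Q' : Subgroup G) : Set G) := by
    apply (Sylow.smul_eq_iff_mem_normalizer (g := y) (P := Q')).1
    have h1 : x • (q • Q') = q • Q' :=
      (Sylow.smul_eq_iff_mem_normalizer (g := x) (P := q • Q')).2 hxq
    rw [hy, mul_smul, mul_smul, h1, inv_smul_smul]
  have hqN : q ∈ normalizer ((Q : Subgroup G) : Set G) := le_normalizer hq
  have hyQ : y ∈ normalizer ((Q : Subgroup G) : Set G) :=
    Subgroup.mul_mem _ (Subgroup.mul_mem _ (Subgroup.inv_mem _ hqN) hxQ) hqN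
  set I := normalizer ((Q : Subgroup G) : Set G) ⊓ normalizer ((Q' : Subgroup G) : Set G) with hI
  have hI1 : Nat.card I ∣ 1227 := by
    have := Subgroup.card_dvd_of_le (inf_le_left : I ≤ normalizer ((Q : Subgroup G) : Set G))
    rwa [card_normalizer_A h Q] at this
  have hI2 : ¬ 409 ∣ Nat.card I := by
    intro hd
    obtain ⟨S, hS⟩ := exists_sylow_le_of_dvd (n409_A h).2 I hd
    have h1 := sylow_eq_of_le_normalizer Q S (hS.trans inf_le_left)
    have h2 := sylow_eq_of_le_normalizer Q' S (hS.trans inf_le_right)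
    exact hQQ' (h2.symm.trans h1)
  have hI3 : Nat.card I ∣ 3 := by
    have hcop : Nat.Coprime (Nat.card I) 409 :=
      ((Nat.Prime.coprime_iff_not_dvd (by norm_num : Nat.Prime 409)).2 hI2).symm
    have e : (1227 : ℕ) = 3 * 409 := by norm_num
    rw [e] at hI1
    exact hcop.dvd_of_dvd_mul_right hI1
  have hxI : x ∈ I := Subgroup.mem_inf.2 ⟨hxQ, hxQ'⟩
  have hyI : y ∈ I := Subgroup.mem_inf.2 ⟨hyQ, hyQ'⟩
  have hzI : zpowers x = I := by
    apply Subgroup.eq_of_le_of_card_ge
    · rw [zpowers_le]; exact hxI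
    · rw [Nat.card_zpowers, hx]
      exact Nat.le_of_dvd (by norm_num) hI3
  have hyz : y ∈ zpowers x := by rw [hzI]; exact hyI
  -- `q⁻¹ * (x q x⁻¹)` lies in `Q ⊓ zpowers x = ⊥`
  have hc : x * q * x⁻¹ ∈ (Q : Subgroup G) := (Subgroup.mem_normalizer_iff.1 hxQ q).1 hq
  have h1 : q⁻¹ * (x * q * x⁻¹) ∈ (Q : Subgroup G) :=
    Subgroup.mul_mem _ (Subgroup.inv_mem _ hq) hc
  have h2 : q⁻¹ * (x * q * x⁻¹) ∈ zpowers x := by
    have : q⁻¹ * (x * q * x⁻¹) = y * x⁻¹ := by rw [hy]; group
    rw [this]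
    exact Subgroup.mul_mem _ hyz (Subgroup.inv_mem _ (Subgroup.mem_zpowers x))
  have hbot : (Q : Subgroup G) ⊓ zpowers x = ⊥ := by
    apply disjoint_iff.1
    apply Subgroup.disjoint_of_coprime_natCard
    rw [(n409_A h).2 Q, Nat.card_zpowers, hx]
    norm_num
  have h3 : q⁻¹ * (x * q * x⁻¹) = 1 := by
    have : q⁻¹ * (x * q * x⁻¹) ∈ (Q : Subgroup G) ⊓ zpowers x := Subgroup.mem_inf.2 ⟨h1, h2⟩
    rwa [hbot, Subgroup.mem_bot] at this
  have h4 : x * q = q * x := by
    have : x * q * x⁻¹ = q := by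
      calc x * q * x⁻¹ = q * (q⁻¹ * (x * q * x⁻¹)) := by group
        _ = q := by rw [h3, mul_one]
    calc x * q = x * q * x⁻¹ * x := by group
      _ = q * x := by rw [this]
  exact not_commute_A h Q x hx q hq h4

end main

end Cfsg.Agent.Helper20.OrdSimple
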