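import Mathlib
import Cfsg.Agent.Lib.Helper20.OrdSimpleB
import Cfsg.Agent.Lib.Helper20.SylowBasic

/-! No simple group of order `1004913`: the count of elements of order 3. -/

namespace Cfsg.Agent.Helper20.OrdSimple

open Subgroup
open scoped Pointwise

variable {G : Type*} [Group G] [Finite G] [IsSimpleGroup G]

/-- an element of order 3 normalizes at most three Sylow 409-subgroups -/
theorem card_fixed_le_A (h : Nat.card G = 1004913) [Fact (Nat.Prime 409)] [Fintype (Sylow 409 G)]
    [DecidableEq (Sylow 409 G)]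
    (x : G) (hx : orderOf x = 3)
    [DecidablePred fun Q : Sylow 409 G => x ∈ normalizer ((Q : Subgroup G) : Set G)] :
    (Finset.univ.filter
      (fun Q : Sylow 409 G => x ∈ normalizer ((Q : Subgroup G) : Set G))).card ≤ 3 := by
  classical
  set F := Finset.univ.filter
      (fun Q : Sylow 409 G => x ∈ normalizer ((Q : Subgroup G) : Set G)) with hF
  rcases F.eq_empty_or_nonempty with he | ⟨Q, hQ⟩
  · rw [he]; simp
  have hQx : x ∈ normalizer ((Q : Subgroup G) : Set G) := (Finset.mem_filter.1 hQ).2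
  haveI : Fintype (Q : Subgroup G) := Fintype.ofFinite _
  have hQc : Fintype.card (Q : Subgroup G) = 409 := by
    rw [← Nat.card_eq_fintype_card]; exact (n409_A h).2 Q
  have huniv : (Finset.univ : Finset (Sylow 409 G)).card = 819 := by
    rw [Finset.card_univ, ← Nat.card_eq_fintype_card]; exact (n409_A h).1
  -- the map `(Q', q) ↦ q • Q'`
  have key : ((F.erase Q) ×ˢ (Finset.univ : Finset (Q : Subgroup G))).card ≤
      ((Finset.univ : Finset (Sylow 409 G)).erase Q).card := by
    apply Finset.card_le_card_of_injOn (fun a => (a.2 : G) • a.1)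
    · rintro ⟨Q', q⟩ ha
      simp only [Finset.coe_product, Set.mem_prod, Finset.mem_coe, Finset.mem_erase] at ha
      simp only [Finset.coe_erase, Finset.coe_univ, Set.mem_sdiff, Set.mem_univ,
        Set.mem_singleton_iff, true_and]
      intro heq
      apply ha.1.1
      have hqn : (q : G)⁻¹ ∈ normalizer ((Q : Subgroup G) : Set G) :=
        Subgroup.inv_mem _ (le_normalizer q.2)
      have hfix : (q : G)⁻¹ • Q = Q :=
        (Sylow.smul_eq_iff_mem_normalizer (g := (q : G)⁻¹) (P := Q)).2 hqn
      have heq2 : (q : G) • Q' = Q := heq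
      calc Q' = (q : G)⁻¹ • ((q : G) • Q') := (inv_smul_smul _ _).symm
        _ = (q : G)⁻¹ • Q := congrArg (fun R => (q : G)⁻¹ • R) heq2
        _ = Q := hfix
    · rintro ⟨Q1, q1⟩ ha1 ⟨Q2, q2⟩ ha2 heq
      simp only [Finset.coe_product, Set.mem_prod, Finset.mem_coe, Finset.mem_erase] at ha1 ha2
      have heq' : (q1 : G) • Q1 = (q2 : G) • Q2 := heq
      have h1 : Q2 = ((q2 : G)⁻¹ * (q1 : G)) • Q1 := by
        rw [mul_smul, heq', inv_smul_smul]
      have hx1 : x ∈ normalizer ((Q1 : Subgroup G) : Set G) := (Finset.mem_filter.1 ha1.1.2).2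
      have hx2 : x ∈ normalizer ((Q2 : Subgroup G) : Set G) := (Finset.mem_filter.1 ha2.1.2).2
      have h2 : (q2 : G)⁻¹ * (q1 : G) = 1 := by
        apply key_fix_A h Q Q1 ha1.1.1 x hx hQx hx1 _
          (Subgroup.mul_mem _ (Subgroup.inv_mem _ q2.2) q1.2)
        rw [← h1]
        exact hx2
      have h3 : (q1 : G) = (q2 : G) := by
        calc (q1 : G) = (q2 : G) * ((q2 : G)⁻¹ * (q1 : G)) := by group
          _ = (q2 : G) := by rw [h2, mul_one]
      have h4 : Q2 = Q1 := by rw [h1, h2, one_smul]
      have h5 : q1 = q2 := Subtype.ext h3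
      rw [h4, h5]
  rw [Finset.card_product, Finset.card_univ, hQc, Finset.card_erase_of_mem (Finset.mem_univ Q),
    huniv, Finset.card_erase_of_mem hQ] at key
  omega

/-- the normalizer of a Sylow 409 contains at least 409 elements of order 3 -/
theorem card_order3_ge_A (h : Nat.card G = 1004913) [Fact (Nat.Prime 409)] [Fintype G]
    [DecidableEq G] (Q : Sylow 409 G)
    [DecidablePred fun x : G => x ∈ normalizer ((Q : Subgroup G) : Set G) ∧ orderOf x = 3] :
    409 ≤ (Finset.univ.filter
      (fun x : G => x ∈ normalizer ((Q : Subgroup G) : Set G) ∧ orderOf x = 3)).card := by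
  classical
  haveI : Fact (Nat.Prime 3) := ⟨by norm_num⟩
  obtain ⟨x0, hx0⟩ := exists_prime_orderOf_dvd_card'
    (G := normalizer ((Q : Subgroup G) : Set G)) 3 (by rw [card_normalizer_A h Q]; norm_num)
  have hx : orderOf (x0 : G) = 3 := by rw [Subgroup.orderOf_coe, hx0]
  haveI : Fintype (Q : Subgroup G) := Fintype.ofFinite _
  have hQc : Fintype.card (Q : Subgroup G) = 409 := by
    rw [← Nat.card_eq_fintype_card]; exact (n409_A h).2 Q
  have key : (Finset.univ : Finset (Q : Subgroup G)).card ≤ (Finset.univ.filter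
      (fun x : G => x ∈ normalizer ((Q : Subgroup G) : Set G) ∧ orderOf x = 3)).card := by
    apply Finset.card_le_card_of_injOn
      (fun q : (Q : Subgroup G) => (q : G) * (x0 : G) * (q : G)⁻¹)
    · intro q _
      simp only [Finset.coe_filter, Finset.mem_univ, true_and, Set.mem_setOf_eq]
      refine ⟨?_, ?_⟩
      · exact Subgroup.mul_mem _ (Subgroup.mul_mem _ (le_normalizer q.2) x0.2)
          (Subgroup.inv_mem _ (le_normalizer q.2))
      · rw [Cfsg.Agent.Helper20.orderOf_conj]
        exact hx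
    · intro q1 _ q2 _ heq
      have heq' : (q1 : G) * (x0 : G) * (q1 : G)⁻¹ = (q2 : G) * (x0 : G) * (q2 : G)⁻¹ := heq
      have h1 : (x0 : G) * ((q2 : G)⁻¹ * (q1 : G)) = ((q2 : G)⁻¹ * (q1 : G)) * (x0 : G) := by
        calc (x0 : G) * ((q2 : G)⁻¹ * (q1 : G))
            = (q2 : G)⁻¹ * ((q2 : G) * (x0 : G) * (q2 : G)⁻¹) * (q1 : G) := by group
          _ = (q2 : G)⁻¹ * ((q1 : G) * (x0 : G) * (q1 : G)⁻¹) * (q1 : G) := by rw [heq']
          _ = ((q2 : G)⁻¹ * (q1 : G)) * (x0 : G) := by group
      have h2 := not_commute_A h Q (x0 : G) hx _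
        (Subgroup.mul_mem _ (Subgroup.inv_mem _ q2.2) q1.2) h1
      apply Subtype.ext
      calc (q1 : G) = (q2 : G) * ((q2 : G)⁻¹ * (q1 : G)) := by group
        _ = (q2 : G) := by rw [h2, mul_one]
  rw [Finset.card_univ, hQc] at key
  exact key

/-- at least 111657 elements of order 3 -/
theorem card_order3_A (h : Nat.card G = 1004913) :
    111657 ≤ Nat.card {g : G // orderOf g = 3} := by
  classical
  haveI : Fact (Nat.Prime 409) := ⟨by norm_num⟩
  haveI : Fintype G := Fintype.ofFinite _
  haveI : Fintype (Sylow 409 G) := Fintype.ofFinite _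
  have huniv : (Finset.univ : Finset (Sylow 409 G)).card = 819 := by
    rw [Finset.card_univ, ← Nat.card_eq_fintype_card]; exact (n409_A h).1
  set X3 := Finset.univ.filter (fun g : G => orderOf g = 3) with hX3
  have hcard : Nat.card {g : G // orderOf g = 3} = X3.card := by
    rw [Nat.card_eq_fintype_card, Fintype.card_subtype]
  rw [hcard]
  have hdc := Finset.sum_card_bipartiteAbove_eq_sum_card_bipartiteBelow
    (s := (Finset.univ : Finset (Sylow 409 G))) (t := X3)
    (fun (Q : Sylow 409 G) (x : G) => x ∈ normalizer ((Q : Subgroup G) : Set G))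
  have hL : 819 * 409 ≤ ∑ Q ∈ (Finset.univ : Finset (Sylow 409 G)),
      (X3.bipartiteAbove (fun (Q : Sylow 409 G) (x : G) =>
        x ∈ normalizer ((Q : Subgroup G) : Set G)) Q).card := by
    rw [← huniv, ← smul_eq_mul, ← Finset.sum_const]
    apply Finset.sum_le_sum
    intro Q _
    have := card_order3_ge_A h Q
    refine this.trans (Finset.card_le_card ?_)
    intro x hx
    rw [Finset.mem_filter] at hx
    rw [Finset.bipartiteAbove, Finset.mem_filter, hX3, Finset.mem_filter]
    exact ⟨⟨Finset.mem_univ _, hx.2.2⟩, hx.2.1⟩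
  have hR : ∑ x ∈ X3, ((Finset.univ : Finset (Sylow 409 G)).bipartiteBelow
      (fun (Q : Sylow 409 G) (x : G) => x ∈ normalizer ((Q : Subgroup G) : Set G)) x).card ≤
      X3.card * 3 := by
    rw [← smul_eq_mul, ← Finset.sum_const]
    apply Finset.sum_le_sum
    intro x hx
    rw [hX3, Finset.mem_filter] at hx
    exact card_fixed_le_A h x hx.2
  rw [hdc] at hL
  have := hL.trans hR
  omega

end Cfsg.Agent.Helper20.OrdSimple
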