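import Mathlib
import Cfsg.Prelude.Def_FusionSystem
import Cfsg.Prelude.Def_FusionComponents
import Cfsg.Agent.Lib.Helper3.PPowDefs
import Cfsg.Agent.Lib.Helper25.FusionSat4
import Cfsg.Agent.Lib.Helper25.FusionSubSys
import Cfsg.Agent.Lib.Helper25.SylowIn
import Cfsg.Agent.Lib.Helper16.ResLim2
import Cfsg.Agent.Lib.Helper16.PPowD14
import Cfsg.Agent.Lib.Helper23.PPowA

/-!
# S5113 pieces D2 and D3 (helper20)

* `exists_normal_index_p` (D2, exact skeleton signature);
* `ParkExists` (the skeleton's definition, verbatim);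
* `exists_pPowerIndex_core` (D3 with the two facts `Park.isSaturated`, `Park.hasPPowerIndexIn`
  of Part III taken as explicit hypotheses).
-/

set_option autoImplicit false

namespace Cfsg.Agent.Helper3.PPow

open Cfsg Cfsg.FusionSystem Cfsg.Agent.Helper25

universe u v w

variable {Ω : Type u} [Group Ω]

/-- PIECE D2. A proper subgroup of a finite `p`-group lies in a normal subgroup of index `p`
(in the form used for subgroups of the ambient group). -/
theorem exists_normal_index_p {S : Subgroup Ω} [Finite S] {p : ℕ} [Fact p.Prime] (hS : IsPGroup p S)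
    {T : Subgroup Ω} (hTS : T ≤ S) (hne : T ≠ S) :
    ∃ M : Subgroup Ω, T ≤ M ∧ M ≤ S ∧ (M.subgroupOf S).Normal ∧ (M.subgroupOf S).index = p := by
  classical
  have hp : p.Prime := Fact.out
  obtain ⟨k, hk⟩ := IsPGroup.iff_card.mp hS
  -- the subgroup `T' = T ∩ S` of `S`
  set T' : Subgroup S := T.subgroupOf S with hT'
  have hT'p : IsPGroup p T' := hS.to_subgroup T'
  obtain ⟨n, hn⟩ := IsPGroup.iff_card.mp hT'p
  have hT'ne : T' ≠ ⊤ := by
    intro h
    apply hne
    apply le_antisymm hTS
    intro x hx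
    have : (⟨x, hx⟩ : S) ∈ T' := by rw [h]; exact Subgroup.mem_top _
    exact Subgroup.mem_subgroupOf.1 this
  have hnk : n < k := by
    have hle : Nat.card T' ∣ Nat.card S := Subgroup.card_subgroup_dvd_card T'
    rw [hn, hk] at hle
    have h1 : n ≤ k := (Nat.pow_dvd_pow_iff_le_right hp.one_lt).1 hle
    rcases lt_or_eq_of_le h1 with h2 | h2
    · exact h2
    · exfalso
      apply hT'ne
      apply Subgroup.eq_top_of_card_eq
      rw [hn, hk, h2]
  have hk1 : n ≤ k - 1 := by omega
  have hdvd : p ^ (k - 1) ∣ Nat.card S := by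
    rw [hk]
    exact pow_dvd_pow p (by omega)
  obtain ⟨K, hKcard, hTK⟩ := Sylow.exists_subgroup_card_pow_prime_le p hdvd T' hn hk1
  have hKidx : K.index = p := by
    have h1 := K.card_mul_index
    rw [hKcard, hk] at h1
    have h2 : p ^ k = p ^ (k - 1) * p := by
      rw [← pow_succ]
      congr 1
      omega
    rw [h2] at h1
    exact Nat.eq_of_mul_eq_mul_left (pow_pos hp.pos _) h1
  have hKn : K.Normal := by
    apply Subgroup.normal_of_index_eq_minFac_card
    rw [hKidx, hk]
    have hkpos : k ≠ 0 := by omega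
    rw [Nat.Prime.pow_minFac hp hkpos]
  have hKeq : (K.map S.subtype).subgroupOf S = K := by
    ext x
    rw [Subgroup.mem_subgroupOf]
    constructor
    · rintro ⟨y, hy, hxy⟩
      have : y = x := Subtype.ext hxy
      exact this ▸ hy
    · intro hx
      exact ⟨x, hx, rfl⟩
  refine ⟨K.map S.subtype, ?_, ?_, ?_, ?_⟩
  · intro x hx
    have : (⟨x, hTS hx⟩ : S) ∈ T' := Subgroup.mem_subgroupOf.2 hx
    exact ⟨⟨x, hTS hx⟩, hTK this, rfl⟩
  · rintro _ ⟨y, -, rfl⟩
    exact y.2
  · rw [hKeq]
    exact hKn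
  · rw [hKeq, hKidx]

/-- The output of Parts I and II (helper3). -/
def ParkExists : Prop :=
  ∀ {Ω : Type u} [Group Ω] {S : Subgroup Ω} [Finite S] (p : ℕ) [Fact p.Prime] (_ : IsPGroup p S)
    (F : FusionSystem S) (_ : F.IsSaturated p) (M : Subgroup Ω) (_ : M ≤ S)
    (_ : (M.subgroupOf S).Normal) (_ : (M.subgroupOf S).index = p)
    (_ : F.hyperfocalSubgroup p ≤ M),
    ∃ (𝒢 : Type u) (_ : Group 𝒢) (ι : S →* 𝒢) (V : 𝒢 →* Multiplicative (ZMod p)),
      Park p F M ι V

/-- PIECE D3, core form: existence by induction on the order of `S`, with the two facts of Part III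
(`Park.isSaturated`, `Park.hasPPowerIndexIn`) as explicit hypotheses. -/
theorem exists_pPowerIndex_core (hpark : ParkExists.{u}) (p : ℕ) [Fact p.Prime]
    (hsat : ∀ {S : Subgroup Ω} [Finite S] {F : FusionSystem S} {M : Subgroup Ω} {𝒢 : Type u}
      [Group 𝒢] {ι : S →* 𝒢} {V : 𝒢 →* Multiplicative (ZMod p)} (h : Park p F M ι V),
      IsPGroup p S → F.IsSaturated p → h.sys.IsSaturated p)
    (hidx : ∀ {S : Subgroup Ω} [Finite S] {F : FusionSystem S} {M : Subgroup Ω} {𝒢 : Type u}
      [Group 𝒢] {ι : S →* 𝒢} {V : 𝒢 →* Multiplicative (ZMod p)} (h : Park p F M ι V),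
      h.sys.HasPPowerIndexIn F p) :
    ∀ (n : ℕ) {S : Subgroup Ω} [Finite S] (_ : IsPGroup p S) (F : FusionSystem S)
      (_ : F.IsSaturated p) (T : Subgroup Ω) (_ : T ≤ S) (_ : F.hyperfocalSubgroup p ≤ T),
      Nat.card S = n → ∃ E : FusionSystem T, E.IsSaturated p ∧ E.HasPPowerIndexIn F p := by
  intro n
  induction n using Nat.strong_induction_on with
  | _ n ih =>
    intro S _ hS F hF T hTS hhyp hcard
    have hp : p.Prime := Fact.out
    rcases eq_or_ne T S with rfl | hne
    · exact ⟨F, hF, fun P => subset_rfl, hhyp, fun P _ => Subgroup.map_subtype_le _⟩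
    · obtain ⟨M, hTM, hMS, hMn, hMi⟩ := exists_normal_index_p hS hTS hne
      have hhypM : F.hyperfocalSubgroup p ≤ M := hhyp.trans hTM
      obtain ⟨𝒢, _, ι, V, h⟩ := hpark p hS F hF M hMS hMn hMi hhypM
      have hEsat : h.sys.IsSaturated p := hsat h hS hF
      have hEidx : h.sys.HasPPowerIndexIn F p := hidx h
      have hsc : F.StronglyClosed M := h.stronglyClosed
      have hhypE : h.sys.hyperfocalSubgroup p = F.hyperfocalSubgroup p :=
        Cfsg.Agent.Helper16.ResLim.hyp_eq_of_pPowerIndex p hS F h.sys hsc hEidx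
      have : Finite M := Finite.of_injective (Subgroup.inclusion hMS) (Subgroup.inclusion_injective hMS)
      have hMp : IsPGroup p M := hS.to_le hMS
      have hcardM : Nat.card M < n := by
        have h1 := (M.subgroupOf S).card_mul_index
        rw [hMi] at h1
        have h2 : Nat.card (M.subgroupOf S) = Nat.card M :=
          Nat.card_congr (Subgroup.subgroupOfEquivOfLe hMS).toEquiv
        rw [h2, hcard] at h1
        have hpos : 0 < Nat.card M := Nat.card_pos
        have : 2 ≤ p := hp.two_le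
        nlinarith
      obtain ⟨D, hDsat, hDidx⟩ := ih (Nat.card M) hcardM hMp h.sys hEsat T hTM (hhypE.le.trans hhyp) rfl
      exact ⟨D, hDsat, hasPPowerIndexIn_trans p F h.sys D hTM hMS hEidx hDidx hhyp⟩

end Cfsg.Agent.Helper3.PPow
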