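import Mathlib
import Cfsg.Agent.Lib.Helper20.PRegClass1
import Cfsg.Agent.Lib.Helper1.Hall
import Cfsg.Agent.Lib.Helper1.HallConj
import Cfsg.Agent.Lib.Helper14.Basic
import Cfsg.Agent.Lib.Helper16.Solvable2

set_option autoImplicit false

namespace Cfsg.Agent.Helper20

universe u

variable {G : Type u} [Group G] [Finite G] {p : ℕ} [Fact p.Prime]

/-- The easy direction: an abelian `p`-complement forces `p`-regular classes of `p`-power size. -/
theorem pRegPow_of_comm_complement (H : Subgroup G) (hH : IsMulCommutative H)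
    (hpH : ¬ p ∣ Nat.card H) (hk : ∃ k : ℕ, H.index = p ^ k) : PRegPow p G := by
  obtain ⟨k, hk⟩ := hk
  haveI : Group.IsSolvable G := isSolvable_of_comm_index_pow H hH ⟨k, hk⟩
  intro x hx
  have hp := (Fact.out : p.Prime)
  have hG : Nat.card G = Nat.card H * p ^ k := by rw [← hk]; exact (H.card_mul_index).symm
  have hmn : (Nat.card H).Coprime (p ^ k) :=
    Nat.Coprime.pow_right k ((Nat.Prime.coprime_iff_not_dvd hp).mpr hpH).symm
  have hK : (Nat.card (Subgroup.zpowers x)).Coprime (p ^ k) := by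
    rw [Nat.card_zpowers]; exact Nat.Coprime.pow_right k hx
  obtain ⟨H', hH'card, hxH'⟩ :=
    Cfsg.Agent.Helper1.hall_contain (Nat.card H) (p ^ k) hG hmn (Subgroup.zpowers x) hK
  obtain ⟨g, hg⟩ := Cfsg.Agent.Helper1.hall_conj (Nat.card H) (p ^ k) hG hmn H H' rfl hH'card
  have hH'comm : ∀ a ∈ H', ∀ b ∈ H', a * b = b * a := by
    intro a ha b hb
    rw [← hg] at ha hb
    obtain ⟨a', ha', rfl⟩ := (Subgroup.mem_smul_pointwise_iff_exists _ _ _).mp ha
    obtain ⟨b', hb', rfl⟩ := (Subgroup.mem_smul_pointwise_iff_exists _ _ _).mp hb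
    have hab : a' * b' = b' * a' := congrArg Subtype.val (hH.is_comm.comm ⟨a', ha'⟩ ⟨b', hb'⟩)
    simp only [MulAut.smul_def]
    rw [← map_mul, ← map_mul, hab]
  have hle : H' ≤ Subgroup.centralizer ({x} : Set G) := by
    intro b hb
    rw [Subgroup.mem_centralizer_iff]
    intro y hy
    rw [Set.mem_singleton_iff] at hy
    rw [hy]
    exact hH'comm x (hxH' (Subgroup.mem_zpowers x)) b hb
  have h1 : H'.index = p ^ k := by
    have := H'.card_mul_index
    rw [hH'card, hG] at this
    exact Nat.eq_of_mul_eq_mul_left Nat.card_pos this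
  have hdvd : (Subgroup.centralizer ({x} : Set G)).index ∣ p ^ k := by
    rw [← h1]; exact Subgroup.index_dvd_of_le hle
  obtain ⟨j, _, hj⟩ := (Nat.dvd_prime_pow hp).mp hdvd
  exact ⟨j, hj⟩

/-- Every `p`-regular element is central in some Hall `p'`-subgroup. -/
theorem PRegPow.exists_center_hall (h : PRegPow p G) [Group.IsSolvable G] (m a : ℕ)
    (hG : Nat.card G = m * p ^ a) (hm : m.Coprime p) (x : G) (hx : (orderOf x).Coprime p) :
    ∃ K : Subgroup G, Nat.card K = m ∧ x ∈ K ∧ K ≤ Subgroup.centralizer ({x} : Set G) := by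
  have hp := (Fact.out : p.Prime)
  set C := Subgroup.centralizer ({x} : Set G) with hC
  obtain ⟨k, hk⟩ := h x hx
  have h1 : Nat.card C * p ^ k = m * p ^ a := by rw [← hG, ← hk]; exact C.card_mul_index
  have hka : k ≤ a := by
    have h2 : p ^ k ∣ m * p ^ a := Dvd.intro_left _ h1
    have h3 : p ^ k ∣ p ^ a :=
      (Nat.Coprime.pow_left k hm.symm).dvd_of_dvd_mul_left h2
    exact (Nat.pow_dvd_pow_iff_le_right hp.one_lt).mp h3
  have hCcard : Nat.card C = m * p ^ (a - k) := by
    have h4 : p ^ a = p ^ (a - k) * p ^ k := by rw [← pow_add, Nat.sub_add_cancel hka]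
    rw [h4, ← mul_assoc] at h1
    exact Nat.eq_of_mul_eq_mul_right (pow_pos hp.pos k) h1
  have hxC : x ∈ C := by
    rw [hC, Subgroup.mem_centralizer_iff]
    intro y hy
    rw [Set.mem_singleton_iff] at hy
    rw [hy]
  have hK : (Nat.card (Subgroup.zpowers (⟨x, hxC⟩ : C))).Coprime (p ^ (a - k)) := by
    rw [Nat.card_zpowers, ← Subgroup.orderOf_coe]
    exact Nat.Coprime.pow_right _ hx
  obtain ⟨K₀, hK₀card, hxK₀⟩ := Cfsg.Agent.Helper1.hall_contain (G := C) m (p ^ (a - k)) hCcard
    (Nat.Coprime.pow_right _ hm) (Subgroup.zpowers (⟨x, hxC⟩ : C)) hK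
  refine ⟨K₀.map C.subtype, ?_, ?_, ?_⟩
  · rw [Subgroup.card_map_of_injective C.subtype_injective, hK₀card]
  · exact ⟨⟨x, hxC⟩, hxK₀ (Subgroup.mem_zpowers _), rfl⟩
  · rintro _ ⟨c, _, rfl⟩
    exact c.2

/-- Nilpotent normal subgroups have order prime to `p` when there is no nontrivial normal
`p`-subgroup. -/
theorem card_coprime_of_isNilpotent_of_no_normal_pSubgroup
    (hO : ∀ L : Subgroup G, L.Normal → IsPGroup p L → L = ⊥) (N : Subgroup G) [N.Normal]
    [Group.IsNilpotent N] : (Nat.card N).Coprime p := by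
  have hp := (Fact.out : p.Prime)
  refine ((Nat.Prime.coprime_iff_not_dvd hp).mpr ?_).symm
  intro hdvd
  obtain S : Sylow p ↥N := default
  haveI hSn : (S : Subgroup ↥N).Normal :=
    Sylow.normal_of_normalizerCondition Group.normalizerCondition_of_isNilpotent S
  haveI : (S : Subgroup ↥N).Characteristic := S.characteristic_of_normal hSn
  haveI : ((S : Subgroup ↥N).map N.subtype).Normal := ConjAct.normal_of_characteristic_of_normal
  have hbot := hO ((S : Subgroup ↥N).map N.subtype) inferInstance (S.isPGroup'.map _)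
  have hS : (S : Subgroup ↥N) = ⊥ :=
    (Subgroup.map_eq_bot_iff_of_injective _ N.subtype_injective).mp hbot
  exact S.ne_bot_of_dvd_card hdvd hS

/-- With no nontrivial normal `p`-subgroup, Hall `p'`-subgroups are abelian. -/
theorem PRegPow.comm_of_card_eq (h : PRegPow p G)
    (hO : ∀ L : Subgroup G, L.Normal → IsPGroup p L → L = ⊥) (m a : ℕ)
    (hG : Nat.card G = m * p ^ a) (hm : m.Coprime p) (H : Subgroup G) (hH : Nat.card H = m) :
    ∀ x ∈ H, ∀ y ∈ H, x * y = y * x := by
  have hp := (Fact.out : p.Prime)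
  haveI hsol : Group.IsSolvable G := h.isSolvable
  set F := Cfsg.fittingSubgroup G with hF
  haveI hFn : F.Normal := Cfsg.Agent.Helper21.fittingSubgroup_normal G
  haveI hFnil : Group.IsNilpotent F := Cfsg.Agent.Helper21.fittingSubgroup_isNilpotent G
  have hFcop : (Nat.card F).Coprime p := card_coprime_of_isNilpotent_of_no_normal_pSubgroup hO F
  have hCF : Subgroup.centralizer (F : Set G) ≤ F :=
    Cfsg.Agent.Helper16.centralizer_fittingSubgroup_le_of_isSolvable hsol
  -- F lies in every subgroup of order m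
  have hFK : ∀ K : Subgroup G, Nat.card K = m → F ≤ K := by
    intro K hK
    have hKi : K.index = p ^ a := by
      have := K.card_mul_index
      rw [hK, hG] at this
      have hm0 : 0 < m := by
        rcases Nat.eq_zero_or_pos m with h0 | h0
        · rw [h0, zero_mul] at hG
          exact absurd hG Nat.card_pos.ne'
        · exact h0
      exact Nat.eq_of_mul_eq_mul_left hm0 this
    rw [← Subgroup.relIndex_eq_one]
    have h1 : K.relIndex F ∣ p ^ a :=
      hKi ▸ Cfsg.Agent.Helper21.relIndex_dvd_index_of_normal_right K F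
    have h2 : K.relIndex F ∣ Nat.card F := Subgroup.relIndex_dvd_card K F
    exact Nat.eq_one_of_dvd_coprimes (Nat.Coprime.pow_right a hFcop) h2 h1
  -- p'-elements centralize F
  have hcent : ∀ x : G, (orderOf x).Coprime p → x ∈ Subgroup.centralizer (F : Set G) := by
    intro x hx
    obtain ⟨K, hKm, _, hKC⟩ := h.exists_center_hall m a hG hm x hx
    rw [Subgroup.mem_centralizer_iff]
    intro f hf
    have := hKC (hFK K hKm hf)
    rw [Subgroup.mem_centralizer_iff] at this
    exact (this x rfl).symm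
  intro x hxH y hyH
  have hord : ∀ z ∈ H, (orderOf z).Coprime p := by
    intro z hz
    have h1 : orderOf z ∣ m := by
      rw [← hH]
      have := orderOf_dvd_natCard (⟨z, hz⟩ : H)
      rwa [← Subgroup.orderOf_coe] at this
    exact Nat.Coprime.coprime_dvd_left h1 hm
  have hyF : y ∈ F := hCF (hcent y (hord y hyH))
  have hxC := hcent x (hord x hxH)
  rw [Subgroup.mem_centralizer_iff] at hxC
  exact (hxC y hyF).symm

end Cfsg.Agent.Helper20
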