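import Mathlib
import Cfsg.Agent.Lib.Helper20.PRegClass2

set_option autoImplicit false

namespace Cfsg.Agent.Helper20

universe u

variable {G : Type u} [Group G] [Finite G] {p : ℕ} [Fact p.Prime]

/-- The main direction: `p`-regular classes of `p`-power size force an abelian `p`-complement. -/
theorem PRegPow.exists_comm_complement (h : PRegPow p G) :
    ∃ H : Subgroup G, IsMulCommutative H ∧ ¬ p ∣ Nat.card H ∧ ∃ k : ℕ, H.index = p ^ k := by
  have hp := (Fact.out : p.Prime)
  haveI hsol : Group.IsSolvable G := h.isSolvable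
  have hn0 : Nat.card G ≠ 0 := Nat.card_pos.ne'
  set a := (Nat.card G).factorization p with ha
  set m := Nat.card G / p ^ a with hm
  have hG : Nat.card G = m * p ^ a := by
    rw [hm, ha]; exact (Nat.div_mul_cancel (Nat.ordProj_dvd _ _)).symm
  have hmp : m.Coprime p := (Nat.coprime_ordCompl hp hn0).symm
  obtain ⟨H, hHcard⟩ :=
    Cfsg.Agent.Helper1.hall_exists m (p ^ a) hG (Nat.Coprime.pow_right a hmp)
  have hHi : H.index = p ^ a := by
    have := H.card_mul_index
    rw [hHcard, hG] at this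
    have hm0 : 0 < m := by
      rcases Nat.eq_zero_or_pos m with h0 | h0
      · rw [h0, zero_mul] at hG
        exact absurd hG hn0
      · exact h0
    exact Nat.eq_of_mul_eq_mul_left hm0 this
  have hpH : ¬ p ∣ Nat.card H := by
    rw [hHcard]; exact (Nat.Prime.coprime_iff_not_dvd hp).mp hmp.symm
  refine ⟨H, ?_, hpH, a, hHi⟩
  -- pass to the quotient by O_p(G)
  set N := Cfsg.pCore p G with hN
  haveI hNn : N.Normal := Subgroup.sSup_normal _ (fun _ h => h.1)
  have hNp : IsPGroup p N := Cfsg.Agent.Helper14.pCore_isPGroup p G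
  have hπs : Function.Surjective (QuotientGroup.mk' N) := QuotientGroup.mk'_surjective N
  have hO : ∀ L : Subgroup (G ⧸ N), L.Normal → IsPGroup p L → L = ⊥ := by
    intro L hLn hLp
    have h1 : (L.comap (QuotientGroup.mk' N)).Normal := hLn.comap _
    have h2 : IsPGroup p (L.comap (QuotientGroup.mk' N)) :=
      hLp.comap_of_ker_isPGroup _ (by rw [QuotientGroup.ker_mk']; exact hNp)
    have h3 : L.comap (QuotientGroup.mk' N) ≤ N := Cfsg.Agent.Helper14.le_pCore h1 h2
    have h4 : L = (L.comap (QuotientGroup.mk' N)).map (QuotientGroup.mk' N) :=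
      (Subgroup.map_comap_eq_self_of_surjective hπs L).symm
    rw [h4, eq_bot_iff]
    calc (L.comap (QuotientGroup.mk' N)).map (QuotientGroup.mk' N)
        ≤ N.map (QuotientGroup.mk' N) := Subgroup.map_mono h3
      _ = ⊥ := QuotientGroup.map_mk'_self N
  -- orders
  obtain ⟨b, hb⟩ := IsPGroup.iff_card.mp hNp
  have hba : b ≤ a := by
    have h1 : p ^ b ∣ m * p ^ a := by rw [← hG, ← hb]; exact Subgroup.card_subgroup_dvd_card N
    have h2 : p ^ b ∣ p ^ a := (Nat.Coprime.pow_left b hmp.symm).dvd_of_dvd_mul_left h1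
    exact (Nat.pow_dvd_pow_iff_le_right hp.one_lt).mp h2
  have hQcard : Nat.card (G ⧸ N) = m * p ^ (a - b) := by
    have h1 := N.card_mul_index
    rw [Subgroup.index_eq_card, hb, hG] at h1
    have h4 : p ^ a = p ^ b * p ^ (a - b) := by rw [← pow_add, Nat.add_sub_cancel' hba]
    rw [h4] at h1
    have h5 : p ^ b * Nat.card (G ⧸ N) = p ^ b * (m * p ^ (a - b)) := by rw [h1]; ring
    exact Nat.eq_of_mul_eq_mul_left (pow_pos hp.pos b) h5
  -- H ∩ N = 1
  have hHN : ∀ z ∈ H, z ∈ N → z = 1 := by
    intro z hzH hzN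
    have h1 : orderOf z ∣ m := by
      rw [← hHcard]
      have := orderOf_dvd_natCard (⟨z, hzH⟩ : H)
      rwa [← Subgroup.orderOf_coe] at this
    have h2 : orderOf z ∣ p ^ b := by
      rw [← hb]
      have := orderOf_dvd_natCard (⟨z, hzN⟩ : N)
      rwa [← Subgroup.orderOf_coe] at this
    exact orderOf_eq_one_iff.mp
      (Nat.eq_one_of_dvd_coprimes (Nat.Coprime.pow_right b hmp) h1 h2)
  -- the image of H has order m
  have hinj : Function.Injective ((QuotientGroup.mk' N).comp H.subtype) := by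
    rw [injective_iff_map_eq_one]
    intro z hz
    have hzN : (z : G) ∈ N := (QuotientGroup.eq_one_iff (z : G)).mp hz
    exact Subtype.ext (hHN z z.2 hzN)
  have hmapcard : Nat.card (H.map (QuotientGroup.mk' N)) = m := by
    have h1 : H.map (QuotientGroup.mk' N) = ((QuotientGroup.mk' N).comp H.subtype).range := by
      rw [MonoidHom.range_comp, Subgroup.range_subtype]
    rw [h1, ← hHcard]
    exact (Nat.card_congr (MonoidHom.ofInjective hinj).toEquiv).symm
  have hcomm := (h.quotient N).comm_of_card_eq hO m (a - b) hQcard hmp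
    (H.map (QuotientGroup.mk' N)) hmapcard
  refine ⟨⟨fun x y => Subtype.ext ?_⟩⟩
  have h1 := hcomm _ (Subgroup.mem_map_of_mem _ x.2) _ (Subgroup.mem_map_of_mem _ y.2)
  rw [← map_mul, ← map_mul] at h1
  have h2 : ((x : G) * y)⁻¹ * ((y : G) * x) ∈ N := QuotientGroup.eq.mp h1
  have h3 := hHN _ (H.mul_mem (H.inv_mem (H.mul_mem x.2 y.2)) (H.mul_mem y.2 x.2)) h2
  show (x : G) * y = y * x
  exact inv_mul_eq_one.mp h3

end Cfsg.Agent.Helper20
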