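import Mathlib
import Cfsg.Agent.Lib.Helper20.PerfectCover
import Cfsg.Agent.Lib.Helper20.UCE

set_option autoImplicit false

namespace Cfsg.Agent.Helper20

open scoped commutatorElement

universe u v

/-- A stem-type extension of a perfect group is perfect. -/
theorem isPerfect_of_stem {Γ G : Type*} [Group Γ] [Group G] [hG : Group.IsPerfect G]
    (τ : Γ →* G) (hτ : Function.Surjective τ) (hk : τ.ker ≤ commutator Γ) :
    Group.IsPerfect Γ := by
  constructor
  rw [eq_top_iff]
  intro x _
  obtain ⟨y, hy, hyx⟩ := commutator_map_surjective τ hτ (τ x)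
  have h1 : y⁻¹ * x ∈ τ.ker := by
    rw [MonoidHom.mem_ker, map_mul, map_inv, hyx, inv_mul_cancel]
  have h2 : x = y * (y⁻¹ * x) := by group
  rw [h2]
  exact Subgroup.mul_mem _ hy (hk h1)

/-- A central extension of a central extension of a perfect group is central (Grün). -/
theorem ker_comp_le_center_of_perfect {Γ G Q : Type*} [Group Γ] [Group G] [Group Q]
    [hΓ : Group.IsPerfect Γ] (τ : Γ →* G) (π : G →* Q) (hτ : τ.ker ≤ Subgroup.center Γ)
    (hπ : π.ker ≤ Subgroup.center G) : (π.comp τ).ker ≤ Subgroup.center Γ := by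
  intro x hx
  have h2 : x ∈ Subgroup.upperCentralSeries Γ (1 + 1) := by
    rw [Subgroup.mem_upperCentralSeries_succ_iff]
    intro y
    rw [Subgroup.upperCentralSeries_one]
    apply hτ
    rw [MonoidHom.mem_ker, map_commutatorElement, commutatorElement_def]
    have hx' : τ x ∈ π.ker := by
      rw [MonoidHom.mem_ker]
      exact hx
    have hz := Subgroup.mem_center_iff.mp (hπ hx')
    rw [← hz (τ y)]
    group
  rw [Group.IsPerfect.upperCentralSeries_eq_center Γ (by norm_num : (1 + 1) ≠ 0)] at h2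
  exact h2

section Pullback

variable {G : Type u} {X : Type u} {Q : Type v} [Group G] [Group X] [Group Q]

/-- the pullback of two homomorphisms -/
def pullback (π : G →* Q) (ξ : X →* Q) : Subgroup (G × X) :=
  (π.comp (MonoidHom.fst G X)).eqLocus (ξ.comp (MonoidHom.snd G X))

theorem mem_pullback (π : G →* Q) (ξ : X →* Q) (p : G × X) :
    p ∈ pullback π ξ ↔ π p.1 = ξ p.2 := Iff.rfl

/-- first projection of the pullback -/
def pullbackFst (π : G →* Q) (ξ : X →* Q) : pullback π ξ →* G :=
  (MonoidHom.fst G X).comp (pullback π ξ).subtype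

/-- second projection of the pullback -/
def pullbackSnd (π : G →* Q) (ξ : X →* Q) : pullback π ξ →* X :=
  (MonoidHom.snd G X).comp (pullback π ξ).subtype

theorem pullback_comm (π : G →* Q) (ξ : X →* Q) (p : pullback π ξ) :
    π (pullbackFst π ξ p) = ξ (pullbackSnd π ξ p) := p.2

theorem pullbackFst_surjective (π : G →* Q) (ξ : X →* Q) (hξ : Function.Surjective ξ) :
    Function.Surjective (pullbackFst π ξ) := by
  intro g
  obtain ⟨x, hx⟩ := hξ (π g)
  exact ⟨⟨(g, x), hx.symm⟩, rfl⟩

theorem pullbackFst_ker_le_center (π : G →* Q) (ξ : X →* Q) (hc : ξ.ker ≤ Subgroup.center X) :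
    (pullbackFst π ξ).ker ≤ Subgroup.center (pullback π ξ) := by
  rintro ⟨⟨g, x⟩, hp⟩ hk
  rw [MonoidHom.mem_ker] at hk
  have hg : g = 1 := hk
  subst hg
  have hx : x ∈ ξ.ker := by
    rw [MonoidHom.mem_ker]
    have : π 1 = ξ x := hp
    rw [← this, map_one]
  have hz := Subgroup.mem_center_iff.mp (hc hx)
  rw [Subgroup.mem_center_iff]
  rintro ⟨⟨g', x'⟩, hp'⟩
  apply Subtype.ext
  change (g' * 1, x' * x) = (1 * g', x * x')
  rw [hz x', mul_one, one_mul]

end Pullback

end Cfsg.Agent.Helper20
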