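import Mathlib
import Cfsg.Agent.Lib.Helper20.PermDerived2

set_option autoImplicit false

namespace Cfsg.Agent.Helper20

/-- Injective homomorphisms reflect nontriviality of terms of the derived series. -/
theorem derivedSeries_ne_bot_of_injective {W P : Type*} [Group W] [Group P] (f : W →* P)
    (hf : Function.Injective f) (k : ℕ) (h : derivedSeries W k ≠ ⊥) : derivedSeries P k ≠ ⊥ := by
  intro hbot
  have h1 := map_derivedSeries_le_derivedSeries f k
  rw [hbot, le_bot_iff, Subgroup.map_eq_bot_iff_of_injective _ hf] at h1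
  exact h h1

/-- If `p ^ (k + 1) ≤ n`, every Sylow `p`-subgroup of `Perm (Fin n)` has nontrivial `k`-th derived
subgroup. -/
theorem sylow_perm_derivedSeries_ne_bot (p : ℕ) [Fact p.Prime] (n k : ℕ) (hk : p ^ (k + 1) ≤ n)
    (P : Sylow p (Equiv.Perm (Fin n))) :
    derivedSeries ↥(P : Subgroup (Equiv.Perm (Fin n))) k ≠ ⊥ := by
  have hp := (Fact.out : p.Prime)
  let A := Multiplicative (ZMod p)
  haveI : NeZero p := ⟨hp.ne_zero⟩
  have hcardA : Nat.card A = p := by
    show Nat.card (Multiplicative (ZMod p)) = p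
    rw [Nat.card_eq_fintype_card, Fintype.card_multiplicative, ZMod.card]
  haveI : Nontrivial A := by
    rw [← Finite.one_lt_card_iff_nontrivial, hcardA]; exact hp.one_lt
  let W := IteratedWreathProduct A (k + 1)
  have hWne : derivedSeries W k ≠ ⊥ := derivedSeries_iterated_ne_bot A k
  have hWp : IsPGroup p W := by
    apply IsPGroup.of_card (n := ∑ i ∈ Finset.range (k + 1), p ^ i)
    rw [IteratedWreathProduct.card, hcardA]
  -- embedding into Perm (Fin n)
  have hcardX : Fintype.card (Fin (k + 1) → A) ≤ Fintype.card (Fin n) := by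
    rw [Fintype.card_fun, Fintype.card_fin, Fintype.card_fin, ← Nat.card_eq_fintype_card, hcardA]
    exact hk
  obtain ⟨e⟩ := Function.Embedding.nonempty_of_card_le hcardX
  let f : W →* Equiv.Perm (Fin n) :=
    (Equiv.Perm.viaEmbeddingHom e).comp (iteratedWreathToPermHom A (k + 1))
  have hf : Function.Injective f :=
    (Equiv.Perm.viaEmbeddingHom_injective e).comp (iteratedWreathToPermHomInj A (k + 1))
  have hrange : IsPGroup p f.range := hWp.of_surjective f.rangeRestrict f.rangeRestrict_surjective
  obtain ⟨P', hP'⟩ := hrange.exists_le_sylow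
  let g : W →* ↥(P' : Subgroup (Equiv.Perm (Fin n))) :=
    f.codRestrict (P' : Subgroup (Equiv.Perm (Fin n))) (fun w => hP' ⟨w, rfl⟩)
  have hg : Function.Injective g := by
    intro a b hab
    apply hf
    exact congrArg Subtype.val hab
  have h1 : derivedSeries ↥(P' : Subgroup (Equiv.Perm (Fin n))) k ≠ ⊥ :=
    derivedSeries_ne_bot_of_injective g hg k hWne
  let ε : ↥(P' : Subgroup (Equiv.Perm (Fin n))) ≃* ↥(P : Subgroup (Equiv.Perm (Fin n))) :=
    Sylow.equiv P' P
  exact derivedSeries_ne_bot_of_injective ε.toMonoidHom ε.injective k h1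

end Cfsg.Agent.Helper20
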