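import Mathlib

set_option autoImplicit false

namespace Cfsg.Agent.Helper20

universe u v

/-- `x` is a `π`-element: every prime divisor of its order lies in `π` -/
def PiElt (π : Set ℕ) {G : Type*} [Group G] (x : G) : Prop :=
  ∀ p : ℕ, p.Prime → p ∣ orderOf x → p ∈ π

/-- the `π`-elements of `G` form a subgroup -/
def PiForm (π : Set ℕ) (G : Type*) [Group G] : Prop :=
  ∃ K : Subgroup G, ∀ x : G, x ∈ K ↔ PiElt π x

/-- `π`-elements normalizing a `π'`-subgroup centralize it -/
def StarE (π : Set ℕ) (G : Type*) [Group G] : Prop :=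
  ∀ H : Subgroup G, (∀ p : ℕ, p.Prime → p ∣ Nat.card H → p ∉ π) →
    ∀ x ∈ Subgroup.normalizer (H : Set G), PiElt π x → x ∈ Subgroup.centralizer (H : Set G)

section basic

variable {π : Set ℕ} {G : Type*} [Group G]

theorem PiElt.of_dvd {H : Type*} [Group H] {x : G} {y : H} (hx : PiElt π x)
    (h : orderOf y ∣ orderOf x) : PiElt π y :=
  fun p hp hpy => hx p hp (hpy.trans h)

theorem PiElt.map {H : Type*} [Group H] (f : G →* H) {x : G} (hx : PiElt π x) :
    PiElt π (f x) :=
  hx.of_dvd (orderOf_map_dvd f x)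

theorem PiElt.pow {x : G} (hx : PiElt π x) (n : ℕ) : PiElt π (x ^ n) :=
  hx.of_dvd (orderOf_pow_dvd n)

theorem piElt_one : PiElt π (1 : G) := by
  intro p hp h
  rw [orderOf_one] at h
  exact absurd (Nat.dvd_one.mp h) hp.one_lt.ne'

theorem piElt_map_iff_of_injective {H : Type*} [Group H] (f : G →* H)
    (hf : Function.Injective f) (x : G) : PiElt π (f x) ↔ PiElt π x := by
  unfold PiElt
  rw [orderOf_injective f hf x]

theorem piElt_coe_iff {U : Subgroup G} (x : U) : PiElt π (x : G) ↔ PiElt π x := by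
  unfold PiElt
  rw [Subgroup.orderOf_coe]

theorem piElt_conj {x : G} (hx : PiElt π x) (g : G) : PiElt π (g * x * g⁻¹) := by
  have h : orderOf (g * x * g⁻¹) = orderOf x := by
    rw [← MulAut.conj_apply, MulEquiv.orderOf_eq]
  unfold PiElt
  rw [h]
  exact hx

theorem eq_one_of_piElt {x : G} (hx : PiElt π x)
    (h : ∀ p : ℕ, p.Prime → p ∣ orderOf x → p ∉ π) : x = 1 := by
  rw [← orderOf_eq_one_iff, Nat.eq_one_iff_not_exists_prime_dvd]
  intro p hp hpx
  exact h p hp hpx (hx p hp hpx)

theorem piElt_of_card [Finite G] (h : ∀ p : ℕ, p.Prime → p ∣ Nat.card G → p ∈ π) (x : G) :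
    PiElt π x :=
  fun p hp hpx => h p hp (hpx.trans (orderOf_dvd_natCard x))

theorem card_of_piElt [Finite G] (h : ∀ x : G, PiElt π x) :
    ∀ p : ℕ, p.Prime → p ∣ Nat.card G → p ∈ π := by
  intro p hp hpG
  have : Fact p.Prime := ⟨hp⟩
  obtain ⟨x, hx⟩ := exists_prime_orderOf_dvd_card' p hpG
  exact h x p hp (by rw [hx])

/-- an element whose image modulo a normal `π`-subgroup is a `π`-element is a `π`-element -/
theorem piElt_of_quotient (L : Subgroup G) [L.Normal] (hL : ∀ l ∈ L, PiElt π l) {x : G}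
    (hx : PiElt π (QuotientGroup.mk' L x)) : PiElt π x := by
  set m := orderOf (QuotientGroup.mk' L x) with hm
  have h1 : x ^ m ∈ L := by
    rw [← QuotientGroup.eq_one_iff, ← QuotientGroup.mk'_apply, map_pow, hm, pow_orderOf_eq_one]
  have h2 : orderOf x ∣ m * orderOf (x ^ m) := by
    apply orderOf_dvd_of_pow_eq_one
    rw [pow_mul, pow_orderOf_eq_one]
  intro p hp hpx
  rcases (hp.dvd_mul).mp (hpx.trans h2) with h | h
  · exact hx p hp h
  · exact hL _ h1 p hp h

theorem piForm_of_mulEquiv {H : Type*} [Group H] (e : G ≃* H) (h : PiForm π G) : PiForm π H := by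
  obtain ⟨K, hK⟩ := h
  refine ⟨K.map e.toMonoidHom, ?_⟩
  intro y
  constructor
  · rintro ⟨x, hx, rfl⟩
    exact ((hK x).mp hx).map e.toMonoidHom
  · intro hy
    refine ⟨e.symm y, (hK _).mpr (hy.map e.symm.toMonoidHom), ?_⟩
    simp

theorem piElt_of_isPGroup_mem {p : ℕ} (hp : p.Prime) (hpπ : p ∈ π) {P : Subgroup G}
    (hP : IsPGroup p P) {x : G} (hx : x ∈ P) : PiElt π x := by
  obtain ⟨k, hk⟩ := hP ⟨x, hx⟩
  have h1 : x ^ p ^ k = 1 := congrArg Subtype.val hk
  intro q hq hqx
  have h2 : q ∣ p ^ k := hqx.trans (orderOf_dvd_of_pow_eq_one h1)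
  have h3 : q = p := (Nat.prime_dvd_prime_iff_eq hq hp).mp (hq.dvd_of_dvd_pow h2)
  rw [h3]
  exact hpπ

/-- the subgroup of `π`-elements is normal -/
theorem PiForm.normal {K : Subgroup G} (hK : ∀ x : G, x ∈ K ↔ PiElt π x) : K.Normal := by
  constructor
  intro x hx g
  rw [hK] at hx ⊢
  exact piElt_conj hx g

/-- the subgroup of `π`-elements meets every `π'`-subgroup trivially -/
theorem eq_one_of_mem_of_mem [Finite G] {K : Subgroup G} (hK : ∀ x : G, x ∈ K ↔ PiElt π x)
    {H : Subgroup G} (hH : ∀ p : ℕ, p.Prime → p ∣ Nat.card H → p ∉ π) {x : G} (hxK : x ∈ K)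
    (hxH : x ∈ H) : x = 1 := by
  apply eq_one_of_piElt ((hK x).mp hxK)
  intro p hp hpx
  apply hH p hp
  have h1 : orderOf x ∣ Nat.card H := by
    have := orderOf_dvd_natCard (⟨x, hxH⟩ : H)
    rwa [Subgroup.orderOf_mk] at this
  exact hpx.trans h1

end basic

section star

variable {π : Set ℕ} {G : Type*} [Group G] [Finite G]

omit [Finite G] in
/-- the condition on normalizers in its original form implies the elementwise form -/
theorem starE_of_relIndex
    (h : ∀ H : Subgroup G, H ≠ ⊥ → (∀ p : ℕ, p.Prime → p ∣ Nat.card H → p ∉ π) →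
      ∀ p : ℕ, p.Prime → p ∣ (Subgroup.centralizer (H : Set G)).relIndex
        (Subgroup.normalizer (H : Set G)) → p ∉ π) : StarE π G := by
  intro H hH x hx hxπ
  by_cases hbot : H = ⊥
  · subst hbot
    rw [Subgroup.mem_centralizer_iff]
    intro y hy
    rw [Subgroup.coe_bot, Set.mem_singleton_iff] at hy
    rw [hy, one_mul, mul_one]
  have h1 := h H hbot hH
  set ν := H.normalizerMonoidHom with hν
  set x' : Subgroup.normalizer (H : Set G) := ⟨x, hx⟩ with hx'
  have h2 : orderOf (ν x') ∣ orderOf x := by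
    have := orderOf_map_dvd ν x'
    rwa [hx', Subgroup.orderOf_mk] at this
  have h3 : orderOf (ν x') ∣ (Subgroup.centralizer (H : Set G)).relIndex
      (Subgroup.normalizer (H : Set G)) := by
    have h4 : orderOf (ν.rangeRestrict x') ∣ Nat.card ν.range := orderOf_dvd_natCard _
    have h7 : orderOf (ν.rangeRestrict x') = orderOf (ν x') := by
      rw [← Subgroup.orderOf_coe]
      rfl
    rw [h7, ← Subgroup.index_ker, Subgroup.normalizerMonoidHom_ker] at h4
    exact h4
  have h5 : ν x' = 1 := by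
    apply eq_one_of_piElt (hxπ.of_dvd h2)
    intro p hp hpx
    exact h1 p hp (hpx.trans h3)
  have h6 : x' ∈ ν.ker := h5
  rw [Subgroup.normalizerMonoidHom_ker, Subgroup.mem_subgroupOf] at h6
  exact h6

/-- if the `π`-elements form a subgroup then the condition on normalizers holds -/
theorem relIndex_of_piForm (hG : PiForm π G) (H : Subgroup G)
    (hH : ∀ p : ℕ, p.Prime → p ∣ Nat.card H → p ∉ π) (p : ℕ) (hp : p.Prime)
    (hdvd : p ∣ (Subgroup.centralizer (H : Set G)).relIndex (Subgroup.normalizer (H : Set G))) :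
    p ∉ π := by
  intro hpπ
  obtain ⟨K, hK⟩ := hG
  have hKn : K.Normal := PiForm.normal hK
  have : Fact p.Prime := ⟨hp⟩
  obtain ⟨P⟩ : Nonempty (Sylow p (Subgroup.normalizer (H : Set G))) := inferInstance
  have hle : (P : Subgroup (Subgroup.normalizer (H : Set G))) ≤
      (Subgroup.centralizer (H : Set G)).subgroupOf (Subgroup.normalizer (H : Set G)) := by
    intro y hy
    rw [Subgroup.mem_subgroupOf, Subgroup.mem_centralizer_iff]
    intro h hh
    have hyπ : PiElt π (y : G) := by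
      rw [piElt_coe_iff]
      exact piElt_of_isPGroup_mem hp hpπ P.2 hy
    have hyK : (y : G) ∈ K := (hK _).mpr hyπ
    have h1 : (y : G) * h * (y : G)⁻¹ ∈ H := ((Subgroup.mem_normalizer_iff.mp y.2) h).mp hh
    have h2 : (y : G) * h * (y : G)⁻¹ * h⁻¹ ∈ H := H.mul_mem h1 (H.inv_mem hh)
    have h3 : (y : G) * h * (y : G)⁻¹ * h⁻¹ ∈ K := by
      have : (y : G) * h * (y : G)⁻¹ * h⁻¹ = (y : G) * (h * (y : G)⁻¹ * h⁻¹) := by group
      rw [this]
      exact K.mul_mem hyK (hKn.conj_mem _ (K.inv_mem hyK) h)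
    have h4 := eq_one_of_mem_of_mem hK hH h3 h2
    calc h * (y : G) = ((y : G) * h * (y : G)⁻¹ * h⁻¹)⁻¹ * ((y : G) * h) := by group
      _ = (y : G) * h := by rw [h4, inv_one, one_mul]
  have h1 := Subgroup.index_dvd_of_le hle
  have h2 := P.not_dvd_index
  exact h2 (hdvd.trans h1)

omit [Finite G] in
/-- the elementwise condition passes to subgroups -/
theorem StarE.subgroup (h : StarE π G) (U : Subgroup G) : StarE π U := by
  intro H hH x hx hxπ
  have h1 : ∀ p : ℕ, p.Prime → p ∣ Nat.card (H.map U.subtype) → p ∉ π := by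
    rw [Subgroup.card_map_of_injective U.subtype_injective]
    exact hH
  have h2 : (x : G) ∈ Subgroup.normalizer ((H.map U.subtype : Subgroup G) : Set G) := by
    rw [Subgroup.mem_normalizer_iff]
    intro y
    constructor
    · rintro ⟨z, hz, rfl⟩
      refine ⟨x * z * x⁻¹, ((Subgroup.mem_normalizer_iff.mp hx) z).mp hz, rfl⟩
    · rintro ⟨z, hz, hzy⟩
      have hyU : y ∈ U := by
        have h3 : y = (x : G)⁻¹ * (z : G) * (x : G) := by
          have : ((z : U) : G) = (x : G) * y * (x : G)⁻¹ := hzy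
          rw [this]
          group
        rw [h3]
        exact U.mul_mem (U.mul_mem (U.inv_mem x.2) z.2) x.2
      refine ⟨⟨y, hyU⟩, ?_, rfl⟩
      change (⟨y, hyU⟩ : U) ∈ H
      rw [Subgroup.mem_normalizer_iff.mp hx]
      have : x * ⟨y, hyU⟩ * x⁻¹ = z := by
        apply Subtype.ext
        exact hzy.symm
      rw [this]
      exact hz
  have h3 := h (H.map U.subtype) h1 (x : G) h2 ((piElt_coe_iff x).mpr hxπ)
  rw [Subgroup.mem_centralizer_iff] at h3 ⊢
  intro y hy
  apply Subtype.ext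
  exact h3 (y : G) ⟨y, hy, rfl⟩

end star

end Cfsg.Agent.Helper20
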