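import Mathlib
import Cfsg.Agent.Lib.Helper20.PiElements
import Cfsg.Agent.Lib.Helper1.CoprimeSylow

set_option autoImplicit false

namespace Cfsg.Agent.Helper20

open Cfsg.Agent.Helper1

/-- `π`-elements normalizing a `q`-subgroup with `q ∉ π` centralize it -/
def StarQ (π : Set ℕ) (G : Type*) [Group G] : Prop :=
  ∀ q : ℕ, q.Prime → q ∉ π → ∀ Q : Subgroup G, IsPGroup q Q →
    ∀ x ∈ Subgroup.normalizer (Q : Set G), PiElt π x → x ∈ Subgroup.centralizer (Q : Set G)

section core

variable {G : Type*} [Group G] [Finite G]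

/-- an element acting coprimely on `K` which centralizes every Sylow subgroup of `K` that it
normalizes centralizes `K` -/
theorem mem_centralizer_of_sylow {K : Subgroup G} {x : G}
    (hxK : x ∈ Subgroup.normalizer (K : Set G))
    (hcop : (orderOf x).Coprime (Nat.card K))
    (h : ∀ q : ℕ, q.Prime → q ∣ Nat.card K → ∀ Q : Subgroup G, IsPGroup q Q → Q ≤ K →
      x ∈ Subgroup.normalizer (Q : Set G) → x ∈ Subgroup.centralizer (Q : Set G)) :
    x ∈ Subgroup.centralizer (K : Set G) := by
  set A : Subgroup G := Subgroup.zpowers x with hA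
  have hAK : A ≤ Subgroup.normalizer (K : Set G) := by
    rw [hA, Subgroup.zpowers_le]
    exact hxK
  have hcop' : (Nat.card A).Coprime (Nat.card K) := by
    rw [hA, Nat.card_zpowers]
    exact hcop
  have hsolv : Group.IsSolvable A := by
    rw [hA]
    infer_instance
  set W : Subgroup G := K ⊓ Subgroup.centralizer {x} with hW
  have hidx : (W.subgroupOf K).index = 1 := by
    by_contra hne
    obtain ⟨q, hq, hqd⟩ := Nat.exists_prime_and_dvd hne
    have : Fact q.Prime := ⟨hq⟩
    have hqK : q ∣ Nat.card K := hqd.trans (Subgroup.index_dvd_card _)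
    obtain ⟨P, hP⟩ := exists_invariant_sylow (p := q) A hAK hcop' (Or.inl hsolv)
    have hxP : x ∈ Subgroup.normalizer (((P : Subgroup K).map K.subtype : Subgroup G) : Set G) :=
      hP (Subgroup.mem_zpowers x)
    have hc := h q hq hqK _ (P.2.map K.subtype) (Subgroup.map_subtype_le _) hxP
    have hle : (P : Subgroup K) ≤ W.subgroupOf K := by
      intro y hy
      rw [Subgroup.mem_subgroupOf]
      refine ⟨y.2, ?_⟩
      change (y : G) ∈ Subgroup.centralizer {x}
      rw [Subgroup.mem_centralizer_iff]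
      intro z hz
      rw [Set.mem_singleton_iff] at hz
      subst hz
      exact ((Subgroup.mem_centralizer_iff.mp hc) (y : G) ⟨y, hy, rfl⟩).symm
    exact P.not_dvd_index (hqd.trans (Subgroup.index_dvd_of_le hle))
  rw [Subgroup.index_eq_one, Subgroup.subgroupOf_eq_top] at hidx
  rw [Subgroup.mem_centralizer_iff]
  intro k hk
  have : k ∈ Subgroup.centralizer {x} := (hidx hk).2
  rw [Subgroup.mem_centralizer_iff] at this
  exact (this x rfl).symm

omit [Finite G] in
theorem coprime_of_piElt {π : Set ℕ} {x : G} (hx : PiElt π x) {n : ℕ}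
    (hn : ∀ r : ℕ, r.Prime → r ∣ n → r ∉ π) : (orderOf x).Coprime n := by
  by_contra hc
  obtain ⟨p, hp, h1, h2⟩ := Nat.Prime.not_coprime_iff_dvd.mp hc
  exact hn p hp h2 (hx p hp h1)

/-- if `K` is a normal `π'`-subgroup, the `π`-elements of `G / K` form a subgroup, and
`π`-elements centralize the `q`-subgroups they normalize, then the `π`-elements of `G` form a
subgroup -/
theorem piForm_of_normal_piPrime {π : Set ℕ} (K : Subgroup G) [K.Normal]
    (hK : ∀ r : ℕ, r.Prime → r ∣ Nat.card K → r ∉ π) (hstar : StarQ π G)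
    (hQ : PiForm π (G ⧸ K)) : PiForm π G := by
  -- every `π`-element centralizes `K`
  have hcent : ∀ x : G, PiElt π x → x ∈ Subgroup.centralizer (K : Set G) := by
    intro x hx
    apply mem_centralizer_of_sylow
    · rw [Subgroup.normalizer_eq_top]
      exact Subgroup.mem_top x
    · exact coprime_of_piElt hx hK
    · intro q hq hqK Q hQq _ hxQ
      exact hstar q hq (hK q hq hqK) Q hQq x hxQ hx
  obtain ⟨Mb, hMb⟩ := hQ
  set M : Subgroup G := Mb.comap (QuotientGroup.mk' K) with hM
  have hKM : K ≤ M := by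
    intro k hk
    rw [hM, Subgroup.mem_comap, QuotientGroup.mk'_apply, (QuotientGroup.eq_one_iff k).mpr hk]
    exact Mb.one_mem
  -- the hom `M → Mb`
  let f : M →* Mb := (QuotientGroup.mk' K).subgroupComap Mb
  have hf : Function.Surjective f :=
    (QuotientGroup.mk' K).subgroupComap_surjective_of_surjective Mb (QuotientGroup.mk'_surjective K)
  have hfker : f.ker = K.subgroupOf M := by
    ext y
    rw [MonoidHom.mem_ker, Subgroup.mem_subgroupOf]
    constructor
    · intro h
      have h1 : QuotientGroup.mk' K (y : G) = 1 := congrArg Subtype.val h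
      rw [QuotientGroup.mk'_apply] at h1
      exact (QuotientGroup.eq_one_iff _).mp h1
    · intro h
      apply Subtype.ext
      change QuotientGroup.mk' K (y : G) = 1
      rw [QuotientGroup.mk'_apply]
      exact (QuotientGroup.eq_one_iff _).mpr h
  have hidx : (K.subgroupOf M).index = Nat.card Mb := by
    rw [← hfker, Subgroup.index_ker, MonoidHom.range_eq_top.mpr hf, Subgroup.card_top]
  have hMbπ : ∀ r : ℕ, r.Prime → r ∣ Nat.card Mb → r ∈ π := by
    apply card_of_piElt
    intro m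
    rw [← piElt_coe_iff]
    exact (hMb _).mp m.2
  have hcop : (Nat.card (K.subgroupOf M)).Coprime (K.subgroupOf M).index := by
    rw [hidx]
    have h1 : Nat.card (K.subgroupOf M) = Nat.card K :=
      Nat.card_congr (Subgroup.subgroupOfEquivOfLe hKM).toEquiv
    rw [h1]
    by_contra hc
    obtain ⟨p, hp, h1, h2⟩ := Nat.Prime.not_coprime_iff_dvd.mp hc
    exact hK p hp h1 (hMbπ p hp h2)
  obtain ⟨H₀, hH₀⟩ := Subgroup.exists_right_complement'_of_coprime hcop
  have hcardH₀ : Nat.card H₀ = Nat.card Mb := by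
    rw [← hidx]
    exact hH₀.symm.index_eq_card.symm
  have hH₀π : ∀ h : M, h ∈ H₀ → PiElt π (h : G) := by
    intro h hh
    intro p hp hph
    apply hMbπ p hp
    rw [← hcardH₀]
    have h1 : orderOf (⟨h, hh⟩ : H₀) ∣ Nat.card H₀ := orderOf_dvd_natCard _
    rw [Subgroup.orderOf_mk, ← Subgroup.orderOf_coe] at h1
    exact hph.trans h1
  refine ⟨H₀.map M.subtype, fun x => ⟨?_, ?_⟩⟩
  · rintro ⟨h, hh, rfl⟩
    exact hH₀π h hh
  · intro hx
    have hxM : x ∈ M := by
      rw [hM, Subgroup.mem_comap, hMb]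
      exact hx.map _
    obtain ⟨k, hk, h, hh, hkh⟩ := IsComplement'.exists_mul hH₀ ⟨x, hxM⟩
    have hkh' : x = (k : G) * (h : G) := congrArg Subtype.val hkh
    have hkK : (k : G) ∈ K := Subgroup.mem_subgroupOf.mp hk
    have hhπ := hH₀π h hh
    have hcomm : Commute (k : G) (h : G) := by
      have := Subgroup.mem_centralizer_iff.mp (hcent _ hhπ) (k : G) hkK
      exact this
    -- `k ^ orderOf h = x ^ orderOf h` is a `π`-element of `K`
    have h1 : x ^ orderOf (h : G) = (k : G) ^ orderOf (h : G) := by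
      rw [hkh', hcomm.mul_pow, pow_orderOf_eq_one, mul_one]
    have h2 : (k : G) ^ orderOf (h : G) = 1 := by
      apply eq_one_of_piElt (π := π)
      · rw [← h1]
        exact hx.pow _
      · intro p hp hpk
        apply hK p hp
        have h3 : orderOf ((k : G) ^ orderOf (h : G)) ∣ Nat.card K := by
          have := orderOf_dvd_natCard (⟨(k : G) ^ orderOf (h : G), K.pow_mem hkK _⟩ : K)
          rwa [Subgroup.orderOf_mk] at this
        exact hpk.trans h3
    have h3 : (k : G) = 1 := by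
      apply eq_one_of_piElt (π := π)
      · exact hhπ.of_dvd (orderOf_dvd_of_pow_eq_one h2)
      · intro p hp hpk
        apply hK p hp
        have h3 : orderOf (k : G) ∣ Nat.card K := by
          have := orderOf_dvd_natCard (⟨(k : G), hkK⟩ : K)
          rwa [Subgroup.orderOf_mk] at this
        exact hpk.trans h3
    refine ⟨h, hh, ?_⟩
    rw [hkh', h3, one_mul]
    rfl

/-- the condition on normalizers passes to the quotient by a normal `π`-subgroup, for
`q`-subgroups -/
theorem starQ_quotient {π : Set ℕ} (L : Subgroup G) [L.Normal] (hL : ∀ l ∈ L, PiElt π l)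
    (hstar : StarE π G) : StarQ π (G ⧸ L) := by
  intro q hq hqπ Qb hQb xb hxb hxbπ
  have : Fact q.Prime := ⟨hq⟩
  obtain ⟨x, rfl⟩ := QuotientGroup.mk'_surjective L xb
  set Y : Subgroup G := Qb.comap (QuotientGroup.mk' L) with hY
  -- `x` normalizes `Y`
  have hxY : x ∈ Subgroup.normalizer (Y : Set G) := by
    rw [Subgroup.mem_normalizer_iff]
    intro y
    rw [hY, Subgroup.mem_comap, Subgroup.mem_comap, map_mul, map_mul, map_inv]
    exact (Subgroup.mem_normalizer_iff.mp hxb) _
  obtain ⟨P⟩ : Nonempty (Sylow q Y) := inferInstance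
  set Q : Subgroup G := (P : Subgroup Y).map Y.subtype with hQ
  have hQY : Q ≤ Y := Subgroup.map_subtype_le _
  -- `Q` maps onto `Qb`
  let f : Y →* Qb := (QuotientGroup.mk' L).subgroupComap Qb
  have hf : Function.Surjective f :=
    (QuotientGroup.mk' L).subgroupComap_surjective_of_surjective Qb (QuotientGroup.mk'_surjective L)
  have hQonto : ∀ yb ∈ Qb, ∃ u ∈ Q, QuotientGroup.mk' L u = yb := by
    intro yb hyb
    have h1 : ((P.mapSurjective hf : Sylow q Qb) : Subgroup Qb) = ⊤ := by
      have := (P.mapSurjective hf).is_maximal' (Q := ⊤)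
        (IsPGroup.of_equiv hQb Subgroup.topEquiv.symm) le_top
      exact this.symm
    have h2 : (⟨yb, hyb⟩ : Qb) ∈ ((P.mapSurjective hf : Sylow q Qb) : Subgroup Qb) := by
      rw [h1]
      exact Subgroup.mem_top _
    rw [Sylow.coe_mapSurjective] at h2
    obtain ⟨u, hu, huy⟩ := h2
    refine ⟨(u : G), ⟨u, hu, rfl⟩, ?_⟩
    exact congrArg Subtype.val huy
  -- Frattini
  let g : Subgroup.normalizer (Y : Set G) := ⟨x, hxY⟩
  obtain ⟨y, hy⟩ := MulAction.exists_smul_eq Y (g • P) P
  have h1 : ((⟨(y : G), Subgroup.le_normalizer y.2⟩ : Subgroup.normalizer (Y : Set G)) * g) • P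
      = P := by
    rw [mul_smul, normalizer_smul_sylow_eq_smul, hy]
  rw [normalizer_smul_sylow_eq_iff] at h1
  have h2 : (y : G) * x ∈ Subgroup.normalizer (Q : Set G) := h1
  obtain ⟨u, hu, huy⟩ := hQonto (QuotientGroup.mk' L (y : G)) y.2
  set n₂ : G := u⁻¹ * ((y : G) * x) with hn₂
  have hn₂N : n₂ ∈ Subgroup.normalizer (Q : Set G) :=
    Subgroup.mul_mem _ (Subgroup.inv_mem _ (Subgroup.le_normalizer hu)) h2
  have hn₂x : QuotientGroup.mk' L n₂ = QuotientGroup.mk' L x := by
    rw [hn₂, map_mul, map_inv, map_mul, huy, inv_mul_cancel_left]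
  have hn₂π : PiElt π n₂ := by
    apply piElt_of_quotient L hL
    rw [hn₂x]
    exact hxbπ
  have hQq : IsPGroup q Q := P.2.map Y.subtype
  have hQcard : ∀ p : ℕ, p.Prime → p ∣ Nat.card Q → p ∉ π := by
    intro p hp hpQ
    obtain ⟨k, hk⟩ := hQq.exists_card_eq
    rw [hk] at hpQ
    have : p = q := (Nat.prime_dvd_prime_iff_eq hp hq).mp (hp.dvd_of_dvd_pow hpQ)
    rw [this]
    exact hqπ
  have hn₂C := hstar Q hQcard n₂ hn₂N hn₂π
  rw [Subgroup.mem_centralizer_iff]
  intro yb hyb
  obtain ⟨v, hv, rfl⟩ := hQonto yb hyb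
  rw [← hn₂x, ← map_mul, ← map_mul, Subgroup.mem_centralizer_iff.mp hn₂C v hv]

omit [Finite G] in
/-- lifting from the quotient by a normal `π`-subgroup -/
theorem piForm_of_quotient {π : Set ℕ} (L : Subgroup G) [L.Normal] (hL : ∀ l ∈ L, PiElt π l)
    (h : PiForm π (G ⧸ L)) : PiForm π G := by
  obtain ⟨M, hM⟩ := h
  refine ⟨M.comap (QuotientGroup.mk' L), fun x => ?_⟩
  rw [Subgroup.mem_comap, hM]
  exact ⟨fun hx => piElt_of_quotient L hL hx, fun hx => hx.map _⟩

/-- Let `K` be a normal subgroup of `G` such that the `π`-elements of `K` and of `G / K` form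
subgroups.  If `π`-elements centralize the `π'`-subgroups they normalize, then the `π`-elements
of `G` form a subgroup. -/
theorem piForm_of_normal {π : Set ℕ} (hstar : StarE π G) (K : Subgroup G) [K.Normal]
    (hK : PiForm π K) (hQ : PiForm π (G ⧸ K)) : PiForm π G := by
  obtain ⟨L₀, hL₀⟩ := hK
  set L : Subgroup G := L₀.map K.subtype with hL
  have hLmem : ∀ x : G, x ∈ L ↔ x ∈ K ∧ PiElt π x := by
    intro x
    constructor
    · rintro ⟨y, hy, rfl⟩
      exact ⟨y.2, (piElt_coe_iff y).mpr ((hL₀ y).mp hy)⟩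
    · rintro ⟨hxK, hxπ⟩
      exact ⟨⟨x, hxK⟩, (hL₀ _).mpr ((piElt_coe_iff (⟨x, hxK⟩ : K)).mp hxπ), rfl⟩
  have hLn : L.Normal := by
    constructor
    intro x hx g
    rw [hLmem] at hx ⊢
    exact ⟨‹K.Normal›.conj_mem x hx.1 g, piElt_conj hx.2 g⟩
  have hLπ : ∀ l ∈ L, PiElt π l := fun l hl => ((hLmem l).mp hl).2
  have hLK : L ≤ K := fun l hl => ((hLmem l).mp hl).1
  set Kb : Subgroup (G ⧸ L) := K.map (QuotientGroup.mk' L) with hKb
  have hKbn : Kb.Normal := Subgroup.Normal.map ‹K.Normal› _ (QuotientGroup.mk'_surjective L)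
  have hKbπ : ∀ r : ℕ, r.Prime → r ∣ Nat.card Kb → r ∉ π := by
    intro r hr hrK hrπ
    have : Fact r.Prime := ⟨hr⟩
    obtain ⟨kb, hkb⟩ := exists_prime_orderOf_dvd_card' r hrK
    obtain ⟨k, hk, hkk⟩ := kb.2
    have ho : orderOf k ≠ 0 := (orderOf_pos k).ne'
    obtain ⟨a, m, hm, hom⟩ := Nat.exists_eq_pow_mul_and_not_dvd ho r hr.ne_one
    have h1 : (k ^ m) ^ r ^ a = 1 := by
      rw [← pow_mul, mul_comm, ← hom, pow_orderOf_eq_one]
    have h2 : PiElt π (k ^ m) := by
      intro p hp hpk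
      have h3 : p ∣ r ^ a := hpk.trans (orderOf_dvd_of_pow_eq_one h1)
      have h4 : p = r := (Nat.prime_dvd_prime_iff_eq hp hr).mp (hp.dvd_of_dvd_pow h3)
      rw [h4]
      exact hrπ
    have h3 : k ^ m ∈ L := (hLmem _).mpr ⟨K.pow_mem hk m, h2⟩
    have h4 : (kb : G ⧸ L) ^ m = 1 := by
      rw [← hkk, ← map_pow, QuotientGroup.mk'_apply]
      exact (QuotientGroup.eq_one_iff _).mpr h3
    have h5 : orderOf (kb : G ⧸ L) ∣ m := orderOf_dvd_of_pow_eq_one h4
    rw [Subgroup.orderOf_coe, hkb] at h5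
    exact hm h5
  have hQ' : PiForm π ((G ⧸ L) ⧸ Kb) :=
    piForm_of_mulEquiv (QuotientGroup.quotientQuotientEquivQuotient L K hLK).symm hQ
  have h1 : StarQ π (G ⧸ L) := starQ_quotient L hLπ hstar
  have h2 : PiForm π (G ⧸ L) := piForm_of_normal_piPrime Kb hKbπ h1 hQ'
  exact piForm_of_quotient L hLπ h2

end core

end Cfsg.Agent.Helper20
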