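import Mathlib

set_option autoImplicit false

namespace Cfsg.Agent.Helper20

/-- A `p'`-subgroup of a quotient by a normal `p`-subgroup `N` is the isomorphic image of a
complement to `N` in its preimage (Schur–Zassenhaus). -/
theorem exists_complement_preimage {G : Type*} [Group G] [Finite G] (p : ℕ) [hp : Fact p.Prime]
    (N : Subgroup G) [hNn : N.Normal] (hN : IsPGroup p N) (Hb : Subgroup (G ⧸ N))
    (hHb : ¬ p ∣ Nat.card Hb) :
    ∃ H : Subgroup G, H ⊓ N = ⊥ ∧ H.map (QuotientGroup.mk' N) = Hb ∧ Nat.card H = Nat.card Hb ∧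
      N ⊔ H = Hb.comap (QuotientGroup.mk' N) := by
  set f := QuotientGroup.mk' N with hf
  have hfs : Function.Surjective f := QuotientGroup.mk'_surjective N
  set L : Subgroup G := Hb.comap f with hL
  have hNL : N ≤ L := by
    intro n hn
    change f n ∈ Hb
    have : f n = 1 := (QuotientGroup.eq_one_iff n).mpr hn
    rw [this]
    exact Subgroup.one_mem _
  have hmapL : L.map f = Hb := Subgroup.map_comap_eq_self_of_surjective hfs Hb
  have hrel : N.relIndex L = Nat.card Hb := by
    have h1 : N = (⊥ : Subgroup (G ⧸ N)).comap f := by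
      rw [MonoidHom.comap_bot, hf, QuotientGroup.ker_mk']
    conv_lhs => rw [h1]
    rw [Subgroup.relIndex_comap, hmapL, Subgroup.relIndex_bot_left]
  let N' : Subgroup L := N.subgroupOf L
  have hcN : Nat.card N' = Nat.card N := Nat.card_congr (Subgroup.subgroupOfEquivOfLe hNL).toEquiv
  have hidx : N'.index = Nat.card Hb := hrel
  obtain ⟨k, hk⟩ := IsPGroup.iff_card.mp hN
  have hcop : Nat.Coprime (Nat.card N') N'.index := by
    rw [hcN, hidx, hk]
    exact Nat.Coprime.pow_left k ((Nat.Prime.coprime_iff_not_dvd hp.out).mpr hHb)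
  obtain ⟨H', hH'⟩ := Subgroup.exists_right_complement'_of_coprime hcop
  set H : Subgroup G := H'.map L.subtype with hH
  have hHL : H ≤ L := Subgroup.map_subtype_le H'
  have hcardH : Nat.card H = Nat.card Hb := by
    rw [hH, Subgroup.card_map_of_injective L.subtype_injective, ← hidx]
    exact (hH'.symm.index_eq_card).symm
  have hsup : N ⊔ H = L := by
    have h1 := hH'.sup_eq_top
    have h2 : (N' ⊔ H').map L.subtype = L := by
      rw [h1, ← MonoidHom.range_eq_map, Subgroup.range_subtype]
    rw [Subgroup.map_sup, Subgroup.subgroupOf_map_subtype, inf_of_le_left hNL] at h2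
    exact h2
  have hdisj : H ⊓ N = ⊥ := by
    have hcopHN : Nat.Coprime (Nat.card H) (Nat.card N) := by
      rw [hcardH, hk]
      exact (Nat.Coprime.pow_left k ((Nat.Prime.coprime_iff_not_dvd hp.out).mpr hHb)).symm
    exact (Subgroup.disjoint_of_coprime_natCard hcopHN).eq_bot
  refine ⟨H, hdisj, ?_, hcardH, hsup⟩
  have h3 : (N ⊔ H).map f = Hb := by rw [hsup, hmapL]
  rw [Subgroup.map_sup, hf, QuotientGroup.map_mk'_self, bot_sup_eq] at h3
  exact h3

end Cfsg.Agent.Helper20
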