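import Mathlib
import Cfsg.Prelude.Def_KGroupFacts
import Cfsg.Agent.Lib.Helper20.ProdStem3
import Cfsg.Agent.Lib.Helper20.FreeAb

set_option autoImplicit false

namespace Cfsg.Agent.Helper20

open Module

/-- the kernel of `F / [F, R] → Q` as a commutative group -/
noncomputable instance uceKer_commGroup (Q : Type*) [Group Q] : CommGroup (uceMap Q).ker :=
  kerCommGroup (uceMap Q) (uceMap_ker_le_center Q)

section

variable {n : ℕ} (rels : Finset (FreeGroup (Fin n)))

/-- the presented group -/
abbrev PQ : Type := PresentedGroup (rels : Set (FreeGroup (Fin n)))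

/-- a lift of the presentation to `F(Q) / [F(Q), R(Q)]` -/
noncomputable def presLift : FreeGroup (Fin n) →* UCE (PQ rels) :=
  FreeGroup.lift (fun i => Function.surjInv (uceMap_surjective (PQ rels)) (PresentedGroup.of i))

theorem presLift_spec :
    (uceMap (PQ rels)).comp (presLift rels) = PresentedGroup.mk (rels : Set (FreeGroup (Fin n))) := by
  apply FreeGroup.ext_hom
  intro i
  rw [MonoidHom.comp_apply]
  unfold presLift
  rw [FreeGroup.lift_apply_of]
  exact Function.surjInv_eq (uceMap_surjective (PQ rels)) _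

theorem uceMap_presLift (y : FreeGroup (Fin n)) :
    uceMap (PQ rels) (presLift rels y) = PresentedGroup.mk (rels : Set (FreeGroup (Fin n))) y := by
  rw [← MonoidHom.comp_apply, presLift_spec]

theorem presLift_mem_ker {y : FreeGroup (Fin n)}
    (hy : y ∈ Subgroup.normalClosure (rels : Set (FreeGroup (Fin n)))) :
    presLift rels y ∈ (uceMap (PQ rels)).ker := by
  rw [MonoidHom.mem_ker, uceMap_presLift]
  exact PresentedGroup.mk_eq_one_iff.mpr hy

/-- the image of a relator in the central kernel -/
noncomputable def relZ (ρ : rels) : (uceMap (PQ rels)).ker :=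
  ⟨presLift rels (ρ : FreeGroup (Fin n)),
    presLift_mem_ker rels (Subgroup.subset_normalClosure ρ.2)⟩

/-- the relation module map: `ℤ^rels → ker` -/
noncomputable def relPhi : (rels → ℤ) →ₗ[ℤ] Additive (uceMap (PQ rels)).ker :=
  Fintype.linearCombination ℤ (fun ρ : rels => Additive.ofMul (relZ rels ρ))

/-- the abelianized relator map: `ℤ^rels → ℤ^n` -/
noncomputable def relC : (rels → ℤ) →ₗ[ℤ] (Fin n →₀ ℤ) :=
  Fintype.linearCombination ℤ
    (fun ρ : rels => Multiplicative.toAdd (freeAb (Fin n) (ρ : FreeGroup (Fin n))))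

/-- the compatibility predicate -/
def RelPred (v : rels → ℤ) (y : FreeGroup (Fin n)) : Prop :=
  ((Additive.toMul (relPhi rels v) : (uceMap (PQ rels)).ker) : UCE (PQ rels)) = presLift rels y ∧
    relC rels v = Multiplicative.toAdd (freeAb (Fin n) y)

theorem relPred_zero : RelPred rels 0 1 := by
  constructor
  · rw [map_zero, map_one]; rfl
  · rw [map_zero, map_one]; rfl

theorem relPred_add {v v' : rels → ℤ} {y y' : FreeGroup (Fin n)} (h : RelPred rels v y)
    (h' : RelPred rels v' y') : RelPred rels (v + v') (y * y') := by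
  constructor
  · rw [map_add, map_mul, ← h.1, ← h'.1]; rfl
  · rw [map_add, map_mul, h.2, h'.2]; rfl

theorem relPred_neg {v : rels → ℤ} {y : FreeGroup (Fin n)} (h : RelPred rels v y) :
    RelPred rels (-v) y⁻¹ := by
  constructor
  · rw [map_neg, map_inv, ← h.1]; rfl
  · rw [map_neg, map_inv, h.2]; rfl

theorem relPred_single (ρ : rels) (z : ℤ) :
    RelPred rels (Pi.single ρ z) ((ρ : FreeGroup (Fin n)) ^ z) := by
  constructor
  · unfold relPhi
    rw [Fintype.linearCombination_apply_single, map_zpow, toMul_zsmul, Subgroup.coe_zpow]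
    rfl
  · unfold relC
    rw [Fintype.linearCombination_apply_single, map_zpow, toAdd_zpow]

/-- (I): every element of the relation subgroup is represented by a vector -/
theorem exists_relPred_of_mem {y : FreeGroup (Fin n)}
    (hy : y ∈ Subgroup.normalClosure (rels : Set (FreeGroup (Fin n)))) :
    ∃ v, RelPred rels v y := by
  unfold Subgroup.normalClosure at hy
  induction hy using Subgroup.closure_induction with
  | mem x hx =>
    obtain ⟨ρ, hρ, hconj⟩ := Group.mem_conjugatesOfSet_iff.mp hx
    obtain ⟨g, rfl⟩ := isConj_iff.mp hconj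
    refine ⟨Pi.single ⟨ρ, hρ⟩ 1, ?_⟩
    have h1 := relPred_single rels ⟨ρ, hρ⟩ 1
    rw [zpow_one] at h1
    constructor
    · rw [h1.1, map_mul, map_mul, map_inv]
      have hz := Subgroup.mem_center_iff.mp (uceMap_ker_le_center (PQ rels)
        (presLift_mem_ker rels (Subgroup.subset_normalClosure hρ))) (presLift rels g)
      change presLift rels ρ = _
      rw [hz, mul_assoc, mul_inv_cancel, mul_one]
    · rw [h1.2]
      congr 1
      rw [map_mul, map_mul, map_inv, mul_comm (freeAb (Fin n) g), mul_assoc, mul_inv_cancel,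
        mul_one]
  | one => exact ⟨0, relPred_zero rels⟩
  | mul x y _ _ hx hy =>
    obtain ⟨v, hv⟩ := hx
    obtain ⟨v', hv'⟩ := hy
    exact ⟨v + v', relPred_add rels hv hv'⟩
  | inv x _ hx =>
    obtain ⟨v, hv⟩ := hx
    exact ⟨-v, relPred_neg rels hv⟩

/-- (II): every vector represents an element of the relation subgroup -/
theorem exists_mem_relPred (v : rels → ℤ) :
    ∃ y ∈ Subgroup.normalClosure (rels : Set (FreeGroup (Fin n))), RelPred rels v y := by
  let S : AddSubgroup (rels → ℤ) :=
    { carrier := {v | ∃ y ∈ Subgroup.normalClosure (rels : Set (FreeGroup (Fin n))),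
        RelPred rels v y}
      add_mem' := by
        rintro v v' ⟨y, hy, h⟩ ⟨y', hy', h'⟩
        exact ⟨y * y', Subgroup.mul_mem _ hy hy', relPred_add rels h h'⟩
      zero_mem' := ⟨1, Subgroup.one_mem _, relPred_zero rels⟩
      neg_mem' := by
        rintro v ⟨y, hy, h⟩
        exact ⟨y⁻¹, Subgroup.inv_mem _ hy, relPred_neg rels h⟩ }
  have h1 : ∀ (ρ : rels) (z : ℤ), Pi.single ρ z ∈ S := by
    intro ρ z
    exact ⟨(ρ : FreeGroup (Fin n)) ^ z,
      Subgroup.zpow_mem _ (Subgroup.subset_normalClosure ρ.2) z, relPred_single rels ρ z⟩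
  have h2 : v ∈ S := by
    rw [← Finset.univ_sum_single v]
    exact AddSubgroup.sum_mem _ (fun ρ _ => h1 ρ (v ρ))
  exact h2

end

end Cfsg.Agent.Helper20
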