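import Mathlib
import Cfsg.Prelude.Def_KGroupFacts
import Cfsg.Agent.Lib.Helper20.PresentationRank

set_option autoImplicit false

namespace Cfsg.Agent.Helper20

open Module

section

variable {n : ℕ} (rels : Finset (FreeGroup (Fin n)))

theorem card_smul_mem_range_relC [Finite (PQ rels)] (w : Fin n →₀ ℤ) :
    (Nat.card (PQ rels) : ℤ) • w ∈ LinearMap.range (relC rels) := by
  obtain ⟨g, hg⟩ := freeAb_surjective (Fin n) (Multiplicative.ofAdd w)
  have h1 : g ^ Nat.card (PQ rels) ∈
      Subgroup.normalClosure (rels : Set (FreeGroup (Fin n))) := by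
    rw [← PresentedGroup.mk_eq_one_iff, map_pow]
    exact pow_card_eq_one'
  obtain ⟨v, hv⟩ := exists_relPred_of_mem rels h1
  refine ⟨v, ?_⟩
  rw [hv.2, map_pow, hg, toAdd_pow, toAdd_ofAdd, natCast_zsmul]

theorem le_finrank_range_relC [Finite (PQ rels)] :
    n ≤ finrank ℤ (LinearMap.range (relC rels)) := by
  have hm : (Nat.card (PQ rels) : ℤ) ≠ 0 := by exact_mod_cast Nat.card_pos.ne'
  let f : (Fin n →₀ ℤ) →ₗ[ℤ] (Fin n →₀ ℤ) := (Nat.card (PQ rels) : ℤ) • LinearMap.id
  have hf : Function.Injective f := by
    intro a b hab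
    have : (Nat.card (PQ rels) : ℤ) • a = (Nat.card (PQ rels) : ℤ) • b := hab
    exact smul_right_injective _ hm this
  have h1 : LinearMap.range f ≤ LinearMap.range (relC rels) := by
    rintro _ ⟨w, rfl⟩
    exact card_smul_mem_range_relC rels w
  have h2 := Submodule.finrank_mono h1
  rw [LinearMap.finrank_range_of_inj hf] at h2
  have h3 : finrank ℤ (Fin n →₀ ℤ) = n := by simp
  rw [h3] at h2
  exact h2

theorem finrank_ker_relC_le [Finite (PQ rels)] :
    finrank ℤ (LinearMap.ker (relC rels)) ≤ rels.card - n := by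
  have h1 : finrank ℤ (LinearMap.range (relC rels)) + finrank ℤ (LinearMap.ker (relC rels)) =
      Fintype.card rels := by
    rw [← (relC rels).quotKerEquivRange.finrank_eq, Submodule.finrank_quotient_add_finrank,
      Module.finrank_fintype_fun_eq_card]
  have h2 := le_finrank_range_relC rels
  rw [Fintype.card_coe] at h1
  omega

theorem commutator_uce_le_map_presLift :
    commutator (UCE (PQ rels)) ≤ (commutator (FreeGroup (Fin n))).map (presLift rels) := by
  have h1 : commutator (UCE (PQ rels)) ≤ ⁅(presLift rels).range, (presLift rels).range⁆ := by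
    apply commutator_le_of_central_supplement
    intro x
    obtain ⟨y, hy⟩ := PresentedGroup.mk_surjective (rels : Set (FreeGroup (Fin n)))
      (uceMap (PQ rels) x)
    refine ⟨presLift rels y, ⟨y, rfl⟩, (presLift rels y)⁻¹ * x, ?_, by group⟩
    apply uceMap_ker_le_center
    rw [MonoidHom.mem_ker, map_mul, map_inv, uceMap_presLift, hy, inv_mul_cancel]
  refine le_trans h1 ?_
  rw [MonoidHom.range_eq_map, ← Subgroup.map_commutator, ← commutator_def]

theorem exists_ker_relC_of_mem_schurM {x : UCE (PQ rels)} (hx : x ∈ schurM (PQ rels)) :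
    ∃ v ∈ LinearMap.ker (relC rels),
      ((Additive.toMul (relPhi rels v) : (uceMap (PQ rels)).ker) : UCE (PQ rels)) = x := by
  obtain ⟨y, hy, rfl⟩ := commutator_uce_le_map_presLift rels hx.2
  have h1 : y ∈ Subgroup.normalClosure (rels : Set (FreeGroup (Fin n))) := by
    rw [← PresentedGroup.mk_eq_one_iff, ← uceMap_presLift]
    exact hx.1
  obtain ⟨v, hv⟩ := exists_relPred_of_mem rels h1
  refine ⟨v, ?_, hv.1⟩
  rw [LinearMap.mem_ker, hv.2, (freeAb_eq_one_iff (Fin n) y).mpr hy]
  rfl

theorem relPhi_mem_schurM {v : rels → ℤ} (hv : v ∈ LinearMap.ker (relC rels)) :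
    ((Additive.toMul (relPhi rels v) : (uceMap (PQ rels)).ker) : UCE (PQ rels)) ∈
      schurM (PQ rels) := by
  obtain ⟨y, hy, h1, h2⟩ := exists_mem_relPred rels v
  rw [LinearMap.mem_ker] at hv
  rw [hv] at h2
  have h3 : freeAb (Fin n) y = 1 := by
    have : Multiplicative.toAdd (freeAb (Fin n) y) = Multiplicative.toAdd 1 := by
      rw [← h2]; rfl
    exact Multiplicative.toAdd.injective this
  rw [freeAb_eq_one_iff] at h3
  rw [h1]
  exact ⟨presLift_mem_ker rels hy, map_commutator_le (presLift rels) ⟨y, h3, rfl⟩⟩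

/-- the map from the kernel of the abelianized relator map to the Schur multiplier -/
noncomputable def relPsi : Multiplicative (LinearMap.ker (relC rels)) →* schurM (PQ rels) where
  toFun v := ⟨_, relPhi_mem_schurM rels (Multiplicative.toAdd v).2⟩
  map_one' := by
    apply Subtype.ext
    change ((Additive.toMul (relPhi rels ((0 : LinearMap.ker (relC rels)) : rels → ℤ)) :
      (uceMap (PQ rels)).ker) : UCE (PQ rels)) = 1
    rw [Submodule.coe_zero, map_zero]
    rfl
  map_mul' a b := by
    apply Subtype.ext
    change ((Additive.toMul (relPhi rels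
      ((Multiplicative.toAdd a + Multiplicative.toAdd b : LinearMap.ker (relC rels)) :
        rels → ℤ)) : (uceMap (PQ rels)).ker) : UCE (PQ rels)) = _
    rw [Submodule.coe_add, map_add]
    rfl

theorem relPsi_surjective : Function.Surjective (relPsi rels) := by
  rintro ⟨x, hx⟩
  obtain ⟨v, hv, hvx⟩ := exists_ker_relC_of_mem_schurM rels hx
  exact ⟨Multiplicative.ofAdd ⟨v, hv⟩, Subtype.ext hvx⟩

/-- the Schur multiplier of a finite group with `n` generators and `r` relators is generated by
`r - n` elements -/
theorem exists_generators_schurM [Finite (PQ rels)] :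
    ∃ S : Finset (schurM (PQ rels)), S.card ≤ rels.card - n ∧
      Subgroup.closure (S : Set (schurM (PQ rels))) = ⊤ := by
  classical
  let b := Module.finBasis ℤ (LinearMap.ker (relC rels))
  let gen : Fin (finrank ℤ (LinearMap.ker (relC rels))) → schurM (PQ rels) :=
    fun i => relPsi rels (Multiplicative.ofAdd (b i))
  refine ⟨Finset.univ.image gen, ?_, ?_⟩
  · refine le_trans Finset.card_image_le ?_
    rw [Finset.card_univ, Fintype.card_fin]
    exact finrank_ker_relC_le rels
  · rw [eq_top_iff]
    intro x _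
    obtain ⟨v, rfl⟩ := relPsi_surjective rels x
    have h1 : Multiplicative.toAdd v = ∑ i, (b.repr (Multiplicative.toAdd v) i) • b i :=
      (b.sum_repr _).symm
    have h2 : v = ∏ i, (Multiplicative.ofAdd (b i)) ^ (b.repr (Multiplicative.toAdd v) i) := by
      apply Multiplicative.toAdd.injective
      rw [h1, toAdd_prod]
      apply Finset.sum_congr rfl
      intro i _
      rw [toAdd_zpow, toAdd_ofAdd, ← h1]
    rw [h2, map_prod]
    apply Subgroup.prod_mem
    intro i _
    rw [map_zpow]
    apply Subgroup.zpow_mem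
    apply Subgroup.subset_closure
    rw [Finset.coe_image]
    exact ⟨i, Finset.mem_coe.mpr (Finset.mem_univ i), rfl⟩

end

end Cfsg.Agent.Helper20
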