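import Mathlib

set_option autoImplicit false

namespace Cfsg.Agent.Helper20

open scoped TensorProduct

/-- the tensor product of two finite abelian groups is finite -/
theorem finite_tensorProduct_int (M N : Type*) [AddCommGroup M] [AddCommGroup N] [Finite M]
    [Finite N] : Finite (M ⊗[ℤ] N) := by
  have hfin : Module.Finite ℤ (M ⊗[ℤ] N) := Module.Finite.tensorProduct ℤ M N
  apply Module.finite_of_fg_torsion
  intro t
  have hn : (Nat.card M : ℤ) • t = 0 := by
    induction t using TensorProduct.induction_on with
    | zero => simp
    | tmul x y =>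
      rw [TensorProduct.smul_tmul']
      have : (Nat.card M : ℤ) • x = 0 := by
        rw [natCast_zsmul]
        exact card_nsmul_eq_zero'
      rw [this, TensorProduct.zero_tmul]
    | add a b ha hb => rw [smul_add, ha, hb, add_zero]
  refine ⟨⟨(Nat.card M : ℤ), ?_⟩, hn⟩
  rw [mem_nonZeroDivisors_iff_ne_zero]
  exact_mod_cast Nat.card_pos.ne'

end Cfsg.Agent.Helper20
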