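import Mathlib
import Cfsg.Prelude.Def_KGroupFacts
import Cfsg.Agent.Lib.Helper20.BiExt
import Cfsg.Agent.Lib.Helper20.ProdStem3
import Cfsg.Agent.Lib.Helper20.TensorFinite

set_option autoImplicit false

namespace Cfsg.Agent.Helper20

open scoped commutatorElement TensorProduct

universe u v w

section BiExtComm

variable {G : Type u} {A : Type v} [Group G] [CommGroup A] (β : G →* G →* A)

/-- the commutator of the lifts of two commuting elements -/
theorem BiExt.commutator_lift_of_commute (g h : G) (hgh : g * h = h * g) :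
    ⁅(⟨g, 1⟩ : BiExt β), (⟨h, 1⟩ : BiExt β)⁆ = BiExt.incl β (β g h * (β h g)⁻¹) := by
  have hz := Subgroup.mem_center_iff.mp (BiExt.incl_mem_center β (β g h * (β h g)⁻¹))
  have key : (⟨g, 1⟩ : BiExt β) * ⟨h, 1⟩ =
      ⟨h, 1⟩ * ⟨g, 1⟩ * BiExt.incl β (β g h * (β h g)⁻¹) := by
    apply BiExt.ext'
    · simp only [BiExt.mul_fst, BiExt.incl_fst, mul_one]
      exact hgh
    · simp only [BiExt.mul_fst, BiExt.mul_snd, BiExt.incl_fst, BiExt.incl_snd, one_mul, map_one]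
      rw [mul_one, mul_comm (β g h), mul_inv_cancel_left]
  rw [commutatorElement_def, key, hz]
  group

end BiExtComm

section AbCls

variable {Γ : Type*} {Q : Type*} [Group Γ] [Group Q] (σ : Γ →* Q)

/-- the class of `σ g` in the additive commutator quotient -/
def abCls (g : Γ) : Additive (Abelianization Q) := Additive.ofMul (Abelianization.of (σ g))

theorem abCls_mul (g h : Γ) : abCls σ (g * h) = abCls σ g + abCls σ h := by
  unfold abCls
  rw [map_mul, map_mul, ofMul_mul]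

theorem abCls_one : abCls σ 1 = 0 := by
  unfold abCls
  rw [map_one, map_one, ofMul_one]

theorem abCls_of_mem_ker {g : Γ} (hg : g ∈ σ.ker) : abCls σ g = 0 := by
  unfold abCls
  rw [MonoidHom.mem_ker] at hg
  rw [hg, map_one, ofMul_one]

theorem abCls_surjective (hσ : Function.Surjective σ) : Function.Surjective (abCls σ) := by
  intro x
  obtain ⟨q, hq⟩ := QuotientGroup.mk_surjective (Additive.toMul x)
  obtain ⟨g, rfl⟩ := hσ q
  exact ⟨g, hq⟩

end AbCls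

section

variable {Q₁ : Type u} {Q₂ : Type v} [Group Q₁] [Group Q₂] {Γ₁ : Type u} {Γ₂ : Type v}
  [Group Γ₁] [Group Γ₂] (σ₁ : Γ₁ →* Q₁) (σ₂ : Γ₂ →* Q₂)

/-- the tensor product of the commutator quotients -/
abbrev AbT (Q₁ : Type u) (Q₂ : Type v) [Group Q₁] [Group Q₂] : Type (max u v) :=
  (Additive (Abelianization Q₁)) ⊗[ℤ] (Additive (Abelianization Q₂))

/-- the bimultiplicative pairing defining the cover of a direct product -/
def prodBeta : Γ₁ × Γ₂ →* Γ₁ × Γ₂ →* Multiplicative (AbT Q₁ Q₂) :=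
  MonoidHom.mk' (fun g => MonoidHom.mk'
    (fun h => Multiplicative.ofAdd (abCls σ₁ g.1 ⊗ₜ[ℤ] abCls σ₂ h.2))
    (by
      intro h h'
      rw [Prod.snd_mul, abCls_mul, TensorProduct.tmul_add, ofAdd_add]))
    (by
      intro g g'
      apply MonoidHom.ext
      intro h
      rw [MonoidHom.mul_apply]
      change Multiplicative.ofAdd (abCls σ₁ (g * g').1 ⊗ₜ[ℤ] abCls σ₂ h.2) =
        Multiplicative.ofAdd (abCls σ₁ g.1 ⊗ₜ[ℤ] abCls σ₂ h.2) *
          Multiplicative.ofAdd (abCls σ₁ g'.1 ⊗ₜ[ℤ] abCls σ₂ h.2)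
      rw [Prod.fst_mul, abCls_mul, TensorProduct.add_tmul, ofAdd_add])

theorem prodBeta_apply (g h : Γ₁ × Γ₂) :
    prodBeta σ₁ σ₂ g h = Multiplicative.ofAdd (abCls σ₁ g.1 ⊗ₜ[ℤ] abCls σ₂ h.2) := rfl

theorem prodBeta_eq_one_left {g : Γ₁ × Γ₂} (hg : abCls σ₁ g.1 = 0) (h : Γ₁ × Γ₂) :
    prodBeta σ₁ σ₂ g h = 1 := by
  rw [prodBeta_apply, hg, TensorProduct.zero_tmul, ofAdd_zero]

theorem prodBeta_eq_one_right (g : Γ₁ × Γ₂) {h : Γ₁ × Γ₂} (hh : abCls σ₂ h.2 = 0) :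
    prodBeta σ₁ σ₂ g h = 1 := by
  rw [prodBeta_apply, hh, TensorProduct.tmul_zero, ofAdd_zero]

/-- the covering group of a direct product -/
abbrev ProdCover : Type (max u v) := BiExt (prodBeta σ₁ σ₂)

/-- the covering map -/
def prodCoverMap : ProdCover σ₁ σ₂ →* Q₁ × Q₂ :=
  (σ₁.prodMap σ₂).comp (BiExt.proj (prodBeta σ₁ σ₂))

theorem prodCoverMap_apply (x : ProdCover σ₁ σ₂) :
    prodCoverMap σ₁ σ₂ x = (σ₁ x.fst.1, σ₂ x.fst.2) := rfl

theorem mem_ker_prodCoverMap (x : ProdCover σ₁ σ₂) :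
    x ∈ (prodCoverMap σ₁ σ₂).ker ↔ x.fst.1 ∈ σ₁.ker ∧ x.fst.2 ∈ σ₂.ker := by
  rw [MonoidHom.mem_ker, prodCoverMap_apply, MonoidHom.mem_ker, MonoidHom.mem_ker]
  exact Prod.ext_iff

theorem prodCoverMap_surjective (h₁ : Function.Surjective σ₁) (h₂ : Function.Surjective σ₂) :
    Function.Surjective (prodCoverMap σ₁ σ₂) := by
  rintro ⟨q₁, q₂⟩
  obtain ⟨g₁, rfl⟩ := h₁ q₁
  obtain ⟨g₂, rfl⟩ := h₂ q₂
  exact ⟨⟨(g₁, g₂), 1⟩, rfl⟩

/-- the embedding of the first factor -/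
def prodCoverInl : Γ₁ →* ProdCover σ₁ σ₂ where
  toFun g := ⟨(g, 1), 1⟩
  map_one' := rfl
  map_mul' g g' := by
    apply BiExt.ext'
    · simp
    · rw [BiExt.mul_snd, prodBeta_eq_one_right σ₁ σ₂ _ (abCls_one σ₂)]
      simp

/-- the embedding of the second factor -/
def prodCoverInr : Γ₂ →* ProdCover σ₁ σ₂ where
  toFun g := ⟨(1, g), 1⟩
  map_one' := rfl
  map_mul' g g' := by
    apply BiExt.ext'
    · simp
    · rw [BiExt.mul_snd, prodBeta_eq_one_left σ₁ σ₂ (abCls_one σ₁)]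
      simp

theorem prodCover_incl_mem_commutator (h₁ : Function.Surjective σ₁)
    (h₂ : Function.Surjective σ₂) (t : AbT Q₁ Q₂) :
    BiExt.incl (prodBeta σ₁ σ₂) (Multiplicative.ofAdd t) ∈ commutator (ProdCover σ₁ σ₂) := by
  induction t using TensorProduct.induction_on with
  | zero =>
    rw [ofAdd_zero, map_one]
    exact Subgroup.one_mem _
  | tmul x y =>
    obtain ⟨g, rfl⟩ := abCls_surjective σ₁ h₁ x
    obtain ⟨h, rfl⟩ := abCls_surjective σ₂ h₂ y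
    have h3 := BiExt.commutator_lift_of_commute (prodBeta σ₁ σ₂) ((g, 1) : Γ₁ × Γ₂) (1, h)
      (by simp)
    rw [prodBeta_eq_one_left σ₁ σ₂ (g := ((1, h) : Γ₁ × Γ₂)) (abCls_one σ₁), inv_one,
      mul_one, prodBeta_apply] at h3
    rw [← h3, commutator_def]
    exact Subgroup.commutator_mem_commutator (Subgroup.mem_top _) (Subgroup.mem_top _)
  | add a b ha hb =>
    rw [ofAdd_add, map_mul]
    exact Subgroup.mul_mem _ ha hb

theorem prodCover_decomp (x : ProdCover σ₁ σ₂) (hx : x ∈ (prodCoverMap σ₁ σ₂).ker) :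
    x = prodCoverInl σ₁ σ₂ x.fst.1 * prodCoverInr σ₁ σ₂ x.fst.2 *
      BiExt.incl (prodBeta σ₁ σ₂) x.snd := by
  rw [mem_ker_prodCoverMap] at hx
  apply BiExt.ext'
  · simp [prodCoverInl, prodCoverInr]
  · simp only [BiExt.mul_snd, BiExt.mul_fst, BiExt.incl_fst, BiExt.incl_snd, prodCoverInl,
      prodCoverInr, MonoidHom.coe_mk, OneHom.coe_mk]
    rw [prodBeta_eq_one_left σ₁ σ₂ (g := ((x.fst.1, 1) : Γ₁ × Γ₂)) (abCls_of_mem_ker σ₁ hx.1)]
    simp

theorem prodCoverMap_isStem (h₁ : Cfsg.IsStemExtension σ₁) (h₂ : Cfsg.IsStemExtension σ₂) :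
    Cfsg.IsStemExtension (prodCoverMap σ₁ σ₂) := by
  refine ⟨prodCoverMap_surjective σ₁ σ₂ h₁.1 h₂.1, ?_, ?_⟩
  · intro x hx
    rw [mem_ker_prodCoverMap] at hx
    have ha := Subgroup.mem_center_iff.mp (h₁.2.1 hx.1)
    have hb := Subgroup.mem_center_iff.mp (h₂.2.1 hx.2)
    rw [Subgroup.mem_center_iff]
    intro y
    apply BiExt.ext'
    · rw [BiExt.mul_fst, BiExt.mul_fst]
      exact Prod.ext (ha _) (hb _)
    · rw [BiExt.mul_snd, BiExt.mul_snd,
        prodBeta_eq_one_left σ₁ σ₂ (abCls_of_mem_ker σ₁ hx.1),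
        prodBeta_eq_one_right σ₁ σ₂ _ (abCls_of_mem_ker σ₂ hx.2), mul_comm y.snd]
  · intro x hx
    rw [prodCover_decomp σ₁ σ₂ x hx]
    rw [mem_ker_prodCoverMap] at hx
    refine Subgroup.mul_mem _ (Subgroup.mul_mem _ ?_ ?_) ?_
    · exact map_commutator_le (prodCoverInl σ₁ σ₂) ⟨_, h₁.2.2 hx.1, rfl⟩
    · exact map_commutator_le (prodCoverInr σ₁ σ₂) ⟨_, h₂.2.2 hx.2, rfl⟩
    · have := prodCover_incl_mem_commutator σ₁ σ₂ h₁.1 h₂.1 (Multiplicative.toAdd x.snd)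
      rwa [ofAdd_toAdd] at this

/-- the kernel of the covering map -/
noncomputable def prodCoverKerEquiv :
    (prodCoverMap σ₁ σ₂).ker ≃* σ₁.ker × σ₂.ker × Multiplicative (AbT Q₁ Q₂) := by
  let f : (prodCoverMap σ₁ σ₂).ker →* σ₁.ker × σ₂.ker × Multiplicative (AbT Q₁ Q₂) :=
    { toFun := fun x => (⟨x.1.fst.1, ((mem_ker_prodCoverMap σ₁ σ₂ x.1).mp x.2).1⟩,
        ⟨x.1.fst.2, ((mem_ker_prodCoverMap σ₁ σ₂ x.1).mp x.2).2⟩, x.1.snd)
      map_one' := rfl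
      map_mul' := by
        intro x y
        have hx := (mem_ker_prodCoverMap σ₁ σ₂ x.1).mp x.2
        refine Prod.ext ?_ (Prod.ext ?_ ?_)
        · rfl
        · rfl
        · change (x.1 * y.1).snd = x.1.snd * y.1.snd
          rw [BiExt.mul_snd, prodBeta_eq_one_left σ₁ σ₂ (abCls_of_mem_ker σ₁ hx.1), mul_one] }
  refine MulEquiv.ofBijective f ⟨?_, ?_⟩
  · intro x y hxy
    have h1 : x.1.fst.1 = y.1.fst.1 := congrArg (fun p => (p.1 : Γ₁)) hxy
    have h2 : x.1.fst.2 = y.1.fst.2 := congrArg (fun p => (p.2.1 : Γ₂)) hxy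
    have h3 : x.1.snd = y.1.snd := congrArg (fun p => p.2.2) hxy
    apply Subtype.ext
    exact BiExt.ext' (Prod.ext h1 h2) h3
  · rintro ⟨a, b, t⟩
    refine ⟨⟨⟨(a.1, b.1), t⟩, ?_⟩, ?_⟩
    · rw [mem_ker_prodCoverMap]
      exact ⟨a.2, b.2⟩
    · rfl

instance prodCover_finite [Finite Q₁] [Finite Q₂] [Finite Γ₁] [Finite Γ₂] :
    Finite (ProdCover σ₁ σ₂) := by
  have : Finite (AbT Q₁ Q₂) := finite_tensorProduct_int _ _
  have : Finite (Multiplicative (AbT Q₁ Q₂)) := this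
  infer_instance

end

end Cfsg.Agent.Helper20
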