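import Mathlib
import Cfsg.Prelude.Def_KGroupFacts
import Cfsg.Agent.Lib.Helper20.ProdCover

set_option autoImplicit false

namespace Cfsg.Agent.Helper20

open scoped commutatorElement TensorProduct

universe u v w

section Abstract

/-- a biadditive map into a multiplicative commutative group factors through the tensor product -/
theorem exists_tensor_hom {M N K : Type*} [AddCommGroup M] [AddCommGroup N] [CommGroup K]
    (P : M → N → K) (h1 : ∀ m m' n, P (m + m') n = P m n * P m' n)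
    (h2 : ∀ m n n', P m (n + n') = P m n * P m n') :
    ∃ g : Multiplicative (M ⊗[ℤ] N) →* K,
      ∀ m n, g (Multiplicative.ofAdd (m ⊗ₜ[ℤ] n)) = P m n := by
  let F : N → M →+ Additive K := fun n =>
    AddMonoidHom.mk' (fun m => Additive.ofMul (P m n)) (fun m m' => by
      change Additive.ofMul (P (m + m') n) = Additive.ofMul (P m n) + Additive.ofMul (P m' n)
      rw [h1, ofMul_mul])
  let F' : M → N →+ Additive K := fun m =>
    AddMonoidHom.mk' (fun n => Additive.ofMul (P m n)) (fun n n' => by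
      change Additive.ofMul (P m (n + n')) = Additive.ofMul (P m n) + Additive.ofMul (P m n')
      rw [h2, ofMul_mul])
  let f : M →ₗ[ℤ] N →ₗ[ℤ] Additive K :=
    LinearMap.mk₂ ℤ (fun m n => Additive.ofMul (P m n))
      (fun m m' n => (F n).map_add m m')
      (fun c m n => map_zsmul (F n) c m)
      (fun m n n' => (F' m).map_add n n')
      (fun c m n => map_zsmul (F' m) c n)
  refine ⟨AddMonoidHom.toMultiplicativeLeft (TensorProduct.lift f).toAddMonoidHom, ?_⟩
  intro m n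
  change Additive.toMul ((TensorProduct.lift f) (m ⊗ₜ[ℤ] n)) = P m n
  rw [TensorProduct.lift.tmul]
  rfl

variable {D : Type*} [Group D]

theorem commHomLeft_of_mem_center (H : Subgroup D) (b : D)
    (hb : ∀ h ∈ H, ⁅h, b⁆ ∈ Subgroup.center D) {z : H} (hz : (z : D) ∈ Subgroup.center D) :
    commHomLeft H b hb z = 1 := by
  rw [commHomLeft_apply, commutatorElement_eq_one_iff_commute]
  exact (Subgroup.mem_center_iff.mp hz b).symm

/-- the commutator `⁅a, b⁆` depends only on the class of `a` in the commutator quotient -/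
theorem comm_eq_of_abCls_eq {Q : Type*} [Group Q] (H : Subgroup D) (ξ : H →* Q)
    (hξ : Function.Surjective ξ) (hker : ∀ z ∈ ξ.ker, (z : D) ∈ Subgroup.center D) (b : D)
    (hb : ∀ h ∈ H, ⁅h, b⁆ ∈ Subgroup.center D) {a a' : H} (haa : abCls ξ a = abCls ξ a') :
    ⁅(a : D), b⁆ = ⁅(a' : D), b⁆ := by
  have h1 : (ξ a)⁻¹ * ξ a' ∈ commutator Q := by
    have : Abelianization.of (ξ a) = Abelianization.of (ξ a') := haa
    exact QuotientGroup.eq.mp this
  rw [← map_commutator_of_surjective ξ hξ] at h1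
  obtain ⟨d, hd, hda⟩ := h1
  have hz : d⁻¹ * (a⁻¹ * a') ∈ ξ.ker := by
    rw [MonoidHom.mem_ker, map_mul, map_inv, map_mul, map_inv, hda, inv_mul_cancel]
  have h2 : a' = a * d * (d⁻¹ * (a⁻¹ * a')) := by group
  rw [← commHomLeft_apply H b hb a, ← commHomLeft_apply H b hb a']
  conv_rhs => rw [h2]
  rw [map_mul, map_mul, commHomLeft_commutator H b hb hd,
    commHomLeft_of_mem_center H b hb (hker _ hz), mul_one, mul_one]

end Abstract

section

variable {Q₁ : Type u} {Q₂ : Type v} {Δ : Type w} [Group Q₁] [Group Q₂] [Group Δ]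
  (τ : Δ →* Q₁ × Q₂)

/-- the commutator pairing of a central extension of a direct product factors through the
tensor product of the commutator quotients -/
theorem exists_tensor_hom_commutator (hτ : Function.Surjective τ)
    (hc : τ.ker ≤ Subgroup.center Δ) :
    ∃ g : Multiplicative (AbT Q₁ Q₂) →* Δ, g.range ≤ τ.ker ∧
      ⁅prodLeft τ, prodRight τ⁆ ≤ g.range := by
  let _ : CommGroup τ.ker := kerCommGroup τ hc
  have hs₁ := abCls_surjective (prodLeftMap τ) (prodLeftMap_surjective τ hτ)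
  have hs₂ := abCls_surjective (prodRightMap τ) (prodRightMap_surjective τ hτ)
  have hinv : ∀ x y : Δ, ⁅x, y⁆ = ⁅y, x⁆⁻¹ := fun x y => (commutatorElement_inv y x).symm
  have hcl : ∀ b ∈ prodRight τ, ∀ h ∈ prodLeft τ, ⁅h, b⁆ ∈ Subgroup.center Δ :=
    fun b hb h hh => hc (comm_mem_ker τ hh hb)
  have hcr : ∀ a ∈ prodLeft τ, ∀ h ∈ prodRight τ, ⁅h, a⁆ ∈ Subgroup.center Δ := by
    intro a ha h hh
    rw [hinv]
    exact Subgroup.inv_mem _ (hc (comm_mem_ker τ ha hh))
  have hk₁ : ∀ z ∈ (prodLeftMap τ).ker, (z : Δ) ∈ Subgroup.center Δ :=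
    fun z hz => hc (coe_mem_ker_of_mem_ker_prodLeftMap τ hz)
  have hk₂ : ∀ z ∈ (prodRightMap τ).ker, (z : Δ) ∈ Subgroup.center Δ :=
    fun z hz => hc (coe_mem_ker_of_mem_ker_prodRightMap τ hz)
  -- the pairing on the level of `Δ₁ × Δ₂`
  let P₀ : prodLeft τ → prodRight τ → τ.ker :=
    fun a b => ⟨⁅(a : Δ), (b : Δ)⁆, comm_mem_ker τ a.2 b.2⟩
  have P1 : ∀ a a' b, P₀ (a * a') b = P₀ a b * P₀ a' b := by
    intro a a' b
    apply Subtype.ext
    exact (commHomLeft (prodLeft τ) (b : Δ) (hcl b b.2)).map_mul a a'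
  have P2 : ∀ a b b', P₀ a (b * b') = P₀ a b * P₀ a b' := by
    intro a b b'
    apply Subtype.ext
    have h3 := (commHomLeft (prodRight τ) (a : Δ) (hcr a a.2)).map_mul b b'
    rw [commHomLeft_apply, commHomLeft_apply, commHomLeft_apply] at h3
    change ⁅(a : Δ), ((b * b' : prodRight τ) : Δ)⁆ = ⁅(a : Δ), (b : Δ)⁆ * ⁅(a : Δ), (b' : Δ)⁆
    rw [hinv (a : Δ), h3, mul_inv_rev, ← hinv, ← hinv]
    exact Subgroup.mem_center_iff.mp (hc (comm_mem_ker τ a.2 b.2)) _
  have P3 : ∀ a a' b, abCls (prodLeftMap τ) a = abCls (prodLeftMap τ) a' → P₀ a b = P₀ a' b := by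
    intro a a' b haa
    apply Subtype.ext
    exact comm_eq_of_abCls_eq (prodLeft τ) (prodLeftMap τ) (prodLeftMap_surjective τ hτ) hk₁
      (b : Δ) (hcl b b.2) haa
  have P4 : ∀ a b b', abCls (prodRightMap τ) b = abCls (prodRightMap τ) b' →
      P₀ a b = P₀ a b' := by
    intro a b b' hbb
    apply Subtype.ext
    change ⁅(a : Δ), (b : Δ)⁆ = ⁅(a : Δ), (b' : Δ)⁆
    rw [hinv (a : Δ) b, hinv (a : Δ) b']
    congr 1
    exact comm_eq_of_abCls_eq (prodRight τ) (prodRightMap τ) (prodRightMap_surjective τ hτ) hk₂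
      (a : Δ) (hcr a a.2) hbb
  let s₁ := Function.surjInv hs₁
  let s₂ := Function.surjInv hs₂
  have hs₁' : ∀ x, abCls (prodLeftMap τ) (s₁ x) = x := Function.surjInv_eq hs₁
  have hs₂' : ∀ y, abCls (prodRightMap τ) (s₂ y) = y := Function.surjInv_eq hs₂
  obtain ⟨g, hg⟩ := exists_tensor_hom (fun x y => P₀ (s₁ x) (s₂ y))
    (by
      intro x x' y
      change P₀ (s₁ (x + x')) (s₂ y) = P₀ (s₁ x) (s₂ y) * P₀ (s₁ x') (s₂ y)
      rw [← P1]
      apply P3
      rw [hs₁', abCls_mul, hs₁', hs₁'])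
    (by
      intro x y y'
      change P₀ (s₁ x) (s₂ (y + y')) = P₀ (s₁ x) (s₂ y) * P₀ (s₁ x) (s₂ y')
      rw [← P2]
      apply P4
      rw [hs₂', abCls_mul, hs₂', hs₂'])
  refine ⟨τ.ker.subtype.comp g, ?_, ?_⟩
  · rintro _ ⟨t, rfl⟩
    exact (g t).2
  · rw [Subgroup.commutator_le]
    intro a ha b hb
    refine ⟨Multiplicative.ofAdd (abCls (prodLeftMap τ) ⟨a, ha⟩ ⊗ₜ[ℤ]
      abCls (prodRightMap τ) ⟨b, hb⟩), ?_⟩
    rw [MonoidHom.comp_apply, hg]
    change ((P₀ (s₁ _) (s₂ _) : τ.ker) : Δ) = ⁅a, b⁆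
    rw [P3 (s₁ (abCls (prodLeftMap τ) ⟨a, ha⟩)) ⟨a, ha⟩ _ (hs₁' _),
      P4 ⟨a, ha⟩ (s₂ (abCls (prodRightMap τ) ⟨b, hb⟩)) ⟨b, hb⟩ (hs₂' _)]

end

end Cfsg.Agent.Helper20
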