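import Mathlib
import Cfsg.Agent.Lib.Helper20.MonomialRep2
import Cfsg.Agent.Lib.Helper20.ProjLift

set_option autoImplicit false

namespace Cfsg.Agent.Helper20

/-- For a finite central extension `τ : Δ → Q` and a nontrivial element `a` of its kernel there
is a projective representation `γ` of `Q` with a lift `ρ` along `τ` such that `ρ a ≠ 1`. -/
theorem exists_projective_rep {Δ Q : Type*} [Group Δ] [Group Q] [Finite Q] [Finite Δ]
    (τ : Δ →* Q) (hτ : Function.Surjective τ) (hc : τ.ker ≤ Subgroup.center Δ) (a : Δ)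
    (ha : a ∈ τ.ker) (ha1 : a ≠ 1) :
    ∃ (n : ℕ) (γ : Q →* (GL (Fin n) ℂ ⧸ Subgroup.center (GL (Fin n) ℂ)))
      (ρ : Δ →* GL (Fin n) ℂ),
      (QuotientGroup.mk' (Subgroup.center (GL (Fin n) ℂ))).comp ρ = γ.comp τ ∧ ρ a ≠ 1 := by
  obtain ⟨n, ρ, hρ1, hρ2⟩ := exists_rep_nontrivial_on τ hτ hc a ha ha1
  have hker : τ.ker ≤ ((QuotientGroup.mk' (Subgroup.center (GL (Fin n) ℂ))).comp ρ).ker := by
    intro k hk
    rw [MonoidHom.mem_ker, MonoidHom.comp_apply]
    exact (QuotientGroup.eq_one_iff _).mpr (hρ1 k hk)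
  refine ⟨n, MonoidHom.liftOfSurjective τ hτ ⟨_, hker⟩, ρ, ?_, hρ2⟩
  apply MonoidHom.ext
  intro d
  rw [MonoidHom.comp_apply, MonoidHom.comp_apply]
  exact (MonoidHom.liftOfRightInverse_comp_apply τ _ _ ⟨_, hker⟩ d).symm

end Cfsg.Agent.Helper20
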