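import Mathlib

set_option autoImplicit false

namespace Cfsg.Agent.Helper20

open QuaternionGroup

/-- the cyclic subgroup `⟨a⟩` of index two of the generalized quaternion group -/
def quatRot (n : ℕ) : Subgroup (QuaternionGroup n) where
  carrier := {x | ∃ i : ZMod (2 * n), x = a i}
  one_mem' := ⟨0, one_def⟩
  mul_mem' := by
    rintro _ _ ⟨i, rfl⟩ ⟨j, rfl⟩
    exact ⟨i + j, a_mul_a i j⟩
  inv_mem' := by
    rintro _ ⟨i, rfl⟩
    refine ⟨-i, ?_⟩
    rw [inv_eq_iff_mul_eq_one, a_mul_a, add_neg_cancel, a_zero]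

theorem mem_quatRot_iff (n : ℕ) (x : QuaternionGroup n) :
    x ∈ quatRot n ↔ ∃ i : ZMod (2 * n), x = a i := Iff.rfl

instance quatRot_normal (n : ℕ) : (quatRot n).Normal := by
  constructor
  intro x hx g
  rw [mem_quatRot_iff] at hx ⊢
  obtain ⟨i, rfl⟩ := hx
  cases g with
  | a j =>
    refine ⟨i, ?_⟩
    rw [mul_inv_eq_iff_eq_mul, a_mul_a, a_mul_a, add_comm]
  | xa j =>
    refine ⟨-i, ?_⟩
    rw [mul_inv_eq_iff_eq_mul, xa_mul_a, a_mul_xa, sub_neg_eq_add]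

instance quatRot_isCyclic (n : ℕ) [NeZero n] : IsCyclic (quatRot n) := by
  refine ⟨⟨⟨a 1, ⟨1, rfl⟩⟩, ?_⟩⟩
  rintro ⟨x, i, rfl⟩
  refine ⟨((i.val : ℕ) : ℤ), ?_⟩
  apply Subtype.ext
  change ((⟨a 1, ⟨1, rfl⟩⟩ : quatRot n) ^ ((i.val : ℕ) : ℤ) : quatRot n).1 = a i
  rw [zpow_natCast, Subgroup.coe_pow]
  change (a 1 : QuaternionGroup n) ^ i.val = a i
  rw [a_one_pow, ZMod.natCast_zmod_val]

theorem exists_zpow_mul_mem_quatRot (n : ℕ) (x : QuaternionGroup n) :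
    ∃ i : ℤ, (xa 0 : QuaternionGroup n) ^ i * x ∈ quatRot n := by
  cases x with
  | a j => exact ⟨0, by rw [zpow_zero, one_mul, mem_quatRot_iff]; exact ⟨j, rfl⟩⟩
  | xa j => exact ⟨1, by rw [zpow_one, xa_mul_xa, mem_quatRot_iff]; exact ⟨_, rfl⟩⟩

/-- a rotation commuting with `xa 0` satisfies `2 i = 0` -/
theorem quat_two_mul_eq_zero_of_commute (n : ℕ) (i : ZMod (2 * n))
    (h : (xa 0 : QuaternionGroup n) * a i = a i * xa 0) : 2 * i = 0 := by
  rw [xa_mul_a, a_mul_xa] at h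
  have h1 : (0 : ZMod (2 * n)) + i = 0 - i := by
    injection h
  have : i = -i := by simpa using h1
  calc 2 * i = i + i := two_mul i
    _ = i + -i := by rw [← this]
    _ = 0 := add_neg_cancel i

theorem quat_natCast_ne_zero (n : ℕ) [NeZero n] : ((n : ℕ) : ZMod (2 * n)) ≠ 0 := by
  rw [Ne, ZMod.natCast_eq_zero_iff]
  intro h
  have hn : 0 < n := Nat.pos_of_ne_zero (NeZero.ne n)
  have := Nat.le_of_dvd hn h
  omega

theorem quat_two_mul_natCast (n : ℕ) : (2 : ZMod (2 * n)) * ((n : ℕ) : ZMod (2 * n)) = 0 := by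
  have : (2 : ZMod (2 * n)) * ((n : ℕ) : ZMod (2 * n)) = ((2 * n : ℕ) : ZMod (2 * n)) := by
    push_cast; ring
  rw [this, ZMod.natCast_self]

end Cfsg.Agent.Helper20
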