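import Mathlib
import Cfsg.Agent.Lib.Helper24.RUDefs
import Cfsg.Agent.Lib.Helper24.CharIntegral
import Cfsg.Agent.Lib.Helper24.CharAlgebra
import Cfsg.Agent.Lib.Helper24.IPCen

/-!
# S4751, piece A1 (helper20): Clifford arithmetic for a root-of-unity character
-/

set_option autoImplicit false
set_option linter.style.haveILetI false

namespace Cfsg.Agent.Helper20.RUA1

/-- The arithmetic core: `e² t (q - t) = q - 1` with `e t ≠ 1` forces `e = 1`, `t = q - 1`. -/
theorem arith (e t q N : ℕ) (he : 1 ≤ e) (ht : 1 ≤ t) (hq : 2 ≤ q) (hN : N = e * t)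
    (hN1 : N ≠ 1) (heq : e * e * t * q + 1 = N * N + q) : e = 1 ∧ t = q - 1 ∧ 3 ≤ q := by
  subst hN
  have htq : t < q := by
    by_contra hcon
    push Not at hcon
    have h1 : e * e * t * q ≤ e * e * t * t := Nat.mul_le_mul_left _ hcon
    nlinarith
  obtain ⟨r, hr⟩ : ∃ r, q = t + r + 1 := ⟨q - t - 1, by omega⟩
  subst hr
  have h1 : e * e * t * (r + 1) = t + r := by nlinarith
  have hee : 1 ≤ e * e := Nat.one_le_iff_ne_zero.mpr (by positivity)
  have h2 : t * (r + 1) ≤ e * e * t * (r + 1) := by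
    calc t * (r + 1) = 1 * (t * (r + 1)) := by ring
      _ ≤ e * e * (t * (r + 1)) := Nat.mul_le_mul_right _ hee
      _ = e * e * t * (r + 1) := by ring
  have h3 : t * r ≤ r := by nlinarith
  rcases Nat.eq_zero_or_pos r with hr0 | hrpos
  · subst hr0
    have h4 : e * e * t = t := by simpa using h1
    have h5 : e * e = 1 := by
      have : e * e * t = 1 * t := by rw [h4, one_mul]
      exact Nat.eq_of_mul_eq_mul_right ht this
    have he1 : e = 1 := by
      rcases Nat.eq_or_lt_of_le he with h | h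
      · exact h.symm
      · nlinarith
    subst he1
    refine ⟨rfl, by omega, ?_⟩
    have : t ≠ 1 := by simpa using hN1
    omega
  · have ht1 : t = 1 := by
      have : t * r ≤ 1 * r := by simpa using h3
      have := Nat.le_of_mul_le_mul_right this hrpos
      omega
    subst ht1
    have h4 : e * e * (r + 1) = 1 * (r + 1) := by
      rw [one_mul]
      have := h1
      simp only [mul_one] at this
      omega
    have h5 : e * e = 1 := Nat.eq_of_mul_eq_mul_right (Nat.succ_pos r) h4
    have he1 : e = 1 := by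
      rcases Nat.eq_or_lt_of_le he with h | h
      · exact h.symm
      · nlinarith
    subst he1
    exact absurd rfl hN1

end Cfsg.Agent.Helper20.RUA1

namespace Cfsg.Agent.Helper24.RU

open Cfsg Cfsg.Agent.Helper24 Cfsg.Agent.Helper5 Cfsg.Agent.Helper18
open scoped ComplexConjugate

universe u

variable {G : Type u} [Group G] [Fintype G]

/-- PIECE A1 (Clifford arithmetic). -/
theorem exists_theta {p : ℕ} [Fact p.Prime] {χ : G → ℂ} (h : Hyp G p χ) (P : Subgroup G)
    [P.Normal] [Fintype P] (hP : IsPGroup p P) (hne : P ≠ ⊥) :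
    ∃ θ : P → ℂ, IsIrrCharacter P θ ∧ θ 1 = 1 ∧ classInner (fun n : P => χ n) θ = 1 ∧
      (inertia P θ).index = Nat.card P - 1 ∧ χ 1 = (Nat.card P : ℂ) - 1 ∧ 3 ≤ Nat.card P := by
  classical
  letI : Fintype (IrrCharacter P) := irrFintype
  have hp : p.Prime := Fact.out
  have hχ := h.irr
  have hχc := isCharacter_of_isIrrCharacter hχ
  have hcfG := isClassFunction_of_isIrrCharacter hχ
  set f : P → ℂ := fun n : P => χ n with hf
  have hfc : IsCharacter P f := isCharacter_restrict P hχc
  obtain ⟨N, hN0, hN⟩ := irr_one_eq hχ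
  have hf1 : f 1 = N := hN
  have hf0 : f ≠ 0 := by
    intro h0
    have h1 := congrFun h0 1
    rw [hf1] at h1
    have : (N : ℂ) ≠ 0 := by exact_mod_cast hN0.ne'
    exact this h1
  obtain ⟨θ, hθ, hcon⟩ := exists_constituent hfc hf0
  have hθc := isCharacter_of_isIrrCharacter hθ
  obtain ⟨e, he⟩ := classInner_char_nat hfc hθc
  have he0 : e ≠ 0 := by
    rintro rfl
    exact hcon (by simpa using he)
  obtain ⟨d, hd0, hd⟩ := irr_one_eq hθ
  set t := (inertia P θ).index with ht
  have ht0 : 0 < t := Nat.pos_of_ne_zero Subgroup.index_ne_zero_of_finite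
  have hdeg := degree_eq_of_constituent P hχ hθ hcon
  rw [he, hd, hN] at hdeg
  have hNetd : N = e * t * d := by exact_mod_cast hdeg
  -- the norm of `f`, first computation
  set S : Set (IrrCharacter P) := {φ | ∃ g : G, Cfsg.Agent.Helper5.conjFun P g θ = (φ : P → ℂ)} with hS
  have hcoef : ∀ ψ : IrrCharacter P,
      classInner f (ψ : P → ℂ) = if ψ ∈ S then (e : ℂ) else 0 := by
    intro ψ
    split_ifs with hψ
    · obtain ⟨g, hg⟩ := hψ
      rw [← hg, classInner_restrict_conjFun P g hcfG θ, he]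
    · by_contra hne'
      obtain ⟨x, hx⟩ := clifford_conj P hχ hθ ψ.2 hcon hne'
      exact hψ ⟨x, hx⟩
  have hcardS : (Finset.univ.filter (fun ψ : IrrCharacter P => ψ ∈ S)).card = t := by
    rw [ht, ← card_conjugates P hθ, Set.ncard_eq_toFinset_card']
    congr 1
    ext ψ
    simp [hS]
  have hfcf : IsClassFunction P f := isClassFunction_of_isCharacter hfc
  have hnorm1 : classInner f f = (e : ℂ) * e * t := by
    rw [classInner_eq_sum_mul hfcf f]
    simp only [hcoef]
    have hterm : ∀ ψ : IrrCharacter P,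
        (if ψ ∈ S then (e : ℂ) else 0) * conj (if ψ ∈ S then (e : ℂ) else 0) =
          if ψ ∈ S then (e : ℂ) * e else 0 := by
      intro ψ
      split_ifs <;> simp
    simp only [hterm]
    rw [← Finset.sum_filter, Finset.sum_const, nsmul_eq_mul, hcardS]
    ring
  -- second computation
  set q := Nat.card P with hq
  have hq0 : 0 < q := Nat.card_pos
  have hsum : ∑ a : P, Complex.normSq (f a) = (N : ℝ) ^ 2 + ((q : ℝ) - 1) := by
    rw [← Finset.add_sum_erase Finset.univ _ (Finset.mem_univ (1 : P))]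
    congr 1
    · rw [hf1, Complex.normSq_natCast]
      ring
    · have hone : ∀ a ∈ Finset.univ.erase (1 : P), Complex.normSq (f a) = 1 := by
        intro a ha
        have ha1 : a ≠ 1 := Finset.ne_of_mem_erase ha
        have ha1' : (a : G) ≠ 1 := fun h1 => ha1 (Subtype.ext h1)
        exact h.normSq_eq_one (dvd_orderOf_of_isPGroup hP a.2 ha1')
      rw [Finset.sum_congr rfl hone, Finset.sum_const, Finset.card_erase_of_mem (Finset.mem_univ _),
        Finset.card_univ, ← Nat.card_eq_fintype_card, ← hq]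
      rw [nsmul_eq_mul, mul_one, Nat.cast_sub hq0]
      simp
  have hnorm2 : classInner f f = (((q : ℝ)⁻¹ * ((N : ℝ) ^ 2 + ((q : ℝ) - 1)) : ℝ) : ℂ) := by
    rw [Cfsg.Agent.Helper24.IP.classInner_self_eq_real, hsum]
  have hreal : (e : ℝ) * e * t * q + 1 = (N : ℝ) * N + q := by
    have h1 : ((e : ℂ) * e * t) = (((e : ℝ) * e * t : ℝ) : ℂ) := by push_cast; ring
    rw [hnorm1, h1] at hnorm2
    have h2 : (e : ℝ) * e * t = (q : ℝ)⁻¹ * ((N : ℝ) ^ 2 + ((q : ℝ) - 1)) := by
      exact_mod_cast hnorm2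
    have hq' : (q : ℝ) ≠ 0 := by exact_mod_cast hq0.ne'
    rw [h2]
    field_simp
    ring
  have hnat : e * e * t * q + 1 = N * N + q := by exact_mod_cast hreal
  -- `q` is a nontrivial power of `p`
  obtain ⟨a, ha⟩ := hP.exists_card_eq
  have hq2 : 2 ≤ q := by
    have h1 : q ≠ 1 := by
      intro h1
      exact hne ((Subgroup.card_eq_one).mp h1)
    omega
  have ha0 : a ≠ 0 := by
    rintro rfl
    rw [← hq] at ha
    simp at ha
    omega
  have hpq : p ∣ q := by
    rw [hq, ha]
    exact dvd_pow_self p ha0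
  -- `d = 1`
  have hdq : d ∣ q := by
    have h1 := charDegree_dvd_card hθ
    rwa [charDegree_natCast d hd] at h1
  have hd1 : d = 1 := by
    by_contra hd1
    rw [hq, ha] at hdq
    obtain ⟨b, -, hb⟩ := (Nat.dvd_prime_pow hp).mp hdq
    have hb0 : b ≠ 0 := by
      rintro rfl
      exact hd1 (by simpa using hb)
    have hpd : p ∣ d := by
      rw [hb]
      exact dvd_pow_self p hb0
    have hpN : p ∣ N * N := by
      rw [hNetd]
      exact Dvd.dvd.mul_left (Dvd.dvd.mul_left hpd _) _
    have h1 : p ∣ N * N + q := dvd_add hpN hpq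
    have h2 : p ∣ e * e * t * q := Dvd.dvd.mul_left hpq _
    rw [← hnat] at h1
    have h3 : p ∣ 1 := (Nat.dvd_add_right h2).mp h1
    exact hp.one_lt.ne' (Nat.dvd_one.mp h3)
  subst hd1
  have hN1 : N ≠ 1 := by
    intro h1
    apply h.nl
    rw [hN, h1]
    simp
  have hNet : N = e * t := by rw [hNetd, mul_one]
  obtain ⟨he1, ht1, h3⟩ := Cfsg.Agent.Helper20.RUA1.arith e t q N
    (Nat.one_le_iff_ne_zero.mpr he0) ht0 hq2 hNet hN1 hnat
  refine ⟨θ, hθ, by rw [hd]; simp, by rw [he, he1]; simp, ht1, ?_, h3⟩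
  rw [hN, hNet, he1, ht1, one_mul, Nat.cast_sub hq0]
  simp

end Cfsg.Agent.Helper24.RU
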