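import Mathlib
import Cfsg.Agent.Lib.Helper20.Basic
import Cfsg.Agent.Lib.Helper20.PrimaryParts

set_option autoImplicit false

namespace Cfsg.Agent.Helper20

variable {G : Type*} [Group G]

/-- The closure of a conjugation-invariant set is a normal subgroup. -/
theorem closure_normal_of_conj_invariant (s : Set G) (hs : ∀ g x, x ∈ s → g * x * g⁻¹ ∈ s) :
    (Subgroup.closure s).Normal := by
  constructor
  intro n hn g
  have h : (Subgroup.closure s).map (MulAut.conj g).toMonoidHom ≤ Subgroup.closure s := by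
    rw [MonoidHom.map_closure, Subgroup.closure_le]
    rintro _ ⟨x, hx, rfl⟩
    exact Subgroup.subset_closure (hs g x hx)
  exact h ⟨n, hn, rfl⟩

/-- An element of odd order lies in the cyclic group generated by its square. -/
theorem eq_sq_pow_of_odd_orderOf {v : G} (hv : Odd (orderOf v)) :
    ∃ k : ℕ, v = (v ^ 2) ^ k := by
  obtain ⟨m, hm⟩ := hv
  refine ⟨m + 1, ?_⟩
  rw [← pow_mul]
  have : 2 * (m + 1) = orderOf v + 1 := by omega
  rw [this, pow_succ, pow_orderOf_eq_one, one_mul]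

/-- If `g` inverts `x`, then so does the `2`-part of `g`. -/
theorem exists_two_element_inverting [Finite G] {g x : G} (h : g * x * g⁻¹ = x⁻¹) :
    ∃ u : G, (∃ k : ℕ, orderOf u = 2 ^ k) ∧ u * x * u⁻¹ = x⁻¹ := by
  have : Fact (Nat.Prime 2) := ⟨Nat.prime_two⟩
  obtain ⟨u, v, huv, hcomm, hu, hv, huz, hvz⟩ := exists_pPart_decomp 2 g (orderOf_pos g)
  refine ⟨u, hu, ?_⟩
  -- g^2 commutes with x
  have hg2 : g ^ 2 * x = x * g ^ 2 := by
    have h1 : g * x = x⁻¹ * g := by rw [← h]; group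
    have h2 : g * x⁻¹ = x * g := by
      calc g * x⁻¹ = x * (x⁻¹ * g) * x⁻¹ := by group
        _ = x * (g * x) * x⁻¹ := by rw [h1]
        _ = x * g := by group
    calc g ^ 2 * x = g * (g * x) := by rw [pow_two, mul_assoc]
      _ = g * (x⁻¹ * g) := by rw [h1]
      _ = (g * x⁻¹) * g := by rw [mul_assoc]
      _ = x * g * g := by rw [h2]
      _ = x * g ^ 2 := by rw [pow_two, mul_assoc]
  have hodd : Odd (orderOf v) := by
    rw [Nat.odd_iff]
    rcases Nat.mod_two_eq_zero_or_one (orderOf v) with h0 | h1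
    · exfalso
      have : 2 ∣ Nat.gcd (orderOf v) 2 := Nat.dvd_gcd (Nat.dvd_of_mod_eq_zero h0) (dvd_refl 2)
      rw [hv] at this
      omega
    · exact h1
  obtain ⟨k, hk⟩ := eq_sq_pow_of_odd_orderOf hodd
  obtain ⟨i, hi⟩ := Subgroup.mem_zpowers_iff.mp hvz
  -- v commutes with x
  have hvx : v * x = x * v := by
    have hv2 : v ^ 2 = (g ^ 2) ^ i := by
      rw [← hi, ← zpow_natCast, ← zpow_mul, ← zpow_natCast, ← zpow_mul, mul_comm]
    have hc : Commute (g ^ 2) x := hg2
    have hc2 : Commute (v ^ 2) x := by rw [hv2]; exact hc.zpow_left i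
    have hc3 : Commute ((v ^ 2) ^ k) x := hc2.pow_left k
    rw [← hk] at hc3
    exact hc3
  have hu' : u = g * v⁻¹ := by rw [huv]; group
  rw [hu']
  have hvx' : v⁻¹ * x * v = x := by
    rw [mul_assoc, ← hvx, ← mul_assoc, inv_mul_cancel, one_mul]
  calc g * v⁻¹ * x * (g * v⁻¹)⁻¹ = g * (v⁻¹ * x * v) * g⁻¹ := by group
    _ = g * x * g⁻¹ := by rw [hvx']
    _ = x⁻¹ := h

/-- A real element that is not an involution (or trivial) has a conjugacy class of even size. -/
theorem even_index_centralizer_of_real [Finite G] {x : G} (hreal : IsConj x x⁻¹)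
    (hx : x ^ 2 ≠ 1) : 2 ∣ (Subgroup.centralizer ({x} : Set G)).index := by
  classical
  have : Fact (Nat.Prime 2) := ⟨Nat.prime_two⟩
  by_contra hodd
  rw [← card_isConj_eq_index] at hodd
  have : Fintype {h : G // IsConj x h} := Fintype.ofFinite _
  rw [Nat.card_eq_fintype_card] at hodd
  -- the inversion permutation
  have hinv : ∀ h : G, IsConj x h → IsConj x h⁻¹ := by
    intro h hh
    obtain ⟨c, hc⟩ := isConj_iff.mp hh
    obtain ⟨d, hd⟩ := isConj_iff.mp hreal
    refine isConj_iff.mpr ⟨c * d, ?_⟩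
    rw [← hc]
    calc c * d * x * (c * d)⁻¹ = c * (d * x * d⁻¹) * c⁻¹ := by group
      _ = c * x⁻¹ * c⁻¹ := by rw [hd]
      _ = (c * x * c⁻¹)⁻¹ := by group
  let σ : Equiv.Perm {h : G // IsConj x h} :=
    { toFun := fun h => ⟨h.1⁻¹, hinv h.1 h.2⟩
      invFun := fun h => ⟨h.1⁻¹, hinv h.1 h.2⟩
      left_inv := fun h => Subtype.ext (inv_inv _)
      right_inv := fun h => Subtype.ext (inv_inv _) }
  have hσ : σ ^ 2 ^ 1 = 1 := by
    ext h
    simp [σ, pow_two]
  obtain ⟨a, ha⟩ := Equiv.Perm.exists_fixed_point_of_prime (p := 2) (n := 1) hodd hσ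
  have ha' : (a : G)⁻¹ = a := congrArg Subtype.val ha
  obtain ⟨c, hc⟩ := isConj_iff.mp a.2
  apply hx
  have h1 : (a : G) ^ 2 = 1 := by
    rw [pow_two]
    nth_rewrite 1 [← ha']
    exact inv_mul_cancel _
  have h2 : x = c⁻¹ * a * c := by rw [← hc]; group
  rw [h2]
  calc (c⁻¹ * ↑a * c) ^ 2 = c⁻¹ * ((a : G) * (a : G)) * c := by rw [pow_two]; group
    _ = 1 := by rw [← pow_two, h1]; group

end Cfsg.Agent.Helper20
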