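import Mathlib
import Cfsg.Agent.Lib.Helper23.S63Defs

/-!
# S2863 piece S63-FPFMISC (helper20 for helper23): `FPF` is invariant under conjugation by `L` and
under right multiplication by `A`.
-/

set_option autoImplicit false

namespace Cfsg.Agent.Helper23.S63

open Cfsg
open scoped Pointwise

/-- elements of `C_Y(L)` commute with the elements of `L` -/
theorem s63_fpfmisc_comm {G : Type*} [Group G] {L Y : Subgroup G} {c : G} (hc : c ∈ Cc L Y)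
    {g : G} (hg : g ∈ L) : g * c = c * g :=
  (Subgroup.mem_centralizer_iff.1 (Subgroup.mem_inf.1 hc).2) g hg

/-- a conjugate by an element of `L` of an element of `C_Y(L)` is the element itself -/
theorem s63_fpfmisc_conj_eq {G : Type*} [Group G] {L Y : Subgroup G} {c : G} (hc : c ∈ Cc L Y)
    {g : G} (hg : g ∈ L) : g * c * g⁻¹ = c := by
  rw [s63_fpfmisc_comm hc hg, mul_assoc, mul_inv_cancel, mul_one]

theorem fpf_conj {G : Type*} [Group G] {L Y A : Subgroup G} (h : Ctx L Y A) (x : G) (hx : x ∈ L)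
    (y : G) (hy : FPF L Y A y) : FPF L Y A (x * y * x⁻¹) := by
  intro a ha hmem
  have hxi : x⁻¹ ∈ L := L.inv_mem hx
  have ha' : x⁻¹ * a * x ∈ A := by
    have := h.Anorm x⁻¹ hxi a ha
    rwa [inv_inv] at this
  -- the commutator conjugated back
  have e : x⁻¹ * ((x * y * x⁻¹) * a * (x * y * x⁻¹)⁻¹ * a⁻¹) * x⁻¹⁻¹ =
      y * (x⁻¹ * a * x) * y⁻¹ * (x⁻¹ * a * x)⁻¹ := by group
  have h1 : y * (x⁻¹ * a * x) * y⁻¹ * (x⁻¹ * a * x)⁻¹ ∈ Cc L Y := by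
    rw [← e, s63_fpfmisc_conj_eq hmem hxi]; exact hmem
  have h2 : x⁻¹ * a * x ∈ Cc L Y := hy _ ha' h1
  have h3 : x * (x⁻¹ * a * x) * x⁻¹ = x⁻¹ * a * x := s63_fpfmisc_conj_eq h2 hx
  have h4 : x * (x⁻¹ * a * x) * x⁻¹ = a := by group
  rw [h4] at h3
  rw [h3]; exact h2

theorem fpf_mul_right {G : Type*} [Group G] {L Y A : Subgroup G} (h : Ctx L Y A)
    (hcomm : ∀ a ∈ A, ∀ b ∈ A, a * b * a⁻¹ * b⁻¹ ∈ Cc L Y)
    (y : G) (hyL : y ∈ L) (hy : FPF L Y A y) (a0 : G) (ha0 : a0 ∈ A) : FPF L Y A (y * a0) := by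
  intro a ha hmem
  have hc0 : a0 * a * a0⁻¹ * a⁻¹ ∈ Cc L Y := hcomm a0 ha0 a ha
  have hcy : y * (a0 * a * a0⁻¹ * a⁻¹) = (a0 * a * a0⁻¹ * a⁻¹) * y := s63_fpfmisc_comm hc0 hyL
  have e : (y * a0) * a * (y * a0)⁻¹ * a⁻¹ =
      (y * (a0 * a * a0⁻¹ * a⁻¹)) * a * y⁻¹ * a⁻¹ := by group
  have e2 : y * a * y⁻¹ * a⁻¹ =
      (a0 * a * a0⁻¹ * a⁻¹)⁻¹ * ((y * a0) * a * (y * a0)⁻¹ * a⁻¹) := by
    rw [e, hcy]; group
  apply hy a ha
  rw [e2]
  exact (Cc L Y).mul_mem ((Cc L Y).inv_mem hc0) hmem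

end Cfsg.Agent.Helper23.S63
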