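import Mathlib
import Cfsg.Agent.Lib.Helper23.S63Defs
import Cfsg.Agent.Lib.Helper12.SL2Unip
import Cfsg.Agent.Lib.Helper2.S63SL2CONJ
import Cfsg.Agent.Lib.Helper22.S63SL2Q8

/-!
# S2863 piece S63-SL2STD (helper20 for helper23): every non-`p`-element of `SL₂(F)` is `Good`.
The core takes the statements of `sl2_conj_prod` and `sl2_q8` as hypotheses.
-/

set_option autoImplicit false

namespace Cfsg.Agent.Helper23.S63

open Cfsg Cfsg.Agent.Helper12
open scoped Pointwise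

theorem s63_sl2std_mem_conj {T : Type*} [Group T] (g x : T) (S : Subgroup T) :
    x ∈ MulAut.conj g • S ↔ g⁻¹ * x * g ∈ S := by
  rw [Subgroup.mem_pointwise_smul_iff_inv_smul_mem]
  rw [MulAut.smul_def, ← map_inv, MulAut.conj_apply, inv_inv]

/-- `[[1, a], [0, 1]]` -/
def s63_sl2std_u {F : Type*} [Field F] (a : F) : Matrix.SpecialLinearGroup (Fin 2) F :=
  ⟨!![1, a; 0, 1], by simp [Matrix.det_fin_two]⟩

/-- `[[1, 0], [b, 1]]` -/
def s63_sl2std_l {F : Type*} [Field F] (b : F) : Matrix.SpecialLinearGroup (Fin 2) F :=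
  ⟨!![1, 0; b, 1], by simp [Matrix.det_fin_two]⟩

/-- `[[0, 1], [-1, 0]]` -/
def s63_sl2std_w (F : Type*) [Field F] : Matrix.SpecialLinearGroup (Fin 2) F :=
  ⟨!![0, 1; -1, 0], by simp [Matrix.det_fin_two]⟩

theorem s63_sl2std_u_coe {F : Type*} [Field F] (a : F) :
    ((s63_sl2std_u a : Matrix.SpecialLinearGroup (Fin 2) F) : Matrix (Fin 2) (Fin 2) F) =
      !![1, a; 0, 1] := rfl

theorem s63_sl2std_l_coe {F : Type*} [Field F] (b : F) :
    ((s63_sl2std_l b : Matrix.SpecialLinearGroup (Fin 2) F) : Matrix (Fin 2) (Fin 2) F) =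
      !![1, 0; b, 1] := rfl

theorem s63_sl2std_w_coe {F : Type*} [Field F] :
    ((s63_sl2std_w F : Matrix.SpecialLinearGroup (Fin 2) F) : Matrix (Fin 2) (Fin 2) F) =
      !![0, 1; -1, 0] := rfl

/-- the statement of `sl2_conj_prod` -/
def s63_sl2std_ConjStmt (F : Type*) [Field F] : Prop :=
  ∀ x : Matrix.SpecialLinearGroup (Fin 2) F,
    (¬ ((x : Matrix (Fin 2) (Fin 2) F) 0 1 = 0 ∧ (x : Matrix (Fin 2) (Fin 2) F) 1 0 = 0 ∧
      (x : Matrix (Fin 2) (Fin 2) F) 0 0 = (x : Matrix (Fin 2) (Fin 2) F) 1 1)) →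
    (x : Matrix (Fin 2) (Fin 2) F).trace ≠ 2 →
    ∃ (c : Matrix.SpecialLinearGroup (Fin 2) F) (a b : F), a ≠ 0 ∧ b ≠ 0 ∧
      ((c * x * c⁻¹ : Matrix.SpecialLinearGroup (Fin 2) F) : Matrix (Fin 2) (Fin 2) F) =
        !![1 + a * b, a; b, 1]

/-- the statement of `sl2_q8` -/
def s63_sl2std_Q8Stmt (F : Type*) [Field F] : Prop :=
  (2 : F) ≠ 0 →
    ∃ i j : Matrix.SpecialLinearGroup (Fin 2) F,
      (i : Matrix (Fin 2) (Fin 2) F).trace = 0 ∧ (j : Matrix (Fin 2) (Fin 2) F).trace = 0 ∧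
      ((i * j : Matrix.SpecialLinearGroup (Fin 2) F) : Matrix (Fin 2) (Fin 2) F).trace = 0 ∧
      i * i = -1 ∧ j * j = -1 ∧ (i * j) * (i * j) = -1

/-- a non-scalar element of trace `≠ 2` is a product in general position -/
theorem s63_sl2std_isProd {F : Type*} [Field F] (hC : s63_sl2std_ConjStmt F)
    (x : Matrix.SpecialLinearGroup (Fin 2) F)
    (hns : ¬ ((x : Matrix (Fin 2) (Fin 2) F) 0 1 = 0 ∧ (x : Matrix (Fin 2) (Fin 2) F) 1 0 = 0 ∧
      (x : Matrix (Fin 2) (Fin 2) F) 0 0 = (x : Matrix (Fin 2) (Fin 2) F) 1 1))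
    (htr : (x : Matrix (Fin 2) (Fin 2) F).trace ≠ 2) :
    IsProd (borelSL2 F) (unipSL2 F) x := by
  obtain ⟨c, a, b, ha, hb, hc⟩ := hC x hns htr
  refine ⟨c, s63_sl2std_w F, s63_sl2std_u a, ?_, s63_sl2std_l b, ?_, ?_, ?_, ?_⟩
  · rw [mem_unipSL2_iff, s63_sl2std_u_coe]
    simp
  · rw [s63_sl2std_mem_conj, mem_unipSL2_iff]
    rw [Matrix.SpecialLinearGroup.coe_mul, Matrix.SpecialLinearGroup.coe_mul,
      Matrix.SpecialLinearGroup.coe_inv, s63_sl2std_w_coe, s63_sl2std_l_coe,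
      Matrix.adjugate_fin_two]
    simp [Matrix.mul_apply, Fin.sum_univ_two]
  · rw [s63_sl2std_mem_conj, mem_borelSL2_iff]
    rw [Matrix.SpecialLinearGroup.coe_mul, Matrix.SpecialLinearGroup.coe_mul,
      Matrix.SpecialLinearGroup.coe_inv, s63_sl2std_w_coe, s63_sl2std_u_coe,
      Matrix.adjugate_fin_two]
    simp [Matrix.mul_apply, Fin.sum_univ_two, ha]
  · rw [mem_borelSL2_iff, s63_sl2std_l_coe]
    simp [hb]
  · apply Subtype.ext
    rw [hc, Matrix.SpecialLinearGroup.coe_mul, s63_sl2std_u_coe, s63_sl2std_l_coe,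
      Matrix.mul_fin_two]
    simp

/-- an element of trace `2` has order dividing `p` -/
theorem s63_sl2std_pow_eq_one {F : Type*} [Field F] (p : ℕ) [Fact p.Prime] [CharP F p]
    (x : Matrix.SpecialLinearGroup (Fin 2) F)
    (htr : (x : Matrix (Fin 2) (Fin 2) F).trace = 2) : x ^ p = 1 := by
  have hd := x.2
  rw [Matrix.det_fin_two] at hd
  rw [Matrix.trace_fin_two] at htr
  have hN : ((x : Matrix (Fin 2) (Fin 2) F) - 1) * ((x : Matrix (Fin 2) (Fin 2) F) - 1) = 0 := by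
    have h11 : (x : Matrix (Fin 2) (Fin 2) F) 1 1 = 2 - (x : Matrix (Fin 2) (Fin 2) F) 0 0 := by
      linear_combination htr
    ext i j
    fin_cases i <;> fin_cases j <;>
      simp [Matrix.mul_apply, Fin.sum_univ_two, Matrix.one_apply]
    · rw [h11] at hd; linear_combination (-1 : F) * hd
    · rw [h11]; ring
    · rw [h11]; ring
    · rw [h11] at hd ⊢; linear_combination (-1 : F) * hd
  have hp2 : 2 ≤ p := (Fact.out : p.Prime).two_le
  have hNp : ((x : Matrix (Fin 2) (Fin 2) F) - 1) ^ p = 0 := by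
    obtain ⟨k, rfl⟩ := Nat.exists_eq_add_of_le hp2
    rw [pow_add, pow_two, hN, zero_mul]
  have hM : (x : Matrix (Fin 2) (Fin 2) F) ^ p = 1 := by
    have hcomm : Commute ((x : Matrix (Fin 2) (Fin 2) F) - 1) 1 := Commute.one_right _
    have h := add_pow_char_of_commute (R := Matrix (Fin 2) (Fin 2) F) (p := p) hcomm
    rw [sub_add_cancel, hNp, one_pow, zero_add] at h
    exact h
  apply Subtype.ext
  rw [Matrix.SpecialLinearGroup.coe_pow, hM]
  rfl

/-- an element of trace `0` in odd characteristic is a product in general position -/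
theorem s63_sl2std_isProd_of_trace_zero {F : Type*} [Field F] (hC : s63_sl2std_ConjStmt F)
    (h2 : (2 : F) ≠ 0) (y : Matrix.SpecialLinearGroup (Fin 2) F)
    (hy : (y : Matrix (Fin 2) (Fin 2) F).trace = 0) :
    IsProd (borelSL2 F) (unipSL2 F) y := by
  apply s63_sl2std_isProd hC
  · rintro ⟨h01, h10, h00⟩
    have hd := y.2
    rw [Matrix.det_fin_two, h01, h10, ← h00] at hd
    rw [Matrix.trace_fin_two, ← h00] at hy
    have h0 : (y : Matrix (Fin 2) (Fin 2) F) 0 0 = 0 := by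
      have : (2 : F) * (y : Matrix (Fin 2) (Fin 2) F) 0 0 = 0 := by linear_combination hy
      rcases mul_eq_zero.1 this with h | h
      · exact absurd h h2
      · exact h
    rw [h0] at hd
    simp at hd
  · rw [hy]
    exact fun h => h2 h.symm

/-- the core of S63-SL2STD -/
theorem s63_sl2std_good_core {F : Type*} [Field F] (p : ℕ) [Fact p.Prime] [CharP F p]
    (hC : s63_sl2std_ConjStmt F) (hQ : s63_sl2std_Q8Stmt F)
    (x : Matrix.SpecialLinearGroup (Fin 2) F) (hx : ¬ ∃ k : ℕ, orderOf x = p ^ k) :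
    Good p (borelSL2 F) (unipSL2 F) x := by
  have hxp : x ^ p ≠ 1 := by
    intro h
    have hdvd := orderOf_dvd_of_pow_eq_one h
    rcases (Nat.dvd_prime (Fact.out : p.Prime)).1 hdvd with h1 | h1
    · exact hx ⟨0, by rw [h1, pow_zero]⟩
    · exact hx ⟨1, by rw [h1, pow_one]⟩
  have htr : (x : Matrix (Fin 2) (Fin 2) F).trace ≠ 2 :=
    fun h => hxp (s63_sl2std_pow_eq_one p x h)
  by_cases hs : ((x : Matrix (Fin 2) (Fin 2) F) 0 1 = 0 ∧ (x : Matrix (Fin 2) (Fin 2) F) 1 0 = 0 ∧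
      (x : Matrix (Fin 2) (Fin 2) F) 0 0 = (x : Matrix (Fin 2) (Fin 2) F) 1 1)
  · obtain ⟨h01, h10, h00⟩ := hs
    have hd := x.2
    rw [Matrix.det_fin_two, h01, h10, ← h00] at hd
    have hsq : ((x : Matrix (Fin 2) (Fin 2) F) 0 0 - 1) * ((x : Matrix (Fin 2) (Fin 2) F) 0 0 + 1)
        = 0 := by linear_combination hd
    have hne1 : (x : Matrix (Fin 2) (Fin 2) F) 0 0 ≠ 1 := by
      intro h1
      apply htr
      rw [Matrix.trace_fin_two, ← h00, h1]
      norm_num
    have hm1 : (x : Matrix (Fin 2) (Fin 2) F) 0 0 = -1 := by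
      rcases mul_eq_zero.1 hsq with h | h
      · exact absurd (sub_eq_zero.1 h) hne1
      · exact eq_neg_of_add_eq_zero_left h
    have h2 : (2 : F) ≠ 0 := by
      intro h2
      apply hne1
      rw [hm1]
      linear_combination (-1 : F) * h2
    have hp2 : p ≠ 2 := by
      intro hp
      apply h2
      have := CharP.cast_eq_zero F p
      rw [hp] at this
      exact_mod_cast this
    have hxm : x = -1 := by
      apply Subtype.ext
      rw [Matrix.SpecialLinearGroup.coe_neg, Matrix.SpecialLinearGroup.coe_one]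
      ext i j
      fin_cases i <;> fin_cases j <;> simp [h01, h10, hm1, ← h00]
    obtain ⟨i, j, ti, tj, tij, hii, hjj, hijij⟩ := hQ h2
    refine Or.inr ⟨hp2, i, j, s63_sl2std_isProd_of_trace_zero hC h2 i ti,
      s63_sl2std_isProd_of_trace_zero hC h2 j tj,
      s63_sl2std_isProd_of_trace_zero hC h2 (i * j) tij, ?_, ?_, ?_⟩
    · rw [hii, hxm]
    · rw [hjj, hxm]
    · rw [hijij, hxm]
  · exact Or.inl (s63_sl2std_isProd hC x hs htr)

/-- PIECE S63-SL2STD -/
theorem sl2_good {F : Type*} [Field F] [Fintype F] (p : ℕ) [Fact p.Prime] [CharP F p]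
    (x : Matrix.SpecialLinearGroup (Fin 2) F) (hx : ¬ ∃ k : ℕ, orderOf x = p ^ k) :
    Good p (borelSL2 F) (unipSL2 F) x :=
  s63_sl2std_good_core p (fun y hns htr => sl2_conj_prod y hns htr) (fun h2 => sl2_q8 h2) x hx

end Cfsg.Agent.Helper23.S63
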