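import Mathlib
import Cfsg.Agent.Lib.Helper23.S63Defs

/-!
# S2863 piece S63-T2GLUE (helper20 for helper23): conjugation bookkeeping on the target side.
-/

set_option autoImplicit false

namespace Cfsg.Agent.Helper23.S63

open Cfsg
open scoped Pointwise

theorem s63_t2glue_mem_conj {T : Type*} [Group T] (g x : T) (S : Subgroup T) :
    x ∈ MulAut.conj g • S ↔ g⁻¹ * x * g ∈ S := by
  rw [Subgroup.mem_pointwise_smul_iff_inv_smul_mem]
  rw [MulAut.smul_def, ← map_inv, MulAut.conj_apply, inv_inv]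

/-- `IsProd` is transported by conjugation -/
theorem s63_t2glue_isProd_conj {T : Type*} [Group T] (B Y : Subgroup T) (k x : T)
    (h : IsProd B Y x) :
    IsProd (MulAut.conj k • B) (MulAut.conj k • Y) (k * x * k⁻¹) := by
  obtain ⟨c, g, t, ht, s, hs, htB, hsB, heq⟩ := h
  refine ⟨k * c * k⁻¹, k * g * k⁻¹, k * t * k⁻¹, ?_, k * s * k⁻¹, ?_, ?_, ?_, ?_⟩
  · rw [s63_t2glue_mem_conj]
    have : k⁻¹ * (k * t * k⁻¹) * k = t := by group
    rwa [this]
  · rw [s63_t2glue_mem_conj, s63_t2glue_mem_conj]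
    rw [s63_t2glue_mem_conj] at hs
    have : k⁻¹ * ((k * g * k⁻¹)⁻¹ * (k * s * k⁻¹) * (k * g * k⁻¹)) * k = g⁻¹ * s * g := by group
    rwa [this]
  · intro hmem
    apply htB
    rw [s63_t2glue_mem_conj, s63_t2glue_mem_conj] at hmem
    rw [s63_t2glue_mem_conj]
    have : k⁻¹ * ((k * g * k⁻¹)⁻¹ * (k * t * k⁻¹) * (k * g * k⁻¹)) * k = g⁻¹ * t * g := by group
    rwa [this] at hmem
  · intro hmem
    apply hsB
    rw [s63_t2glue_mem_conj] at hmem
    have : k⁻¹ * (k * s * k⁻¹) * k = s := by group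
    rwa [this] at hmem
  · have : k * c * k⁻¹ * (k * x * k⁻¹) * (k * c * k⁻¹)⁻¹ = k * (c * x * c⁻¹) * k⁻¹ := by group
    rw [this, heq]; group

/-- `Good` is transported by conjugation -/
theorem s63_t2glue_good_conj {T : Type*} [Group T] (p : ℕ) (B Y : Subgroup T) (k x : T)
    (h : Good p B Y x) :
    Good p (MulAut.conj k • B) (MulAut.conj k • Y) (k * x * k⁻¹) := by
  rcases h with h | ⟨hp, i, j, hi, hj, hij, hii, hjj, hijij⟩
  · exact Or.inl (s63_t2glue_isProd_conj B Y k x h)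
  · refine Or.inr ⟨hp, k * i * k⁻¹, k * j * k⁻¹, s63_t2glue_isProd_conj B Y k i hi,
      s63_t2glue_isProd_conj B Y k j hj, ?_, ?_, ?_, ?_⟩
    · have e : k * i * k⁻¹ * (k * j * k⁻¹) = k * (i * j) * k⁻¹ := by group
      rw [e]; exact s63_t2glue_isProd_conj B Y k (i * j) hij
    · rw [← hii]; group
    · rw [← hjj]; group
    · rw [← hijij]; group

/-- PIECE S63-T2GLUE -/
theorem target2_of_conj {T : Type*} [Group T] (p q : ℕ) (U0 B0 : Subgroup T)
    (hstd : ∀ x : T, (¬ ∃ k : ℕ, orderOf x = p ^ k) → Good p B0 U0 x)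
    (hconj : ∀ B Y : Subgroup T, IsCoatom B → Y ≤ B → (∀ b ∈ B, ∀ y ∈ Y, b * y * b⁻¹ ∈ Y) →
      IsElementaryAbelian p Y → Nat.card Y = q →
      ∃ g : T, Y = MulAut.conj g • U0 ∧ B = MulAut.conj g • B0) :
    Target2 p q T := by
  intro B Y hB hYB hBY hYel hYcard _ x hx
  obtain ⟨g, hY, hBg⟩ := hconj B Y hB hYB hBY hYel hYcard
  have hord : orderOf (g⁻¹ * x * g) = orderOf x := by
    have := orderOf_injective (MulAut.conj g⁻¹).toMonoidHom (MulAut.conj g⁻¹).injective x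
    simpa [MulAut.conj_apply] using this
  have hx' : ¬ ∃ k : ℕ, orderOf (g⁻¹ * x * g) = p ^ k := by rwa [hord]
  have h := s63_t2glue_good_conj p B0 U0 g (g⁻¹ * x * g) (hstd _ hx')
  have e : g * (g⁻¹ * x * g) * g⁻¹ = x := by group
  rw [e] at h
  rw [hY, hBg]
  exact h

end Cfsg.Agent.Helper23.S63
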