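import Mathlib
import Cfsg.Prelude.Def_GeometricClasses

/-!
# S5876 (helper20): shared definitions

Primitive irreducible soluble `G ≤ GL_n(F)`: every `g ≠ 1` has `dim ker(g - 1) ≤ 3n/4`.
See `plans/S5876_plan.md`.

* `fx g`      : the fixed space `ker(g - 1)` (as `Module.End.eigenspace (Matrix.toLin' g) 1`).
* `mv a U`    : the image `a U` of a subspace.
* `conjSet G z` : the `G`-conjugates `a z a⁻¹` (`a ∈ G`) of `z`.
* `K S`       : the common fixed space `⨅ s ∈ S, fx s`.
* `Cand G z`  : the non-zero subspaces `K S`, `∅ ≠ S ⊆ conjSet G z`.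
* `IsMinCand G z U` : `U ∈ Cand G z` of least dimension.
* `ANin G z`  : the `G`-conjugates of `z` commute pairwise.
* `AN z`      : the same in an abstract group.
-/

set_option autoImplicit false

namespace Cfsg.Agent.Helper20.S76

open Module

section lin
variable {F : Type*} [Field F] {n : ℕ}

/-- the fixed space `ker(g - 1)` of `g` -/
abbrev fx (g : Matrix.GeneralLinearGroup (Fin n) F) : Submodule F (Fin n → F) :=
  Module.End.eigenspace (Matrix.toLin' (g : Matrix (Fin n) (Fin n) F)) 1

/-- the image `a U` of the subspace `U` under `a` -/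
abbrev mv (a : Matrix.GeneralLinearGroup (Fin n) F) (U : Submodule F (Fin n → F)) :
    Submodule F (Fin n → F) :=
  U.map (Matrix.toLin' (a : Matrix (Fin n) (Fin n) F))

/-- the `G`-conjugates of `z` -/
def conjSet (G : Subgroup (Matrix.GeneralLinearGroup (Fin n) F))
    (z : Matrix.GeneralLinearGroup (Fin n) F) : Set (Matrix.GeneralLinearGroup (Fin n) F) :=
  {s | ∃ a ∈ G, s = a * z * a⁻¹}

/-- the common fixed space of a set of matrices -/
def K (S : Set (Matrix.GeneralLinearGroup (Fin n) F)) : Submodule F (Fin n → F) :=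
  ⨅ s ∈ S, fx s

/-- the candidate subspaces: non-zero common fixed spaces of non-empty sets of conjugates of `z` -/
def Cand (G : Subgroup (Matrix.GeneralLinearGroup (Fin n) F))
    (z : Matrix.GeneralLinearGroup (Fin n) F) : Set (Submodule F (Fin n → F)) :=
  {U | U ≠ ⊥ ∧ ∃ S : Set (Matrix.GeneralLinearGroup (Fin n) F),
    S ⊆ conjSet G z ∧ S.Nonempty ∧ U = K S}

/-- a candidate of least dimension -/
def IsMinCand (G : Subgroup (Matrix.GeneralLinearGroup (Fin n) F))
    (z : Matrix.GeneralLinearGroup (Fin n) F) (U : Submodule F (Fin n → F)) : Prop :=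
  U ∈ Cand G z ∧ ∀ U' ∈ Cand G z, finrank F U ≤ finrank F U'

/-- the `G`-conjugates of `z` commute pairwise -/
def ANin (G : Subgroup (Matrix.GeneralLinearGroup (Fin n) F))
    (z : Matrix.GeneralLinearGroup (Fin n) F) : Prop :=
  ∀ a ∈ G, ∀ b ∈ G, Commute (a * z * a⁻¹) (b * z * b⁻¹)

end lin

/-- all conjugates of `z` commute pairwise (abstract group) -/
def AN {Γ : Type*} [Group Γ] (z : Γ) : Prop :=
  ∀ a b : Γ, Commute (a * z * a⁻¹) (b * z * b⁻¹)

end Cfsg.Agent.Helper20.S76
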