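import Mathlib
import Cfsg.Prelude.Def_GeometricClasses
import Cfsg.Agent.Lib.Helper20.S76Defs
import Cfsg.Agent.Lib.S76.S76GTAN
import Cfsg.Agent.Lib.S76.S76GTCOMM
import Cfsg.Agent.Lib.S76.S76GTMIN
import Cfsg.Agent.Lib.S76.S76HALF
import Cfsg.Agent.Lib.S76.S76INDEP
import Cfsg.Agent.Lib.S76.S76MIN
import Cfsg.Agent.Lib.S76.S76MV
import Cfsg.Agent.Lib.S76.S76DICH
import Cfsg.Agent.Lib.S76.S76INV
import Cfsg.Agent.Lib.S76.S76SEP
import Cfsg.Agent.Lib.S76.S76PROPER
import Cfsg.Agent.Lib.S76.S76IRR
import Cfsg.Agent.Lib.S76.S76DEC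

/-!
# S5876 assembly (helper20): `gt_main`, `fx_eq_bot_of_an`, `main` from the pieces `S76-*`.
See plans/S5876_plan.md.
-/

set_option autoImplicit false
set_option linter.unusedSectionVars false
set_option linter.unusedVariables false

namespace Cfsg.Agent.Helper20.S76

open Module
open scoped commutatorElement

/-! ## Part GT: pure finite group theory -/

section gt
variable {Γ : Type*} [Group Γ]

/-- assembly (helper20): the group-theoretic trichotomy -/
theorem gt_main [Finite Γ] [Group.IsSolvable Γ] (g : Γ) :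
    AN g ∨ ∃ x y : Γ, y = x⁻¹ * g⁻¹ * x * g ∧ y ≠ 1 ∧
      (AN y ∨ ∃ x' z : Γ, z = x'⁻¹ * y⁻¹ * x' * y ∧ z ≠ 1 ∧ AN z) := by
  classical
  by_cases hcen : ∀ x : Γ, x * g = g * x
  · left
    intro a b
    have ha : a * g * a⁻¹ = g := by rw [hcen a, mul_assoc, mul_inv_cancel, mul_one]
    have hb : b * g * b⁻¹ = g := by rw [hcen b, mul_assoc, mul_inv_cancel, mul_one]
    rw [ha, hb]
  · right
    push Not at hcen
    obtain ⟨N, hN, ⟨x, hxN, hxg⟩, hN0, hN0g⟩ := exists_min_normal g hcen
    set y : Γ := x⁻¹ * g⁻¹ * x * g with hy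
    have hy1 : y ≠ 1 := by
      intro h
      apply hxg
      have h2 : x * y = x := by rw [h, mul_one]
      rw [hy] at h2
      have h3 : x * (x⁻¹ * g⁻¹ * x * g) = g⁻¹ * x * g := by group
      rw [h3] at h2
      calc x * g = g * (g⁻¹ * x * g) := by group
        _ = g * x := by rw [h2]
    have hyN : y ∈ N := by
      have h1 : g⁻¹ * x * g ∈ N := by
        have := hN.conj_mem x hxN g⁻¹
        simpa using this
      have h2 : y = x⁻¹ * (g⁻¹ * x * g) := by rw [hy]; group
      rw [h2]
      exact N.mul_mem (N.inv_mem hxN) h1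
    have hycen := comm_centralizes hN0 hN0g x
    -- C = N ⊓ C(N0)
    set C : Subgroup Γ := N ⊓ Subgroup.centralizer ((⁅N, N⁆ : Subgroup Γ) : Set Γ) with hCdef
    have hcenN : (Subgroup.centralizer ((⁅N, N⁆ : Subgroup Γ) : Set Γ)).Normal := by
      haveI := hN0
      exact Subgroup.normal_centralizer
    have hC : C.Normal := by
      haveI := hN
      haveI := hcenN
      exact Subgroup.normal_inf_normal _ _
    have hyC : y ∈ C := by
      refine Subgroup.mem_inf.2 ⟨hyN, ?_⟩
      rw [Subgroup.mem_centralizer_iff]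
      intro m hm
      exact (hycen m hm).symm
    refine ⟨x, y, rfl, hy1, ?_⟩
    by_cases hyc : ∀ c ∈ C, c * y = y * c
    · left
      exact an_of_mem_center hC hyC hyc
    · right
      push Not at hyc
      obtain ⟨x', hx'C, hx'y⟩ := hyc
      set z : Γ := x'⁻¹ * y⁻¹ * x' * y with hz
      have hz1 : z ≠ 1 := by
        intro h
        apply hx'y
        have h2 : x' * z = x' := by rw [h, mul_one]
        rw [hz] at h2
        have h3 : x' * (x'⁻¹ * y⁻¹ * x' * y) = y⁻¹ * x' * y := by group
        rw [h3] at h2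
        calc x' * y = y * (y⁻¹ * x' * y) := by group
          _ = y * x' := by rw [h2]
      have hzN0 : z ∈ (⁅N, N⁆ : Subgroup Γ) := by
        have h1 : z = ⁅x'⁻¹, y⁻¹⁆ := by
          rw [hz, commutatorElement_def]; group
        rw [h1]
        exact Subgroup.commutator_mem_commutator (N.inv_mem (Subgroup.mem_inf.1 hx'C).1)
          (N.inv_mem hyN)
      have hzC : z ∈ C := by
        rw [hz]
        exact C.mul_mem (C.mul_mem (C.mul_mem (C.inv_mem hx'C) (C.inv_mem hyC)) hx'C) hyC
      refine ⟨x', z, rfl, hz1, an_of_mem_center hC hzC ?_⟩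
      intro c hc
      have := (Subgroup.mem_inf.1 hc).2
      rw [Subgroup.mem_centralizer_iff] at this
      exact (this z hzN0).symm

end gt

/-! ## Part LIN: fixed spaces -/

section lin
variable {F : Type*} [Field F] {n : ℕ}

variable (G : Subgroup (Matrix.GeneralLinearGroup (Fin n) F)) (z : Matrix.GeneralLinearGroup (Fin n) F)

/-- assembly (helper20): **E1** - an element `z ≠ 1` of a primitive irreducible group with pairwise commuting
conjugates has no non-zero fixed vector -/
theorem fx_eq_bot_of_an [Finite F]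
    (hirr : Cfsg.Geo.ActsIrreducibly (Cfsg.Geo.matrixSet G))
    (hprim : ∀ (m t : ℕ) (D : Fin t → Submodule F (Fin n → F)), 2 ≤ t →
      Cfsg.Geo.IsMDecomposition m D → ¬ G ≤ Cfsg.Geo.decompositionStabilizer D)
    (hz : z ∈ G) (hz1 : z ≠ 1) (hAN : ANin G z) : fx z = ⊥ := by
  by_contra hne
  obtain ⟨U, hU⟩ := exists_isMinCand G z hz hne
  have hU0 : U ≠ ⊥ := hU.1.1
  have hUtop : U ≠ ⊤ := ne_top_of_mem_cand G z hz1 hU.1
  have hmem : ∀ W : Set.range (fun a : G => mv (a : Matrix.GeneralLinearGroup (Fin n) F) U),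
      IsMinCand G z (W : Submodule F (Fin n → F)) := by
    rintro ⟨W, a, rfl⟩
    exact isMinCand_mv G z hU a.2
  have hind : iSupIndep (fun W : Set.range
      (fun a : G => mv (a : Matrix.GeneralLinearGroup (Fin n) F) U) =>
        (W : Submodule F (Fin n → F))) := by
    haveI : Finite G := inferInstance
    haveI : Finite (Set.range (fun a : G => mv (a : Matrix.GeneralLinearGroup (Fin n) F) U)) :=
      Set.finite_range _
    apply indep_of_separating
    intro i j hij
    have hne' : (i : Submodule F (Fin n → F)) ≠ (j : Submodule F (Fin n → F)) :=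
      fun h => hij (Subtype.ext h)
    obtain ⟨s, hs, hs1, hs2⟩ := exists_separating G z (hmem i) (hmem j) hne'
    refine ⟨Matrix.toLin' (s : Matrix (Fin n) (Fin n) F) - 1, ?_, ?_, ?_⟩
    · intro k u hu
      have h1 : Matrix.toLin' (s : Matrix (Fin n) (Fin n) F) u ∈ (k : Submodule F (Fin n → F)) :=
        mv_le_of_an G z hAN (hmem k).1 hs (Submodule.mem_map_of_mem hu)
      simp only [LinearMap.sub_apply, Module.End.one_apply]
      exact Submodule.sub_mem _ h1 hu
    · intro u hu
      have h1 : u ∈ fx s := hs1 hu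
      rw [Module.End.mem_eigenspace_iff, one_smul] at h1
      simp only [LinearMap.sub_apply, Module.End.one_apply, h1, sub_self]
    · intro u hu h0
      have h1 : u ∈ fx s := by
        rw [Module.End.mem_eigenspace_iff, one_smul]
        simp only [LinearMap.sub_apply, Module.End.one_apply] at h0
        exact sub_eq_zero.1 h0
      have h2 : u ∈ (j : Submodule F (Fin n → F)) ⊓ fx s := Submodule.mem_inf.2 ⟨hu, h1⟩
      rw [hs2] at h2
      exact (Submodule.mem_bot F).1 h2
  have hsup := iSup_mv_eq_top G hirr hU0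
  obtain ⟨m, t, D, ht, hD, hGD⟩ := exists_decomposition G hU0 hUtop hind hsup
  exact hprim m t D ht hD hGD

/-- assembly (helper20): **S5876** -/
theorem main [Fintype F] (hsol : IsSolvable G)
    (hirr : Cfsg.Geo.ActsIrreducibly (Cfsg.Geo.matrixSet G))
    (hprim : ∀ (m t : ℕ) (D : Fin t → Submodule F (Fin n → F)), 2 ≤ t →
      Cfsg.Geo.IsMDecomposition m D → ¬ G ≤ Cfsg.Geo.decompositionStabilizer D)
    (g : Matrix.GeneralLinearGroup (Fin n) F) (hg : g ∈ G) (hg1 : g ≠ 1) :
    4 * finrank F (fx g) ≤ 3 * n := by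
  haveI : Finite G := inferInstance
  haveI : Group.IsSolvable G := hsol
  -- transfer of `AN` from `↥G`
  have han : ∀ w : G, AN w → ANin G (w : Matrix.GeneralLinearGroup (Fin n) F) := by
    intro w hw a ha b hb
    have := hw ⟨a, ha⟩ ⟨b, hb⟩
    have h2 := congrArg (Subtype.val) this.eq
    exact h2
  have hne1 : ∀ w : G, w ≠ 1 → (w : Matrix.GeneralLinearGroup (Fin n) F) ≠ 1 := by
    intro w hw h
    exact hw (Subtype.ext h)
  rcases gt_main (⟨g, hg⟩ : G) with h | ⟨x, y, hy, hy1, h⟩
  · have h0 := fx_eq_bot_of_an G g hirr hprim hg hg1 (han ⟨g, hg⟩ h)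
    rw [h0, finrank_bot]
    omega
  · have hH := two_mul_finrank_fx_le g (x : Matrix.GeneralLinearGroup (Fin n) F)
    have hyv : (y : Matrix.GeneralLinearGroup (Fin n) F) =
        (x : Matrix.GeneralLinearGroup (Fin n) F)⁻¹ * g⁻¹ * x * g := by
      rw [hy]; rfl
    rw [← hyv] at hH
    rcases h with h | ⟨x', z, hz, hz1, h⟩
    · have h0 := fx_eq_bot_of_an G (y : Matrix.GeneralLinearGroup (Fin n) F) hirr hprim y.2
        (hne1 y hy1) (han y h)
      rw [h0, finrank_bot] at hH
      omega
    · have hH2 := two_mul_finrank_fx_le (y : Matrix.GeneralLinearGroup (Fin n) F)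
        (x' : Matrix.GeneralLinearGroup (Fin n) F)
      have hzv : (z : Matrix.GeneralLinearGroup (Fin n) F) =
          (x' : Matrix.GeneralLinearGroup (Fin n) F)⁻¹ *
            (y : Matrix.GeneralLinearGroup (Fin n) F)⁻¹ * x' * y := by
        rw [hz]; rfl
      rw [← hzv] at hH2
      have h0 := fx_eq_bot_of_an G (z : Matrix.GeneralLinearGroup (Fin n) F) hirr hprim z.2
        (hne1 z hz1) (han z h)
      rw [h0, finrank_bot] at hH2
      omega

end lin

end Cfsg.Agent.Helper20.S76
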