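import Mathlib
import Cfsg.Agent.S0001
import Cfsg.Agent.Lib.Helper1.Complement
import Cfsg.Agent.Lib.Helper21.FittingSubgroup

set_option autoImplicit false

namespace Cfsg.Agent.Helper20

open scoped Pointwise

variable {G : Type*} [Group G] [Finite G]

omit [Finite G] in
theorem card_conj_smul (g : G) (H : Subgroup G) : Nat.card (MulAut.conj g • H : Subgroup G) = Nat.card H :=
  (Nat.card_congr (Subgroup.equivSMul (MulAut.conj g) H).toEquiv).symm

/-- Lifting conjugacy of same-order subgroups through a normal subgroup `N` of prime order `q`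
containing all elements of order `q`. -/
theorem conj_of_quotient_prime {q : ℕ} [Fact q.Prime] (N : Subgroup G) [N.Normal]
    (hNq : Nat.card N = q) (hN2 : ∀ x : G, orderOf x = q → x ∈ N)
    (hquot : ∀ H' K' : Subgroup (G ⧸ N), Nat.card H' = Nat.card K' →
      ∃ g : G ⧸ N, MulAut.conj g • H' = K')
    (H K : Subgroup G) (h : Nat.card H = Nat.card K) : ∃ g : G, MulAut.conj g • H = K := by
  have hq : q.Prime := Fact.out
  -- dichotomy
  have hdiv : ∀ X : Subgroup G, q ∣ Nat.card X → N ≤ X := by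
    intro X hX
    obtain ⟨x, hx⟩ := exists_prime_orderOf_dvd_card' q hX
    have hxo : orderOf (x : G) = q := by rw [Subgroup.orderOf_coe, hx]
    have hxN : (x : G) ∈ N := hN2 _ hxo
    have hle : Subgroup.zpowers (x : G) ≤ N := Subgroup.zpowers_le.mpr hxN
    have heq : Subgroup.zpowers (x : G) = N :=
      Subgroup.eq_of_le_of_card_ge hle (by rw [Nat.card_zpowers, hxo, hNq])
    rw [← heq]
    exact Subgroup.zpowers_le.mpr x.2
  have hndiv : ∀ X : Subgroup G, ¬ q ∣ Nat.card X → N ⊓ X = ⊥ := by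
    intro X hX
    apply Subgroup.inf_eq_bot_of_coprime
    rw [hNq]
    exact (Nat.Prime.coprime_iff_not_dvd hq).mpr hX
  have hinfcard : Nat.card (N ⊓ H : Subgroup G) = Nat.card (N ⊓ K : Subgroup G) := by
    by_cases hqH : q ∣ Nat.card H
    · rw [inf_of_le_left (hdiv H hqH), inf_of_le_left (hdiv K (h ▸ hqH))]
    · rw [hndiv H hqH, hndiv K (h ▸ hqH)]
  have hmapcard : Nat.card (H.map (QuotientGroup.mk' N)) = Nat.card (K.map (QuotientGroup.mk' N)) := by
    have e1 := Cfsg.Agent.Helper21.card_inf_mul_relIndex N H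
    have e2 := Cfsg.Agent.Helper21.card_inf_mul_relIndex N K
    have r1 := Subgroup.relIndex_ker (QuotientGroup.mk' N) (K := H)
    have r2 := Subgroup.relIndex_ker (QuotientGroup.mk' N) (K := K)
    rw [QuotientGroup.ker_mk'] at r1 r2
    rw [r1] at e1
    rw [r2, ← hinfcard, ← h, ← e1] at e2
    exact (Nat.eq_of_mul_eq_mul_left Nat.card_pos e2).symm
  obtain ⟨gbar, hgbar⟩ := hquot _ _ hmapcard
  obtain ⟨g, rfl⟩ := QuotientGroup.mk'_surjective N gbar
  have hsup := Cfsg.Agent.Helper1.sup_eq_of_conj_map_mk' g hgbar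
  set H₁ := MulAut.conj g • H with hH₁
  have hH₁card : Nat.card H₁ = Nat.card K := by rw [hH₁, card_conj_smul, h]
  suffices hs : ∃ l : G, MulAut.conj l • H₁ = K by
    obtain ⟨l, hl⟩ := hs
    exact ⟨l * g, by rw [← Cfsg.Agent.Helper1.conj_smul_conj_smul, hl]⟩
  by_cases hqK : q ∣ Nat.card K
  · refine ⟨1, ?_⟩
    rw [map_one, one_smul]
    have h1 : N ≤ H₁ := hdiv H₁ (hH₁card ▸ hqK)
    have h2 : N ≤ K := hdiv K hqK
    rw [← sup_of_le_left h1, hsup, sup_of_le_left h2]
  · have hd1 : N ⊓ H₁ = ⊥ := hndiv H₁ (hH₁card ▸ hqK)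
    have hd2 : N ⊓ K = ⊥ := hndiv K hqK
    obtain ⟨L, hL⟩ : ∃ L : Subgroup G, L = K ⊔ N := ⟨_, rfl⟩
    have hKL : K ≤ L := by rw [hL]; exact le_sup_left
    have hNL : N ≤ L := by rw [hL]; exact le_sup_right
    have hH₁L : H₁ ≤ L := by rw [hL, ← hsup]; exact le_sup_left
    have hc1 : Subgroup.IsComplement' (N.subgroupOf L) (H₁.subgroupOf L) := by
      apply Cfsg.Agent.Helper1.isComplement'_subgroupOf hd1 hH₁L
      intro l hl
      rw [hL, ← hsup, sup_comm, Subgroup.mem_sup_of_normal_left] at hl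
      obtain ⟨n, hn, k, hk, rfl⟩ := hl
      exact ⟨n, hn, k, hk, rfl⟩
    have hc2 : Subgroup.IsComplement' (N.subgroupOf L) (K.subgroupOf L) := by
      apply Cfsg.Agent.Helper1.isComplement'_subgroupOf hd2 hKL
      intro l hl
      rw [hL, sup_comm, Subgroup.mem_sup_of_normal_left] at hl
      obtain ⟨n, hn, k, hk, rfl⟩ := hl
      exact ⟨n, hn, k, hk, rfl⟩
    have hcardN' : Nat.card (N.subgroupOf L) = q := by
      rw [Cfsg.Agent.S0001.card_subgroupOf_of_le hNL, hNq]
    have hcop : (Nat.card (N.subgroupOf L)).Coprime (N.subgroupOf L).index := by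
      rw [hcardN', hc2.symm.index_eq_card, Cfsg.Agent.S0001.card_subgroupOf_of_le hKL]
      exact (Nat.Prime.coprime_iff_not_dvd hq).mpr hqK
    have hsolv : Group.IsSolvable (N.subgroupOf L) := by
      haveI : IsCyclic (N.subgroupOf L) := isCyclic_of_prime_card hcardN'
      letI : CommGroup (N.subgroupOf L) := IsCyclic.commGroup
      infer_instance
    obtain ⟨l, hl⟩ := Cfsg.Agent.S0001.result (N.subgroupOf L) hcop (Or.inl hsolv) _ _ hc1 hc2
    exact ⟨(l : G), Cfsg.Agent.Helper1.conj_of_conj_subgroupOf hH₁L hKL l hl⟩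

end Cfsg.Agent.Helper20
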