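import Mathlib
import Cfsg.Agent.Lib.Helper20.SameOrderConj1
import Cfsg.Agent.Lib.Helper20.ZConj
import Cfsg.Agent.Lib.Helper1.SolvableBasic

set_option autoImplicit false

namespace Cfsg.Agent.Helper20

open scoped Pointwise

universe u

section basics

variable {G : Type*} [Group G]

theorem map_conj_smul {G' : Type*} [Group G'] (f : G →* G') (g : G) (H : Subgroup G) :
    (MulAut.conj g • H).map f = MulAut.conj (f g) • H.map f := by
  ext x
  constructor
  · rintro ⟨y, hy, rfl⟩
    rw [SetLike.mem_coe, Cfsg.Agent.Helper1.mem_conj_smul_iff] at hy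
    rw [Cfsg.Agent.Helper1.mem_conj_smul_iff]
    exact ⟨g⁻¹ * y * g, hy, by simp⟩
  · intro hx
    rw [Cfsg.Agent.Helper1.mem_conj_smul_iff] at hx
    obtain ⟨y, hy, hyx⟩ := hx
    refine ⟨g * y * g⁻¹, ?_, ?_⟩
    · rw [SetLike.mem_coe, Cfsg.Agent.Helper1.mem_conj_smul_iff]
      have : g⁻¹ * (g * y * g⁻¹) * g = y := by group
      rw [this]; exact hy
    · rw [map_mul, map_mul, hyx, map_inv]; group

/-- The subgroup of elements of order dividing `q`, inside a nontrivial normal abelian subgroup. -/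
theorem exists_normal_omega [Finite G] [Group.IsSolvable G] [Nontrivial G]
    (hD : ∀ p : ℕ, p.Prime → ∀ X Y : Subgroup G, Nat.card X = p → Nat.card Y = p →
      ∃ g : G, MulAut.conj g • X = Y) :
    ∃ (q : ℕ) (N : Subgroup G), q.Prime ∧ N.Normal ∧ N ≠ ⊥ ∧
      (∀ a ∈ N, ∀ b ∈ N, a * b = b * a) ∧ (∀ x : G, x ∈ N ↔ x ^ q = 1) := by
  obtain ⟨A, hAchar, hAne, hAc⟩ := Cfsg.Agent.Helper1.exists_normal_abelian_of_solvable G
  haveI : A.Normal := inferInstance
  have hcard : Nat.card A ≠ 1 := fun h => hAne (Subgroup.card_eq_one.mp h)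
  obtain ⟨q, hq, hqA⟩ := Nat.exists_prime_and_dvd hcard
  haveI : Fact q.Prime := ⟨hq⟩
  obtain ⟨y, hy⟩ := exists_prime_orderOf_dvd_card' q hqA
  have hyo : orderOf (y : G) = q := by rw [Subgroup.orderOf_coe, hy]
  have hcomm : ∀ a ∈ A, ∀ b ∈ A, a * b = b * a := by
    intro a ha b hb
    exact congrArg Subtype.val (hAc.is_comm.comm ⟨a, ha⟩ ⟨b, hb⟩)
  have hallA : ∀ x : G, x ^ q = 1 → x ∈ A := by
    intro x hx
    by_cases hx1 : x = 1
    · rw [hx1]; exact A.one_mem
    · have hxo : orderOf x = q := orderOf_eq_prime hx hx1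
      obtain ⟨g, hg⟩ := hD q hq (Subgroup.zpowers (y : G)) (Subgroup.zpowers x)
        (by rw [Nat.card_zpowers, hyo]) (by rw [Nat.card_zpowers, hxo])
      have hxm : x ∈ MulAut.conj g • Subgroup.zpowers (y : G) := by
        rw [hg]; exact Subgroup.mem_zpowers x
      rw [Cfsg.Agent.Helper1.mem_conj_smul_iff] at hxm
      have h1 : g⁻¹ * x * g ∈ A := (Subgroup.zpowers_le.mpr y.2) hxm
      have h2 := ‹A.Normal›.conj_mem _ h1 g
      have h3 : g * (g⁻¹ * x * g) * g⁻¹ = x := by group
      rwa [h3] at h2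
  let N : Subgroup G :=
    { carrier := {x | x ^ q = 1}
      one_mem' := one_pow q
      mul_mem' := by
        intro a b ha hb
        have hab : Commute a b := hcomm a (hallA a ha) b (hallA b hb)
        show (a * b) ^ q = 1
        rw [hab.mul_pow, ha, hb, one_mul]
      inv_mem' := by
        intro a ha
        show a⁻¹ ^ q = 1
        rw [inv_pow, ha, inv_one] }
  have hmem : ∀ x : G, x ∈ N ↔ x ^ q = 1 := fun x => Iff.rfl
  refine ⟨q, N, hq, ?_, ?_, ?_, hmem⟩
  · constructor
    intro n hn g
    rw [hmem] at hn ⊢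
    rw [conj_pow, hn]; group
  · intro h
    have hyN : (y : G) ∈ N := by
      rw [hmem, ← hyo]; exact pow_orderOf_eq_one _
    rw [h, Subgroup.mem_bot] at hyN
    rw [hyN, orderOf_one] at hyo
    exact hq.one_lt.ne hyo
  · intro a ha b hb
    exact hcomm a (hallA a ((hmem a).mp ha)) b (hallA b ((hmem b).mp hb))

/-- Sylow subgroups of a quotient are cyclic if those of the group are. -/
theorem sylow_quotient_cyclic [Finite G] {p : ℕ} [Fact p.Prime] (N : Subgroup G) [N.Normal]
    (hcyc : ∀ P : Sylow p G, IsCyclic P) (P' : Sylow p (G ⧸ N)) : IsCyclic P' := by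
  obtain ⟨P⟩ : Nonempty (Sylow p G) := inferInstance
  set P₀ := P.mapSurjective (QuotientGroup.mk'_surjective N) with hP₀
  have h0 : (P₀ : Subgroup (G ⧸ N)) = (P : Subgroup G).map (QuotientGroup.mk' N) :=
    Sylow.coe_mapSurjective _ P
  haveI := hcyc P
  haveI hc0 : IsCyclic ((P : Subgroup G).map (QuotientGroup.mk' N)) :=
    isCyclic_of_surjective ((QuotientGroup.mk' N).subgroupMap (P : Subgroup G))
      (MonoidHom.subgroupMap_surjective _ _)
  obtain ⟨g, hg⟩ := MulAction.exists_smul_eq (G ⧸ N) P₀ P'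
  have h1 : (P' : Subgroup (G ⧸ N)) = MulAut.conj g • (P₀ : Subgroup (G ⧸ N)) := by
    rw [← hg]; rfl
  rw [h0] at h1
  have e := Subgroup.equivSMul (MulAut.conj g) ((P : Subgroup G).map (QuotientGroup.mk' N))
  have e2 := MulEquiv.subgroupCongr h1.symm
  exact isCyclic_of_surjective (e.trans e2) (e.trans e2).surjective

end basics

/-- **Z-groups**: in a finite solvable group all of whose Sylow subgroups are cyclic, subgroups of
the same order are conjugate. -/
theorem conj_of_all_sylow_cyclic_aux : ∀ (n : ℕ) (G : Type u) [Group G] [Finite G]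
    [Group.IsSolvable G], Nat.card G = n →
    (∀ (p : ℕ) [Fact p.Prime] (P : Sylow p G), IsCyclic P) →
    ∀ H K : Subgroup G, Nat.card H = Nat.card K → ∃ g : G, MulAut.conj g • H = K := by
  intro n
  induction n using Nat.strong_induction_on with
  | _ n ih =>
  intro G _ _ _ hn hcyc H K hHK
  rcases subsingleton_or_nontrivial G with hsub | hnt
  · refine ⟨1, ?_⟩
    rw [map_one, one_smul]
    ext x
    rw [Subsingleton.elim x 1]
    exact ⟨fun _ => K.one_mem, fun _ => H.one_mem⟩
  · have hD : ∀ p : ℕ, p.Prime → ∀ X Y : Subgroup G, Nat.card X = p → Nat.card Y = p →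
        ∃ g : G, MulAut.conj g • X = Y := by
      intro p hp X Y hX hY
      haveI : Fact p.Prime := ⟨hp⟩
      exact conj_of_sylow_cyclic (hcyc p) X Y
        (IsPGroup.of_card (n := 1) (by rw [hX, pow_one]))
        (IsPGroup.of_card (n := 1) (by rw [hY, pow_one])) (hX.trans hY.symm)
    obtain ⟨q, N, hq, hNn, hNne, hNab, hNmem⟩ := exists_normal_omega hD
    haveI : Fact q.Prime := ⟨hq⟩
    haveI := hNn
    -- N has order q
    have hNq : Nat.card N = q := by
      have hNp : IsPGroup q N := by
        intro x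
        refine ⟨1, ?_⟩
        rw [pow_one]
        apply Subtype.ext
        have := (hNmem x).mp x.2
        simpa using this
      obtain ⟨R, hR⟩ := hNp.exists_le_sylow
      haveI := hcyc q R
      haveI : IsCyclic (N.subgroupOf (R : Subgroup G)) := inferInstance
      haveI : IsCyclic N :=
        isCyclic_of_surjective (Subgroup.subgroupOfEquivOfLe hR)
          (Subgroup.subgroupOfEquivOfLe hR).surjective
      obtain ⟨x, hx⟩ := IsCyclic.exists_generator (α := N)
      have hxo : orderOf x = Nat.card N := orderOf_eq_card_of_forall_mem_zpowers hx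
      have hxq : x ^ q = 1 := by
        apply Subtype.ext
        have := (hNmem x).mp x.2
        simpa using this
      have hdvd : Nat.card N ∣ q := by rw [← hxo]; exact orderOf_dvd_of_pow_eq_one hxq
      rcases (Nat.dvd_prime hq).mp hdvd with h1 | h1
      · exact absurd (Subgroup.card_eq_one.mp h1) hNne
      · exact h1
    have hN2 : ∀ x : G, orderOf x = q → x ∈ N := by
      intro x hx
      rw [hNmem, ← hx]
      exact pow_orderOf_eq_one x
    have hlt : Nat.card (G ⧸ N) < n := by
      rw [← hn]; exact Cfsg.Agent.S0001.card_quotient_lt_of_ne_bot hNne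
    have hquot := ih _ hlt (G ⧸ N) rfl
      (fun p _ P' => sylow_quotient_cyclic N (hcyc p) P')
    exact conj_of_quotient_prime N hNq hN2 hquot H K hHK

theorem conj_of_all_sylow_cyclic {G : Type u} [Group G] [Finite G] [Group.IsSolvable G]
    (hcyc : ∀ (p : ℕ) [Fact p.Prime] (P : Sylow p G), IsCyclic P)
    (H K : Subgroup G) (h : Nat.card H = Nat.card K) : ∃ g : G, MulAut.conj g • H = K :=
  conj_of_all_sylow_cyclic_aux _ G rfl hcyc H K h

end Cfsg.Agent.Helper20
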