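import Mathlib
import Cfsg.Agent.S0129
import Cfsg.Agent.Lib.Helper20.MinNoncyclic
import Cfsg.Agent.Lib.Helper20.UniqueInvolution

set_option autoImplicit false

namespace Cfsg.Agent.Helper20

open scoped Pointwise

variable {T : Type*} [Group T] [Finite T]

/-- A `p`-group of order at least `p ^ 4` has an abelian subgroup of order `p ^ 3`. -/
theorem exists_comm_subgroup_card_cube (p : ℕ) [Fact p.Prime] (hT : IsPGroup p T)
    (h4 : p ^ 4 ∣ Nat.card T) :
    ∃ A : Subgroup T, Nat.card A = p ^ 3 ∧ ∀ a ∈ A, ∀ b ∈ A, a * b = b * a := by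
  have hp : p.Prime := Fact.out
  set S : Set (Subgroup T) := {B | B.Normal ∧ IsMulCommutative B} with hS
  have hbot : (⊥ : Subgroup T) ∈ S := ⟨Subgroup.normal_bot, inferInstance⟩
  obtain ⟨A, -, hAmax⟩ := (Set.toFinite S).exists_le_maximal hbot
  obtain ⟨⟨hAn, hAc⟩, hAm⟩ := hAmax
  haveI := hAn
  obtain ⟨a, ha⟩ := IsPGroup.iff_card.mp (hT.to_subgroup A)
  have hbound := Cfsg.Agent.S0129.result hT A hAc
    (fun B hBn hBc hAB => le_antisymm (hAm ⟨hBn, hBc⟩ hAB) hAB) a ha
  have h1 : p ^ 4 ≤ p ^ (a * (a + 1) / 2) :=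
    (Nat.le_of_dvd Nat.card_pos h4).trans hbound
  have h2 : 4 ≤ a * (a + 1) / 2 := (Nat.pow_le_pow_iff_right hp.one_lt).mp h1
  have h3 : 3 ≤ a := by
    by_contra hlt
    have : a ≤ 2 := by omega
    interval_cases a <;> omega
  have hdvd : p ^ 3 ∣ Nat.card A := by rw [ha]; exact pow_dvd_pow p h3
  obtain ⟨K, hK⟩ := Sylow.exists_subgroup_card_pow_prime p hdvd
  refine ⟨K.map A.subtype, ?_, ?_⟩
  · rw [Subgroup.card_map_of_injective A.subtype_injective, hK]
  · rintro _ ⟨x, -, rfl⟩ _ ⟨y, -, rfl⟩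
    have := hAc.is_comm.comm x y
    exact congrArg Subtype.val this

theorem conj_mem_sup_zpowers {y c g : T}
    (hy : g * y * g⁻¹ ∈ Subgroup.zpowers y ⊔ Subgroup.zpowers c)
    (hc : g * c * g⁻¹ ∈ Subgroup.zpowers y ⊔ Subgroup.zpowers c) :
    ∀ m ∈ Subgroup.zpowers y ⊔ Subgroup.zpowers c,
      g * m * g⁻¹ ∈ Subgroup.zpowers y ⊔ Subgroup.zpowers c := by
  intro m hm
  have h1 : (Subgroup.zpowers y ⊔ Subgroup.zpowers c).map (MulAut.conj g).toMonoidHom ≤
      Subgroup.zpowers y ⊔ Subgroup.zpowers c := by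
    rw [Subgroup.map_sup, MonoidHom.map_zpowers, MonoidHom.map_zpowers, sup_le_iff,
      Subgroup.zpowers_le, Subgroup.zpowers_le]
    exact ⟨by simpa [MulAut.conj_apply] using hy, by simpa [MulAut.conj_apply] using hc⟩
  exact h1 ⟨m, hm, by simp [MulAut.conj_apply]⟩

/-- A nonabelian `p`-group of exponent `p` has a nonabelian subgroup of order `p ^ 3`. -/
theorem exists_noncomm_subgroup_card_cube (p : ℕ) [Fact p.Prime] (hT : IsPGroup p T)
    (hexp : ∀ x : T, x ^ p = 1) (hnc : ¬ ∀ a b : T, a * b = b * a) :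
    ∃ D : Subgroup T, Nat.card D = p ^ 3 ∧ ¬ ∀ a ∈ D, ∀ b ∈ D, a * b = b * a := by
  have hp : p.Prime := Fact.out
  -- element of the second centre
  have hZtop : Subgroup.center T ≠ ⊤ := by
    intro h
    apply hnc
    intro a b
    have : a ∈ Subgroup.center T := by rw [h]; exact Subgroup.mem_top a
    exact (Subgroup.mem_center_iff.mp this b).symm
  haveI : Nontrivial (T ⧸ Subgroup.center T) := by
    rw [← Finite.one_lt_card_iff_nontrivial, ← Subgroup.index_eq_card]
    have h1 : (Subgroup.center T).index ≠ 1 := fun h => hZtop (Subgroup.index_eq_one.mp h)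
    have h0 : (Subgroup.center T).index ≠ 0 := Subgroup.index_ne_zero_of_finite
    omega
  have hQ : IsPGroup p (T ⧸ Subgroup.center T) := hT.to_quotient _
  haveI := hQ.center_nontrivial
  obtain ⟨⟨q, hq⟩, hq1⟩ := exists_ne (1 : Subgroup.center (T ⧸ Subgroup.center T))
  obtain ⟨x, rfl⟩ := QuotientGroup.mk_surjective q
  have hxZ : x ∉ Subgroup.center T := by
    intro h
    apply hq1
    apply Subtype.ext
    exact (QuotientGroup.eq_one_iff x).mpr h
  have hxc : ∀ g : T, x * g * x⁻¹ * g⁻¹ ∈ Subgroup.center T := by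
    intro g
    rw [← QuotientGroup.eq_one_iff]
    have := Subgroup.mem_center_iff.mp hq (QuotientGroup.mk g)
    rw [QuotientGroup.mk_mul, QuotientGroup.mk_mul, QuotientGroup.mk_mul, QuotientGroup.mk_inv,
      QuotientGroup.mk_inv, ← this]
    group
  obtain ⟨y, hxy⟩ : ∃ y : T, x * y ≠ y * x := by
    by_contra hcon
    push Not at hcon
    exact hxZ (Subgroup.mem_center_iff.mpr fun g => (hcon g).symm)
  set c := x * y * x⁻¹ * y⁻¹ with hc
  have hcZ : c ∈ Subgroup.center T := hxc y
  have hcc : ∀ g : T, g * c = c * g := fun g => Subgroup.mem_center_iff.mp hcZ g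
  have hc1 : c ≠ 1 := by
    intro h
    apply hxy
    calc x * y = (x * y * x⁻¹ * y⁻¹) * (y * x) := by group
      _ = y * x := by rw [← hc, h, one_mul]
  haveI hcn : (Subgroup.zpowers c).Normal := by
    constructor
    intro n hn g
    obtain ⟨k, rfl⟩ := Subgroup.mem_zpowers_iff.mp hn
    have : g * c ^ k * g⁻¹ = c ^ k := by
      have h1 : g * c ^ k = c ^ k * g := by
        have : Commute g c := hcc g
        exact (this.zpow_right k).eq
      rw [h1]; group
    rw [this]
    exact Subgroup.zpow_mem_zpowers c k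
  set M := Subgroup.zpowers y ⊔ Subgroup.zpowers c with hM
  have hyM : y ∈ M := Subgroup.mem_sup_left (Subgroup.mem_zpowers y)
  have hcM : c ∈ M := Subgroup.mem_sup_right (Subgroup.mem_zpowers c)
  have hord : ∀ g : T, Nat.card (Subgroup.zpowers g) ≤ p := by
    intro g
    rw [Nat.card_zpowers]
    exact Nat.le_of_dvd hp.pos (orderOf_dvd_of_pow_eq_one (hexp g))
  have hMcard : Nat.card M ≤ p * p := by
    have h1 : ((M : Subgroup T) : Set T) = (Subgroup.zpowers y : Set T) * (Subgroup.zpowers c : Set T) :=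
      Subgroup.mul_normal _ _
    have h2 : Nat.card M = Nat.card ((M : Subgroup T) : Set T) := rfl
    rw [h2, h1]
    exact Set.natCard_mul_le.trans (Nat.mul_le_mul (hord y) (hord c))
  -- x normalizes M
  have hxy' : x * y * x⁻¹ = c * y := by rw [hc]; group
  have hxy'' : x⁻¹ * y * x⁻¹⁻¹ = c⁻¹ * y := by
    have h1 : y = x⁻¹ * (c * y) * x := by rw [← hxy']; group
    have h2 : x⁻¹ * (c * y) * x = c * (x⁻¹ * y * x) := by
      calc x⁻¹ * (c * y) * x = x⁻¹ * c * y * x := by group
        _ = c * x⁻¹ * y * x := by rw [hcc x⁻¹]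
        _ = c * (x⁻¹ * y * x) := by group
    rw [h2] at h1
    rw [inv_inv]
    calc x⁻¹ * y * x = c⁻¹ * (c * (x⁻¹ * y * x)) := by group
      _ = c⁻¹ * y := by rw [← h1]
  have hxn : x ∈ Subgroup.normalizer (M : Set T) := by
    rw [Subgroup.mem_normalizer_iff]
    intro m
    constructor
    · intro hm
      apply conj_mem_sup_zpowers _ _ m hm
      · rw [hxy']; exact M.mul_mem hcM hyM
      · have : x * c * x⁻¹ = c := by rw [hcc x]; group
        rw [this]; exact hcM
    · intro hm
      have h1 : x⁻¹ * (x * m * x⁻¹) * x⁻¹⁻¹ ∈ M := by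
        apply conj_mem_sup_zpowers _ _ _ hm
        · rw [hxy'']; exact M.mul_mem (M.inv_mem hcM) hyM
        · have : x⁻¹ * c * x⁻¹⁻¹ = c := by rw [hcc x⁻¹]; group
          rw [this]; exact hcM
      have h2 : x⁻¹ * (x * m * x⁻¹) * x⁻¹⁻¹ = m := by group
      rwa [h2] at h1
  set D := Subgroup.zpowers x ⊔ M with hD
  have hxD : x ∈ D := Subgroup.mem_sup_left (Subgroup.mem_zpowers x)
  have hyD : y ∈ D := Subgroup.mem_sup_right hyM
  have hDcard : Nat.card D ≤ p * (p * p) := by
    have h1 : ((D : Subgroup T) : Set T) = (Subgroup.zpowers x : Set T) * (M : Set T) :=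
      Subgroup.coe_mul_of_left_le_normalizer_right _ _ (Subgroup.zpowers_le.mpr hxn)
    have h2 : Nat.card D = Nat.card ((D : Subgroup T) : Set T) := rfl
    rw [h2, h1]
    exact Set.natCard_mul_le.trans (Nat.mul_le_mul (hord x) hMcard)
  have hDnc : ¬ ∀ a ∈ D, ∀ b ∈ D, a * b = b * a := fun h => hxy (h x hxD y hyD)
  refine ⟨D, ?_, hDnc⟩
  obtain ⟨d, hd⟩ := IsPGroup.iff_card.mp (hT.to_subgroup D)
  have hd3 : d ≤ 3 := by
    have : p ^ d ≤ p ^ 3 := by rw [← hd]; calc Nat.card D ≤ p * (p * p) := hDcard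
      _ = p ^ 3 := by ring
    exact (Nat.pow_le_pow_iff_right hp.one_lt).mp this
  have hd2 : ¬ d ≤ 2 := by
    intro hle
    apply hDnc
    have hcomm : ∀ a b : D, a * b = b * a := by
      interval_cases d
      · intro a b
        have : Subsingleton D := by
          rw [← Finite.card_le_one_iff_subsingleton, hd]; simp
        exact Subsingleton.elim _ _
      · haveI : IsCyclic D := isCyclic_of_prime_card (p := p) (by rw [hd, pow_one])
        intro a b
        exact (IsCyclic.commGroup (α := D)).mul_comm a b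
      · exact IsPGroup.commutative_of_card_eq_prime_sq hd
    intro a ha b hb
    exact congrArg Subtype.val (hcomm ⟨a, ha⟩ ⟨b, hb⟩)
  have : d = 3 := by omega
  rw [hd, this]

end Cfsg.Agent.Helper20
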