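import Mathlib
import Cfsg.Agent.Lib.Helper20.SameOrderIso

set_option autoImplicit false

namespace Cfsg.Agent.Helper20

open scoped Pointwise

variable {T : Type*} [Group T] [Finite T]

theorem card_lt_card_of_lt {X Y : Subgroup T} (h : X < Y) : Nat.card X < Nat.card Y := by
  rcases Nat.lt_or_ge (Nat.card X) (Nat.card Y) with h1 | h1
  · exact h1
  · exact absurd (Subgroup.eq_of_le_of_card_ge h.le h1) h.ne

/-- In a noncyclic `p`-group all of whose subgroups of order `p ^ 2` are cyclic, `p = 2` and there
is a noncyclic subgroup of order `8`. -/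
theorem exists_noncyclic_card_eight (p : ℕ) [Fact p.Prime] (hT : IsPGroup p T)
    (hsq : ∀ K : Subgroup T, Nat.card K = p ^ 2 → IsCyclic K) (hnc : ¬ IsCyclic T) :
    p = 2 ∧ ∃ H : Subgroup T, Nat.card H = 8 ∧ ¬ IsCyclic H := by
  have hp : p.Prime := Fact.out
  -- a noncyclic subgroup of minimal order
  have hne : ∃ n : ℕ, ∃ H : Subgroup T, Nat.card H = n ∧ ¬ IsCyclic H := by
    refine ⟨_, ⊤, rfl, fun h => hnc ?_⟩
    exact isCyclic_of_surjective (Subgroup.topEquiv (G := T)) (Subgroup.topEquiv (G := T)).surjective
  classical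
  obtain ⟨H, hHn, hHnc⟩ := Nat.find_spec hne
  have hmin : ∀ L : Subgroup T, Nat.card L < Nat.card H → IsCyclic L := by
    intro L hL
    by_contra hLnc
    have := Nat.find_min hne (hHn ▸ hL)
    exact this ⟨L, rfl, hLnc⟩
  obtain ⟨m, hm⟩ := IsPGroup.iff_card.mp (hT.to_subgroup H)
  have hall : ∀ L : Subgroup H, L ≠ ⊤ → IsCyclic L := by
    intro L hL
    have h1 : Nat.card (L.map H.subtype) < Nat.card H := by
      rw [Subgroup.card_map_of_injective H.subtype_injective]
      have hlt : L < ⊤ := lt_top_iff_ne_top.mpr hL
      have := card_lt_card_of_lt hlt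
      simpa using this
    haveI := hmin _ h1
    exact isCyclic_of_surjective (L.equivMapOfInjective H.subtype H.subtype_injective).symm
      (L.equivMapOfInjective H.subtype H.subtype_injective).symm.surjective
  have hm2 : m ≠ 2 := by
    intro h
    rw [h] at hm
    exact hHnc (hsq H hm)
  have hm0 : m ≠ 0 := by
    intro h
    rw [h, pow_zero] at hm
    apply hHnc
    haveI : Subsingleton H := by rw [← Finite.card_le_one_iff_subsingleton, hm]
    exact isCyclic_of_subsingleton
  have hm1 : m ≠ 1 := by
    intro h
    rw [h, pow_one] at hm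
    exact hHnc (isCyclic_of_prime_card hm)
  have hcrit : ¬ (3 ≤ m ∧ (p = 2 → 4 ≤ m)) := by
    rintro ⟨h3, h4⟩
    exact hHnc (isCyclic_of_forall_proper_isCyclic p m hm h3 h4 hall)
  have h3 : 3 ≤ m := by omega
  have hp2 : p = 2 := by
    by_contra hp2
    exact hcrit ⟨h3, fun h => absurd h hp2⟩
  have hm3 : m = 3 := by
    by_contra hne3
    exact hcrit ⟨h3, fun _ => by omega⟩
  refine ⟨hp2, H, ?_, hHnc⟩
  rw [hm, hp2, hm3]
  norm_num

/-- The structure of a finite `p`-group in which subgroups of the same order are isomorphic. -/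
theorem structure_of_iso_subgroups (p : ℕ) [Fact p.Prime] (hT : IsPGroup p T)
    (hiso : ∀ H K : Subgroup T, Nat.card H = Nat.card K → Nonempty (H ≃* K)) :
    IsCyclic T ∨ ((∀ a b : T, a * b = b * a) ∧ ∀ a : T, a ^ p = 1) ∨
      (p = 2 ∧ Nonempty (T ≃* QuaternionGroup 2)) ∨
      (p ≠ 2 ∧ (¬ ∀ a b : T, a * b = b * a) ∧ Nat.card T = p ^ 3 ∧ ∀ a : T, a ^ p = 1) := by
  have hp : p.Prime := Fact.out
  have hcyc : ∀ H K : Subgroup T, Nat.card H = Nat.card K → IsCyclic H → IsCyclic K := by
    intro H K hHK hH
    obtain ⟨e⟩ := hiso H K hHK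
    exact isCyclic_of_surjective e e.surjective
  have hcomm : ∀ H K : Subgroup T, Nat.card H = Nat.card K →
      (∀ a ∈ H, ∀ b ∈ H, a * b = b * a) → ∀ a ∈ K, ∀ b ∈ K, a * b = b * a := by
    intro H K hHK hH a ha b hb
    obtain ⟨e⟩ := hiso H K hHK
    have h1 := hH _ (e.symm ⟨a, ha⟩).2 _ (e.symm ⟨b, hb⟩).2
    have h2 : e.symm ⟨a, ha⟩ * e.symm ⟨b, hb⟩ = e.symm ⟨b, hb⟩ * e.symm ⟨a, ha⟩ :=
      Subtype.ext h1
    rw [← map_mul, ← map_mul] at h2
    exact congrArg Subtype.val (e.symm.injective h2)
  by_cases hexp : ∀ x : T, x ^ p = 1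
  · by_cases hc : ∀ a b : T, a * b = b * a
    · exact Or.inr (Or.inl ⟨hc, hexp⟩)
    · right; right; right
      have hp2 : p ≠ 2 := by
        intro h2
        apply hc
        intro a b
        have ha : a⁻¹ = a := by
          rw [inv_eq_iff_mul_eq_one, ← pow_two, ← h2]; exact hexp a
        have hb : b⁻¹ = b := by
          rw [inv_eq_iff_mul_eq_one, ← pow_two, ← h2]; exact hexp b
        have hab : (a * b)⁻¹ = a * b := by
          rw [inv_eq_iff_mul_eq_one, ← pow_two, ← h2]; exact hexp (a * b)
        calc a * b = (a * b)⁻¹ := hab.symm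
          _ = b⁻¹ * a⁻¹ := mul_inv_rev a b
          _ = b * a := by rw [ha, hb]
      refine ⟨hp2, hc, ?_, hexp⟩
      obtain ⟨n, hn⟩ := IsPGroup.iff_card.mp hT
      obtain ⟨D, hD, hDnc⟩ := exists_noncomm_subgroup_card_cube p hT hexp hc
      have hn3 : 3 ≤ n := by
        have h1 : p ^ 3 ≤ p ^ n := by
          rw [← hD, ← hn]
          exact Subgroup.card_le_card_group D
        exact (Nat.pow_le_pow_iff_right hp.one_lt).mp h1
      have hn4 : ¬ 4 ≤ n := by
        intro h4
        have hdvd : p ^ 4 ∣ Nat.card T := by rw [hn]; exact pow_dvd_pow p h4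
        obtain ⟨A, hA, hAc⟩ := exists_comm_subgroup_card_cube p hT hdvd
        exact hDnc (hcomm A D (hA.trans hD.symm) hAc)
      have : n = 3 := by omega
      rw [hn, this]
  · by_cases hTc : IsCyclic T
    · exact Or.inl hTc
    · right; right; left
      push Not at hexp
      obtain ⟨x, hx⟩ := hexp
      -- a cyclic subgroup of order p ^ 2
      have hsq : ∀ K : Subgroup T, Nat.card K = p ^ 2 → IsCyclic K := by
        obtain ⟨j, hj⟩ := (IsPGroup.iff_orderOf.mp hT) x
        have hj2 : 2 ≤ j := by
          by_contra hlt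
          apply hx
          have : j ≤ 1 := by omega
          have hdvd : orderOf x ∣ p := by
            rw [hj]
            calc p ^ j ∣ p ^ 1 := pow_dvd_pow p this
              _ = p := pow_one p
          exact orderOf_dvd_iff_pow_eq_one.mp hdvd
        have ho : orderOf (x ^ (orderOf x / p ^ 2)) = p ^ 2 := by
          apply orderOf_pow_orderOf_div (orderOf_pos x).ne'
          rw [hj]
          exact pow_dvd_pow p hj2
        intro K hK
        apply hcyc (Subgroup.zpowers (x ^ (orderOf x / p ^ 2))) K
        · rw [Nat.card_zpowers, ho, hK]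
        · infer_instance
      obtain ⟨hp2, H, hH8, hHnc⟩ := exists_noncyclic_card_eight p hT hsq hTc
      refine ⟨hp2, ?_⟩
      subst hp2
      -- exponent 4
      have h4 : ∀ g : T, g ^ 4 = 1 := by
        intro g
        obtain ⟨j, hj⟩ := (IsPGroup.iff_orderOf.mp hT) g
        have hj2 : j ≤ 2 := by
          by_contra hlt
          have hj3 : 3 ≤ j := by omega
          have ho : orderOf (g ^ (orderOf g / 2 ^ 3)) = 2 ^ 3 := by
            apply orderOf_pow_orderOf_div (orderOf_pos g).ne'
            rw [hj]
            exact pow_dvd_pow 2 hj3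
          apply hHnc
          apply hcyc (Subgroup.zpowers (g ^ (orderOf g / 2 ^ 3))) H
          · rw [Nat.card_zpowers, ho, hH8]; norm_num
          · infer_instance
        have hdvd : orderOf g ∣ 4 := by
          rw [hj]
          calc 2 ^ j ∣ 2 ^ 2 := pow_dvd_pow 2 hj2
            _ = 4 := by norm_num
        exact orderOf_dvd_iff_pow_eq_one.mp hdvd
      have hcard : 4 < Nat.card T := by
        have := Subgroup.card_le_card_group H
        omega
      -- central involution
      haveI : Nontrivial T := by
        rw [← Finite.one_lt_card_iff_nontrivial]; omega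
      haveI := hT.center_nontrivial
      have h2dvd : 2 ∣ Nat.card (Subgroup.center T) := by
        obtain ⟨k, hk⟩ := IsPGroup.iff_card.mp (hT.to_subgroup (Subgroup.center T))
        rw [hk]
        have hk0 : k ≠ 0 := by
          intro h0
          rw [h0, pow_zero] at hk
          have := Finite.one_lt_card_iff_nontrivial.mpr ‹Nontrivial (Subgroup.center T)›
          omega
        exact dvd_pow_self 2 hk0
      obtain ⟨⟨z, hzc⟩, hzo⟩ := exists_prime_orderOf_dvd_card' 2 h2dvd
      have hzo' : orderOf z = 2 := by rw [← hzo, Subgroup.orderOf_mk]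
      have hz1 : z ≠ 1 := by
        intro h
        rw [h, orderOf_one] at hzo'
        omega
      have hz2 : z ^ 2 = 1 := by rw [← hzo']; exact pow_orderOf_eq_one z
      have hzcomm : ∀ g : T, g * z = z * g := fun g => Subgroup.mem_center_iff.mp hzc g
      haveI hzn : (Subgroup.zpowers z).Normal := by
        constructor
        intro n hn g
        obtain ⟨k, rfl⟩ := Subgroup.mem_zpowers_iff.mp hn
        have : g * z ^ k * g⁻¹ = z ^ k := by
          have h1 : g * z ^ k = z ^ k * g := by
            have : Commute g z := hzcomm g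
            exact (this.zpow_right k).eq
          rw [h1]; group
        rw [this]
        exact Subgroup.zpow_mem_zpowers z k
      -- unique involution
      have hinv : ∀ u : T, u ^ 2 = 1 → u = 1 ∨ u = z := by
        intro u hu
        by_contra hcon
        push Not at hcon
        obtain ⟨hu1, huz⟩ := hcon
        have huo : orderOf u = 2 := orderOf_eq_prime hu hu1
        set K := Subgroup.zpowers u ⊔ Subgroup.zpowers z with hK
        have hKset : ((K : Subgroup T) : Set T) =
            (Subgroup.zpowers u : Set T) * (Subgroup.zpowers z : Set T) :=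
          Subgroup.mul_normal _ _
        have hKle : Nat.card K ≤ 4 := by
          have h2 : Nat.card K = Nat.card ((K : Subgroup T) : Set T) := rfl
          rw [h2, hKset]
          refine Set.natCard_mul_le.trans ?_
          have h3 : Nat.card (Subgroup.zpowers u : Set T) = 2 := by
            have : Nat.card (Subgroup.zpowers u : Set T) = Nat.card (Subgroup.zpowers u) := rfl
            rw [this, Nat.card_zpowers, huo]
          have h4' : Nat.card (Subgroup.zpowers z : Set T) = 2 := by
            have : Nat.card (Subgroup.zpowers z : Set T) = Nat.card (Subgroup.zpowers z) := rfl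
            rw [this, Nat.card_zpowers, hzo']
          rw [h3, h4']
        have hsqK : ∀ k ∈ K, k ^ 2 = 1 := by
          intro k hk
          have : k ∈ ((K : Subgroup T) : Set T) := hk
          rw [hKset, Set.mem_mul] at this
          obtain ⟨a, ha, b, hb, rfl⟩ := this
          obtain ⟨i, rfl⟩ := Subgroup.mem_zpowers_iff.mp ha
          obtain ⟨j, rfl⟩ := Subgroup.mem_zpowers_iff.mp hb
          have hcomm' : Commute (u ^ i) (z ^ j) := by
            have : Commute u z := hzcomm u
            exact (this.zpow_zpow i j)
          rw [hcomm'.mul_pow, ← zpow_natCast, ← zpow_natCast, ← zpow_mul, ← zpow_mul,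
            mul_comm i, mul_comm j, zpow_mul, zpow_mul, zpow_natCast, zpow_natCast, hu, hz2,
            one_zpow, one_zpow, mul_one]
        have hlt : Subgroup.zpowers z < K := by
          refine lt_of_le_of_ne le_sup_right ?_
          intro heq
          have huK : u ∈ Subgroup.zpowers z := by
            rw [heq]; exact Subgroup.mem_sup_left (Subgroup.mem_zpowers u)
          obtain ⟨k, hk⟩ := Subgroup.mem_zpowers_iff.mp huK
          rcases Int.even_or_odd k with ⟨l, hl⟩ | ⟨l, hl⟩
          · apply hu1
            rw [← hk, hl, ← two_mul, zpow_mul, zpow_ofNat, hz2, one_zpow]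
          · apply huz
            rw [← hk, hl, zpow_add, zpow_mul, zpow_ofNat, hz2, one_zpow, one_mul, zpow_one]
        have hKgt : 2 < Nat.card K := by
          have := card_lt_card_of_lt hlt
          rw [Nat.card_zpowers, hzo'] at this
          exact this
        obtain ⟨k, hk⟩ := IsPGroup.iff_card.mp (hT.to_subgroup K)
        have hk2 : k = 2 := by
          have h1 : 2 ^ k ≤ 2 ^ 2 := by rw [← hk]; exact hKle
          have h2 : 2 ^ 1 < 2 ^ k := by rw [← hk]; exact hKgt
          have h3 := (Nat.pow_le_pow_iff_right (by norm_num : 1 < 2)).mp h1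
          have h4' := (Nat.pow_lt_pow_iff_right (by norm_num : 1 < 2)).mp h2
          omega
        rw [hk2] at hk
        haveI := hsq K hk
        obtain ⟨g, hg⟩ := IsCyclic.exists_generator (α := K)
        have hgo : orderOf g = 4 := by
          rw [orderOf_eq_card_of_forall_mem_zpowers hg, hk]; norm_num
        have hg2 : g ^ 2 = 1 := by
          apply Subtype.ext
          have := hsqK g g.2
          simpa using this
        have := orderOf_dvd_of_pow_eq_one hg2
        rw [hgo] at this
        omega
      exact nonempty_mulEquiv_quaternion_of_unique_involution z hz1 hz2 hinv h4 hcard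

end Cfsg.Agent.Helper20
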