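import Mathlib
import Cfsg.Agent.Lib.Helper20.SameOrderConj2
import Cfsg.Agent.Lib.Helper20.SameOrderIso2

set_option autoImplicit false

namespace Cfsg.Agent.Helper20

open scoped Pointwise

universe u

section quotient

variable {G : Type*} [Group G] [Finite G]

/-- The image of a Sylow `p`-subgroup of the preimage of a `p`-subgroup is everything. -/
theorem map_sylow_comap_eq {p : ℕ} [Fact p.Prime] (N : Subgroup G) [N.Normal]
    (X' : Subgroup (G ⧸ N)) (hX' : IsPGroup p X')
    (S : Sylow p ↥(X'.comap (QuotientGroup.mk' N))) :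
    ((S : Subgroup ↥(X'.comap (QuotientGroup.mk' N))).map
      (X'.comap (QuotientGroup.mk' N)).subtype).map (QuotientGroup.mk' N) = X' := by
  set f := (QuotientGroup.mk' N).subgroupComap X' with hf
  have hfs : Function.Surjective f :=
    MonoidHom.subgroupComap_surjective_of_surjective _ _ (QuotientGroup.mk'_surjective N)
  have h1 : ((S.mapSurjective hfs : Sylow p ↥X') : Subgroup ↥X') = (S : Subgroup _).map f :=
    Sylow.coe_mapSurjective hfs S
  have h2 : ((S.mapSurjective hfs : Sylow p ↥X') : Subgroup ↥X') = ⊤ := by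
    have htop : IsPGroup p (⊤ : Subgroup ↥X') := hX'.to_subgroup ⊤
    exact ((S.mapSurjective hfs).is_maximal' htop le_top).symm
  apply le_antisymm
  · rintro _ ⟨_, ⟨a, -, rfl⟩, rfl⟩
    exact a.2
  · intro x hx
    have h3 : (⟨x, hx⟩ : X') ∈ (S : Subgroup _).map f := by
      rw [← h1, h2]; exact Subgroup.mem_top _
    obtain ⟨a, ha, hax⟩ := h3
    refine ⟨(a : G), ⟨a, ha, rfl⟩, ?_⟩
    have := congrArg Subtype.val hax
    exact this

/-- The hypothesis "same-order `p`-subgroups are conjugate" passes to quotients by normal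
`q`-subgroups. -/
theorem conj_quotient_of_conj {q : ℕ} [Fact q.Prime] (N : Subgroup G) [N.Normal]
    (hNq : IsPGroup q N)
    (hD : ∀ p : ℕ, p.Prime → ∀ X Y : Subgroup G, IsPGroup p X → IsPGroup p Y →
      Nat.card X = Nat.card Y → ∃ g : G, MulAut.conj g • X = Y)
    (p : ℕ) (hp : p.Prime) (X' Y' : Subgroup (G ⧸ N)) (hX' : IsPGroup p X') (hY' : IsPGroup p Y')
    (h : Nat.card X' = Nat.card Y') : ∃ g : G ⧸ N, MulAut.conj g • X' = Y' := by
  haveI : Fact p.Prime := ⟨hp⟩
  have hπ := QuotientGroup.mk'_surjective N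
  set A := X'.comap (QuotientGroup.mk' N) with hA
  set B := Y'.comap (QuotientGroup.mk' N) with hB
  have hAmap : A.map (QuotientGroup.mk' N) = X' := Subgroup.map_comap_eq_self_of_surjective hπ X'
  have hBmap : B.map (QuotientGroup.mk' N) = Y' := Subgroup.map_comap_eq_self_of_surjective hπ Y'
  have hcard : Nat.card A = Nat.card B := by
    have iA : A.index = X'.index := Subgroup.index_comap_of_surjective X' hπ
    have iB : B.index = Y'.index := Subgroup.index_comap_of_surjective Y' hπ
    have e1 := Subgroup.card_mul_index X'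
    have e2 := Subgroup.card_mul_index Y'
    have hidx : X'.index = Y'.index := by
      rw [← e2, h] at e1
      exact Nat.eq_of_mul_eq_mul_left Nat.card_pos e1
    have e3 := Subgroup.card_mul_index A
    have e4 := Subgroup.card_mul_index B
    rw [iA, hidx] at e3
    rw [iB, ← e3] at e4
    have hpos : 0 < Y'.index := Nat.pos_of_ne_zero Subgroup.index_ne_zero_of_finite
    exact (Nat.eq_of_mul_eq_mul_right hpos e4).symm
  by_cases hpq : p = q
  · subst hpq
    have hlift : ∀ (Z' : Subgroup (G ⧸ N)), IsPGroup p Z' →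
        IsPGroup p (Z'.comap (QuotientGroup.mk' N)) := by
      intro Z' hZ' a
      obtain ⟨j, hj⟩ := hZ' ⟨QuotientGroup.mk' N (a : G), a.2⟩
      have hj' : (QuotientGroup.mk' N (a : G)) ^ p ^ j = 1 := by
        have := congrArg Subtype.val hj
        simpa using this
      rw [← map_pow] at hj'
      have hmem : (a : G) ^ p ^ j ∈ N := (QuotientGroup.eq_one_iff _).mp hj'
      obtain ⟨i, hi⟩ := hNq ⟨_, hmem⟩
      have hi' : ((a : G) ^ p ^ j) ^ p ^ i = 1 := by
        have := congrArg Subtype.val hi
        simpa using this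
      refine ⟨j + i, ?_⟩
      apply Subtype.ext
      rw [pow_add, pow_mul]
      simpa using hi'
    obtain ⟨g, hg⟩ := hD p hp A B (hlift X' hX') (hlift Y' hY') hcard
    refine ⟨QuotientGroup.mk' N g, ?_⟩
    rw [← hAmap, ← map_conj_smul, hg, hBmap]
  · obtain ⟨SA⟩ : Nonempty (Sylow p ↥A) := inferInstance
    obtain ⟨SB⟩ : Nonempty (Sylow p ↥B) := inferInstance
    set Ap := (SA : Subgroup ↥A).map A.subtype with hAp
    set Bp := (SB : Subgroup ↥B).map B.subtype with hBp
    have hApp : IsPGroup p Ap := SA.isPGroup'.map _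
    have hBpp : IsPGroup p Bp := SB.isPGroup'.map _
    have hcardp : Nat.card Ap = Nat.card Bp := by
      rw [hAp, hBp, Subgroup.card_map_of_injective A.subtype_injective,
        Subgroup.card_map_of_injective B.subtype_injective, Sylow.card_eq_multiplicity,
        Sylow.card_eq_multiplicity, hcard]
    obtain ⟨g, hg⟩ := hD p hp Ap Bp hApp hBpp hcardp
    refine ⟨QuotientGroup.mk' N g, ?_⟩
    have hA' : Ap.map (QuotientGroup.mk' N) = X' := map_sylow_comap_eq N X' hX' SA
    have hB' : Bp.map (QuotientGroup.mk' N) = Y' := map_sylow_comap_eq N Y' hY' SB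
    rw [← hA', ← map_conj_smul, hg, hB']

end quotient

section unique

variable {T : Type*} [Group T] [Finite T]

/-- In a `p`-group with isomorphic same-order subgroups and an element of order `p ^ 2`, all
elements of order dividing `p` lie in one subgroup of order `p`. -/
theorem unique_orderOf_prime_of_iso (p : ℕ) [Fact p.Prime] (hT : IsPGroup p T)
    (hiso : ∀ H K : Subgroup T, Nat.card H = Nat.card K → Nonempty (H ≃* K)) (x : T)
    (hx : x ^ p ≠ 1) :
    ∃ z : T, orderOf z = p ∧ ∀ u : T, u ^ p = 1 → u ∈ Subgroup.zpowers z := by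
  have hp : p.Prime := Fact.out
  have hcyc : ∀ H K : Subgroup T, Nat.card H = Nat.card K → IsCyclic H → IsCyclic K := by
    intro H K hHK hH
    obtain ⟨e⟩ := hiso H K hHK
    exact isCyclic_of_surjective e e.surjective
  have hsq : ∀ K : Subgroup T, Nat.card K = p ^ 2 → IsCyclic K := by
    obtain ⟨j, hj⟩ := (IsPGroup.iff_orderOf.mp hT) x
    have hj2 : 2 ≤ j := by
      by_contra hlt
      apply hx
      have : j ≤ 1 := by omega
      have hdvd : orderOf x ∣ p := by
        rw [hj]
        calc p ^ j ∣ p ^ 1 := pow_dvd_pow p this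
          _ = p := pow_one p
      exact orderOf_dvd_iff_pow_eq_one.mp hdvd
    have ho : orderOf (x ^ (orderOf x / p ^ 2)) = p ^ 2 := by
      apply orderOf_pow_orderOf_div (orderOf_pos x).ne'
      rw [hj]
      exact pow_dvd_pow p hj2
    intro K hK
    apply hcyc (Subgroup.zpowers (x ^ (orderOf x / p ^ 2))) K
    · rw [Nat.card_zpowers, ho, hK]
    · infer_instance
  haveI : Nontrivial T := by
    refine ⟨⟨x, 1, ?_⟩⟩
    intro h
    apply hx
    rw [h, one_pow]
  haveI := hT.center_nontrivial
  have hpdvd : p ∣ Nat.card (Subgroup.center T) := by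
    obtain ⟨k, hk⟩ := IsPGroup.iff_card.mp (hT.to_subgroup (Subgroup.center T))
    rw [hk]
    have hk0 : k ≠ 0 := by
      intro h0
      rw [h0, pow_zero] at hk
      have := Finite.one_lt_card_iff_nontrivial.mpr ‹Nontrivial (Subgroup.center T)›
      omega
    exact dvd_pow_self p hk0
  obtain ⟨⟨z, hzc⟩, hzo⟩ := exists_prime_orderOf_dvd_card' p hpdvd
  have hzo' : orderOf z = p := by rw [← hzo, Subgroup.orderOf_mk]
  have hzp : z ^ p = 1 := by rw [← hzo']; exact pow_orderOf_eq_one z
  have hzcomm : ∀ g : T, g * z = z * g := fun g => Subgroup.mem_center_iff.mp hzc g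
  haveI hzn : (Subgroup.zpowers z).Normal := by
    constructor
    intro n hn g
    obtain ⟨k, rfl⟩ := Subgroup.mem_zpowers_iff.mp hn
    have : g * z ^ k * g⁻¹ = z ^ k := by
      have h1 : g * z ^ k = z ^ k * g := by
        have : Commute g z := hzcomm g
        exact (this.zpow_right k).eq
      rw [h1]; group
    rw [this]
    exact Subgroup.zpow_mem_zpowers z k
  refine ⟨z, hzo', ?_⟩
  intro u hu
  by_contra hcon
  have hu1 : u ≠ 1 := fun h => hcon (h ▸ Subgroup.one_mem _)
  have huo : orderOf u = p := orderOf_eq_prime hu hu1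
  set K := Subgroup.zpowers u ⊔ Subgroup.zpowers z with hK
  have hKset : ((K : Subgroup T) : Set T) =
      (Subgroup.zpowers u : Set T) * (Subgroup.zpowers z : Set T) :=
    Subgroup.mul_normal _ _
  have hKle : Nat.card K ≤ p * p := by
    have h2 : Nat.card K = Nat.card ((K : Subgroup T) : Set T) := rfl
    rw [h2, hKset]
    refine Set.natCard_mul_le.trans ?_
    have h3 : Nat.card (Subgroup.zpowers u : Set T) = p := by
      have : Nat.card (Subgroup.zpowers u : Set T) = Nat.card (Subgroup.zpowers u) := rfl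
      rw [this, Nat.card_zpowers, huo]
    have h4' : Nat.card (Subgroup.zpowers z : Set T) = p := by
      have : Nat.card (Subgroup.zpowers z : Set T) = Nat.card (Subgroup.zpowers z) := rfl
      rw [this, Nat.card_zpowers, hzo']
    rw [h3, h4']
  have hpowK : ∀ k ∈ K, k ^ p = 1 := by
    intro k hk
    have : k ∈ ((K : Subgroup T) : Set T) := hk
    rw [hKset, Set.mem_mul] at this
    obtain ⟨a, ha, b, hb, rfl⟩ := this
    obtain ⟨i, rfl⟩ := Subgroup.mem_zpowers_iff.mp ha
    obtain ⟨j, rfl⟩ := Subgroup.mem_zpowers_iff.mp hb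
    have hcomm' : Commute (u ^ i) (z ^ j) := by
      have : Commute u z := hzcomm u
      exact (this.zpow_zpow i j)
    rw [hcomm'.mul_pow, ← zpow_natCast, ← zpow_natCast, ← zpow_mul, ← zpow_mul,
      mul_comm i, mul_comm j, zpow_mul, zpow_mul, zpow_natCast, zpow_natCast, hu, hzp,
      one_zpow, one_zpow, mul_one]
  have hlt : Subgroup.zpowers z < K := by
    refine lt_of_le_of_ne le_sup_right ?_
    intro heq
    apply hcon
    rw [heq]; exact Subgroup.mem_sup_left (Subgroup.mem_zpowers u)
  have hKgt : p < Nat.card K := by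
    have := card_lt_card_of_lt hlt
    rw [Nat.card_zpowers, hzo'] at this
    exact this
  obtain ⟨k, hk⟩ := IsPGroup.iff_card.mp (hT.to_subgroup K)
  have hk2 : k = 2 := by
    have h1 : p ^ k ≤ p ^ 2 := by rw [← hk, pow_two]; exact hKle
    have h2 : p ^ 1 < p ^ k := by rw [← hk, pow_one]; exact hKgt
    have h3 := (Nat.pow_le_pow_iff_right hp.one_lt).mp h1
    have h4' := (Nat.pow_lt_pow_iff_right hp.one_lt).mp h2
    omega
  rw [hk2] at hk
  haveI := hsq K hk
  obtain ⟨g, hg⟩ := IsCyclic.exists_generator (α := K)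
  have hgo : orderOf g = p ^ 2 := by
    rw [orderOf_eq_card_of_forall_mem_zpowers hg, hk]
  have hg2 : g ^ p = 1 := by
    apply Subtype.ext
    have := hpowK g g.2
    simpa using this
  have := orderOf_dvd_of_pow_eq_one hg2
  rw [hgo] at this
  have h5 : p ^ 2 ≤ p := Nat.le_of_dvd hp.pos this
  have h6 : p < p ^ 2 := by
    calc p = p ^ 1 := (pow_one p).symm
      _ < p ^ 2 := Nat.pow_lt_pow_right hp.one_lt (by norm_num)
  omega

end unique

end Cfsg.Agent.Helper20
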