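import Mathlib
import Cfsg.Agent.Lib.Helper20.SameOrderConj3
import Cfsg.Agent.Lib.Helper1.Hall
import Cfsg.Agent.Lib.Helper1.HallConj
import Cfsg.Agent.Lib.Helper1.RelSubnormal

set_option autoImplicit false

namespace Cfsg.Agent.Helper20

open scoped Pointwise

universe u

section

variable {G : Type u} [Group G] [Finite G]

/-- Sylow subgroups of a `q'`-subgroup are cyclic when the Sylow `p`-subgroups of the group are
cyclic for all `p ≠ q`. -/
theorem sylow_cyclic_of_coprime {q : ℕ} [Fact q.Prime]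
    (hcyc : ∀ (p : ℕ) [Fact p.Prime], p ≠ q → ∀ P : Sylow p G, IsCyclic P)
    (T : Subgroup G) (hT : (Nat.card T).Coprime q) (p : ℕ) [Fact p.Prime] (P : Sylow p ↥T) :
    IsCyclic P := by
  have hq : q.Prime := Fact.out
  by_cases hpq : p = q
  · subst hpq
    have h1 : Nat.card (P : Subgroup ↥T) ∣ Nat.card T := Subgroup.card_subgroup_dvd_card _
    obtain ⟨k, hk⟩ := IsPGroup.iff_card.mp P.isPGroup'
    have hk0 : k = 0 := by
      by_contra hne
      have h2 : p ∣ Nat.card T := dvd_trans (hk ▸ dvd_pow_self p hne) h1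
      exact hq.one_lt.ne' (Nat.Coprime.eq_one_of_dvd hT.symm h2)
    rw [hk0, pow_zero] at hk
    haveI : Subsingleton (P : Subgroup ↥T) := by
      rw [← Finite.card_le_one_iff_subsingleton, hk]
    exact isCyclic_of_subsingleton
  · have hPp : IsPGroup p ((P : Subgroup ↥T).map T.subtype) := P.isPGroup'.map _
    obtain ⟨R, hR⟩ := hPp.exists_le_sylow
    haveI := hcyc p hpq R
    haveI : IsCyclic (((P : Subgroup ↥T).map T.subtype).subgroupOf (R : Subgroup G)) :=
      inferInstance
    have e1 := Subgroup.subgroupOfEquivOfLe hR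
    have e2 := (P : Subgroup ↥T).equivMapOfInjective T.subtype T.subtype_injective
    exact isCyclic_of_surjective (e1.trans e2.symm) (e1.trans e2.symm).surjective

/-- The order of the intersection with a normal Sylow subgroup. -/
theorem card_sylow_inf {q : ℕ} [Fact q.Prime] (N : Sylow q G) [(N : Subgroup G).Normal]
    (X : Subgroup G) :
    Nat.card ((N : Subgroup G) ⊓ X : Subgroup G) = q ^ (Nat.card X).factorization q ∧
      ((N : Subgroup G).relIndex X).Coprime q := by
  have hq : q.Prime := Fact.out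
  have e1 := Cfsg.Agent.Helper21.card_inf_mul_relIndex (N : Subgroup G) X
  have hcop : ((N : Subgroup G).relIndex X).Coprime q := by
    apply Nat.Coprime.symm
    rw [Nat.Prime.coprime_iff_not_dvd hq]
    intro hdvd
    exact N.not_dvd_index (dvd_trans hdvd (Subgroup.relIndex_dvd_index_of_normal _ X))
  refine ⟨?_, hcop⟩
  have hA : IsPGroup q ((N : Subgroup G) ⊓ X : Subgroup G) := N.isPGroup'.to_le inf_le_left
  obtain ⟨a, ha⟩ := IsPGroup.iff_card.mp hA
  rw [ha]
  congr 1
  rw [← e1, ha]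
  have hne1 : q ^ a ≠ 0 := pow_ne_zero a hq.ne_zero
  have hne2 : (N : Subgroup G).relIndex X ≠ 0 := by
    intro h0
    rw [h0, mul_zero] at e1
    exact Nat.card_pos.ne' e1.symm
  rw [Nat.factorization_mul hne1 hne2, Finsupp.add_apply, Nat.Prime.factorization_pow hq,
    Finsupp.single_eq_same, Nat.factorization_eq_zero_of_not_dvd, add_zero]
  intro hdvd
  exact hq.one_lt.ne' (Nat.Coprime.eq_one_of_dvd hcop.symm hdvd)

omit [Finite G] in
theorem conj_smul_eq_of_abelian {N A : Subgroup G} [N.Normal]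
    (hNab : ∀ a ∈ N, ∀ b ∈ N, a * b = b * a) (hAN : A ≤ N) {n : G} (hn : n ∈ N) :
    MulAut.conj n • A = A := by
  ext x
  rw [Cfsg.Agent.Helper1.mem_conj_smul_iff]
  constructor
  · intro hx
    have hxN : n⁻¹ * x * n ∈ N := hAN hx
    have hx' : x ∈ N := by
      have := N.mul_mem (N.mul_mem hn hxN) (N.inv_mem hn)
      have h2 : n * (n⁻¹ * x * n) * n⁻¹ = x := by group
      rwa [h2] at this
    have : n⁻¹ * x * n = x := by
      have := hNab x hx' n hn
      calc n⁻¹ * x * n = n⁻¹ * (x * n) := by group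
        _ = n⁻¹ * (n * x) := by rw [this]
        _ = x := by group
    rwa [this] at hx
  · intro hx
    have hx' : x ∈ N := hAN hx
    have : n⁻¹ * x * n = x := by
      have := hNab x hx' n hn
      calc n⁻¹ * x * n = n⁻¹ * (x * n) := by group
        _ = n⁻¹ * (n * x) := by rw [this]
        _ = x := by group
    rwa [this]

theorem le_normalizer_inf_of_normal (N K : Subgroup G) [N.Normal] :
    K ≤ Subgroup.normalizer ((N ⊓ K : Subgroup G) : Set G) := by
  intro k hk
  rw [← Cfsg.Agent.Helper1.conj_smul_eq_self_iff]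
  ext x
  rw [Cfsg.Agent.Helper1.mem_conj_smul_iff]
  constructor
  · rintro ⟨h1, h2⟩
    have e : k * (k⁻¹ * x * k) * k⁻¹ = x := by group
    constructor
    · have := ‹N.Normal›.conj_mem _ h1 k
      rwa [e] at this
    · have := K.mul_mem (K.mul_mem hk h2) (K.inv_mem hk)
      rwa [e] at this
  · rintro ⟨h1, h2⟩
    constructor
    · have := ‹N.Normal›.conj_mem _ h1 k⁻¹
      simpa using this
    · exact K.mul_mem (K.mul_mem (K.inv_mem hk) h2) hk

end

/-- Conjugacy of same-order subgroups when there is a normal abelian Sylow `q`-subgroup, same-order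
`q`-subgroups are conjugate, and the other Sylow subgroups are cyclic. -/
theorem conj_of_normal_abelian_sylow {G : Type u} [Group G] [Finite G] [Group.IsSolvable G]
    {q : ℕ} [Fact q.Prime] (N : Sylow q G) [hNn : (N : Subgroup G).Normal]
    (hNab : ∀ a ∈ (N : Subgroup G), ∀ b ∈ (N : Subgroup G), a * b = b * a)
    (hDq : ∀ X Y : Subgroup G, IsPGroup q X → IsPGroup q Y → Nat.card X = Nat.card Y →
      ∃ g : G, MulAut.conj g • X = Y)
    (hcyc : ∀ (p : ℕ) [Fact p.Prime], p ≠ q → ∀ P : Sylow p G, IsCyclic P)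
    (H K : Subgroup G) (h : Nat.card H = Nat.card K) : ∃ g : G, MulAut.conj g • H = K := by
  have hq : q.Prime := Fact.out
  -- numerology
  obtain ⟨k, hk⟩ := IsPGroup.iff_card.mp N.isPGroup'
  have hGcard : Nat.card G = (N : Subgroup G).index * Nat.card (N : Subgroup G) := by
    rw [mul_comm]; exact (Subgroup.card_mul_index _).symm
  have hmcop : ((N : Subgroup G).index).Coprime (Nat.card (N : Subgroup G)) := by
    rw [hk]
    apply Nat.Coprime.pow_right
    apply Nat.Coprime.symm
    rw [Nat.Prime.coprime_iff_not_dvd hq]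
    exact N.not_dvd_index
  -- Hall q'-subgroups of H and K
  have hall : ∀ X : Subgroup G, ∃ TX : Subgroup G, TX ≤ X ∧
      Nat.card TX = (N : Subgroup G).relIndex X := by
    intro X
    obtain ⟨hc1, hc2⟩ := card_sylow_inf N X
    have e1 := Cfsg.Agent.Helper21.card_inf_mul_relIndex (N : Subgroup G) X
    have hXcard : Nat.card X = (N : Subgroup G).relIndex X *
        Nat.card ((N : Subgroup G) ⊓ X : Subgroup G) := by rw [mul_comm]; exact e1.symm
    have hcop : ((N : Subgroup G).relIndex X).Coprime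
        (Nat.card ((N : Subgroup G) ⊓ X : Subgroup G)) := by
      rw [hc1]; exact Nat.Coprime.pow_right _ hc2
    obtain ⟨T', hT'⟩ := Cfsg.Agent.Helper1.hall_exists (G := ↥X) _ _ hXcard hcop
    exact ⟨T'.map X.subtype, Subgroup.map_subtype_le T',
      by rw [Subgroup.card_map_of_injective X.subtype_injective, hT']⟩
  obtain ⟨TH, hTHle, hTHcard⟩ := hall H
  obtain ⟨TK, hTKle, hTKcard⟩ := hall K
  have hrel : (N : Subgroup G).relIndex H = (N : Subgroup G).relIndex K := by
    have e1 := Cfsg.Agent.Helper21.card_inf_mul_relIndex (N : Subgroup G) H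
    have e2 := Cfsg.Agent.Helper21.card_inf_mul_relIndex (N : Subgroup G) K
    rw [(card_sylow_inf N H).1] at e1
    rw [(card_sylow_inf N K).1, ← h] at e2
    exact Nat.eq_of_mul_eq_mul_left (pow_pos hq.pos _) (e1.trans e2.symm)
  have hcopT : ∀ X : Subgroup G, ∀ TX : Subgroup G, Nat.card TX = (N : Subgroup G).relIndex X →
      (Nat.card TX).Coprime (Nat.card (N : Subgroup G)) := by
    intro X TX hTX
    rw [hTX, hk]
    exact Nat.Coprime.pow_right _ (card_sylow_inf N X).2
  obtain ⟨T₁, hT₁card, hTH₁⟩ := Cfsg.Agent.Helper1.hall_contain _ _ hGcard hmcop TH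
    (hcopT H TH hTHcard)
  obtain ⟨T, hTcard, hTKT⟩ := Cfsg.Agent.Helper1.hall_contain _ _ hGcard hmcop TK
    (hcopT K TK hTKcard)
  obtain ⟨x, hx⟩ := Cfsg.Agent.Helper1.hall_conj _ _ hGcard hmcop T₁ T hT₁card hTcard
  have hTq : (Nat.card T).Coprime q := by
    rw [hTcard]
    apply Nat.Coprime.symm
    rw [Nat.Prime.coprime_iff_not_dvd hq]
    exact N.not_dvd_index
  -- conjugate TH into TK inside T
  have hxTH : MulAut.conj x • TH ≤ T := by
    rw [← hx]; exact Subgroup.pointwise_smul_le_pointwise_smul_iff.mpr hTH₁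
  have hcardT1 : Nat.card ((MulAut.conj x • TH).subgroupOf T) = Nat.card (TK.subgroupOf T) := by
    rw [Cfsg.Agent.S0001.card_subgroupOf_of_le hxTH, Cfsg.Agent.S0001.card_subgroupOf_of_le hTKT,
      card_conj_smul, hTHcard, hTKcard, hrel]
  obtain ⟨y, hy⟩ := conj_of_all_sylow_cyclic (G := ↥T)
    (fun p _ P => sylow_cyclic_of_coprime hcyc T hTq p P) _ _ hcardT1
  have hy' : MulAut.conj (y : G) • (MulAut.conj x • TH) = TK :=
    Cfsg.Agent.Helper1.conj_of_conj_subgroupOf hxTH hTKT y hy
  rw [Cfsg.Agent.Helper1.conj_smul_conj_smul] at hy'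
  -- replace H by H₁
  obtain ⟨H₁, hH₁⟩ : ∃ H₁ : Subgroup G, H₁ = MulAut.conj ((y : G) * x) • H := ⟨_, rfl⟩
  have hH₁card : Nat.card H₁ = Nat.card K := by rw [hH₁, card_conj_smul, h]
  suffices hs : ∃ l : G, MulAut.conj l • H₁ = K by
    obtain ⟨l, hl⟩ := hs
    refine ⟨l * ((y : G) * x), ?_⟩
    rw [← Cfsg.Agent.Helper1.conj_smul_conj_smul, ← hH₁, hl]
  have hT₀H₁ : TK ≤ H₁ := by
    rw [hH₁, ← hy']
    exact Subgroup.pointwise_smul_le_pointwise_smul_iff.mpr hTHle
  -- decompositions
  have hdecomp : ∀ X : Subgroup G, TK ≤ X → Nat.card X = Nat.card K →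
      ((N : Subgroup G) ⊓ X) ⊔ TK = X := by
    intro X hTX hXcard
    apply Subgroup.eq_of_le_of_card_ge (sup_le inf_le_right hTX)
    have e1 := Cfsg.Agent.Helper21.card_inf_mul_relIndex (N : Subgroup G) X
    have hrelX : (N : Subgroup G).relIndex X = (N : Subgroup G).relIndex K := by
      have e2 := Cfsg.Agent.Helper21.card_inf_mul_relIndex (N : Subgroup G) K
      have e1' := e1
      rw [(card_sylow_inf N X).1, hXcard] at e1'
      rw [(card_sylow_inf N K).1] at e2
      exact Nat.eq_of_mul_eq_mul_left (pow_pos hq.pos _) (e1'.trans e2.symm)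
    have hd1 : Nat.card ((N : Subgroup G) ⊓ X : Subgroup G) ∣
        Nat.card (((N : Subgroup G) ⊓ X) ⊔ TK : Subgroup G) := Subgroup.card_dvd_of_le le_sup_left
    have hd2 : Nat.card TK ∣ Nat.card (((N : Subgroup G) ⊓ X) ⊔ TK : Subgroup G) :=
      Subgroup.card_dvd_of_le le_sup_right
    have hcop : (Nat.card ((N : Subgroup G) ⊓ X : Subgroup G)).Coprime (Nat.card TK) := by
      rw [(card_sylow_inf N X).1, hTKcard]
      exact (Nat.Coprime.pow_right _ (card_sylow_inf N K).2).symm
    have hd3 := Nat.Coprime.mul_dvd_of_dvd_of_dvd hcop hd1 hd2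
    rw [hTKcard, ← hrelX, e1] at hd3
    exact Nat.le_of_dvd Nat.card_pos hd3
  have hH₁dec := hdecomp H₁ hT₀H₁ hH₁card
  have hKdec := hdecomp K hTKle rfl
  -- conjugate the q-parts
  have hAcard : Nat.card ((N : Subgroup G) ⊓ H₁ : Subgroup G) =
      Nat.card ((N : Subgroup G) ⊓ K : Subgroup G) := by
    rw [(card_sylow_inf N H₁).1, (card_sylow_inf N K).1, hH₁card]
  obtain ⟨g, hg⟩ := hDq _ _ (N.isPGroup'.to_le inf_le_left) (N.isPGroup'.to_le inf_le_left) hAcard
  have hcompl : Subgroup.IsComplement' T (N : Subgroup G) := by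
    apply Subgroup.isComplement'_of_coprime
    · rw [hTcard, ← hGcard]
    · rw [hTcard]; exact hmcop
  obtain ⟨t, ht, n, hn, rfl⟩ := Cfsg.Agent.Helper1.IsComplement'.exists_mul hcompl g
  rw [← Cfsg.Agent.Helper1.conj_smul_conj_smul,
    conj_smul_eq_of_abelian hNab inf_le_left hn] at hg
  -- the normalizer
  obtain ⟨W, hW⟩ : ∃ W : Subgroup G, W = T ⊓ Subgroup.normalizer
      (((N : Subgroup G) ⊓ K : Subgroup G) : Set G) := ⟨_, rfl⟩
  have hWT : W ≤ T := by rw [hW]; exact inf_le_left
  have hT₀W : TK ≤ W := by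
    rw [hW]
    exact le_inf hTKT (hTKle.trans (le_normalizer_inf_of_normal _ K))
  have htT₀W : MulAut.conj t • TK ≤ W := by
    rw [hW]
    apply le_inf
    · have h1 : MulAut.conj t • TK ≤ MulAut.conj t • T :=
        Subgroup.pointwise_smul_le_pointwise_smul_iff.mpr hTKT
      rwa [Subgroup.conj_smul_eq_self_of_mem ht] at h1
    · intro z hz
      rw [Cfsg.Agent.Helper1.mem_conj_smul_iff] at hz
      have hs : t⁻¹ * z * t ∈ Subgroup.normalizer
          (((N : Subgroup G) ⊓ H₁ : Subgroup G) : Set G) :=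
        le_normalizer_inf_of_normal _ H₁ (hT₀H₁ hz)
      rw [← Cfsg.Agent.Helper1.conj_smul_eq_self_iff] at hs ⊢
      have e : z = t * (t⁻¹ * z * t) * t⁻¹ := by group
      rw [e, ← hg, Cfsg.Agent.Helper1.conj_smul_conj_smul]
      have e2 : t * (t⁻¹ * z * t) * t⁻¹ * t = t * (t⁻¹ * z * t) := by group
      rw [e2, ← Cfsg.Agent.Helper1.conj_smul_conj_smul, hs]
  have hWq : (Nat.card W).Coprime q :=
    Nat.Coprime.coprime_dvd_left (Subgroup.card_dvd_of_le hWT) hTq
  have hcardW : Nat.card ((MulAut.conj t • TK).subgroupOf W) = Nat.card (TK.subgroupOf W) := by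
    rw [Cfsg.Agent.S0001.card_subgroupOf_of_le htT₀W, Cfsg.Agent.S0001.card_subgroupOf_of_le hT₀W,
      card_conj_smul]
  obtain ⟨w, hw⟩ := conj_of_all_sylow_cyclic (G := ↥W)
    (fun p _ P => sylow_cyclic_of_coprime hcyc W hWq p P) _ _ hcardW
  have hw' : MulAut.conj (w : G) • (MulAut.conj t • TK) = TK :=
    Cfsg.Agent.Helper1.conj_of_conj_subgroupOf htT₀W hT₀W w hw
  have hwB : MulAut.conj (w : G) • ((N : Subgroup G) ⊓ K : Subgroup G) =
      ((N : Subgroup G) ⊓ K : Subgroup G) := by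
    rw [Cfsg.Agent.Helper1.conj_smul_eq_self_iff]
    have hle : W ≤ Subgroup.normalizer (((N : Subgroup G) ⊓ K : Subgroup G) : Set G) := by
      rw [hW]; exact inf_le_right
    exact hle w.2
  refine ⟨(w : G) * t, ?_⟩
  rw [← Cfsg.Agent.Helper1.conj_smul_conj_smul, ← hH₁dec, Subgroup.smul_sup, hg,
    Subgroup.smul_sup, hwB, hw', hKdec]

end Cfsg.Agent.Helper20
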