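import Mathlib
import Cfsg.Agent.Lib.Helper20.SameOrderConj4

set_option autoImplicit false

namespace Cfsg.Agent.Helper20

open scoped Pointwise

universe u

/-- conjugacy of same-order `p`-subgroups gives isomorphism of same-order subgroups of a Sylow -/
theorem iso_of_conj_smul {G : Type*} [Group G] [Finite G] {p : ℕ} [Fact p.Prime]
    (hC : ∀ X Y : Subgroup G, IsPGroup p X → IsPGroup p Y → Nat.card X = Nat.card Y →
      ∃ g : G, MulAut.conj g • X = Y) (P : Sylow p G) :
    ∀ H K : Subgroup ↥(P : Subgroup G), Nat.card H = Nat.card K → Nonempty (H ≃* K) := by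
  have hT : IsPGroup p ↥(P : Subgroup G) := P.isPGroup'
  intro H K hHK
  have hinj := (P : Subgroup G).subtype_injective
  have h1 : IsPGroup p (H.map (P : Subgroup G).subtype) :=
    hT.to_le (Subgroup.map_subtype_le H)
  have h2 : IsPGroup p (K.map (P : Subgroup G).subtype) :=
    hT.to_le (Subgroup.map_subtype_le K)
  have h3 : Nat.card (H.map (P : Subgroup G).subtype) = Nat.card (K.map (P : Subgroup G).subtype) := by
    rw [Subgroup.card_map_of_injective hinj, Subgroup.card_map_of_injective hinj, hHK]
  obtain ⟨g, hg⟩ := hC _ _ h1 h2 h3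
  have e1 := H.equivMapOfInjective _ hinj
  have e2 := Subgroup.equivSMul (MulAut.conj g) (H.map (P : Subgroup G).subtype)
  have e3 := MulEquiv.subgroupCongr hg
  have e4 := K.equivMapOfInjective _ hinj
  exact ⟨((e1.trans e2).trans e3).trans e4.symm⟩

theorem conj_of_same_order_aux : ∀ (n : ℕ) (G : Type u) [Group G] [Finite G]
    [Group.IsSolvable G], Nat.card G = n →
    (∀ p : ℕ, p.Prime → ∀ X Y : Subgroup G, IsPGroup p X → IsPGroup p Y →
      Nat.card X = Nat.card Y → ∃ g : G, MulAut.conj g • X = Y) →
    ∀ r : ℕ, (∀ (p : ℕ) [Fact p.Prime], p ≠ r → ∀ P : Sylow p G, IsCyclic P) →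
    ∀ H K : Subgroup G, Nat.card H = Nat.card K → ∃ g : G, MulAut.conj g • H = K := by
  intro n
  induction n using Nat.strong_induction_on with
  | _ n ih =>
  intro G _ _ _ hn hD r hcyc H K hHK
  rcases subsingleton_or_nontrivial G with hsub | hnt
  · refine ⟨1, ?_⟩
    rw [map_one, one_smul]
    ext x
    rw [Subsingleton.elim x 1]
    exact ⟨fun _ => K.one_mem, fun _ => H.one_mem⟩
  · have hD' : ∀ p : ℕ, p.Prime → ∀ X Y : Subgroup G, Nat.card X = p → Nat.card Y = p →
        ∃ g : G, MulAut.conj g • X = Y := by
      intro p hp X Y hX hY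
      haveI : Fact p.Prime := ⟨hp⟩
      exact hD p hp X Y (IsPGroup.of_card (n := 1) (by rw [hX, pow_one]))
        (IsPGroup.of_card (n := 1) (by rw [hY, pow_one])) (hX.trans hY.symm)
    obtain ⟨q, N, hq, hNn, hNne, hNab, hNmem⟩ := exists_normal_omega hD'
    haveI : Fact q.Prime := ⟨hq⟩
    haveI := hNn
    have hNp : IsPGroup q N := by
      intro x
      refine ⟨1, ?_⟩
      rw [pow_one]
      apply Subtype.ext
      have := (hNmem x).mp x.2
      simpa using this
    obtain ⟨R, hR⟩ := hNp.exists_le_sylow
    have hN2 : ∀ x : G, orderOf x = q → x ∈ N := by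
      intro x hx
      rw [hNmem, ← hx]
      exact pow_orderOf_eq_one x
    -- the case |N| = q
    have caseII : Nat.card N = q → ∃ g : G, MulAut.conj g • H = K := by
      intro hNq
      have hlt : Nat.card (G ⧸ N) < n := by
        rw [← hn]; exact Cfsg.Agent.S0001.card_quotient_lt_of_ne_bot hNne
      have hquot := ih _ hlt (G ⧸ N) rfl
        (fun p hp X' Y' hX' hY' hXY => conj_quotient_of_conj N hNp hD p hp X' Y' hX' hY' hXY)
        r (fun p _ hpr P' => sylow_quotient_cyclic N (hcyc p hpr) P')
      exact conj_of_quotient_prime N hNq hN2 hquot H K hHK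
    have hcard_of_le_zpowers : ∀ z : G, orderOf z = q → N ≤ Subgroup.zpowers z →
        Nat.card N = q := by
      intro z hz hle
      have h1 : Nat.card N ∣ q := by
        have := Subgroup.card_dvd_of_le hle
        rwa [Nat.card_zpowers, hz] at this
      rcases (Nat.dvd_prime hq).mp h1 with h2 | h2
      · exact absurd (Subgroup.card_eq_one.mp h2) hNne
      · exact h2
    by_cases hqr : q = r
    · by_cases hexp : ∀ x ∈ (R : Subgroup G), x ^ q = 1
      · -- N = R
        have hNR : N = (R : Subgroup G) :=
          le_antisymm hR (fun x hx => (hNmem x).mpr (hexp x hx))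
        haveI : (R : Subgroup G).Normal := hNR ▸ hNn
        apply conj_of_normal_abelian_sylow R
        · intro a ha b hb
          rw [← hNR] at ha hb
          exact hNab a ha b hb
        · exact hD q hq
        · intro p _ hpq P
          exact hcyc p (hqr ▸ hpq) P
        · exact hHK
      · apply caseII
        push Not at hexp
        obtain ⟨x, hxR, hx⟩ := hexp
        have hiso := iso_of_conj_smul (hD q hq) R
        obtain ⟨z, hzo, hz⟩ := unique_orderOf_prime_of_iso q R.isPGroup' hiso ⟨x, hxR⟩
          (fun h => hx (by simpa using congrArg Subtype.val h))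
        apply hcard_of_le_zpowers (z : G) (by rw [Subgroup.orderOf_coe, hzo])
        intro a ha
        have haq : (⟨a, hR ha⟩ : (R : Subgroup G)) ^ q = 1 := by
          apply Subtype.ext
          simpa using (hNmem a).mp ha
        obtain ⟨k, hk⟩ := Subgroup.mem_zpowers_iff.mp (hz _ haq)
        rw [Subgroup.mem_zpowers_iff]
        refine ⟨k, ?_⟩
        have := congrArg Subtype.val hk
        simpa using this
    · apply caseII
      haveI := hcyc q hqr R
      haveI : IsCyclic (N.subgroupOf (R : Subgroup G)) := inferInstance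
      haveI : IsCyclic N :=
        isCyclic_of_surjective (Subgroup.subgroupOfEquivOfLe hR)
          (Subgroup.subgroupOfEquivOfLe hR).surjective
      obtain ⟨x, hx⟩ := IsCyclic.exists_generator (α := N)
      have hxo : orderOf x = Nat.card N := orderOf_eq_card_of_forall_mem_zpowers hx
      have hxq : x ^ q = 1 := by
        apply Subtype.ext
        have := (hNmem x).mp x.2
        simpa using this
      have hdvd : Nat.card N ∣ q := by rw [← hxo]; exact orderOf_dvd_of_pow_eq_one hxq
      rcases (Nat.dvd_prime hq).mp hdvd with h1 | h1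
      · exact absurd (Subgroup.card_eq_one.mp h1) hNne
      · exact h1

theorem conj_of_same_order {G : Type u} [Group G] [Finite G] [Group.IsSolvable G]
    (hD : ∀ p : ℕ, p.Prime → ∀ X Y : Subgroup G, IsPGroup p X → IsPGroup p Y →
      Nat.card X = Nat.card Y → ∃ g : G, MulAut.conj g • X = Y)
    (r : ℕ) (hcyc : ∀ (p : ℕ) [Fact p.Prime], p ≠ r → ∀ P : Sylow p G, IsCyclic P)
    (H K : Subgroup G) (h : Nat.card H = Nat.card K) : ∃ g : G, MulAut.conj g • H = K :=
  conj_of_same_order_aux _ G rfl hD r hcyc H K h

end Cfsg.Agent.Helper20
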