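import Mathlib
import Cfsg.Agent.Lib.Helper20.SchDefs

/-!
# S4395, piece SCH-FORM: the bound for invariant alternating forms (prime case + assembly core)
-/

set_option autoImplicit false

namespace Cfsg.Agent.Helper20.Sch

variable {p q : ℕ} [Fact p.Prime] [Fact q.Prime]

section field

variable {a : ℕ} {F : Type*} [Field F] [Finite F]

/-- SCH-PRIME : an alternating biadditive form on a field of prime order vanishes. -/
theorem form_zero_of_card_prime (hF : Nat.card F = p)
    {C : Type*} [AddCommGroup C] (B : F →+ F →+ C) (halt : ∀ x, B x x = 0) : B = 0 := by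
  have h1 : (1 : F) ≠ 0 := one_ne_zero
  have hgen : ∀ x : F, ∃ n : ℤ, n • (1 : F) = x := by
    intro x
    have := mem_zmultiples_of_prime_card (G := F) hF (g := (1 : F)) (g' := x) h1
    exact AddSubgroup.mem_zmultiples_iff.mp this
  ext x x'
  obtain ⟨n, rfl⟩ := hgen x
  obtain ⟨n', rfl⟩ := hgen x'
  have h2 : B (n • (1 : F)) = n • B 1 := map_zsmul B n 1
  rw [map_zsmul, h2, AddMonoidHom.zsmul_apply, halt 1, smul_zero, smul_zero]
  rfl

/-- the trivial case of the bound -/
theorem sch_form_closure_zero {C : Type*} [AddCommGroup C] (k : ℕ) :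
    Nat.card (AddSubgroup.closure (Set.range fun z : F × F => (0 : F →+ F →+ C) z.1 z.2)) ≤
      p ^ k := by
  have h0 : (Set.range fun z : F × F => (0 : F →+ F →+ C) z.1 z.2) = {0} := by
    ext c
    simp only [AddMonoidHom.zero_apply, Set.mem_range, Set.mem_singleton_iff]
    constructor
    · rintro ⟨_, rfl⟩; rfl
    · rintro rfl; exact ⟨(0, 0), rfl⟩
  rw [h0, AddSubgroup.closure_singleton_zero]
  rw [AddSubgroup.card_bot]
  exact Nat.one_le_pow _ _ (Fact.out : p.Prime).pos

/-- SCH-FORM core: assembly with the three field pieces as hypotheses. -/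
theorem form_bound_core (hF : Nat.card F = p ^ a) (μ : F)
    {C : Type*} [AddCommGroup C] (B : F →+ F →+ C) (halt : ∀ x, B x x = 0)
    (hadj : B ≠ 0 → ∃ τ : F ≃+* F, τ μ = μ⁻¹ ∧ ∀ c x x', B (c * x) x' = B x (τ c * x'))
    (hcases : ∀ τ : F ≃+* F, τ μ = μ⁻¹ →
      (q = 2 ∧ a = 1) ∨ (a % 2 = 0 ∧ ∀ x, τ x = x ^ p ^ (a / 2)))
    (heven : a % 2 = 0 → (∀ c x x', B (c * x) x' = B x (c ^ p ^ (a / 2) * x')) →
      Nat.card (AddSubgroup.closure (Set.range fun z : F × F => B z.1 z.2)) ≤ p ^ (a / 2))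
    (a₀ : ℕ) (ha₀ : a₀ = if a % 2 = 1 then a else 3 * a / 2) :
    Nat.card (AddSubgroup.closure (Set.range fun z : F × F => B z.1 z.2)) ≤ p ^ (a₀ - a) := by
  by_cases hB : B = 0
  · subst hB
    exact sch_form_closure_zero (a₀ - a)
  · obtain ⟨τ, hτμ, hτ⟩ := hadj hB
    rcases hcases τ hτμ with ⟨_, ha1⟩ | ⟨hae, hτx⟩
    · exfalso
      apply hB
      apply form_zero_of_card_prime (p := p) _ B halt
      rw [hF, ha1, pow_one]
    · have hbound := heven hae (fun c x x' => by rw [hτ, hτx])
      have : a₀ - a = a / 2 := by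
        rw [ha₀, if_neg (by omega)]
        omega
      rw [this]
      exact hbound

end field

end Cfsg.Agent.Helper20.Sch
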