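import Mathlib
import Cfsg.Agent.Lib.Helper20.SchDefs
import Cfsg.Agent.Lib.Helper20.SchFORM
import Cfsg.Agent.Lib.Helper13.SchADJCore
import Cfsg.Agent.Lib.Helper5.SchGEN
import Cfsg.Agent.Lib.Helper1.SchFROB
import Cfsg.Agent.Lib.Helper2.SchEVEN

/-!
# S4395, piece SCH-FORM: the bound for invariant alternating forms (final wrapper)
-/

set_option autoImplicit false

namespace Cfsg.Agent.Helper20.Sch

variable {p q : ℕ} [Fact p.Prime] [Fact q.Prime]

section field

variable {a : ℕ} {F : Type*} [Field F] [Finite F]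

/-- SCH-FORM (assembly of ADJ, FROB, EVEN, PRIME) -/
theorem form_bound (hpq : p ≠ q) (ha : a = orderOf (p : ZMod q))
    (hF : Nat.card F = p ^ a) (μ : F) (hμ : orderOf μ = q)
    {C : Type*} [AddCommGroup C] (B : F →+ F →+ C) (halt : ∀ x, B x x = 0)
    (hinv : ∀ x x', B (μ * x) (μ * x') = B x x')
    (a₀ : ℕ) (ha₀ : a₀ = if a % 2 = 1 then a else 3 * a / 2) :
    Nat.card (AddSubgroup.closure (Set.range fun z : F × F => B z.1 z.2)) ≤ p ^ (a₀ - a) := by
  have hq : q.Prime := Fact.out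
  have hμ0 : μ ≠ 0 := by
    rintro rfl
    rw [orderOf_zero] at hμ
    exact hq.ne_zero hμ.symm
  refine form_bound_core (q := q) hF μ B halt ?_ ?_ ?_ a₀ ha₀
  · intro hB
    exact sch_adj_core B μ hμ0
      (fun S hS c x hx => smul_mem_of_invariant hpq ha hF μ hμ S hS c x hx) hinv hB
  · intro τ hτ
    exact adjoint_cases hpq ha hF μ hμ τ hτ
  · intro hae hadj
    exact form_bound_even hF hae B halt hadj

end field

end Cfsg.Agent.Helper20.Sch
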