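import Mathlib
import Cfsg.Prelude.Def_Transfer
import Cfsg.Agent.Lib.Helper20.SchDefs
import Cfsg.Agent.Lib.Helper11.SchMU
import Cfsg.Agent.Lib.Helper8.SchBETA
import Cfsg.Agent.Lib.Helper28.SchG0MIN
import Cfsg.Agent.Lib.Helper5.SchGEN
import Cfsg.Agent.Lib.Lead.SchG0CARD
import Cfsg.Agent.Lib.Helper19.SchCOVER
import Cfsg.Agent.Lib.Helper8.SchFIBER
import Cfsg.Agent.Lib.Helper7.SchBOUND

/-!
# S4395 : final assembly
-/

set_option autoImplicit false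

namespace Cfsg.Agent.Helper20.Sch

universe u

theorem sch_main (p q r : ℕ) [Fact p.Prime] [Fact q.Prime] (hpq : p ≠ q) (hr : 1 ≤ r)
    (a a₀ : ℕ) (ha : a = orderOf (p : ZMod q))
    (ha₀ : a₀ = if a % 2 = 1 then a else 3 * a / 2) :
    ∃ (G₀ : Type u) (_ : Group G₀) (_ : Finite G₀),
      (¬ Cfsg.HasNormalPComplement p G₀ ∧
        ∀ K : Subgroup G₀, K ≠ ⊤ → Cfsg.HasNormalPComplement p ↥K) ∧
      Nat.card G₀ = p ^ a₀ * q ^ r ∧
      ∀ (X : Type u) [Group X] [Finite X],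
        (¬ Cfsg.HasNormalPComplement p X ∧
          ∀ K : Subgroup X, K ≠ ⊤ → Cfsg.HasNormalPComplement p ↥K) →
        (∃ t : ℕ, Nat.card X = p ^ t * q ^ r) →
        ∃ φ : G₀ →* X, Function.Surjective φ ∧ φ.ker ≤ Subgroup.center G₀ := by
  have hapos : 0 < a := a_pos hpq ha
  have hqp : q.Prime := Fact.out
  have : NeZero (q ^ r) := ⟨pow_ne_zero _ hqp.ne_zero⟩
  let F : Type u := ULift.{u} (GaloisField p a)
  have : Finite (GaloisField p a) := by
    apply Nat.finite_of_card_ne_zero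
    rw [GaloisField.card p a hapos.ne']
    exact pow_ne_zero _ (Fact.out : p.Prime).ne_zero
  have hF : Nat.card F = p ^ a := by
    rw [Nat.card_congr Equiv.ulift]; exact GaloisField.card p a hapos.ne'
  obtain ⟨μ, hμ⟩ := exists_mu F hpq ha hF
  have hμ0 : μ ≠ 0 := by
    rintro rfl
    rw [orderOf_zero] at hμ
    exact hqp.ne_zero hμ.symm
  obtain ⟨C, iC, fC, β, hCcard, hβinv, hβgen⟩ := exists_beta hpq ha hF μ hμ a₀ ha₀
  have hm : ∀ x x', β (mulAddEquiv μ hμ0 x) (mulAddEquiv μ hμ0 x') = β x x' := hβinv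
  have hmq : ∀ x, (mulAddEquiv μ hμ0)^[q] x = x := by
    intro x
    rw [mulAddEquiv_iterate, ← hμ, pow_orderOf_eq_one, one_mul]
  have hn := aut_pow_eq_one β (mulAddEquiv μ hμ0) hm hmq r hr
  have haa₀ : a ≤ a₀ := by
    rw [ha₀]; split_ifs <;> omega
  have hmin : MinNonPNilp p (G0 β (mulAddEquiv μ hμ0) hm (q ^ r) hn) := by
    refine G0_minNonPNilp β (mulAddEquiv μ hμ0) hm hpq hr ⟨a, hF⟩ ⟨a₀ - a, hCcard⟩ ?_ hmq ?_
      hβgen hn
    · intro S hS
      exact invariant_eq_bot_or_top hpq ha hF μ hμ S hS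
    · refine ⟨1, ?_⟩
      rw [mulAddEquiv_apply, mul_one]
      intro h1
      rw [h1, orderOf_one] at hμ
      exact hqp.one_lt.ne hμ
  have hcardG : Nat.card (G0 β (mulAddEquiv μ hμ0) hm (q ^ r) hn) = p ^ a₀ * q ^ r := by
    rw [card_G0, hF, hCcard, ← pow_add]
    congr 2
    omega
  refine ⟨G0 β (mulAddEquiv μ hμ0) hm (q ^ r) hn, inferInstance, ?_, hmin, hcardG, ?_⟩
  · apply Nat.finite_of_card_ne_zero
    rw [hcardG]
    exact mul_ne_zero (pow_ne_zero _ (Fact.out : p.Prime).ne_zero) (pow_ne_zero _ hqp.ne_zero)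
  · intro X _ _ hX ht
    obtain ⟨t, ht⟩ := ht
    have : Finite (G0 β (mulAddEquiv μ hμ0) hm (q ^ r) hn) := by
      apply Nat.finite_of_card_ne_zero
      rw [hcardG]
      exact mul_ne_zero (pow_ne_zero _ (Fact.out : p.Prime).ne_zero) (pow_ne_zero _ hqp.ne_zero)
    obtain ⟨N, hNn, hNc, hNp, hfrat, π₀, hπ₀, hker⟩ :=
      exists_cover hpq hr ha hX ht hF μ hμ hμ0 β hm hn
    exact exists_hom_of_cover hpq hmin hcardG N hNc hNp π₀ hπ₀ hker hfrat
      (fun Y _ _ hY t hYc => card_bound hpq ha a₀ ha₀ hY hYc)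

end Cfsg.Agent.Helper20.Sch
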