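import Mathlib
import Cfsg.Prelude.Def_Local
import Cfsg.Prelude.Def_SolvableStructure
import Cfsg.Agent.Lib.Helper22.SchPLDefs
import Cfsg.Agent.Lib.Helper4.HHDual
import Cfsg.Agent.S0058

/-!
# S4394, piece CYC (helper20): a TI elementary abelian Sylow `p`-subgroup of a `p`-solvable group
with `O_p = 1` has order dividing `p`.

Proof: `K = O_{p'}` satisfies `C(K) ≤ K` (dual Hall--Higman, helper4).  For `1 ≠ a ∈ S` the TI
property gives `C_K(a) ≤ N_K(S) = C_K(S)`.  If `S` is not cyclic, `K` is generated by the `C_K(a)`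
(`S0058`), so `S` centralizes `K`, `S ≤ K ∩ S = 1`.
-/

set_option autoImplicit false
open Pointwise

namespace Cfsg.Agent.Helper22.SchPL

open Cfsg

section group
variable {p : ℕ} [Fact p.Prime]

/-- Piece CYC (abstract: `Gb` plays the role of `G ⧸ O_p(G)`). -/
theorem card_sylow_dvd_of_TI {Gb : Type*} [Group Gb] [Finite Gb] (hG : IsPSolvable p Gb)
    (hO : pCore p Gb = ⊥) (S : Sylow p Gb)
    (hab : ∀ a ∈ (S : Subgroup Gb), ∀ b ∈ (S : Subgroup Gb), a * b = b * a)
    (hexp : ∀ a ∈ (S : Subgroup Gb), a ^ p = 1)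
    (hTI : ∀ g : Gb, MulAut.conj g • (S : Subgroup Gb) ≠ (S : Subgroup Gb) →
      (S : Subgroup Gb) ⊓ MulAut.conj g • (S : Subgroup Gb) = ⊥) :
    Nat.card ↥(S : Subgroup Gb) ∣ p := by
  classical
  set K : Subgroup Gb := pPrimeCore p Gb with hK
  have hKn : K.Normal := Cfsg.Agent.Helper22.pPrimeCore_normal p
  have hKcop : (Nat.card K).Coprime p := Cfsg.Agent.Helper22.card_pPrimeCore_coprime p
  have hCK : Subgroup.centralizer (K : Set Gb) ≤ K :=
    Cfsg.Agent.Helper4.HHD.centralizer_pPrimeCore_le hG hO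
  obtain ⟨n, hn⟩ := S.2.exists_card_eq
  have hcop : (Nat.card (S : Subgroup Gb)).Coprime (Nat.card K) := by
    rw [hn]
    exact Nat.Coprime.pow_left n hKcop.symm
  have hSK : (S : Subgroup Gb) ⊓ K = ⊥ := (Subgroup.disjoint_of_coprime_natCard hcop).eq_bot
  by_contra hdvd
  -- `S` is not cyclic
  have hncyc : ¬ IsCyclic (S : Subgroup Gb) := by
    intro hc
    obtain ⟨g, hg⟩ := hc.exists_generator
    have h1 : orderOf g = Nat.card (S : Subgroup Gb) := orderOf_eq_card_of_forall_mem_zpowers hg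
    have h2 : g ^ p = 1 := Subtype.ext (by simpa using hexp g g.2)
    have h3 : orderOf g ∣ p := orderOf_dvd_of_pow_eq_one h2
    rw [h1] at h3
    exact hdvd h3
  have hcomm : IsMulCommutative (S : Subgroup Gb) :=
    ⟨⟨fun a b => Subtype.ext (hab a a.2 b b.2)⟩⟩
  have hSN : (S : Subgroup Gb) ≤ Subgroup.normalizer (K : Set Gb) := by
    rw [Subgroup.normalizer_eq_top]
    exact le_top
  have hgen := Cfsg.Agent.S0058.result (S : Subgroup Gb) K hncyc hSN hcop
  -- each `C_K(a)` centralizes `S`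
  have hKC : K ≤ Subgroup.centralizer ((S : Subgroup Gb) : Set Gb) := by
    rw [← hgen]
    refine iSup₂_le (fun a ha => ?_)
    obtain ⟨haS, ha1⟩ := ha
    intro g hg
    have hgK : g ∈ K := hg.1
    have hga : a * g = g * a :=
      (Subgroup.mem_centralizer_iff.mp hg.2) a (Set.mem_singleton a)
    -- `g` normalizes `S`
    have hgS : MulAut.conj g • (S : Subgroup Gb) = (S : Subgroup Gb) := by
      by_contra hne
      have h1 := hTI g hne
      have h2 : a ∈ MulAut.conj g • (S : Subgroup Gb) := by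
        have h3 : MulAut.conj g • a ∈ MulAut.conj g • (S : Subgroup Gb) :=
          Subgroup.smul_mem_pointwise_smul a (MulAut.conj g) _ haS
        have h4 : MulAut.conj g • a = a := by
          rw [MulAut.smul_def, MulAut.conj_apply, ← hga, mul_inv_cancel_right]
        rwa [h4] at h3
      have h5 : a ∈ (S : Subgroup Gb) ⊓ MulAut.conj g • (S : Subgroup Gb) := ⟨haS, h2⟩
      rw [h1, Subgroup.mem_bot] at h5
      exact ha1 h5
    rw [Subgroup.mem_centralizer_iff]
    intro s hs
    have hs' : (s : Gb) ∈ (S : Subgroup Gb) := hs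
    have h1 : g * s * g⁻¹ ∈ (S : Subgroup Gb) := by
      have h3 : MulAut.conj g • s ∈ MulAut.conj g • (S : Subgroup Gb) :=
        Subgroup.smul_mem_pointwise_smul s (MulAut.conj g) _ hs'
      rw [hgS, MulAut.smul_def, MulAut.conj_apply] at h3
      exact h3
    have h2 : g * s * g⁻¹ * s⁻¹ ∈ (S : Subgroup Gb) :=
      Subgroup.mul_mem _ h1 (Subgroup.inv_mem _ hs')
    have h3 : g * s * g⁻¹ * s⁻¹ ∈ K := by
      have h4 : s * g⁻¹ * s⁻¹ ∈ K := hKn.conj_mem g⁻¹ (Subgroup.inv_mem _ hgK) s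
      have h5 : g * s * g⁻¹ * s⁻¹ = g * (s * g⁻¹ * s⁻¹) := by group
      rw [h5]
      exact Subgroup.mul_mem _ hgK h4
    have h6 : g * s * g⁻¹ * s⁻¹ ∈ (S : Subgroup Gb) ⊓ K := ⟨h2, h3⟩
    rw [hSK, Subgroup.mem_bot] at h6
    have h7 : g * s = s * g := by
      have := congrArg (fun x => x * s * g) h6
      simpa [mul_assoc] using this
    exact h7.symm
  -- so `S` centralizes `K`, hence `S ≤ K`
  have hSC : (S : Subgroup Gb) ≤ Subgroup.centralizer (K : Set Gb) := by
    intro s hs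
    rw [Subgroup.mem_centralizer_iff]
    intro k hk
    have := (Subgroup.mem_centralizer_iff.mp (hKC hk)) s hs
    exact this.symm
  have hSle : (S : Subgroup Gb) ≤ (S : Subgroup Gb) ⊓ K := le_inf le_rfl (hSC.trans hCK)
  rw [hSK, le_bot_iff] at hSle
  apply hdvd
  rw [hSle, Subgroup.card_bot]
  exact one_dvd p

end group

end Cfsg.Agent.Helper22.SchPL
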