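import Mathlib
import Cfsg.Prelude.Def_Local
import Cfsg.Prelude.Def_SolvableStructure
import Cfsg.Agent.Lib.Helper22.SchPLDefs
import Cfsg.Agent.Lib.Helper14.Basic

/-!
# S4394, piece TI (helper20): under the minimality hypothesis, two distinct Sylow `p`-subgroups
`Q`, `Q^g` meet in `O_p(G)`.
-/

set_option autoImplicit false
set_option linter.unusedSectionVars false
open Pointwise

namespace Cfsg.Agent.Helper22.SchPL

open Cfsg

/-- A subgroup `K` whose commutators lie in `W ≤ D ≤ K` normalizes `D`. -/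
theorem tiPiece_le_normalizer {G : Type*} [Group G] (K W D : Subgroup G) (hWD : W ≤ D) (hDK : D ≤ K)
    (hc : ∀ a ∈ K, ∀ d ∈ K, a * d * a⁻¹ * d⁻¹ ∈ W) :
    K ≤ Subgroup.normalizer (D : Set G) := by
  have key : ∀ a ∈ K, ∀ d ∈ D, a * d * a⁻¹ ∈ D := by
    intro a ha d hd
    have h1 : a * d * a⁻¹ * d⁻¹ ∈ D := hWD (hc a ha d (hDK hd))
    have h2 : a * d * a⁻¹ = (a * d * a⁻¹ * d⁻¹) * d := by group
    rw [h2]
    exact D.mul_mem h1 hd
  intro a ha
  rw [Subgroup.mem_normalizer_iff]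
  intro d
  constructor
  · intro hd
    exact key a ha d hd
  · intro hd
    have := key a⁻¹ (K.inv_mem ha) _ hd
    have e : a⁻¹ * (a * d * a⁻¹) * a⁻¹⁻¹ = d := by group
    rwa [e] at this

theorem tiPiece_mem_conj_smul {G : Type*} [Group G] (g x : G) (Q : Subgroup G) :
    x ∈ MulAut.conj g • Q ↔ g⁻¹ * x * g ∈ Q := by
  rw [Subgroup.mem_pointwise_smul_iff_inv_smul_mem, MulAut.smul_def, MulAut.conj_inv_apply]

section group
variable {G : Type*} [Group G] [Finite G] {p : ℕ} [Fact p.Prime]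

/-- Piece TI. -/
theorem inf_conj_eq_pCore
    (hcen : Subgroup.centralizer (pCore p G : Set G) ≤ pCore p G)
    (Q : Sylow p G) (Z : Subgroup G) (h : SESub p (Q : Subgroup G) Z)
    (hmin : ∀ H : Subgroup G, (Q : Subgroup G) ≤ H → H ≠ ⊤ →
      H ≤ Subgroup.normalizer ((Q : Subgroup G) : Set G))
    (g : G) (hg : MulAut.conj g • (Q : Subgroup G) ≠ (Q : Subgroup G)) :
    (Q : Subgroup G) ⊓ MulAut.conj g • (Q : Subgroup G) = pCore p G := by
  set F : Subgroup G := pCore p G with hF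
  have hFn : F.Normal := Subgroup.sSup_normal _ (fun _ h => h.1)
  have hFQ : F ≤ (Q : Subgroup G) := Cfsg.Agent.Helper14.pCore_le_sylow Q
  set R : Sylow p G := g • Q with hRdef
  have hR : (R : Subgroup G) = MulAut.conj g • (Q : Subgroup G) := rfl
  have hFR : F ≤ (R : Subgroup G) := Cfsg.Agent.Helper14.pCore_le_sylow R
  rw [← hR] at hg ⊢
  -- `Z ≤ F`
  have hZF : Z ≤ F := by
    refine le_trans ?_ hcen
    intro z hz
    rw [Subgroup.mem_centralizer_iff]
    intro u hu
    exact (h.central z hz u (hFQ hu)).symm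
  -- `Q ⊔ R = ⊤`
  have htop : (Q : Subgroup G) ⊔ (R : Subgroup G) = ⊤ := by
    by_contra hne
    have h1 := hmin _ le_sup_left hne
    have hRN : (R : Subgroup G) ≤ Subgroup.normalizer ((Q : Subgroup G) : Set G) :=
      le_sup_right.trans h1
    have hsup : IsPGroup p ((R : Subgroup G) ⊔ (Q : Subgroup G) : Subgroup G) :=
      R.2.to_sup_of_normal_right' Q.2 hRN
    have h2 : (R : Subgroup G) ⊔ (Q : Subgroup G) = (Q : Subgroup G) :=
      Q.is_maximal' hsup le_sup_right
    have h3 : (R : Subgroup G) ≤ (Q : Subgroup G) := by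
      rw [← h2]
      exact le_sup_left
    have h4 : (Q : Subgroup G) = (R : Subgroup G) := R.is_maximal' Q.2 h3
    exact hg h4.symm
  set D : Subgroup G := (Q : Subgroup G) ⊓ (R : Subgroup G) with hD
  have hFD : F ≤ D := le_inf hFQ hFR
  have hQN : (Q : Subgroup G) ≤ Subgroup.normalizer (D : Set G) :=
    tiPiece_le_normalizer (Q : Subgroup G) Z D (hZF.trans hFD) inf_le_left
      (fun a ha d hd => h.comm_mem a ha d hd)
  have hRN : (R : Subgroup G) ≤ Subgroup.normalizer (D : Set G) := by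
    refine tiPiece_le_normalizer (R : Subgroup G) F D hFD inf_le_right ?_
    intro b hb d hd
    rw [hR, tiPiece_mem_conj_smul] at hb hd
    have h1 := hZF (h.comm_mem _ hb _ hd)
    have h2 := hFn.conj_mem _ h1 g
    have e : g * (g⁻¹ * b * g * (g⁻¹ * d * g) * (g⁻¹ * b * g)⁻¹ * (g⁻¹ * d * g)⁻¹) * g⁻¹ =
        b * d * b⁻¹ * d⁻¹ := by group
    rwa [e] at h2
  have hDn : D.Normal := by
    rw [← Subgroup.normalizer_eq_top_iff, eq_top_iff, ← htop]
    exact sup_le hQN hRN
  have hDp : IsPGroup p D := Q.2.to_le inf_le_left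
  exact le_antisymm (Cfsg.Agent.Helper14.le_pCore hDn hDp) hFD

end group

end Cfsg.Agent.Helper22.SchPL
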