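import Mathlib
import Cfsg.Prelude.Def_Local
import Cfsg.Prelude.Def_SolvableStructure
import Cfsg.Agent.Lib.Helper22.SchPLDefs
import Cfsg.Agent.Lib.Helper14.Basic

/-!
# S4394, piece Z (helper20): if `Z ⊴ G` then `Q ≤ O_p(G)` (stability group argument).
-/

set_option autoImplicit false
set_option linter.unusedVariables false
open Pointwise

namespace Cfsg.Agent.Helper22.SchPL

open Cfsg

/-- The stability group of the chain `1 ≤ Z ≤ F`: elements centralizing `Z` and acting trivially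
on `F` modulo `Z`. -/
def zPieceStab {G : Type*} [Group G] (Z F : Subgroup G) (hZn : Z.Normal) (hFn : F.Normal) : Subgroup G where
  carrier := {g | (∀ z ∈ Z, g * z = z * g) ∧ ∀ u ∈ F, g * u * g⁻¹ * u⁻¹ ∈ Z}
  one_mem' := by
    refine ⟨fun z _ => by simp, fun u _ => ?_⟩
    simp only [one_mul, inv_one, mul_one, mul_inv_cancel]
    exact Z.one_mem
  mul_mem' := by
    rintro a b ⟨ha1, ha2⟩ ⟨hb1, hb2⟩
    refine ⟨fun z hz => ?_, fun u hu => ?_⟩
    · rw [mul_assoc, hb1 z hz, ← mul_assoc, ha1 z hz, mul_assoc]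
    · have hw := hb2 u hu
      have hw' : a * (b * u * b⁻¹ * u⁻¹) * a⁻¹ = b * u * b⁻¹ * u⁻¹ := by
        rw [ha1 _ hw, mul_inv_cancel_right]
      have e : a * b * u * (a * b)⁻¹ * u⁻¹ =
          (a * (b * u * b⁻¹ * u⁻¹) * a⁻¹) * (a * u * a⁻¹ * u⁻¹) := by group
      rw [e, hw']
      exact Z.mul_mem hw (ha2 u hu)
  inv_mem' := by
    rintro a ⟨ha1, ha2⟩
    refine ⟨fun z hz => ?_, fun u hu => ?_⟩
    · have := ha1 z hz
      calc a⁻¹ * z = a⁻¹ * (z * a) * a⁻¹ := by group
        _ = a⁻¹ * (a * z) * a⁻¹ := by rw [this]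
        _ = z * a⁻¹ := by group
    · have hu' : a⁻¹ * u * a ∈ F := by
        have := hFn.conj_mem u hu a⁻¹
        simpa using this
      have hw := ha2 _ hu'
      have e : a⁻¹ * u * a⁻¹⁻¹ * u⁻¹ = (a * (a⁻¹ * u * a) * a⁻¹ * (a⁻¹ * u * a)⁻¹)⁻¹ := by group
      rw [e]
      exact Z.inv_mem hw

theorem mem_zPieceStab {G : Type*} [Group G] (Z F : Subgroup G) (hZn : Z.Normal) (hFn : F.Normal)
    (g : G) : g ∈ zPieceStab Z F hZn hFn ↔
      (∀ z ∈ Z, g * z = z * g) ∧ ∀ u ∈ F, g * u * g⁻¹ * u⁻¹ ∈ Z := Iff.rfl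

theorem zPieceStab_normal {G : Type*} [Group G] (Z F : Subgroup G) (hZn : Z.Normal) (hFn : F.Normal) :
    (zPieceStab Z F hZn hFn).Normal := by
  refine ⟨fun g hg x => ?_⟩
  obtain ⟨hg1, hg2⟩ := hg
  refine ⟨fun z hz => ?_, fun u hu => ?_⟩
  · have hz' : x⁻¹ * z * x ∈ Z := by
      have := hZn.conj_mem z hz x⁻¹
      simpa using this
    have := hg1 _ hz'
    calc x * g * x⁻¹ * z = x * (g * (x⁻¹ * z * x)) * x⁻¹ := by group
      _ = x * ((x⁻¹ * z * x) * g) * x⁻¹ := by rw [this]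
      _ = z * (x * g * x⁻¹) := by group
  · have hu' : x⁻¹ * u * x ∈ F := by
      have := hFn.conj_mem u hu x⁻¹
      simpa using this
    have hw := hg2 _ hu'
    have e : x * g * x⁻¹ * u * (x * g * x⁻¹)⁻¹ * u⁻¹ =
        x * (g * (x⁻¹ * u * x) * g⁻¹ * (x⁻¹ * u * x)⁻¹) * x⁻¹ := by group
    rw [e]
    exact hZn.conj_mem _ hw x

/-- iterated action: `g ^ k * u * g ^ (-k) = w ^ k * u` when `g u g⁻¹ = w u` and `g` commutes with `w` -/
theorem zPiece_pow_conj_eq {G : Type*} [Group G] {g u w : G} (h1 : g * u * g⁻¹ = w * u) (h2 : g * w = w * g)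
    (k : ℕ) : g ^ k * u * (g ^ k)⁻¹ = w ^ k * u := by
  induction k with
  | zero => simp
  | succ k ih =>
    have hc : g * w ^ k = w ^ k * g := by
      have : Commute g w := h2
      exact (this.pow_right k)
    calc g ^ (k + 1) * u * (g ^ (k + 1))⁻¹ = g * (g ^ k * u * (g ^ k)⁻¹) * g⁻¹ := by
          rw [pow_succ']; group
      _ = g * (w ^ k * u) * g⁻¹ := by rw [ih]
      _ = (g * w ^ k) * (u * g⁻¹) := by group
      _ = w ^ k * g * (u * g⁻¹) := by rw [hc]
      _ = w ^ k * (g * u * g⁻¹) := by group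
      _ = w ^ k * (w * u) := by rw [h1]
      _ = w ^ (k + 1) * u := by rw [pow_succ]; group

section group
variable {G : Type*} [Group G] [Finite G] {p : ℕ} [Fact p.Prime]

/-- Piece Z. -/
theorem le_pCore_of_center_normal
    (hcen : Subgroup.centralizer (pCore p G : Set G) ≤ pCore p G)
    (Q : Sylow p G) (Z : Subgroup G) (h : SESub p (Q : Subgroup G) Z) (hZn : Z.Normal) :
    (Q : Subgroup G) ≤ pCore p G := by
  have hp : p.Prime := Fact.out
  set F : Subgroup G := pCore p G with hF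
  have hFn : F.Normal := Subgroup.sSup_normal _ (fun _ h => h.1)
  have hFQ : F ≤ (Q : Subgroup G) := Cfsg.Agent.Helper14.pCore_le_sylow Q
  have hFp : IsPGroup p F := Cfsg.Agent.Helper14.pCore_isPGroup p G
  set S₀ := zPieceStab Z F hZn hFn with hS₀
  have hSn : S₀.Normal := zPieceStab_normal Z F hZn hFn
  -- `S₀` is a `p`-group
  have hSp : IsPGroup p S₀ := by
    apply Cfsg.Agent.Helper14.isPGroup_of_pprime_elements_trivial
    intro x hx
    obtain ⟨g, hg⟩ := x
    have hg' := hg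
    obtain ⟨hg1, hg2⟩ := hg'
    have hord : orderOf (⟨g, hg⟩ : S₀) = orderOf g := Subgroup.orderOf_mk g hg
    rw [hord] at hx
    -- `g` centralizes `F`
    have hgC : g ∈ Subgroup.centralizer (F : Set G) := by
      rw [Subgroup.mem_centralizer_iff]
      intro u hu
      have hw : g * u * g⁻¹ * u⁻¹ ∈ Z := hg2 u hu
      set w := g * u * g⁻¹ * u⁻¹ with hwdef
      have h1 : g * u * g⁻¹ = w * u := by rw [hwdef]; group
      have h2 : g * w = w * g := hg1 w hw
      have h3 := zPiece_pow_conj_eq h1 h2 (orderOf g)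
      rw [pow_orderOf_eq_one, inv_one, one_mul, mul_one] at h3
      have h4 : w ^ orderOf g = 1 := by
        have := congrArg (fun t => t * u⁻¹) h3
        simpa using this.symm
      have hwQ : w ∈ (Q : Subgroup G) := h.le hw
      obtain ⟨j, hj⟩ := Q.2 ⟨w, hwQ⟩
      have h5 : w ^ p ^ j = 1 := by
        have := congrArg Subtype.val hj
        simpa using this
      have h6 : w = 1 := Cfsg.Agent.Helper14.eq_one_of_pow_eq_one_of_coprime h4 h5
        (Nat.Coprime.pow_right j hx)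
      have h7 : g * u * g⁻¹ = u := by rw [h1, h6, one_mul]
      have h8 : g * u = u * g := by
        have := congrArg (fun t => t * g) h7
        simpa using this
      exact h8.symm
    have hgF : g ∈ F := hcen hgC
    obtain ⟨i, hi⟩ := hFp ⟨g, hgF⟩
    have h9 : g ^ p ^ i = 1 := by
      have := congrArg Subtype.val hi
      simpa using this
    have h10 : g = 1 := Cfsg.Agent.Helper14.eq_one_of_pow_eq_one_of_coprime
      (pow_orderOf_eq_one g) h9 (Nat.Coprime.pow_right i hx)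
    exact Subtype.ext h10
  have hSF : S₀ ≤ F := Cfsg.Agent.Helper14.le_pCore hSn hSp
  refine le_trans ?_ hSF
  intro a ha
  refine ⟨fun z hz => (h.central z hz a ha).symm, fun u hu => ?_⟩
  exact h.comm_mem a ha u (hFQ hu)

end group

end Cfsg.Agent.Helper22.SchPL
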