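import Mathlib
import Cfsg.Agent.Lib.Helper29.StemSylow

/-!
# Abstract local lemmas for stem extensions

* `comm_inf_ker_of_dicyclic`: the commutator subgroup of the preimage of a dicyclic group meets the
  (central) kernel trivially.
-/

set_option autoImplicit false

namespace Cfsg.Agent.Helper20.SchurSL

open scoped commutatorElement
open Cfsg.Agent.Helper29.StemSylow

variable {Γ : Type*} [Group Γ] {G : Type*} [Group G]

/-- the dicyclic case: `σ a` has order `2 h`, `σ b` inverts it and squares to `σ a ^ h`. -/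
theorem comm_inf_ker_of_dicyclic (σ : Γ →* G) (hK : σ.ker ≤ Subgroup.center Γ) (H : Subgroup Γ)
    (a b : Γ) (h : ℕ) (hord : ∀ n : ℤ, σ a ^ n = 1 → ((2 * h : ℕ) : ℤ) ∣ n)
    (hb2 : σ b * σ b = σ a ^ h)
    (hba : σ b * σ a * (σ b)⁻¹ = (σ a)⁻¹)
    (hh : ∀ u ∈ H, ∃ i : ℤ, σ u = σ a ^ i ∨ σ u = σ a ^ i * σ b) :
    ∀ k ∈ ⁅H, H⁆, k ∈ σ.ker → k = 1 := by
  obtain ⟨c, hc⟩ : ∃ c, c = ⁅b, a⁆ := ⟨_, rfl⟩
  have hbab : b * a * b⁻¹ = c * a := by rw [hc, commutatorElement_def]; group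
  have hσc : σ c = σ a ^ (-2 : ℤ) := by
    rw [hc, map_commutatorElement, commutatorElement_def, hba]; group
  obtain ⟨κ₁, hκ₁, e1⟩ := exists_ker_mul σ c (a ^ (-2 : ℤ)) (by rw [hσc, map_zpow])
  have k1 := central_comm σ hK hκ₁
  have hca : Commute c a := by
    show c * a = a * c
    rw [e1]
    calc a ^ (-2 : ℤ) * κ₁ * a = a ^ (-2 : ℤ) * (κ₁ * a) := by group
      _ = a ^ (-2 : ℤ) * (a * κ₁) := by rw [k1 a]
      _ = a * (a ^ (-2 : ℤ) * κ₁) := by group
  have hconj : ∀ z : ℤ, b * a ^ z * b⁻¹ = c ^ z * a ^ z := by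
    intro z
    rw [← conj_zpow, hbab, hca.mul_zpow]
  -- `b * b` and `a ^ h`
  obtain ⟨l, hl, e2⟩ := exists_ker_mul σ (b * b) (a ^ (h : ℤ)) (by
    rw [map_mul, hb2, map_zpow, zpow_natCast])
  have kl := central_comm σ hK hl
  have hch : c ^ (h : ℤ) = 1 := by
    have e3 : b * (b * b) * b⁻¹ = b * b := by group
    have e4 : b * (a ^ (h : ℤ) * l) * b⁻¹ = c ^ (h : ℤ) * (a ^ (h : ℤ) * l) := by
      calc b * (a ^ (h : ℤ) * l) * b⁻¹ = b * a ^ (h : ℤ) * (l * b⁻¹) := by group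
        _ = b * a ^ (h : ℤ) * (b⁻¹ * l) := by rw [kl b⁻¹]
        _ = (b * a ^ (h : ℤ) * b⁻¹) * l := by group
        _ = c ^ (h : ℤ) * a ^ (h : ℤ) * l := by rw [hconj]
        _ = c ^ (h : ℤ) * (a ^ (h : ℤ) * l) := by group
    rw [e2] at e3
    rw [e4] at e3
    exact mul_eq_right.1 e3
  -- all commutators lie in the cyclic group generated by `c`
  have hle : ⁅H, H⁆ ≤ Subgroup.zpowers c := by
    rw [Subgroup.commutator_le]
    intro u hu v hv
    obtain ⟨i, hi⟩ := hh u hu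
    obtain ⟨m, hm⟩ := hh v hv
    simp only [← map_zpow, ← map_mul] at hi hm
    rcases hi with hi | hi <;> rcases hm with hm | hm
    · obtain ⟨κ, hκ, rfl⟩ := exists_ker_mul σ u _ hi
      obtain ⟨μ, hμ, rfl⟩ := exists_ker_mul σ v _ hm
      rw [comm_central_left (central_comm σ hK hκ), comm_central_right (central_comm σ hK hμ)]
      have : ⁅a ^ i, a ^ m⁆ = 1 := by
        rw [commutatorElement_eq_one_iff_commute]
        exact Commute.zpow_zpow_self a i m
      rw [this]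
      exact Subgroup.one_mem _
    · obtain ⟨κ, hκ, rfl⟩ := exists_ker_mul σ u _ hi
      obtain ⟨μ, hμ, rfl⟩ := exists_ker_mul σ v _ hm
      rw [comm_central_left (central_comm σ hK hκ), comm_central_right (central_comm σ hK hμ),
        ← commutatorElement_inv, comm_twist a b c hca hconj]
      exact Subgroup.inv_mem _ (Subgroup.zpow_mem_zpowers c i)
    · obtain ⟨κ, hκ, rfl⟩ := exists_ker_mul σ u _ hi
      obtain ⟨μ, hμ, rfl⟩ := exists_ker_mul σ v _ hm
      rw [comm_central_left (central_comm σ hK hκ), comm_central_right (central_comm σ hK hμ),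
        comm_twist a b c hca hconj]
      exact Subgroup.zpow_mem_zpowers c m
    · obtain ⟨κ, hκ, rfl⟩ := exists_ker_mul σ u _ hi
      obtain ⟨μ, hμ, rfl⟩ := exists_ker_mul σ v _ hm
      rw [comm_central_left (central_comm σ hK hκ), comm_central_right (central_comm σ hK hμ),
        comm_twist' a b c hca hconj]
      exact Subgroup.zpow_mem_zpowers c _
  intro k hk hkK
  obtain ⟨j, rfl⟩ := Subgroup.mem_zpowers_iff.1 (hle hk)
  rw [MonoidHom.mem_ker, map_zpow, hσc, ← zpow_mul] at hkK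
  have hd := hord _ hkK
  have hj : (h : ℤ) ∣ j := by
    obtain ⟨t, ht⟩ := hd
    refine ⟨-t, ?_⟩
    push_cast at ht
    have : (2 : ℤ) * (h * -t) = 2 * j := by linarith
    linarith
  obtain ⟨t, rfl⟩ := hj
  rw [zpow_mul, hch, one_zpow]

end Cfsg.Agent.Helper20.SchurSL
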