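import Mathlib
import Cfsg.Agent.Lib.Helper29.StemSylow

/-!
# Abstract local lemmas for stem extensions, II: the unipotent group and the Borel subgroup

`u : F → G` is an additive-to-multiplicative map, `d : Fˣ →* G` acts on it through squares.
* `lift_unipotent_comm`: the preimage of the image of `u` in a central extension is abelian, as soon
  as there are two nonzero squares with sum `1` and product `≠ 1`.
* `comm_inf_ker_of_borel`: the commutator subgroup of the preimage of `u(F) d(Fˣ)` meets the kernel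
  trivially.
-/

set_option autoImplicit false

namespace Cfsg.Agent.Helper20.SchurSL

open scoped commutatorElement
open Cfsg.Agent.Helper29.StemSylow

variable {Γ : Type*} [Group Γ] {G : Type*} [Group G] {F : Type*} [Field F]

theorem u_zero (u : F → G) (hu_add : ∀ x y, u (x + y) = u x * u y) : u 0 = 1 := by
  have h := hu_add 0 0
  rw [add_zero] at h
  exact (mul_eq_left.1 h.symm)

theorem u_neg (u : F → G) (hu_add : ∀ x y, u (x + y) = u x * u y) (x : F) : u (-x) = (u x)⁻¹ := by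
  have h := hu_add x (-x)
  rw [add_neg_cancel, u_zero u hu_add] at h
  exact eq_inv_of_mul_eq_one_right h.symm

theorem u_comm (u : F → G) (hu_add : ∀ x y, u (x + y) = u x * u y) (x y : F) :
    u x * u y = u y * u x := by
  rw [← hu_add, ← hu_add, add_comm]

/-- the lift of the unipotent group is abelian -/
theorem lift_unipotent_comm (σ : Γ →* G) (hs : Function.Surjective σ)
    (hK : σ.ker ≤ Subgroup.center Γ) (u : F → G) (d : Fˣ →* G)
    (hu_add : ∀ x y, u (x + y) = u x * u y)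
    (hdu : ∀ (t : Fˣ) (x : F), d t * u x * (d t)⁻¹ = u ((t : F) ^ 2 * x))
    (s₁ s₂ : Fˣ) (hsum : (s₁ : F) ^ 2 + (s₂ : F) ^ 2 = 1) (hprod : (s₁ : F) ^ 2 * (s₂ : F) ^ 2 ≠ 1) :
    ∀ x y : Γ, (∃ a, σ x = u a) → (∃ b, σ y = u b) → x * y = y * x := by
  choose ℓ hℓ using fun a : F => hs (u a)
  -- the form
  obtain ⟨β, hβ⟩ : ∃ β : F → F → Γ, ∀ a b, β a b = ⁅ℓ a, ℓ b⁆ := ⟨fun a b => ⁅ℓ a, ℓ b⁆, fun _ _ => rfl⟩
  have hβK : ∀ a b, β a b ∈ σ.ker := by
    intro a b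
    rw [hβ, MonoidHom.mem_ker, map_commutatorElement, hℓ, hℓ, commutatorElement_eq_one_iff_commute]
    exact u_comm u hu_add a b
  have hβc : ∀ a b (g : Γ), g * β a b = β a b * g := fun a b => central_comm σ hK (hβK a b)
  -- independence of the lift
  have f0 : ∀ (x y : Γ) (a b : F), σ x = u a → σ y = u b → ⁅x, y⁆ = β a b := by
    intro x y a b hx hy
    obtain ⟨κ, hκ, rfl⟩ := exists_ker_mul σ x (ℓ a) (by rw [hx, hℓ])
    obtain ⟨μ, hμ, rfl⟩ := exists_ker_mul σ y (ℓ b) (by rw [hy, hℓ])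
    rw [comm_central_left (central_comm σ hK hκ), comm_central_right (central_comm σ hK hμ), hβ]
  -- additivity on the left
  have f2 : ∀ a a' b, β (a + a') b = β a b * β a' b := by
    intro a a' b
    rw [← f0 (ℓ a * ℓ a') (ℓ b) (a + a') b (by rw [map_mul, hℓ, hℓ, hu_add]) (hℓ b)]
    rw [comm_mul_left_of_central (ℓ a) (ℓ a') (ℓ b) (by rw [← hβ]; exact hβc a' b), ← hβ, ← hβ]
  have f3 : ∀ a b, β b a = (β a b)⁻¹ := by
    intro a b
    rw [hβ, hβ, commutatorElement_inv]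
  have f2' : ∀ a b b', β a (b + b') = β a b * β a b' := by
    intro a b b'
    rw [f3 (b + b') a, f2, mul_inv_rev, ← f3, ← f3]
    exact hβc a b (β a b')
  have f20 : ∀ a, β a 0 = 1 := by
    intro a
    have h := f2' a 0 0
    rw [add_zero] at h
    exact (mul_eq_left.1 h.symm)
  have f2n : ∀ a b, β a (-b) = (β a b)⁻¹ := by
    intro a b
    have h := f2' a b (-b)
    rw [add_neg_cancel, f20] at h
    exact eq_inv_of_mul_eq_one_right h.symm
  -- invariance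
  have f4 : ∀ (t : Fˣ) a b, β ((t : F) ^ 2 * a) ((t : F) ^ 2 * b) = β a b := by
    intro t a b
    obtain ⟨δ, hδ⟩ := hs (d t)
    rw [← f0 (δ * ℓ a * δ⁻¹) (δ * ℓ b * δ⁻¹) _ _
      (by rw [map_mul, map_mul, map_inv, hδ, hℓ, hdu]) (by rw [map_mul, map_mul, map_inv, hδ, hℓ, hdu])]
    rw [← conjugate_commutatorElement, ← hβ, hβc a b δ, mul_inv_cancel_right]
  -- the trick
  have hs1 : (s₁ : F) ^ 2 ≠ 0 := pow_ne_zero _ s₁.ne_zero
  have hs2 : (s₂ : F) ^ 2 ≠ 0 := pow_ne_zero _ s₂.ne_zero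
  have f5 : ∀ a b, β a b = β a (((s₁ : F) ^ 2 * (s₂ : F) ^ 2)⁻¹ * b) := by
    intro a b
    have e1 : a = (s₁ : F) ^ 2 * a + (s₂ : F) ^ 2 * a := by rw [← add_mul, hsum, one_mul]
    have e2 : β ((s₁ : F) ^ 2 * a) b = β a (((s₁ : F) ^ 2)⁻¹ * b) := by
      have := f4 s₁ a (((s₁ : F) ^ 2)⁻¹ * b)
      rw [← mul_assoc, mul_inv_cancel₀ hs1, one_mul] at this
      exact this
    have e3 : β ((s₂ : F) ^ 2 * a) b = β a (((s₂ : F) ^ 2)⁻¹ * b) := by
      have := f4 s₂ a (((s₂ : F) ^ 2)⁻¹ * b)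
      rw [← mul_assoc, mul_inv_cancel₀ hs2, one_mul] at this
      exact this
    have e4 : ((s₁ : F) ^ 2)⁻¹ * b + ((s₂ : F) ^ 2)⁻¹ * b =
        ((s₁ : F) ^ 2 * (s₂ : F) ^ 2)⁻¹ * b := by
      rw [← add_mul]
      congr 1
      field_simp
      rw [add_comm]
      exact hsum
    calc β a b = β ((s₁ : F) ^ 2 * a + (s₂ : F) ^ 2 * a) b := by rw [← e1]
      _ = β ((s₁ : F) ^ 2 * a) b * β ((s₂ : F) ^ 2 * a) b := f2 _ _ _
      _ = β a (((s₁ : F) ^ 2)⁻¹ * b) * β a (((s₂ : F) ^ 2)⁻¹ * b) := by rw [e2, e3]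
      _ = β a (((s₁ : F) ^ 2)⁻¹ * b + ((s₂ : F) ^ 2)⁻¹ * b) := (f2' _ _ _).symm
      _ = β a (((s₁ : F) ^ 2 * (s₂ : F) ^ 2)⁻¹ * b) := by rw [e4]
  have he : (1 : F) - ((s₁ : F) ^ 2 * (s₂ : F) ^ 2)⁻¹ ≠ 0 := by
    intro h0
    apply hprod
    have h1 : ((s₁ : F) ^ 2 * (s₂ : F) ^ 2)⁻¹ = 1 := (sub_eq_zero.1 h0).symm
    exact inv_eq_one.1 h1
  have f6 : ∀ a b, β a b = 1 := by
    intro a b
    have h1 : ∀ b', β a ((1 - ((s₁ : F) ^ 2 * (s₂ : F) ^ 2)⁻¹) * b') = 1 := by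
      intro b'
      have : (1 - ((s₁ : F) ^ 2 * (s₂ : F) ^ 2)⁻¹) * b' =
          b' + -(((s₁ : F) ^ 2 * (s₂ : F) ^ 2)⁻¹ * b') := by ring
      rw [this, f2', f2n, ← f5, mul_inv_cancel]
    have := h1 ((1 - ((s₁ : F) ^ 2 * (s₂ : F) ^ 2)⁻¹)⁻¹ * b)
    rwa [← mul_assoc, mul_inv_cancel₀ he, one_mul] at this
  rintro x y ⟨a, ha⟩ ⟨b, hb⟩
  have := f0 x y a b ha hb
  rw [f6] at this
  exact (commutatorElement_eq_one_iff_commute.1 this).eq

end Cfsg.Agent.Helper20.SchurSL
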