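import Mathlib
import Cfsg.Agent.Lib.Helper20.SchurSLB

/-!
# Abstract local lemmas for stem extensions, III: the Borel subgroup

`comm_inf_ker_of_borel`: the commutator subgroup of the preimage of `u(F) d(Fˣ)` meets the kernel
trivially, when the lifts of `u(F)` and of `d(Fˣ)` are abelian and some `t₀ ^ 2 ≠ 1`.
-/

set_option autoImplicit false

namespace Cfsg.Agent.Helper20.SchurSL

open scoped commutatorElement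
open Cfsg.Agent.Helper29.StemSylow

variable {Γ : Type*} [Group Γ] {G : Type*} [Group G] {F : Type*} [Field F]

/-- the lift of a cyclic image of `Fˣ` is abelian -/
theorem lift_torus_comm (σ : Γ →* G) (hs : Function.Surjective σ)
    (hK : σ.ker ≤ Subgroup.center Γ) (d : Fˣ →* G) [IsCyclic Fˣ] :
    ∀ x y : Γ, (∃ s, σ x = d s) → (∃ t, σ y = d t) → x * y = y * x := by
  obtain ⟨ζ, hζ⟩ := IsCyclic.exists_generator (α := Fˣ)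
  obtain ⟨g, hg⟩ := hs (d ζ)
  let P : Subgroup Γ := (d.range).comap σ
  have hb := comm_eq_bot_of_cyclic σ hK P g (fun u hu => by
    obtain ⟨t, ht⟩ := hu
    obtain ⟨i, hi⟩ := Subgroup.mem_zpowers_iff.1 (hζ t)
    refine ⟨i, ?_⟩
    rw [hg, ← map_zpow, hi, ht])
  rw [Subgroup.commutator_eq_bot_iff_le_centralizer] at hb
  rintro x y ⟨s, hx⟩ ⟨t, hy⟩
  have hxP : x ∈ P := ⟨s, hx.symm⟩
  have hyP : y ∈ P := ⟨t, hy.symm⟩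
  have := hb hyP
  rw [Subgroup.mem_centralizer_iff] at this
  exact this x hxP

/-- the Borel case -/
theorem comm_inf_ker_of_borel (σ : Γ →* G) (hs : Function.Surjective σ)
    (hK : σ.ker ≤ Subgroup.center Γ) (u : F → G) (d : Fˣ →* G)
    (hu_add : ∀ x y, u (x + y) = u x * u y) (hu_inj : Function.Injective u)
    (hdu : ∀ (t : Fˣ) (x : F), d t * u x * (d t)⁻¹ = u ((t : F) ^ 2 * x))
    (hUc : ∀ x y : Γ, (∃ a, σ x = u a) → (∃ b, σ y = u b) → x * y = y * x)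
    (hTc : ∀ x y : Γ, (∃ s, σ x = d s) → (∃ t, σ y = d t) → x * y = y * x)
    (t₀ : Fˣ) (ht₀ : (t₀ : F) ^ 2 ≠ 1)
    (H : Subgroup Γ) (hH : ∀ h ∈ H, ∃ (a : F) (t : Fˣ), σ h = u a * d t) :
    ∀ k ∈ ⁅H, H⁆, k ∈ σ.ker → k = 1 := by
  obtain ⟨δ₀, hδ₀⟩ := hs (d t₀)
  have hc : (t₀ : F) ^ 2 - 1 ≠ 0 := sub_ne_zero.2 ht₀
  have hu0 := u_zero u hu_add
  have hun := u_neg u hu_add
  -- conjugation preserves the lift of `u`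
  have hconjU : ∀ (τ x : Γ) (t : Fˣ) (a : F), σ τ = d t → σ x = u a →
      σ (τ * x * τ⁻¹) = u ((t : F) ^ 2 * a) := by
    intro τ x t a hτ hx
    rw [map_mul, map_mul, map_inv, hτ, hx, hdu]
  have hσV : ∀ (x : Γ) (a : F), σ x = u a → σ ⁅δ₀, x⁆ = u (((t₀ : F) ^ 2 - 1) * a) := by
    intro x a hx
    have e : ⁅δ₀, x⁆ = (δ₀ * x * δ₀⁻¹) * x⁻¹ := by rw [commutatorElement_def]
    rw [e, map_mul, hconjU δ₀ x t₀ a hδ₀ hx, map_inv, hx, ← hun, ← hu_add]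
    congr 1
    ring
  -- the subgroup `V`
  let V : Subgroup Γ :=
    { carrier := {g | ∃ x : Γ, (∃ a, σ x = u a) ∧ g = ⁅δ₀, x⁆}
      one_mem' := ⟨1, ⟨0, by rw [map_one, hu0]⟩, by rw [commutatorElement_one_right]⟩
      mul_mem' := by
        rintro g g' ⟨x, ⟨a, hx⟩, rfl⟩ ⟨y, ⟨b, hy⟩, rfl⟩
        refine ⟨x * y, ⟨a + b, by rw [map_mul, hx, hy, hu_add]⟩, ?_⟩
        have h1 : σ (δ₀ * y * δ₀⁻¹) = u ((t₀ : F) ^ 2 * b) := hconjU δ₀ y t₀ b hδ₀ hy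
        have c1 : x⁻¹ * (δ₀ * y * δ₀⁻¹) = (δ₀ * y * δ₀⁻¹) * x⁻¹ :=
          hUc _ _ ⟨-a, by rw [map_inv, hx, hun]⟩ ⟨_, h1⟩
        have c2 : x⁻¹ * y⁻¹ = y⁻¹ * x⁻¹ :=
          hUc _ _ ⟨-a, by rw [map_inv, hx, hun]⟩ ⟨-b, by rw [map_inv, hy, hun]⟩
        calc ⁅δ₀, x⁆ * ⁅δ₀, y⁆ = δ₀ * x * δ₀⁻¹ * (x⁻¹ * (δ₀ * y * δ₀⁻¹)) * y⁻¹ := by
              rw [commutatorElement_def, commutatorElement_def]; group
          _ = δ₀ * x * δ₀⁻¹ * ((δ₀ * y * δ₀⁻¹) * x⁻¹) * y⁻¹ := by rw [c1]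
          _ = δ₀ * (x * y) * δ₀⁻¹ * (x⁻¹ * y⁻¹) := by group
          _ = δ₀ * (x * y) * δ₀⁻¹ * (y⁻¹ * x⁻¹) := by rw [c2]
          _ = ⁅δ₀, x * y⁆ := by rw [commutatorElement_def]; group
      inv_mem' := by
        rintro g ⟨x, ⟨a, hx⟩, rfl⟩
        refine ⟨x⁻¹, ⟨-a, by rw [map_inv, hx, hun]⟩, ?_⟩
        have h1 : σ (δ₀ * x⁻¹ * δ₀⁻¹) = u ((t₀ : F) ^ 2 * (-a)) :=
          hconjU δ₀ x⁻¹ t₀ (-a) hδ₀ (by rw [map_inv, hx, hun])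
        have c1 : x * (δ₀ * x⁻¹ * δ₀⁻¹) = (δ₀ * x⁻¹ * δ₀⁻¹) * x := hUc _ _ ⟨a, hx⟩ ⟨_, h1⟩
        calc ⁅δ₀, x⁆⁻¹ = x * (δ₀ * x⁻¹ * δ₀⁻¹) := by rw [commutatorElement_def]; group
          _ = (δ₀ * x⁻¹ * δ₀⁻¹) * x := c1
          _ = ⁅δ₀, x⁻¹⁆ := by rw [commutatorElement_def]; group }
  have hVmem : ∀ g, g ∈ V ↔ ∃ x : Γ, (∃ a, σ x = u a) ∧ g = ⁅δ₀, x⁆ := fun g => Iff.rfl
  -- `V` meets the kernel trivially
  have hVK : ∀ g ∈ V, g ∈ σ.ker → g = 1 := by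
    rintro g ⟨x, ⟨a, hx⟩, rfl⟩ hk
    rw [MonoidHom.mem_ker, hσV x a hx, ← hu0] at hk
    have h0 := hu_inj hk
    have ha : a = 0 := by
      rcases mul_eq_zero.1 h0 with h | h
      · exact absurd h hc
      · exact h
    have hxK : x ∈ σ.ker := by rw [MonoidHom.mem_ker, hx, ha, hu0]
    have := central_comm σ hK hxK δ₀
    rw [commutatorElement_eq_one_iff_commute]
    exact this
  -- images of elements of `V`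
  have hVσ : ∀ g ∈ V, ∃ a, σ g = u a := by
    rintro g ⟨x, ⟨a, hx⟩, rfl⟩
    exact ⟨_, hσV x a hx⟩
  -- every value `u a` is attained on `V`
  have hVsurj : ∀ a : F, ∃ v ∈ V, σ v = u a := by
    intro a
    obtain ⟨y, hy⟩ := hs (u (((t₀ : F) ^ 2 - 1)⁻¹ * a))
    refine ⟨⁅δ₀, y⁆, ⟨y, ⟨_, hy⟩, rfl⟩, ?_⟩
    rw [hσV y _ hy, ← mul_assoc, mul_inv_cancel₀ hc, one_mul]
  -- `V` is normalized by the lift of the torus
  have hVnorm : ∀ (τ : Γ) (t : Fˣ), σ τ = d t → ∀ v ∈ V, τ * v * τ⁻¹ ∈ V := by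
    rintro τ t hτ v ⟨x, ⟨a, hx⟩, rfl⟩
    refine ⟨τ * x * τ⁻¹, ⟨_, hconjU τ x t a hτ hx⟩, ?_⟩
    rw [conjugate_commutatorElement]
    have : τ * δ₀ * τ⁻¹ = δ₀ := by
      rw [hTc τ δ₀ ⟨t, hτ⟩ ⟨t₀, hδ₀⟩]; group
    rw [this]
  -- decomposition
  have hdec : ∀ h ∈ H, ∃ v ∈ V, ∃ (τ : Γ) (t : Fˣ), σ τ = d t ∧ h = v * τ := by
    intro h hh
    obtain ⟨a, t, hat⟩ := hH h hh
    obtain ⟨v, hv, hva⟩ := hVsurj a
    refine ⟨v, hv, v⁻¹ * h, t, ?_, by group⟩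
    rw [map_mul, map_inv, hva, hat]; group
  have hle : ⁅H, H⁆ ≤ V := by
    rw [Subgroup.commutator_le]
    intro h hh h' hh'
    obtain ⟨v, hv, τ, t, hτ, rfl⟩ := hdec h hh
    obtain ⟨v', hv', τ', t', hτ', rfl⟩ := hdec h' hh'
    have cT : τ * τ' = τ' * τ := hTc τ τ' ⟨t, hτ⟩ ⟨t', hτ'⟩
    have e : ⁅v * τ, v' * τ'⁆ = v * (τ * v' * τ⁻¹) * (τ' * v⁻¹ * τ'⁻¹) * v'⁻¹ := by
      calc ⁅v * τ, v' * τ'⁆ = v * (τ * v' * τ⁻¹) * (τ * τ') * τ⁻¹ * v⁻¹ * τ'⁻¹ * v'⁻¹ := by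
            rw [commutatorElement_def]; group
        _ = v * (τ * v' * τ⁻¹) * (τ' * τ) * τ⁻¹ * v⁻¹ * τ'⁻¹ * v'⁻¹ := by rw [cT]
        _ = v * (τ * v' * τ⁻¹) * (τ' * v⁻¹ * τ'⁻¹) * v'⁻¹ := by group
    rw [e]
    exact V.mul_mem (V.mul_mem (V.mul_mem hv (hVnorm τ t hτ v' hv'))
      (hVnorm τ' t' hτ' v⁻¹ (V.inv_mem hv))) (V.inv_mem hv')
  intro k hk hkK
  exact hVK k (hle hk) hkK

end Cfsg.Agent.Helper20.SchurSL
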