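import Mathlib

/-!
# Two nonzero squares with sum one and product different from one, in a finite field
-/

set_option autoImplicit false

namespace Cfsg.Agent.Helper20.SchurSL

open Polynomial

variable {F : Type*} [Field F] [Fintype F]

/-- odd characteristic, more than `13` elements -/
theorem exists_squares_odd (h2 : (2 : F) ≠ 0) (hq : 13 < Fintype.card F) :
    ∃ s₁ s₂ : Fˣ, (s₁ : F) ^ 2 + (s₂ : F) ^ 2 = 1 ∧ (s₁ : F) ^ 2 * (s₂ : F) ^ 2 ≠ 1 := by
  let P : F[X] := X ^ 13 + (C 13 * X ^ 9 - C 13 * X ^ 5 - X)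
  have hdeg : (C 13 * X ^ 9 - C 13 * X ^ 5 - X : F[X]).degree < (13 : ℕ) := by
    rw [Polynomial.degree_lt_iff_coeff_zero]
    intro m hm
    simp only [coeff_sub, coeff_C_mul, coeff_X_pow, coeff_X]
    have h9 : m ≠ 9 := by omega
    have h5 : m ≠ 5 := by omega
    have h1 : (1 : ℕ) ≠ m := by omega
    simp [h9, h5, h1]
  have hmon : P.Monic := Polynomial.monic_X_pow_add hdeg
  have hnat : P.natDegree ≤ 13 :=
    (natDegree_add_le _ _).trans (max_le (natDegree_X_pow_le 13) (natDegree_le_of_degree_le hdeg.le))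
  obtain ⟨u, hu⟩ := Polynomial.exists_eval_ne_zero_of_natDegree_lt_card P hmon.ne_zero (by
    rw [Cardinal.mk_fintype]
    exact_mod_cast lt_of_le_of_lt hnat hq)
  have hu' : u ^ 13 + (13 * u ^ 9 - 13 * u ^ 5 - u) ≠ 0 := by
    have : P.eval u = u ^ 13 + (13 * u ^ 9 - 13 * u ^ 5 - u) := by
      simp only [P, eval_add, eval_sub, eval_mul, eval_pow, eval_X, eval_C]
    rwa [this] at hu
  have hu0 : u ≠ 0 := by
    rintro rfl
    apply hu'
    ring
  have hu1 : 1 - u ^ 2 ≠ 0 := by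
    intro h
    apply hu'
    have : u ^ 2 = 1 := by linear_combination -h
    linear_combination (u ^ 11 + u ^ 9 + 14 * u ^ 7 + 14 * u ^ 5 + u ^ 3 + u) * this
  have hu2 : 1 + u ^ 2 ≠ 0 := by
    intro h
    apply hu'
    linear_combination (u ^ 11 - u ^ 9 + 14 * u ^ 7 - 14 * u ^ 5 + u ^ 3 - u) * h
  have hu3 : (1 + u ^ 2) ^ 4 - 4 * u ^ 2 * (1 - u ^ 2) ^ 2 ≠ 0 := by
    intro h
    apply hu'
    linear_combination (u ^ 5 - u) * h
  have hs1 : (1 - u ^ 2) / (1 + u ^ 2) ≠ 0 := div_ne_zero hu1 hu2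
  have hs2 : (2 * u) / (1 + u ^ 2) ≠ 0 := div_ne_zero (mul_ne_zero h2 hu0) hu2
  refine ⟨Units.mk0 _ hs1, Units.mk0 _ hs2, ?_, ?_⟩
  · rw [Units.val_mk0, Units.val_mk0]
    field_simp
    ring
  · rw [Units.val_mk0, Units.val_mk0]
    intro h
    apply hu3
    field_simp at h
    linear_combination -h

/-- characteristic two, more than `4` elements -/
theorem exists_squares_even (h2 : (2 : F) = 0) (hq : 4 < Fintype.card F) :
    ∃ s₁ s₂ : Fˣ, (s₁ : F) ^ 2 + (s₂ : F) ^ 2 = 1 ∧ (s₁ : F) ^ 2 * (s₂ : F) ^ 2 ≠ 1 := by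
  have hchar : ringChar F = 2 := by
    have : CharP F 2 := by
      apply CharTwo.of_one_ne_zero_of_two_eq_zero one_ne_zero h2
    exact ringChar.eq F 2
  let P : F[X] := X ^ 4 + X
  have hdeg : (X : F[X]).degree < (4 : ℕ) := by
    rw [degree_X]
    norm_num
  have hmon : P.Monic := Polynomial.monic_X_pow_add hdeg
  have hnat : P.natDegree ≤ 4 :=
    (natDegree_add_le _ _).trans (max_le (natDegree_X_pow_le 4) (natDegree_le_of_degree_le hdeg.le))
  obtain ⟨s, hs⟩ := Polynomial.exists_eval_ne_zero_of_natDegree_lt_card P hmon.ne_zero (by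
    rw [Cardinal.mk_fintype]
    exact_mod_cast lt_of_le_of_lt hnat hq)
  have hs' : s ^ 4 + s ≠ 0 := by
    have : P.eval s = s ^ 4 + s := by
      simp only [P, eval_add, eval_pow, eval_X]
    rwa [this] at hs
  have hs0 : s ≠ 0 := by
    rintro rfl
    apply hs'
    ring
  have hs1 : 1 + s ≠ 0 := by
    intro h
    apply hs'
    linear_combination (s ^ 3 - s ^ 2 + s) * h
  obtain ⟨a, ha⟩ := FiniteField.isSquare_of_char_two hchar s
  obtain ⟨b, hb⟩ := FiniteField.isSquare_of_char_two hchar (1 + s)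
  have ha0 : a ≠ 0 := by
    rintro rfl
    apply hs0
    rw [ha, mul_zero]
  have hb0 : b ≠ 0 := by
    rintro rfl
    apply hs1
    rw [hb, mul_zero]
  refine ⟨Units.mk0 a ha0, Units.mk0 b hb0, ?_, ?_⟩
  · rw [Units.val_mk0, Units.val_mk0, pow_two, pow_two, ← ha, ← hb]
    linear_combination s * h2
  · rw [Units.val_mk0, Units.val_mk0, pow_two, pow_two, ← ha, ← hb]
    intro h
    apply hs'
    linear_combination (s ^ 2 - s) * h + s ^ 2 * h2

end Cfsg.Agent.Helper20.SchurSL
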