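import Mathlib
import Cfsg.Agent.Lib.Helper20.SchurSLC
import Cfsg.Agent.Lib.Helper20.SchurSLE
import Cfsg.Agent.Lib.Helper12.SL2Unip

/-!
# Stem extensions of `SL₂(q)`: the prime `p`

The commutator subgroup of the preimage of the Borel subgroup meets the kernel trivially.
-/

set_option autoImplicit false

namespace Cfsg.Agent.Helper20.SchurSL

open scoped commutatorElement
open Cfsg.Agent.Helper29.StemSylow Cfsg.Agent.Helper12

variable {F : Type*} [Field F]

/-- the diagonal torus of `SL₂` -/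
def diagHomSL (F : Type*) [Field F] : Fˣ →* Matrix.SpecialLinearGroup (Fin 2) F where
  toFun t := borelMat (t : F) 0 t.ne_zero
  map_one' := by
    apply Subtype.ext
    rw [borelMat_coe, Matrix.SpecialLinearGroup.coe_one]
    ext i j
    fin_cases i <;> fin_cases j <;> simp
  map_mul' s t := by
    apply Subtype.ext
    rw [Matrix.SpecialLinearGroup.coe_mul, borelMat_coe, borelMat_coe, borelMat_coe]
    ext i j
    fin_cases i <;> fin_cases j <;> simp [Matrix.mul_apply, Fin.sum_univ_two, mul_comm]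

theorem diagHomSL_coe (t : Fˣ) :
    ((diagHomSL F t : Matrix.SpecialLinearGroup (Fin 2) F) : Matrix (Fin 2) (Fin 2) F) =
      !![(t : F), 0; 0, (t : F)⁻¹] := rfl

/-- the unipotent elements -/
def uSL (x : F) : Matrix.SpecialLinearGroup (Fin 2) F := unipHom F (Multiplicative.ofAdd x)

theorem uSL_coe (x : F) :
    ((uSL x : Matrix.SpecialLinearGroup (Fin 2) F) : Matrix (Fin 2) (Fin 2) F) = !![1, x; 0, 1] := by
  rw [uSL, unipHom_apply, upperSL_coe]
  rfl

theorem uSL_add (x y : F) : uSL (x + y) = uSL x * uSL y := by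
  rw [uSL, uSL, uSL, ofAdd_add, map_mul]

theorem uSL_injective : Function.Injective (uSL : F → Matrix.SpecialLinearGroup (Fin 2) F) := by
  intro x y h
  have := unipHom_injective h
  exact Multiplicative.ofAdd.injective this

theorem diag_conj_uSL (t : Fˣ) (x : F) :
    diagHomSL F t * uSL x * (diagHomSL F t)⁻¹ = uSL ((t : F) ^ 2 * x) := by
  rw [mul_inv_eq_iff_eq_mul]
  apply Subtype.ext
  rw [Matrix.SpecialLinearGroup.coe_mul, Matrix.SpecialLinearGroup.coe_mul, uSL_coe, uSL_coe,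
    diagHomSL_coe]
  have ht : (t : F) ≠ 0 := t.ne_zero
  ext i j
  fin_cases i <;> fin_cases j <;> simp [Matrix.mul_apply, Fin.sum_univ_two]
  field_simp

theorem borel_decomp (g : Matrix.SpecialLinearGroup (Fin 2) F) (hg : g ∈ borelSL2 F) :
    ∃ (a : F) (t : Fˣ), g = uSL a * diagHomSL F t := by
  have h10 := borel_entry_10 ⟨g, hg⟩
  have h00 := borel_entry_00_ne ⟨g, hg⟩
  have h11 := borel_entry_11 ⟨g, hg⟩
  simp only at h10 h00 h11
  refine ⟨(g : Matrix (Fin 2) (Fin 2) F) 0 1 * (g : Matrix (Fin 2) (Fin 2) F) 0 0, Units.mk0 _ h00, ?_⟩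
  apply Subtype.ext
  rw [Matrix.SpecialLinearGroup.coe_mul, uSL_coe, diagHomSL_coe, Units.val_mk0]
  ext i j
  fin_cases i <;> fin_cases j <;> simp [Matrix.mul_apply, Fin.sum_univ_two, h10, h11]
  field_simp

variable {Γ : Type*} [Group Γ]

/-- the local statement for the characteristic -/
theorem local_borel [Fintype F] [DecidableEq F] (p : ℕ) [Fact p.Prime] [CharP F p]
    (σ : Γ →* Matrix.SpecialLinearGroup (Fin 2) F) (hs : Function.Surjective σ)
    (hK : σ.ker ≤ Subgroup.center Γ)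
    (s₁ s₂ : Fˣ) (hsum : (s₁ : F) ^ 2 + (s₂ : F) ^ 2 = 1) (hprod : (s₁ : F) ^ 2 * (s₂ : F) ^ 2 ≠ 1) :
    ∃ Q : Subgroup (Matrix.SpecialLinearGroup (Fin 2) F), ¬ p ∣ Q.index ∧
      ∀ k ∈ ⁅Q.comap σ, Q.comap σ⁆, k ∈ σ.ker → k = 1 := by
  refine ⟨borelSL2 F, ?_, ?_⟩
  · intro hdvd
    have h1 : (borelSL2 F).index ∣ (unipSL2 F).index := Subgroup.index_dvd_of_le unipSL2_le_borel
    have h2 := (unipSylow (F := F) p).not_dvd_index
    rw [unipSylow_coe] at h2
    exact h2 (hdvd.trans h1)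
  · have hUc := lift_unipotent_comm σ hs hK (uSL : F → _) (diagHomSL F) uSL_add diag_conj_uSL
      s₁ s₂ hsum hprod
    have hTc := lift_torus_comm σ hs hK (diagHomSL F)
    apply comm_inf_ker_of_borel σ hs hK (uSL : F → _) (diagHomSL F) uSL_add uSL_injective
      diag_conj_uSL hUc hTc (s₁ * s₂)
    · rw [Units.val_mul, mul_pow]
      exact hprod
    · intro h hh
      obtain ⟨a, t, hat⟩ := borel_decomp (σ h) hh
      exact ⟨a, t, hat⟩

end Cfsg.Agent.Helper20.SchurSL
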