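import Mathlib
import Cfsg.Agent.Lib.Helper20.SchurSLA
import Cfsg.Agent.Lib.Helper12.SL2Quat

/-!
# Stem extensions of `SL₂(q)`, `q` odd: the prime `2`

The Sylow `2`-subgroups are generalized quaternion.
-/

set_option autoImplicit false

namespace Cfsg.Agent.Helper20.SchurSL

open scoped commutatorElement
open Cfsg.Agent.Helper29.StemSylow Cfsg.Agent.Helper12

variable {F : Type*} [Field F]

variable {Γ : Type*} [Group Γ]

/-- the local statement for the prime two in odd characteristic -/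
theorem local_two [Fintype F] [DecidableEq F] (hodd : Odd (Fintype.card F))
    (σ : Γ →* Matrix.SpecialLinearGroup (Fin 2) F) (hs : Function.Surjective σ)
    (hK : σ.ker ≤ Subgroup.center Γ) :
    ∃ Q : Subgroup (Matrix.SpecialLinearGroup (Fin 2) F), ¬ 2 ∣ Q.index ∧
      ∀ k ∈ ⁅Q.comap σ, Q.comap σ⁆, k ∈ σ.ker → k = 1 := by
  have hF : ringChar F ≠ 2 := by
    intro h
    have := FiniteField.even_card_iff_char_two.1 h
    rw [Nat.odd_iff] at hodd
    omega
  have h2 : (2 : F) ≠ 0 := Ring.two_ne_zero hF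
  haveI : Fact (Nat.Prime 2) := ⟨Nat.prime_two⟩
  obtain ⟨S⟩ : Nonempty (Sylow 2 (Matrix.SpecialLinearGroup (Fin 2) F)) := inferInstance
  refine ⟨S, S.not_dvd_index, ?_⟩
  obtain ⟨c, hQ⟩ := exists_quatData hodd S
  obtain ⟨hreg, hcyc, -⟩ := regular_of_trace_sq_ne hF c (trace_sq_ne_of_sq h2 hQ.sq)
  -- the cyclic part
  have hKle : ((S : Subgroup (Matrix.SpecialLinearGroup (Fin 2) F)) ⊓ torus c) ≤ torus c :=
    inf_le_right
  haveI hKc : IsCyclic ((S : Subgroup (Matrix.SpecialLinearGroup (Fin 2) F)) ⊓ torus c :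
      Subgroup (Matrix.SpecialLinearGroup (Fin 2) F)) :=
    isCyclic_of_injective (Subgroup.inclusion hKle) (Subgroup.inclusion_injective hKle)
  obtain ⟨g₀, hg₀⟩ := IsCyclic.exists_generator
    (α := ((S : Subgroup (Matrix.SpecialLinearGroup (Fin 2) F)) ⊓ torus c :
      Subgroup (Matrix.SpecialLinearGroup (Fin 2) F)))
  have hord0 : orderOf g₀ = Nat.card ((S : Subgroup (Matrix.SpecialLinearGroup (Fin 2) F)) ⊓
      torus c : Subgroup (Matrix.SpecialLinearGroup (Fin 2) F)) :=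
    orderOf_eq_card_of_forall_mem_zpowers hg₀
  have hord1 : orderOf (g₀.1 : Matrix.SpecialLinearGroup (Fin 2) F) =
      Nat.card ((S : Subgroup (Matrix.SpecialLinearGroup (Fin 2) F)) ⊓
      torus c : Subgroup (Matrix.SpecialLinearGroup (Fin 2) F)) := by
    rw [← hord0, Subgroup.orderOf_coe]
  obtain ⟨m, hm⟩ := hQ.four_dvd h2
  -- `h = 2 m`, the order is `2 h`
  have hord2 : orderOf (g₀.1 : Matrix.SpecialLinearGroup (Fin 2) F) = 2 * (2 * m) := by
    rw [hord1, hm]; ring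
  have hmpos : 0 < m := by
    rcases Nat.eq_zero_or_pos m with h | h
    · exfalso
      rw [h, mul_zero] at hm
      exact Nat.card_pos.ne' hm
    · exact h
  have hgT : (g₀.1 : Matrix.SpecialLinearGroup (Fin 2) F) ∈ torus c := g₀.2.2
  -- the involution
  have hinv : (g₀.1 : Matrix.SpecialLinearGroup (Fin 2) F) ^ (2 * m) = negOneSL := by
    have h1 : (g₀.1 : Matrix.SpecialLinearGroup (Fin 2) F) ^ (2 * m) *
        (g₀.1 : Matrix.SpecialLinearGroup (Fin 2) F) ^ (2 * m) = 1 := by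
      rw [← pow_add, ← two_mul, ← hord2, pow_orderOf_eq_one]
    have h3 : (g₀.1 : Matrix.SpecialLinearGroup (Fin 2) F) ^ (2 * m) ≠ 1 := by
      apply pow_ne_one_of_lt_orderOf (by omega)
      rw [hord2]; omega
    rcases SL2_sq_eq_one h2 _ h1 with h | h
    · exact absurd h h3
    · exact h
  -- the inverting element
  obtain ⟨w, hwS, hwT⟩ := hQ.exists_not_mem
  have hwc := hQ.inverts hF w hwS hwT
  have hwinv := inverts_torus hreg.ns w hwc
  have hww : w * w = negOneSL := by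
    apply Subtype.ext
    rw [sq_eq_neg_one_of_inverts hreg.ns w hwc, negOneSL_coe]
  obtain ⟨a, ha⟩ := hs g₀.1
  obtain ⟨b, hb⟩ := hs w
  apply comm_inf_ker_of_dicyclic σ hK _ a b (2 * m)
  · intro n hn
    rw [ha] at hn
    have := orderOf_dvd_iff_zpow_eq_one.2 hn
    rw [hord2] at this
    exact this
  · rw [hb, ha, hww, hinv]
  · rw [hb, ha]
    exact hwinv _ hgT
  · intro u hu
    have hxS : σ u ∈ (S : Subgroup (Matrix.SpecialLinearGroup (Fin 2) F)) := hu
    rw [ha, hb]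
    by_cases hxT : σ u ∈ torus c
    · obtain ⟨i, hi⟩ := Subgroup.mem_zpowers_iff.1 (hg₀ ⟨σ u, ⟨hxS, hxT⟩⟩)
      refine ⟨i, Or.inl ?_⟩
      have := congrArg Subtype.val hi
      simpa using this.symm
    · have hxc := hQ.inverts hF (σ u) hxS hxT
      have h1 : w⁻¹ * σ u ∈ torus c := inv_mul_mem_torus_of_inverts hwc hxc
      have h2' : w⁻¹ * σ u ∈ (S : Subgroup (Matrix.SpecialLinearGroup (Fin 2) F)) :=
        Subgroup.mul_mem _ (Subgroup.inv_mem _ hwS) hxS
      obtain ⟨i, hi⟩ := Subgroup.mem_zpowers_iff.1 (hg₀ ⟨w⁻¹ * σ u, ⟨h2', h1⟩⟩)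
      have hi' : (g₀.1 : Matrix.SpecialLinearGroup (Fin 2) F) ^ i = w⁻¹ * σ u := by
        have := congrArg Subtype.val hi
        simpa using this
      refine ⟨-i, Or.inr ?_⟩
      have h3 : w * (g₀.1 : Matrix.SpecialLinearGroup (Fin 2) F) ^ i * w⁻¹ =
          ((g₀.1 : Matrix.SpecialLinearGroup (Fin 2) F) ^ i)⁻¹ :=
        hwinv _ (Subgroup.zpow_mem _ hgT i)
      rw [zpow_neg, ← h3, hi']
      group

end Cfsg.Agent.Helper20.SchurSL
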