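import Mathlib
import Cfsg.Agent.Lib.Helper29.StemSylow
import Cfsg.Agent.Lib.Helper12.SL2Quat

/-!
# Stem extensions of `SL₂(q)`: odd primes different from the characteristic

The Sylow subgroups are contained in cyclic tori.
-/

set_option autoImplicit false

namespace Cfsg.Agent.Helper20.SchurSL

open scoped commutatorElement
open Cfsg.Agent.Helper29.StemSylow Cfsg.Agent.Helper12

variable {F : Type*} [Field F]

/-- an eigenvalue is a root of the characteristic polynomial -/
theorem charpoly_root_of_eigen (g : Matrix.SpecialLinearGroup (Fin 2) F) (c : F) (v : Fin 2 → F)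
    (hv : v ≠ 0) (hcv : (g : Matrix (Fin 2) (Fin 2) F).mulVec v = c • v) :
    c ^ 2 - (g : Matrix (Fin 2) (Fin 2) F).trace * c + 1 = 0 := by
  have hdet : ((g : Matrix (Fin 2) (Fin 2) F) - c • (1 : Matrix (Fin 2) (Fin 2) F)).det = 0 := by
    apply Matrix.exists_mulVec_eq_zero_iff.1
    refine ⟨v, hv, ?_⟩
    rw [Matrix.sub_mulVec, Matrix.smul_mulVec, Matrix.one_mulVec, hcv, sub_self]
  have hd := g.2
  rw [Matrix.det_fin_two] at hd hdet
  rw [Matrix.trace_fin_two]
  simp only [Matrix.sub_apply, Matrix.smul_apply, Matrix.one_apply_eq, Matrix.one_apply_ne,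
    ne_eq, one_ne_zero, zero_ne_one, not_false_eq_true, smul_eq_mul, mul_one, mul_zero,
    sub_zero] at hdet
  linear_combination hdet - hd

/-- the centralizer of an element with an eigenvalue of square different from one is cyclic -/
theorem isCyclic_torus_of_eigen [Finite F] (g : Matrix.SpecialLinearGroup (Fin 2) F) (c : F)
    (v : Fin 2 → F) (hv : v ≠ 0) (hcv : (g : Matrix (Fin 2) (Fin 2) F).mulVec v = c • v)
    (hc : c ^ 2 ≠ 1) : IsCyclic (torus g) := by
  have hroot := charpoly_root_of_eigen g c v hv hcv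
  -- `g` is not scalar
  have hns : ¬ IsScalar2 (g : Matrix (Fin 2) (Fin 2) F) := by
    intro hsc
    apply hc
    obtain ⟨h01, h10, h00⟩ := hsc
    have hd := g.2
    rw [Matrix.det_fin_two, h01, h10, ← h00] at hd
    rw [Matrix.trace_fin_two, ← h00] at hroot
    have h1 : (c - (g : Matrix (Fin 2) (Fin 2) F) 0 0) ^ 2 = 0 := by
      linear_combination hroot + hd
    have h2 : c = (g : Matrix (Fin 2) (Fin 2) F) 0 0 := by
      have := pow_eq_zero_iff (two_ne_zero) |>.1 h1
      exact sub_eq_zero.1 this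
    rw [h2]
    linear_combination hd
  -- every element of the torus has `v` as an eigenvector
  have heig : ∀ h ∈ torus g, ∃ a b : F, (h : Matrix (Fin 2) (Fin 2) F) =
      a • (1 : Matrix (Fin 2) (Fin 2) F) + b • (g : Matrix (Fin 2) (Fin 2) F) ∧
      (h : Matrix (Fin 2) (Fin 2) F).mulVec v = (a + b * c) • v := by
    intro h hh
    obtain ⟨a, b, e⟩ := (mem_torus_iff_coe g h hns).1 hh
    refine ⟨a, b, e, ?_⟩
    rw [e, Matrix.add_mulVec, Matrix.smul_mulVec, Matrix.smul_mulVec, Matrix.one_mulVec, hcv,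
      add_smul, mul_smul]
  obtain ⟨i₀, hi₀⟩ : ∃ i, v i ≠ 0 := by
    by_contra hcon
    apply hv
    ext i
    by_contra hi
    exact hcon ⟨i, hi⟩
  have hval : ∀ h ∈ torus g, ∀ μ : F, (h : Matrix (Fin 2) (Fin 2) F).mulVec v = μ • v →
      (h : Matrix (Fin 2) (Fin 2) F).mulVec v i₀ / v i₀ = μ := by
    intro h _ μ hμ
    rw [hμ, Pi.smul_apply, smul_eq_mul, mul_div_assoc, div_self hi₀, mul_one]
  let f : torus g →* F :=
    { toFun := fun h => (h.1 : Matrix (Fin 2) (Fin 2) F).mulVec v i₀ / v i₀
      map_one' := by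
        change ((1 : Matrix.SpecialLinearGroup (Fin 2) F) : Matrix (Fin 2) (Fin 2) F).mulVec v i₀ /
          v i₀ = 1
        rw [Matrix.SpecialLinearGroup.coe_one, Matrix.one_mulVec, div_self hi₀]
      map_mul' := by
        intro h h'
        obtain ⟨a, b, -, e⟩ := heig h.1 h.2
        obtain ⟨a', b', -, e'⟩ := heig h'.1 h'.2
        have e'' : ((h.1 * h'.1 : Matrix.SpecialLinearGroup (Fin 2) F) :
            Matrix (Fin 2) (Fin 2) F).mulVec v = ((a + b * c) * (a' + b' * c)) • v := by
          rw [Matrix.SpecialLinearGroup.coe_mul, ← Matrix.mulVec_mulVec, e', Matrix.mulVec_smul, e,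
            smul_smul, mul_comm]
        change ((h.1 * h'.1 : Matrix.SpecialLinearGroup (Fin 2) F) :
            Matrix (Fin 2) (Fin 2) F).mulVec v i₀ / v i₀ = _
        rw [hval _ (Subgroup.mul_mem _ h.2 h'.2) _ e'', hval _ h.2 _ e, hval _ h'.2 _ e'] }
  have hc0 : c ≠ 0 := by
    rintro rfl
    simp at hroot
  have hf : Function.Injective f := by
    rw [injective_iff_map_eq_one]
    intro h hh
    obtain ⟨a, b, e, e1⟩ := heig h.1 h.2
    have h1 : a + b * c = 1 := by
      rw [← hval _ h.2 _ e1]
      exact hh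
    have hdet := h.1.2
    rw [e, det_smul_one_add_smul, g.2] at hdet
    have hb : b * (1 - c ^ 2) = 0 := by
      have ha : a = 1 - b * c := by linear_combination h1
      rw [ha] at hdet
      linear_combination c * hdet + (b - b ^ 2 * c) * hroot
    have hb0 : b = 0 := by
      rcases mul_eq_zero.1 hb with h0 | h0
      · exact h0
      · exfalso
        apply hc
        linear_combination -h0
    have ha1 : a = 1 := by
      rw [hb0] at h1
      linear_combination h1
    apply Subtype.ext
    apply Subtype.ext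
    rw [e, ha1, hb0]
    simp
  haveI : Finite (Matrix.SpecialLinearGroup (Fin 2) F) := by
    haveI := Fintype.ofFinite F
    classical
    infer_instance
  exact isCyclic_of_injective_ringHom f hf

/-- elements of order prime to `2 p` lie in a cyclic torus -/
theorem isCyclic_torus_of_coprime [Finite F] (p : ℕ) [Fact p.Prime] [CharP F p]
    (z : Matrix.SpecialLinearGroup (Fin 2) F) (hz : z ≠ 1) (n : ℕ) (hn : z ^ n = 1)
    (hcop : Nat.Coprime n (2 * p)) :
    ¬ IsScalar2 (z : Matrix (Fin 2) (Fin 2) F) ∧ IsCyclic (torus z) := by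
  constructor
  · intro hsc
    rcases (isScalar2_iff_eq z).1 hsc with h | h
    · exact hz h
    · apply hz
      have h2 : z ^ 2 = 1 := by rw [pow_two, h, negOneSL_mul_self]
      exact eq_one_of_pow_coprime z n 2 hn h2 (Nat.Coprime.coprime_mul_right_right hcop)
  · by_cases hell : IsElliptic z
    · exact isCyclic_torus hell
    · have hev : ∃ (c : F) (v : Fin 2 → F), v ≠ 0 ∧
          (z : Matrix (Fin 2) (Fin 2) F).mulVec v = c • v := by
        by_contra hcon
        apply hell
        intro c v hv hcv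
        exact hcon ⟨c, v, hv, hcv⟩
      obtain ⟨c, v, hv, hcv⟩ := hev
      by_cases hc : c ^ 2 = 1
      · exfalso
        apply hz
        have h2 := SL2_pow_two_char_eq_one p z c (charpoly_root_of_eigen z c v hv hcv) hc
        exact eq_one_of_pow_coprime z n (2 * p) hn h2 hcop
      · exact isCyclic_torus_of_eigen z c v hv hcv hc

variable {Γ : Type*} [Group Γ]

/-- the local statement for odd primes different from the characteristic -/
theorem local_cyclic [Fintype F] [DecidableEq F] (p : ℕ) [Fact p.Prime] [CharP F p]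
    (σ : Γ →* Matrix.SpecialLinearGroup (Fin 2) F) (hs : Function.Surjective σ)
    (hK : σ.ker ≤ Subgroup.center Γ) (r : ℕ) (hr : r.Prime) (hr2 : r ≠ 2) (hrp : r ≠ p)
    (hrG : r ∣ Nat.card (Matrix.SpecialLinearGroup (Fin 2) F)) :
    ∃ Q : Subgroup (Matrix.SpecialLinearGroup (Fin 2) F), ¬ r ∣ Q.index ∧
      ∀ k ∈ ⁅Q.comap σ, Q.comap σ⁆, k ∈ σ.ker → k = 1 := by
  have hpp : p.Prime := Fact.out
  haveI : Fact r.Prime := ⟨hr⟩
  obtain ⟨S⟩ : Nonempty (Sylow r (Matrix.SpecialLinearGroup (Fin 2) F)) := inferInstance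
  refine ⟨S, S.not_dvd_index, ?_⟩
  have hScard : r ∣ Nat.card S := by
    rw [Sylow.card_eq_multiplicity]
    apply dvd_pow_self
    intro h0
    have := (Nat.factorization_eq_zero_iff _ _).1 h0
    rcases this with h | h | h
    · exact h hr
    · exact h hrG
    · exact Nat.card_pos.ne' h
  haveI : Nontrivial S := by
    rw [← Finite.one_lt_card_iff_nontrivial]
    have := Nat.le_of_dvd Nat.card_pos hScard
    exact lt_of_lt_of_le hr.one_lt this
  haveI := S.isPGroup'.center_nontrivial
  obtain ⟨z, hz⟩ := exists_ne (1 : Subgroup.center S)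
  have hz1 : (z.1.1 : Matrix.SpecialLinearGroup (Fin 2) F) ≠ 1 := by
    intro h
    apply hz
    apply Subtype.ext
    apply Subtype.ext
    exact h
  obtain ⟨k, hk⟩ := S.isPGroup' z.1
  have hzn : (z.1.1 : Matrix.SpecialLinearGroup (Fin 2) F) ^ (r ^ k) = 1 := by
    have := congrArg Subtype.val hk
    simpa using this
  have hcop : Nat.Coprime (r ^ k) (2 * p) := by
    apply Nat.Coprime.pow_left
    apply Nat.Coprime.mul_right
    · exact (Nat.coprime_primes hr Nat.prime_two).2 hr2
    · exact (Nat.coprime_primes hr hpp).2 hrp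
  obtain ⟨hns, hcyc⟩ := isCyclic_torus_of_coprime p z.1.1 hz1 (r ^ k) hzn hcop
  have hST : (S : Subgroup (Matrix.SpecialLinearGroup (Fin 2) F)) ≤ torus z.1.1 := by
    intro x hx
    rw [mem_torus_iff]
    have := Subgroup.mem_center_iff.1 z.2 ⟨x, hx⟩
    have := congrArg Subtype.val this
    simpa using this.symm
  obtain ⟨g₀, hg₀⟩ := IsCyclic.exists_generator (α := torus z.1.1)
  obtain ⟨g', hg'⟩ := hs g₀.1
  have hb := comm_eq_bot_of_cyclic σ hK ((S : Subgroup _).comap σ) g' (fun u hu => by
    obtain ⟨i, hi⟩ := Subgroup.mem_zpowers_iff.1 (hg₀ ⟨σ u, hST hu⟩)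
    refine ⟨i, ?_⟩
    rw [hg']
    have := congrArg Subtype.val hi
    simpa using this.symm)
  intro k hk _
  rw [hb] at hk
  exact Subgroup.mem_bot.1 hk

end Cfsg.Agent.Helper20.SchurSL
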