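import Mathlib
import Cfsg.Agent.Lib.Helper20.SchurSLC
import Cfsg.Agent.Lib.Helper20.SchurSzA

/-!
# Central extensions of the Borel subgroup of a Suzuki group

`B` is a group with a parametrization `τ : F → F → B`, `τ a b τ c e = τ (a + c) (b + e + s a c)`,
and a torus `d : Fˣ →* B`, `d u τ a b (d u)⁻¹ = τ (s u a) (s u u² b)`, where `s` is a Tits
endomorphism of the field `F` of characteristic two.
-/

set_option autoImplicit false

namespace Cfsg.Agent.Helper20.SchurSz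

open scoped commutatorElement
open Cfsg.Agent.Helper29.StemSylow Cfsg.Agent.Helper20.SchurSL

variable {Γ : Type*} [Group Γ] {B : Type*} [Group B] {F : Type*} [Field F]

/-- the data of a Borel subgroup of Suzuki type -/
structure SuzBorel (F : Type*) [Field F] (B : Type*) [Group B] where
  /-- the Tits endomorphism -/
  s : F →+* F
  hss : ∀ t, s (s t) = t ^ 2
  h2 : (2 : F) = 0
  /-- the unipotent elements -/
  τ : F → F → B
  /-- the torus -/
  d : Fˣ →* B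
  τ_mul : ∀ a b c e, τ a b * τ c e = τ (a + c) (b + e + s a * c)
  τ_inj : ∀ a b c e, τ a b = τ c e → a = c ∧ b = e
  d_τ : ∀ (u : Fˣ) (a b : F), d u * τ a b = τ (s u * a) (s u * (u : F) ^ 2 * b) * d u
  surj : ∀ g : B, ∃ (a b : F) (u : Fˣ), g = τ a b * d u

namespace SuzBorel

variable (D : SuzBorel F B)

theorem τ_zero : D.τ 0 0 = 1 := by
  have h := D.τ_mul 0 0 0 0
  simp only [add_zero, map_zero, mul_zero] at h
  exact mul_eq_left.1 h

theorem τ_split (a b : F) : D.τ a b = D.τ a 0 * D.τ 0 b := by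
  rw [D.τ_mul, add_zero, zero_add, mul_zero, add_zero]

theorem τ0_add (b e : F) : D.τ 0 (b + e) = D.τ 0 b * D.τ 0 e := by
  rw [D.τ_mul, add_zero, map_zero, zero_mul, add_zero]

theorem τ0_central (a b e : F) : D.τ 0 e * D.τ a b = D.τ a b * D.τ 0 e := by
  rw [D.τ_mul, D.τ_mul, map_zero, zero_mul, mul_zero, add_zero, add_zero, zero_add, add_zero,
    add_comm e b]

theorem conj_τ (u : Fˣ) (a b : F) :
    D.d u * D.τ a b * (D.d u)⁻¹ = D.τ (D.s u * a) (D.s u * (u : F) ^ 2 * b) := by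
  rw [D.d_τ, mul_inv_cancel_right]

include D in
theorem add_self (x : F) : x + x = 0 := by linear_combination x * D.h2

include D in
theorem neg_eq (x : F) : -x = x := by linear_combination (-x) * D.h2

/-- the auxiliary endomorphism `t ↦ t² / s t` of the multiplicative group -/
def φ : Fˣ →* Fˣ where
  toFun t := t ^ 2 * (Units.map (D.s : F →* F) t)⁻¹
  map_one' := by simp
  map_mul' a b := by
    rw [map_mul, mul_pow, mul_inv]
    exact mul_mul_mul_comm _ _ _ _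

theorem φ_coe (t : Fˣ) : ((D.φ t : Fˣ) : F) = (t : F) ^ 2 * (D.s t)⁻¹ := by
  simp [φ]

theorem μ_φ (t : Fˣ) : D.s (D.φ t) * ((D.φ t : Fˣ) : F) ^ 2 = (t : F) ^ 2 := by
  rw [φ_coe, map_mul, map_inv₀, map_pow, D.hss]
  have h1 : (t : F) ≠ 0 := t.ne_zero
  have h2 : D.s t ≠ 0 := (map_ne_zero D.s).2 h1
  field_simp

variable (σ : Γ →* B) (hs : Function.Surjective σ) (hK : σ.ker ≤ Subgroup.center Γ)

include hs hK in
/-- the lift of the centre of the unipotent group is abelian -/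
theorem lift_centre_comm (s₁ s₂ : Fˣ) (hsum : (s₁ : F) ^ 2 + (s₂ : F) ^ 2 = 1)
    (hprod : (s₁ : F) ^ 2 * (s₂ : F) ^ 2 ≠ 1) :
    ∀ x y : Γ, (∃ a, σ x = D.τ 0 a) → (∃ b, σ y = D.τ 0 b) → x * y = y * x := by
  apply lift_unipotent_comm σ hs hK (fun b => D.τ 0 b) (D.d.comp D.φ) D.τ0_add _ s₁ s₂ hsum hprod
  intro t x
  rw [MonoidHom.comp_apply, D.conj_τ, mul_zero, D.μ_φ]

/-- a central commutator is multiplicative in the second argument -/
theorem comm_mul_right_of_central' {Γ : Type*} [Group Γ] (a b b' : Γ)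
    (hz : ∀ g : Γ, g * ⁅a, b⁆ = ⁅a, b⁆ * g) (hz' : ∀ g : Γ, g * ⁅a, b'⁆ = ⁅a, b'⁆ * g) :
    ⁅a, b * b'⁆ = ⁅a, b⁆ * ⁅a, b'⁆ := by
  have e : ⁅a, b * b'⁆ = ⁅a, b⁆ * (b * ⁅a, b'⁆ * b⁻¹) := by
    rw [commutatorElement_def, commutatorElement_def, commutatorElement_def]; group
  rw [e, hz' b, mul_inv_cancel_right]

include hs hK in
/-- the lift of the centre of the unipotent group is central in the lift of the unipotent group -/
theorem lift_centre_central [Finite F]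
    (hZc : ∀ x y : Γ, (∃ a, σ x = D.τ 0 a) → (∃ b, σ y = D.τ 0 b) → x * y = y * x)
    (y : F) (hy0 : y ≠ 0) (hy1 : 1 + y ≠ 0)
    (hyM : D.s y * y ^ 2 + D.s y * y ^ 2 * (D.s (1 + y) * (1 + y) ^ 2) +
      D.s (1 + y) * (1 + y) ^ 2 ≠ 0) :
    ∀ x z : Γ, (∃ a b, σ x = D.τ a b) → (∃ c, σ z = D.τ 0 c) → x * z = z * x := by
  have hsurj : Function.Surjective D.s := Finite.injective_iff_surjective.1 D.s.injective
  choose ℓ hℓ using fun a : F => hs (D.τ a 0)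
  choose ζ hζ using fun c : F => hs (D.τ 0 c)
  obtain ⟨γ, hγ⟩ : ∃ γ : F → F → Γ, ∀ a c, γ a c = ⁅ℓ a, ζ c⁆ :=
    ⟨fun a c => ⁅ℓ a, ζ c⁆, fun _ _ => rfl⟩
  have hγK : ∀ a c, γ a c ∈ σ.ker := by
    intro a c
    rw [hγ, MonoidHom.mem_ker, map_commutatorElement, hℓ, hζ, commutatorElement_eq_one_iff_commute]
    exact (D.τ0_central a 0 c).symm
  have hγc : ∀ a c (g : Γ), g * γ a c = γ a c * g := fun a c => central_comm σ hK (hγK a c)
  -- independence of the lifts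
  have f0 : ∀ (x z : Γ) (a b c : F), σ x = D.τ a b → σ z = D.τ 0 c → ⁅x, z⁆ = γ a c := by
    intro x z a b c hx hz
    obtain ⟨κ, hκ, rfl⟩ := exists_ker_mul σ x (ℓ a * ζ b) (by
      rw [hx, map_mul, hℓ, hζ, ← D.τ_split])
    obtain ⟨κ', hκ', rfl⟩ := exists_ker_mul σ z (ζ c) (by rw [hz, hζ])
    rw [comm_central_left (central_comm σ hK hκ), comm_central_right (central_comm σ hK hκ')]
    have e : ⁅ℓ a * ζ b, ζ c⁆ = ℓ a * ⁅ζ b, ζ c⁆ * (ℓ a)⁻¹ * ⁅ℓ a, ζ c⁆ := by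
      rw [commutatorElement_def, commutatorElement_def, commutatorElement_def]; group
    have e2 : ⁅ζ b, ζ c⁆ = 1 := by
      rw [commutatorElement_eq_one_iff_commute]
      exact hZc _ _ ⟨b, hζ b⟩ ⟨c, hζ c⟩
    rw [e, e2, mul_one, mul_inv_cancel, one_mul, hγ]
  -- additivity
  have f1 : ∀ a a' c, γ (a + a') c = γ a c * γ a' c := by
    intro a a' c
    rw [← f0 (ℓ a * ℓ a') (ζ c) (a + a') (0 + 0 + D.s a * a') c
      (by rw [map_mul, hℓ, hℓ, D.τ_mul]) (hζ c)]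
    rw [comm_mul_left_of_central (ℓ a) (ℓ a') (ζ c) (by rw [← hγ]; exact hγc a' c), ← hγ, ← hγ]
  have f2 : ∀ a c c', γ a (c + c') = γ a c * γ a c' := by
    intro a c c'
    rw [← f0 (ℓ a) (ζ c * ζ c') a 0 (c + c') (hℓ a) (by rw [map_mul, hζ, hζ, D.τ0_add])]
    rw [comm_mul_right_of_central' (ℓ a) (ζ c) (ζ c') (by rw [← hγ]; exact hγc a c)
      (by rw [← hγ]; exact hγc a c'), ← hγ, ← hγ]
  have f10 : ∀ c, γ 0 c = 1 := by
    intro c
    have h := f1 0 0 c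
    rw [add_zero] at h
    exact (mul_eq_left.1 h.symm)
  have f20 : ∀ a, γ a 0 = 1 := by
    intro a
    have h := f2 a 0 0
    rw [add_zero] at h
    exact (mul_eq_left.1 h.symm)
  -- invariance
  have f3 : ∀ (u : Fˣ) a c, γ (D.s u * a) (D.s u * (u : F) ^ 2 * c) = γ a c := by
    intro u a c
    obtain ⟨δ, hδ⟩ := hs (D.d u)
    rw [← f0 (δ * ℓ a * δ⁻¹) (δ * ζ c * δ⁻¹) (D.s u * a) (D.s u * (u : F) ^ 2 * 0)
      (D.s u * (u : F) ^ 2 * c)
      (by rw [map_mul, map_mul, map_inv, hδ, hℓ, D.conj_τ])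
      (by rw [map_mul, map_mul, map_inv, hδ, hζ, D.conj_τ, mul_zero])]
    rw [← conjugate_commutatorElement, ← hγ, hγc a c δ, mul_inv_cancel_right]
  -- reduction to `γ 1`
  have f4 : ∀ (v : F), v ≠ 0 → ∀ c, γ (D.s v) c = γ 1 ((D.s v * v ^ 2)⁻¹ * c) := by
    intro v hv c
    have hsv : D.s v ≠ 0 := (map_ne_zero D.s).2 hv
    have h := f3 (Units.mk0 v hv)⁻¹ (D.s v) c
    rw [Units.val_inv_eq_inv_val, Units.val_mk0, map_inv₀, inv_mul_cancel₀ hsv] at h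
    rw [← h]
    congr 1
    rw [mul_inv, inv_pow]
  have hM1 : D.s (1 + y) * (1 + y) ^ 2 ≠ 0 :=
    mul_ne_zero ((map_ne_zero D.s).2 hy1) (pow_ne_zero _ hy1)
  have hM0 : D.s y * y ^ 2 ≠ 0 := mul_ne_zero ((map_ne_zero D.s).2 hy0) (pow_ne_zero _ hy0)
  obtain ⟨e, he⟩ : ∃ e : F, e = (D.s (1 + y) * (1 + y) ^ 2)⁻¹ + 1 + (D.s y * y ^ 2)⁻¹ := ⟨_, rfl⟩
  have he0 : e ≠ 0 := by
    intro h0
    apply hyM
    have key : ∀ A B : F, A ≠ 0 → B ≠ 0 → (A⁻¹ + 1 + B⁻¹) * (B * A) = B + B * A + A := by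
      intro A B hA hB
      field_simp
    rw [← key _ _ hM1 hM0, ← he, h0, zero_mul]
  have f5 : ∀ c, γ 1 (e * c) = 1 := by
    intro c
    have h1 : γ (D.s (1 + y)) c = γ 1 c * γ (D.s y) c := by
      rw [map_add, map_one, f1]
    rw [f4 (1 + y) hy1, f4 y hy0] at h1
    have h2 : γ 1 c * γ 1 c = 1 := by
      rw [← f2, D.add_self, f20]
    rw [he, add_mul, add_mul, one_mul, f2, f2, h1]
    have cc := hγc 1 c
    have cc' := hγc 1 ((D.s y * y ^ 2)⁻¹ * c)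
    calc γ 1 c * γ 1 ((D.s y * y ^ 2)⁻¹ * c) * γ 1 c * γ 1 ((D.s y * y ^ 2)⁻¹ * c)
        = γ 1 c * (γ 1 ((D.s y * y ^ 2)⁻¹ * c) * γ 1 c) * γ 1 ((D.s y * y ^ 2)⁻¹ * c) := by group
      _ = γ 1 c * (γ 1 c * γ 1 ((D.s y * y ^ 2)⁻¹ * c)) * γ 1 ((D.s y * y ^ 2)⁻¹ * c) := by
          rw [cc]
      _ = (γ 1 c * γ 1 c) * (γ 1 ((D.s y * y ^ 2)⁻¹ * c) * γ 1 ((D.s y * y ^ 2)⁻¹ * c)) := by
          group
      _ = 1 := by
          rw [h2, ← f2, D.add_self, f20, one_mul]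
  have f6 : ∀ c, γ 1 c = 1 := by
    intro c
    have := f5 (e⁻¹ * c)
    rwa [← mul_assoc, mul_inv_cancel₀ he0, one_mul] at this
  have f7 : ∀ a c, γ a c = 1 := by
    intro a c
    by_cases ha : a = 0
    · rw [ha, f10]
    · obtain ⟨v, rfl⟩ := hsurj a
      have hv : v ≠ 0 := by
        rintro rfl
        exact ha (map_zero D.s)
      rw [f4 v hv, f6]
  rintro x z ⟨a, b, hx⟩ ⟨c, hz⟩
  have := f0 x z a b c hx hz
  rw [f7] at this
  exact (commutatorElement_eq_one_iff_commute.1 this).eq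

end SuzBorel

end Cfsg.Agent.Helper20.SchurSz
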