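import Mathlib
import Cfsg.Agent.Lib.Helper20.SchurSzB

/-!
# Central extensions of the Borel subgroup of a Suzuki group: the main lemma
-/

set_option autoImplicit false

namespace Cfsg.Agent.Helper20.SchurSz

open scoped commutatorElement
open Cfsg.Agent.Helper29.StemSylow Cfsg.Agent.Helper20.SchurSL

variable {Γ : Type*} [Group Γ] {B : Type*} [Group B] {F : Type*} [Field F]

namespace SuzBorel

variable (D : SuzBorel F B)

theorem τ0_mul_self (b : F) : D.τ 0 b * D.τ 0 b = 1 := by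
  rw [← D.τ0_add, D.add_self, D.τ_zero]

theorem τ0_inv (b : F) : (D.τ 0 b)⁻¹ = D.τ 0 b :=
  inv_eq_of_mul_eq_one_left (D.τ0_mul_self b)

/-- the centre of the unipotent group -/
def Zsub : Subgroup B where
  carrier := {g | ∃ b, g = D.τ 0 b}
  one_mem' := ⟨0, D.τ_zero.symm⟩
  mul_mem' := by
    rintro _ _ ⟨b, rfl⟩ ⟨e, rfl⟩
    exact ⟨b + e, (D.τ0_add b e).symm⟩
  inv_mem' := by
    rintro _ ⟨b, rfl⟩
    exact ⟨b, D.τ0_inv b⟩

theorem mem_Zsub (g : B) : g ∈ D.Zsub ↔ ∃ b, g = D.τ 0 b := Iff.rfl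

instance Zsub_normal : D.Zsub.Normal := by
  constructor
  rintro _ ⟨c, rfl⟩ g
  obtain ⟨a, b, u, rfl⟩ := D.surj g
  refine ⟨D.s u * (u : F) ^ 2 * c, ?_⟩
  calc D.τ a b * D.d u * D.τ 0 c * (D.τ a b * D.d u)⁻¹
      = D.τ a b * (D.d u * D.τ 0 c * (D.d u)⁻¹) * (D.τ a b)⁻¹ := by group
    _ = D.τ a b * D.τ 0 (D.s u * (u : F) ^ 2 * c) * (D.τ a b)⁻¹ := by
        rw [D.conj_τ, mul_zero]
    _ = D.τ 0 (D.s u * (u : F) ^ 2 * c) := by
        rw [← D.τ0_central, mul_inv_cancel_right]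

theorem comm_d_τ0 (u : Fˣ) (e : F) :
    ⁅D.d u, D.τ 0 e⁆ = D.τ 0 ((D.s u * (u : F) ^ 2 + 1) * e) := by
  rw [commutatorElement_def, D.conj_τ, mul_zero, D.τ0_inv, ← D.τ0_add]
  congr 1
  ring

variable (σ : Γ →* B) (hs : Function.Surjective σ) (hK : σ.ker ≤ Subgroup.center Γ)

include hs hK in
/-- the main lemma: the commutator subgroup of a central extension of a Borel subgroup of Suzuki
type meets the kernel trivially -/
theorem comm_inf_ker [Finite F] (s₁ s₂ : Fˣ) (hsum : (s₁ : F) ^ 2 + (s₂ : F) ^ 2 = 1)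
    (hprod : (s₁ : F) ^ 2 * (s₂ : F) ^ 2 ≠ 1)
    (y : F) (hy0 : y ≠ 0) (hy1 : 1 + y ≠ 0)
    (hyM : D.s y * y ^ 2 + D.s y * y ^ 2 * (D.s (1 + y) * (1 + y) ^ 2) +
      D.s (1 + y) * (1 + y) ^ 2 ≠ 0)
    (u₀ : Fˣ) (hu₀ : D.s u₀ * (u₀ : F) ^ 2 ≠ 1) :
    ∀ k ∈ commutator Γ, k ∈ σ.ker → k = 1 := by
  have hsurjs : Function.Surjective D.s := Finite.injective_iff_surjective.1 D.s.injective
  have hZc := D.lift_centre_comm σ hs hK s₁ s₂ hsum hprod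
  have hQZ := D.lift_centre_central σ hs hK hZc y hy0 hy1 hyM
  have hTc := lift_torus_comm σ hs hK D.d
  obtain ⟨δ₀, hδ₀⟩ := hs (D.d u₀)
  have hμ : D.s u₀ * (u₀ : F) ^ 2 + 1 ≠ 0 := by
    intro h
    apply hu₀
    linear_combination h - D.h2
  obtain ⟨Z₁, hn, hle, hsurj', hcent, hred⟩ := reduce_central σ hs hK D.Zsub δ₀
    (fun x hx z hz => by
      obtain ⟨a, ha⟩ := hx
      obtain ⟨b, hb⟩ := hz
      exact hZc x z ⟨a, ha⟩ ⟨b, hb⟩)
    (by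
      rintro _ ⟨c, rfl⟩
      refine ⟨D.τ 0 ((D.s u₀ * (u₀ : F) ^ 2 + 1)⁻¹ * c), ⟨_, rfl⟩, ?_⟩
      rw [hδ₀, D.comm_d_τ0, ← mul_assoc, mul_inv_cancel₀ hμ, one_mul])
    (by
      rintro _ ⟨c, rfl⟩ h
      rw [hδ₀, D.comm_d_τ0, ← D.τ_zero] at h
      have h0 := (D.τ_inj _ _ _ _ h).2
      rcases mul_eq_zero.1 h0 with h1 | h1
      · exact absurd h1 hμ
      · rw [h1, D.τ_zero])
    (by
      intro g
      obtain ⟨a, b, u, hg⟩ := D.surj (σ g)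
      obtain ⟨t, ht⟩ := hs (D.d u)
      refine ⟨g * t⁻¹, t, by group, ?_, hTc t δ₀ ⟨u, ht⟩ ⟨u₀, hδ₀⟩⟩
      intro z hz
      obtain ⟨c, hc⟩ := hz
      exact hQZ (g * t⁻¹) z ⟨a, b, by rw [map_mul, map_inv, hg, ht, mul_inv_cancel_right]⟩
        ⟨c, hc⟩)
  apply hred
  -- the quotient
  obtain ⟨ub, hub⟩ : ∃ ub : F → B ⧸ D.Zsub, ∀ a, ub a = ((D.τ a 0 : B) : B ⧸ D.Zsub) :=
    ⟨fun a => ((D.τ a 0 : B) : B ⧸ D.Zsub), fun _ => rfl⟩
  obtain ⟨db, hdb⟩ : ∃ db : Fˣ →* B ⧸ D.Zsub,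
      ∀ t, db t = ((D.d (Units.map (D.s : F →* F) t) : B) : B ⧸ D.Zsub) :=
    ⟨(QuotientGroup.mk' D.Zsub).comp (D.d.comp (Units.map (D.s : F →* F))), fun _ => rfl⟩
  have hZ1 : ∀ b : F, ((D.τ 0 b : B) : B ⧸ D.Zsub) = 1 := fun b =>
    (QuotientGroup.eq_one_iff _).2 ⟨b, rfl⟩
  have hub_add : ∀ a a', ub (a + a') = ub a * ub a' := by
    intro a a'
    rw [hub, hub, hub, ← QuotientGroup.mk_mul, D.τ_mul,
      D.τ_split (a + a') (0 + 0 + D.s a * a'), QuotientGroup.mk_mul, hZ1, mul_one]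
  have hub_inj : Function.Injective ub := by
    intro a a' h
    rw [hub, hub, QuotientGroup.eq] at h
    obtain ⟨e, he⟩ := h
    have h1 : D.τ a' 0 = D.τ a 0 * D.τ 0 e := by rw [← he]; group
    rw [← D.τ_split] at h1
    exact ((D.τ_inj _ _ _ _ h1).1).symm
  have hdub : ∀ (t : Fˣ) (x : F), db t * ub x * (db t)⁻¹ = ub ((t : F) ^ 2 * x) := by
    intro t x
    rw [hdb, hub, hub, ← QuotientGroup.mk_inv, ← QuotientGroup.mk_mul, ← QuotientGroup.mk_mul,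
      D.conj_τ, mul_zero]
    have : D.s ((Units.map (D.s : F →* F) t : Fˣ) : F) = (t : F) ^ 2 := by
      rw [Units.coe_map]
      exact D.hss t
    rw [this]
  have hUc := lift_unipotent_comm (QuotientGroup.map Z₁ D.Zsub σ hle) hsurj' hcent ub db hub_add
    hdub s₁ s₂ hsum hprod
  have hTc' := lift_torus_comm (QuotientGroup.map Z₁ D.Zsub σ hle) hsurj' hcent db
  have key := comm_inf_ker_of_borel (QuotientGroup.map Z₁ D.Zsub σ hle) hsurj' hcent ub db hub_add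
    hub_inj hdub hUc hTc' (s₁ * s₂) (by rw [Units.val_mul, mul_pow]; exact hprod) ⊤ (by
      intro h _
      obtain ⟨b, hb⟩ := QuotientGroup.mk_surjective (QuotientGroup.map Z₁ D.Zsub σ hle h)
      obtain ⟨a, b', u, rfl⟩ := D.surj b
      obtain ⟨t₁, ht₁⟩ := hsurjs (u : F)
      have ht₁0 : t₁ ≠ 0 := by
        rintro rfl
        rw [map_zero] at ht₁
        exact u.ne_zero ht₁.symm
      refine ⟨a, Units.mk0 t₁ ht₁0, ?_⟩
      rw [← hb, hub, hdb]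
      have : Units.map (D.s : F →* F) (Units.mk0 t₁ ht₁0) = u := by
        apply Units.ext
        rw [Units.coe_map, Units.val_mk0]
        exact ht₁
      rw [this, D.τ_split a b', QuotientGroup.mk_mul, QuotientGroup.mk_mul, hZ1, mul_one])
  intro k hk hkK
  apply key k _ hkK
  rw [← commutator_def]
  exact hk

end SuzBorel

end Cfsg.Agent.Helper20.SchurSz
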