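import Mathlib

/-!
# A field element needed for the Suzuki groups
-/

set_option autoImplicit false

namespace Cfsg.Agent.Helper20.SchurSz

open Polynomial

variable {F : Type*} [Field F] [Fintype F]

/-- a non-root of `X (1 + X) (M(X) + M(X) M(1 + X) + M(1 + X))`, `M(X) = X ^ n` -/
theorem exists_nonroot (n : ℕ) (hn : n ≠ 0) (hq : 2 * n + 2 < Fintype.card F) :
    ∃ y : F, y ≠ 0 ∧ 1 + y ≠ 0 ∧ y ^ n + y ^ n * (1 + y) ^ n + (1 + y) ^ n ≠ 0 := by
  let Q : F[X] := X ^ n + X ^ n * (1 + X) ^ n + (1 + X) ^ n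
  let P : F[X] := X * (1 + X) * Q
  have hQ0 : Q ≠ 0 := by
    intro h
    have h1 : Q.eval 0 = 1 := by
      simp only [Q, eval_add, eval_mul, eval_pow, eval_X, eval_one]
      rw [zero_pow hn]
      simp
    rw [h, eval_zero] at h1
    exact zero_ne_one h1
  have h1X : (1 + X : F[X]) ≠ 0 := by
    intro h
    have h1 : (1 + X : F[X]).eval 0 = 1 := by simp
    rw [h, eval_zero] at h1
    exact zero_ne_one h1
  have hP0 : P ≠ 0 := mul_ne_zero (mul_ne_zero X_ne_zero h1X) hQ0
  have hd1 : (1 + X : F[X]).natDegree ≤ 1 := by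
    refine (natDegree_add_le _ _).trans ?_
    rw [natDegree_one, natDegree_X]
    simp
  have hdn : ((1 + X : F[X]) ^ n).natDegree ≤ n := by
    refine natDegree_pow_le.trans ?_
    calc n * (1 + X : F[X]).natDegree ≤ n * 1 := Nat.mul_le_mul_left n hd1
      _ = n := mul_one n
  have hdX : ((X : F[X]) ^ n).natDegree ≤ n := natDegree_X_pow_le n
  have hdQ : Q.natDegree ≤ 2 * n := by
    refine (natDegree_add_le _ _).trans (max_le ((natDegree_add_le _ _).trans (max_le ?_ ?_)) ?_)
    · omega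
    · refine natDegree_mul_le.trans ?_
      omega
    · omega
  have hdP : P.natDegree ≤ 2 * n + 2 := by
    refine natDegree_mul_le.trans ?_
    have : ((X : F[X]) * (1 + X)).natDegree ≤ 2 := by
      refine natDegree_mul_le.trans ?_
      rw [natDegree_X]
      omega
    omega
  obtain ⟨y, hy⟩ := Polynomial.exists_eval_ne_zero_of_natDegree_lt_card P hP0 (by
    rw [Cardinal.mk_fintype]
    exact_mod_cast lt_of_le_of_lt hdP hq)
  have hy' : y * (1 + y) * (y ^ n + y ^ n * (1 + y) ^ n + (1 + y) ^ n) ≠ 0 := by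
    have : P.eval y = y * (1 + y) * (y ^ n + y ^ n * (1 + y) ^ n + (1 + y) ^ n) := by
      simp only [P, Q, eval_add, eval_mul, eval_pow, eval_X, eval_one]
    rwa [this] at hy
  refine ⟨y, ?_, ?_, ?_⟩
  · rintro rfl
    apply hy'
    ring
  · intro h
    apply hy'
    rw [h]
    ring
  · intro h
    apply hy'
    rw [h, mul_zero]

end Cfsg.Agent.Helper20.SchurSz
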