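import Mathlib
import Cfsg.Agent.Lib.Helper20.SchurSzC
import Cfsg.Agent.Lib.Helper20.SchurSzD
import Cfsg.Agent.Lib.Helper20.SchurSLE
import Cfsg.Agent.Lib.Helper2.SzPart
import Cfsg.Agent.Lib.Helper2.SzAut5

/-!
# Stem extensions of the Suzuki groups: the local statements
-/

set_option autoImplicit false

namespace Cfsg.Agent.Helper20.SchurSz

open scoped commutatorElement
open Cfsg.Agent.Helper29.StemSylow Cfsg.Agent.Helper20.SchurSL Cfsg.Agent.Helper2.Sz

variable {F : Type*} [Field F] [Fintype F] {m : ℕ} (S : SzData F m)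

variable {Γ : Type*} [Group Γ]

/-- the Borel data of the point stabilizer -/
def szBorel (hm : 1 ≤ m) (hF : Fintype.card F = 2 ^ (2 * m + 1)) :
    SuzBorel F (MulAction.stabilizer (Cfsg.Sz F m) (SzData.pInf F)) where
  s := S.s
  hss := S.hs
  h2 := S.h2
  τ a b := ⟨S.TgSz a b, (S.mem_stabilizer_pInf_iff hm hF).2 ⟨a, b, 1, by rw [map_one, mul_one]⟩⟩
  d := S.DgSz.codRestrict _ (fun u =>
    (S.mem_stabilizer_pInf_iff hm hF).2 ⟨0, 0, u, by rw [S.TgSz_zero, one_mul]⟩)
  τ_mul a b c e := Subtype.ext (S.TgSz_mul a b c e)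
  τ_inj a b c e h := S.TgSz_injective (congrArg Subtype.val h)
  d_τ u a b := Subtype.ext (S.DgSz_TgSz u a b)
  surj g := by
    obtain ⟨a, b, u, h⟩ := (S.mem_stabilizer_pInf_iff hm hF).1 g.2
    exact ⟨a, b, u, Subtype.ext h⟩

include S in
/-- the local statement for the prime two -/
theorem local_two_Sz (hm : 2 ≤ m) (hF : Fintype.card F = 2 ^ (2 * m + 1))
    (σ : Γ →* Cfsg.Sz F m) (hs : Function.Surjective σ) (hK : σ.ker ≤ Subgroup.center Γ) :
    ∃ Q : Subgroup (Cfsg.Sz F m), ¬ 2 ∣ Q.index ∧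
      ∀ k ∈ ⁅Q.comap σ, Q.comap σ⁆, k ∈ σ.ker → k = 1 := by
  classical
  have hm1 : 1 ≤ m := by omega
  refine ⟨MulAction.stabilizer (Cfsg.Sz F m) (SzData.pInf F), ?_, ?_⟩
  · intro hdvd
    have hle : S.QSz ≤ MulAction.stabilizer (Cfsg.Sz F m) (SzData.pInf F) := by
      intro g hg
      obtain ⟨a, b, rfl⟩ := S.mem_QSz_iff.1 hg
      exact (S.mem_stabilizer_pInf_iff hm1 hF).2 ⟨a, b, 1, by rw [map_one, mul_one]⟩
    exact S.not_two_dvd_index_QSz hm1 hF (hdvd.trans (Subgroup.index_dvd_of_le hle))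
  · -- the field elements
    have hq32 : 2 ^ 5 ≤ Fintype.card F := by
      rw [hF]
      exact Nat.pow_le_pow_right (by norm_num) (by omega)
    obtain ⟨s₁, s₂, hsum, hprod⟩ := exists_squares_even S.h2 (by omega : 4 < Fintype.card F)
    have hθ : 2 * (2 ^ (m + 1) + 2) + 2 < Fintype.card F := by
      rw [hF]
      have h1 : 2 ^ (2 * m + 1) = 2 ^ (m + 1) * 2 ^ m := by rw [← pow_add]; congr 1; omega
      have h2 : 4 ≤ 2 ^ m := by
        calc 4 = 2 ^ 2 := by norm_num
          _ ≤ 2 ^ m := Nat.pow_le_pow_right (by norm_num) hm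
      have h3 : 8 ≤ 2 ^ (m + 1) := by
        calc 8 = 2 ^ 3 := by norm_num
          _ ≤ 2 ^ (m + 1) := Nat.pow_le_pow_right (by norm_num) (by omega)
      rw [h1]
      nlinarith
    obtain ⟨y, hy0, hy1, hyM⟩ := exists_nonroot (F := F) (2 ^ (m + 1) + 2)
      (Nat.add_pos_right _ (by norm_num)).ne' hθ
    obtain ⟨u₀, hu₀⟩ := S.exists_unit_ne_one hm1 hF
    have hu₀' : S.s u₀ * (u₀ : F) ^ 2 ≠ 1 := fun h => hu₀ (S.unit_eq_one_of h)
    have hM : ∀ t : F, S.s t * t ^ 2 = t ^ (2 ^ (m + 1) + 2) := by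
      intro t
      rw [S.hpow, ← pow_add]
    -- the restriction of the extension
    let σB := σ.subgroupComap (MulAction.stabilizer (Cfsg.Sz F m) (SzData.pInf F))
    have hsB : Function.Surjective σB := σ.subgroupComap_surjective_of_surjective _ hs
    have hKB : σB.ker ≤ Subgroup.center _ := by
      intro k hk
      rw [Subgroup.mem_center_iff]
      intro g
      apply Subtype.ext
      have hk' : (k : Γ) ∈ σ.ker := by
        rw [MonoidHom.mem_ker] at hk ⊢
        exact congrArg (fun x : MulAction.stabilizer (Cfsg.Sz F m) (SzData.pInf F) =>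
          (x : Cfsg.Sz F m)) hk
      exact central_comm σ hK hk' g
    have key := (szBorel S hm1 hF).comm_inf_ker σB hsB hKB s₁ s₂ hsum hprod y hy0 hy1
      (by
        change S.s y * y ^ 2 + S.s y * y ^ 2 * (S.s (1 + y) * (1 + y) ^ 2) +
          S.s (1 + y) * (1 + y) ^ 2 ≠ 0
        rw [hM, hM]
        exact hyM)
      u₀ hu₀'
    intro k hk hkK
    rw [← Subgroup.map_subtype_commutator] at hk
    obtain ⟨k', hk', rfl⟩ := hk
    have := key k' hk' (by
      rw [MonoidHom.mem_ker]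
      apply Subtype.ext
      exact hkK)
    rw [this]
    rfl

include S in
/-- the local statement for odd primes -/
theorem local_odd_Sz (hm : 1 ≤ m) (hF : Fintype.card F = 2 ^ (2 * m + 1))
    (σ : Γ →* Cfsg.Sz F m) (hs : Function.Surjective σ) (hK : σ.ker ≤ Subgroup.center Γ)
    (r : ℕ) (hr : r.Prime) (hr2 : r ≠ 2) (hrG : r ∣ Nat.card (Cfsg.Sz F m)) :
    ∃ Q : Subgroup (Cfsg.Sz F m), ¬ r ∣ Q.index ∧
      ∀ k ∈ ⁅Q.comap σ, Q.comap σ⁆, k ∈ σ.ker → k = 1 := by
  classical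
  haveI : Fact r.Prime := ⟨hr⟩
  obtain ⟨R⟩ : Nonempty (Sylow r (Cfsg.Sz F m)) := inferInstance
  refine ⟨R, R.not_dvd_index, ?_⟩
  have hRcard : r ∣ Nat.card R := by
    rw [Sylow.card_eq_multiplicity]
    apply dvd_pow_self
    intro h0
    rcases (Nat.factorization_eq_zero_iff _ _).1 h0 with h | h | h
    · exact h hr
    · exact h hrG
    · exact Nat.card_pos.ne' h
  haveI : Nontrivial R := by
    rw [← Finite.one_lt_card_iff_nontrivial]
    exact lt_of_lt_of_le hr.one_lt (Nat.le_of_dvd Nat.card_pos hRcard)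
  haveI := R.isPGroup'.center_nontrivial
  have hcc : r ∣ Nat.card (Subgroup.center R) := by
    obtain ⟨n, hn⟩ := (IsPGroup.iff_card.1 (R.isPGroup'.to_subgroup (Subgroup.center R)))
    rw [hn]
    apply dvd_pow_self
    rintro rfl
    rw [pow_zero] at hn
    have := (Finite.one_lt_card_iff_nontrivial (α := Subgroup.center R)).2 inferInstance
    omega
  obtain ⟨z, hz⟩ := exists_prime_orderOf_dvd_card' r hcc
  have hz' : orderOf (z.1.1 : Cfsg.Sz F m) = r := by
    have h1 : orderOf (z.1.1 : Cfsg.Sz F m) = orderOf z := by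
      rw [Subgroup.orderOf_coe, Subgroup.orderOf_coe]
    rw [h1, hz]
  have hRC : (R : Subgroup (Cfsg.Sz F m)) ≤
      Subgroup.centralizer ({(z.1.1 : Cfsg.Sz F m)} : Set (Cfsg.Sz F m)) := by
    intro x hx
    rw [Subgroup.mem_centralizer_iff]
    intro w hw
    rw [Set.mem_singleton_iff] at hw
    subst hw
    have := Subgroup.mem_center_iff.1 z.2 ⟨x, hx⟩
    have := congrArg Subtype.val this
    simpa using this.symm
  have hcyc : IsCyclic (Subgroup.centralizer ({(z.1.1 : Cfsg.Sz F m)} : Set (Cfsg.Sz F m))) := by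
    rw [S.card_Sz hm hF] at hrG
    rcases prime_dvd_order hr hr2 ⟨2 * m + 1, rfl⟩ hrG with h | h
    · exact S.isCyclic_centralizer hF hr hr2 h hz'
    · exact (S.centralizer_split hm hF hr2 h hz').1
  obtain ⟨g₀, hg₀⟩ := IsCyclic.exists_generator
    (α := Subgroup.centralizer ({(z.1.1 : Cfsg.Sz F m)} : Set (Cfsg.Sz F m)))
  obtain ⟨g', hg'⟩ := hs g₀.1
  have hb := comm_eq_bot_of_cyclic σ hK ((R : Subgroup _).comap σ) g' (fun u hu => by
    obtain ⟨i, hi⟩ := Subgroup.mem_zpowers_iff.1 (hg₀ ⟨σ u, hRC hu⟩)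
    refine ⟨i, ?_⟩
    rw [hg']
    have := congrArg Subtype.val hi
    simpa using this.symm)
  intro k hk _
  rw [hb] at hk
  exact Subgroup.mem_bot.1 hk

end Cfsg.Agent.Helper20.SchurSz
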