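import Mathlib
import Cfsg.Agent.Lib.Helper20.InvolutionQuotient

set_option autoImplicit false

namespace Cfsg.Agent.Helper20

/-- A self-normalizing subgroup of prime order has a normal complement of coprime order. -/
theorem exists_normal_index_prime_of_selfNormalizing {X : Type*} [Group X] [Finite X] {r : ℕ}
    (hr : r.Prime) (x : X) (hx : orderOf x = r)
    (hN : Subgroup.normalizer ((Subgroup.zpowers x : Subgroup X) : Set X) = Subgroup.zpowers x) :
    ∃ K : Subgroup X, K.Normal ∧ K.index = r ∧ (Nat.card K).Coprime r := by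
  haveI : Fact r.Prime := ⟨hr⟩
  have hpg : IsPGroup r (Subgroup.zpowers x) :=
    IsPGroup.of_card (n := 1) (by rw [Nat.card_zpowers, hx, pow_one])
  obtain ⟨P, hP⟩ := hpg.exists_le_sylow
  have hPeq : (P : Subgroup X) = Subgroup.zpowers x := by
    by_contra hne
    have hlt : Subgroup.zpowers x < (P : Subgroup X) := lt_of_le_of_ne hP (Ne.symm hne)
    obtain ⟨w, _, hwN, hwQ⟩ := exists_mem_normalizer_not_mem_of_lt P.2 hlt
    rw [hN] at hwN
    exact hwQ hwN
  have hPN : Subgroup.normalizer ((P : Subgroup X) : Set X) ≤ Subgroup.centralizer (P : Set X) := by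
    change Subgroup.normalizer ((P : Subgroup X) : Set X) ≤
      Subgroup.centralizer (((P : Subgroup X)) : Set X)
    rw [hPeq, hN]
    exact (Subgroup.le_centralizer_iff_isMulCommutative (K := Subgroup.zpowers x)).mpr inferInstance
  have hc := MonoidHom.ker_transferSylow_isComplement' P hPN
  have hcardP : Nat.card (P : Subgroup X) = r := by rw [hPeq, Nat.card_zpowers, hx]
  refine ⟨(MonoidHom.transferSylow P hPN).ker, inferInstance, ?_, ?_⟩
  · rw [hc.symm.index_eq_card, hcardP]
  · rw [← hc.index_eq_card]
    have h3 := (P.card_coprime_index).symm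
    rw [hcardP] at h3
    exact h3

/-- Self-normalizing can be tested on the preimage under a surjection. -/
theorem normalizer_eq_of_comap {G X : Type*} [Group G] [Group X] (π : G →* X)
    (hπ : Function.Surjective π) (H : Subgroup X)
    (h : Subgroup.normalizer ((H.comap π : Subgroup G) : Set G) = H.comap π) :
    Subgroup.normalizer (H : Set X) = H := by
  apply Subgroup.comap_injective hπ
  rw [Subgroup.comap_normalizer_eq_of_surjective H hπ, h]

/-- A nontrivial finite group all of whose nontrivial subgroups are self-normalizing has prime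
order. -/
theorem card_prime_of_all_selfNormalizing {X : Type*} [Group X] [Finite X] [Nontrivial X]
    (h : ∀ H : Subgroup X, H ≠ ⊥ → Subgroup.normalizer (H : Set X) = H) : (Nat.card X).Prime := by
  obtain ⟨r, hr, hdvd⟩ := Nat.exists_prime_and_dvd (Finite.one_lt_card (α := X)).ne'
  haveI : Fact r.Prime := ⟨hr⟩
  obtain ⟨x, hx⟩ := exists_prime_orderOf_dvd_card' r hdvd
  have hxne : Subgroup.zpowers x ≠ ⊥ := by
    intro h0
    rw [Subgroup.zpowers_eq_bot] at h0
    rw [h0, orderOf_one] at hx
    exact hr.one_lt.ne hx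
  obtain ⟨K, hKn, hKi, _⟩ := exists_normal_index_prime_of_selfNormalizing hr x hx (h _ hxne)
  by_cases hK : K = ⊥
  · rw [hK, Subgroup.index_bot] at hKi
    rw [hKi]; exact hr
  · have h1 := h K hK
    rw [Subgroup.normalizer_eq_top] at h1
    rw [← h1, Subgroup.index_top] at hKi
    exact absurd hKi.symm hr.one_lt.ne'

/-- Relative version: a proper normal subgroup above which every subgroup is self-normalizing has
prime index. -/
theorem index_prime_of_selfNormalizing_above {L : Type*} [Group L] [Finite L] (C : Subgroup L)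
    [C.Normal] (hC : C ≠ ⊤)
    (h : ∀ H : Subgroup L, C < H → Subgroup.normalizer (H : Set L) = H) : C.index.Prime := by
  haveI : Nontrivial (L ⧸ C) := by
    rw [← not_subsingleton_iff_nontrivial]
    intro hs
    exact hC (QuotientGroup.subgroup_eq_top_of_subsingleton C hs)
  rw [Subgroup.index_eq_card]
  apply card_prime_of_all_selfNormalizing
  intro H hH
  apply normalizer_eq_of_comap (QuotientGroup.mk' C) (QuotientGroup.mk'_surjective C)
  apply h
  refine lt_of_le_of_ne ?_ ?_
  · conv_lhs => rw [← QuotientGroup.ker_mk' C]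
    exact Subgroup.ker_le_comap _ _
  · intro heq
    apply hH
    apply Subgroup.comap_injective (QuotientGroup.mk'_surjective C)
    rw [← heq, MonoidHom.comap_bot, QuotientGroup.ker_mk']

/-- Subgroup version. -/
theorem relIndex_prime_of_selfNormalizing_between {G : Type*} [Group G] [Finite G]
    (C L : Subgroup G) (hCL : C ≤ L) [(C.subgroupOf L).Normal] (hne : ¬ L ≤ C)
    (h : ∀ H : Subgroup G, C < H → H ≤ L → Subgroup.normalizer (H : Set G) = H) :
    (C.subgroupOf L).index.Prime := by
  apply index_prime_of_selfNormalizing_above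
  · rw [Ne, Subgroup.subgroupOf_eq_top]; exact hne
  · intro H0 hH0
    have hmapC : (C.subgroupOf L).map L.subtype = C := by
      rw [Subgroup.subgroupOf_map_subtype]; exact inf_eq_left.mpr hCL
    have hlt : C < H0.map L.subtype := by
      rw [← hmapC]
      exact (Subgroup.map_lt_map_iff_of_injective L.subtype_injective).mpr hH0
    have hle : H0.map L.subtype ≤ L := by
      rintro _ ⟨a, _, rfl⟩; exact a.2
    have h1 := h _ hlt hle
    have h2 : H0 = (H0.map L.subtype).subgroupOf L := by
      rw [Subgroup.subgroupOf, Subgroup.comap_map_eq_self_of_injective L.subtype_injective]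
    rw [h2, ← Subgroup.subgroupOf_normalizer_eq hle, h1]

/-- If two coprime powers of `a` lie in a subgroup, so does `a`. -/
theorem mem_of_pow_mem_of_coprime {G : Type*} [Group G] (C : Subgroup G) (a : G) {m n : ℕ}
    (hmn : m.Coprime n) (hm : a ^ m ∈ C) (hn : a ^ n ∈ C) : a ∈ C := by
  have h1 : (1 : ℤ) = (m : ℤ) * Nat.gcdA m n + (n : ℤ) * Nat.gcdB m n := by
    have := Nat.gcd_eq_gcd_ab m n
    rw [hmn] at this
    exact_mod_cast this
  have h2 : a = (a ^ m) ^ (Nat.gcdA m n) * (a ^ n) ^ (Nat.gcdB m n) := by
    rw [← zpow_natCast, ← zpow_natCast, ← zpow_mul, ← zpow_mul, ← zpow_add, ← h1, zpow_one]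
  rw [h2]
  exact C.mul_mem (C.zpow_mem hm _) (C.zpow_mem hn _)

end Cfsg.Agent.Helper20
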