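import Mathlib
import Cfsg.Agent.Lib.Helper20.SelfNorm1
import Cfsg.Agent.Lib.Helper20.CPBasic

set_option autoImplicit false

namespace Cfsg.Agent.Helper20

variable {G : Type*} [Group G] [Finite G]

/-- The hypothesis: nonabelian subgroups are self-normalizing. -/
def SNA (G : Type*) [Group G] : Prop :=
  ∀ H : Subgroup G, ¬ IsMulCommutative H → Subgroup.normalizer (H : Set G) = H

omit [Finite G] in
theorem SNA.comm_of_normalizer_ne (hS : SNA G) (H : Subgroup G)
    (h : Subgroup.normalizer (H : Set G) ≠ H) : IsMulCommutative H := by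
  by_contra hc; exact h (hS H hc)

omit [Finite G] in
theorem SNA.comm_of_normal (hS : SNA G) (K : Subgroup G) [K.Normal] (hK : K ≠ ⊤) :
    IsMulCommutative K := by
  apply hS.comm_of_normalizer_ne
  rw [Subgroup.normalizer_eq_top]; exact fun h => hK h.symm

omit [Finite G] in
theorem isSolvable_of_isMulCommutative (K : Subgroup G) (hK : IsMulCommutative K) :
    Group.IsSolvable K := by
  apply Group.isSolvable_of_comm
  intro a b
  exact hK.is_comm.comm a b

omit [Finite G] in
theorem SNA.solvable_of_normal_index_prime (hS : SNA G) (K : Subgroup G) [K.Normal] {r : ℕ}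
    (hr : r.Prime) (hidx : K.index = r) : Group.IsSolvable G := by
  haveI : Fact r.Prime := ⟨hr⟩
  have hK : K ≠ ⊤ := by
    intro h; rw [h, Subgroup.index_top] at hidx; exact hr.one_lt.ne hidx
  haveI : Group.IsSolvable K := isSolvable_of_isMulCommutative K (hS.comm_of_normal K hK)
  haveI : IsCyclic (G ⧸ K) :=
    isCyclic_of_prime_card (p := r) (by rw [← Subgroup.index_eq_card, hidx])
  haveI : Group.IsSolvable (G ⧸ K) := by
    apply Group.isSolvable_of_comm
    intro a b
    exact IsCyclic.commGroup.mul_comm a b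
  exact Group.isSolvable_of_ker_le_range K.subtype (QuotientGroup.mk' K)
    (by rw [QuotientGroup.ker_mk', Subgroup.range_subtype])

/-- Claim X. -/
theorem SNA.comm_sup_zpowers (hS : SNA G) (hns : ¬ Group.IsSolvable G) (M : Subgroup G)
    [M.Normal] (y : G) {r : ℕ} (hr : r.Prime) (hy : y ∉ M) (hyr : y ^ r ∈ M) :
    IsMulCommutative (M ⊔ Subgroup.zpowers y : Subgroup G) := by
  by_contra hc
  haveI : Fact r.Prime := ⟨hr⟩
  have hNH := hS _ hc
  set H : Subgroup G := M ⊔ Subgroup.zpowers y with hH
  set π := QuotientGroup.mk' M with hπ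
  have hπs : Function.Surjective π := QuotientGroup.mk'_surjective M
  have hx : orderOf (π y) = r := by
    apply orderOf_eq_prime
    · rw [← map_pow]; exact (QuotientGroup.eq_one_iff _).mpr hyr
    · intro h1; exact hy ((QuotientGroup.eq_one_iff _).mp h1)
  have hmap : H.map π = Subgroup.zpowers (π y) := by
    rw [hH, Subgroup.map_sup, MonoidHom.map_zpowers, hπ, QuotientGroup.map_mk'_self, bot_sup_eq]
  have hcomap : (Subgroup.zpowers (π y)).comap π = H := by
    rw [← hmap, Subgroup.comap_map_eq, hπ, QuotientGroup.ker_mk', hH]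
    rw [sup_assoc, sup_comm (Subgroup.zpowers y) M, ← sup_assoc, sup_idem]
  have hN : Subgroup.normalizer ((Subgroup.zpowers (π y) : Subgroup (G ⧸ M)) : Set (G ⧸ M)) =
      Subgroup.zpowers (π y) := by
    apply normalizer_eq_of_comap π hπs
    rw [hcomap]; exact hNH
  obtain ⟨K, hKn, hKi, _⟩ := exists_normal_index_prime_of_selfNormalizing hr (π y) hx hN
  haveI : (K.comap π).Normal := hKn.comap π
  have hidx : (K.comap π).index = r := by
    rw [Subgroup.index_comap_of_surjective K hπs, hKi]
  exact hns (hS.solvable_of_normal_index_prime (K.comap π) hr hidx)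

/-- Lemma Z: proper normal subgroups are central. -/
theorem SNA.normal_le_center (hS : SNA G) (hns : ¬ Group.IsSolvable G) (N : Subgroup G)
    [N.Normal] (hN : N ≠ ⊤) : N ≤ Subgroup.center G := by
  have hNc := hS.comm_of_normal N hN
  set C : Subgroup G := Subgroup.centralizer (N : Set G) with hC
  have hNC : N ≤ C := Subgroup.le_centralizer_iff_isMulCommutative.mpr hNc
  by_cases hCt : C = ⊤
  · exact Subgroup.centralizer_eq_top_iff_subset.mp hCt
  exfalso
  haveI : C.Normal := by rw [hC]; infer_instance
  have hCc := hS.comm_of_normal C hCt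
  haveI : Nontrivial (G ⧸ C) := by
    rw [← not_subsingleton_iff_nontrivial]
    intro hs
    exact hCt (QuotientGroup.subgroup_eq_top_of_subsingleton C hs)
  obtain ⟨r, hr, hdvd⟩ := Nat.exists_prime_and_dvd (Finite.one_lt_card (α := G ⧸ C)).ne'
  haveI : Fact r.Prime := ⟨hr⟩
  obtain ⟨x, hx⟩ := exists_prime_orderOf_dvd_card' r hdvd
  obtain ⟨y, rfl⟩ := QuotientGroup.mk_surjective x
  have hy : y ∉ C := by
    intro h
    rw [(QuotientGroup.eq_one_iff y).mpr h, orderOf_one] at hx
    exact hr.one_lt.ne hx
  have hyr : y ^ r ∈ C := by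
    rw [← QuotientGroup.eq_one_iff, QuotientGroup.mk_pow, ← hx, pow_orderOf_eq_one]
  have hcomm := hS.comm_sup_zpowers hns C y hr hy hyr
  apply hy
  rw [hC, Subgroup.mem_centralizer_iff]
  intro n hn
  have hn' : n ∈ (C ⊔ Subgroup.zpowers y : Subgroup G) := le_sup_left (a := C) (hNC hn)
  have hy' : y ∈ (C ⊔ Subgroup.zpowers y : Subgroup G) :=
    le_sup_right (a := C) (Subgroup.mem_zpowers y)
  have := hcomm.is_comm.comm ⟨n, hn'⟩ ⟨y, hy'⟩
  exact congrArg Subtype.val this

/-- Perfectness. -/
theorem SNA.commutator_eq_top (hS : SNA G) (hns : ¬ Group.IsSolvable G) :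
    commutator G = ⊤ := by
  by_contra hne
  haveI : Group.IsSolvable (commutator G) :=
    isSolvable_of_isMulCommutative _ (hS.comm_of_normal (commutator G) hne)
  haveI : Group.IsSolvable (G ⧸ commutator G) := by
    apply Group.isSolvable_of_comm
    intro a b
    exact @mul_comm (Abelianization G) _ a b
  exact hns (Group.isSolvable_of_ker_le_range (commutator G).subtype
    (QuotientGroup.mk' (commutator G)) (by rw [QuotientGroup.ker_mk', Subgroup.range_subtype]))

end Cfsg.Agent.Helper20
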