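import Mathlib
import Cfsg.Agent.Lib.Helper20.SelfNorm2
import Cfsg.Agent.Lib.Helper20.SylowBasic
import Cfsg.Agent.Lib.Helper10.SecTransfer
import Cfsg.Agent.S0071

set_option autoImplicit false

namespace Cfsg.Agent.Helper20

variable {G : Type*} [Group G]

/-- The `p`-primary part of a commutative subgroup. -/
def pPartSub (C : Subgroup G) (hC : IsMulCommutative C) (p : ℕ) : Subgroup G where
  carrier := {c | c ∈ C ∧ ∃ k : ℕ, c ^ (p ^ k) = 1}
  one_mem' := ⟨C.one_mem, 0, by simp⟩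
  mul_mem' := by
    rintro a b ⟨ha, k, hk⟩ ⟨hb, l, hl⟩
    refine ⟨C.mul_mem ha hb, k + l, ?_⟩
    have hab : Commute a b := congrArg Subtype.val (hC.is_comm.comm ⟨a, ha⟩ ⟨b, hb⟩)
    rw [hab.mul_pow, pow_add, pow_mul, hk, one_pow, mul_comm (p ^ k), pow_mul, hl, one_pow,
      one_mul]
  inv_mem' := by
    rintro a ⟨ha, k, hk⟩
    exact ⟨C.inv_mem ha, k, by rw [inv_pow, hk, inv_one]⟩

theorem mem_pPartSub {C : Subgroup G} {hC : IsMulCommutative C} {p : ℕ} {c : G} :
    c ∈ pPartSub C hC p ↔ c ∈ C ∧ ∃ k : ℕ, c ^ (p ^ k) = 1 := Iff.rfl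

theorem SNA.exists_larger_bad [Finite G] (hS : SNA G) {p : ℕ} [Fact p.Prime]
    (hP : ∀ P : Sylow p G, ¬ IsMulCommutative (P : Subgroup G))
    (Q : Subgroup G) (hQ : IsPGroup p Q) (g : G) (hgN : g ∈ Subgroup.normalizer (Q : Set G))
    (hcop : (orderOf g).Coprime p) (hgC : g ∉ Subgroup.centralizer (Q : Set G)) :
    ∃ R : Subgroup G, Q < R ∧ IsPGroup p R ∧ g ∈ Subgroup.normalizer (R : Set G) ∧
      g ∉ Subgroup.centralizer (R : Set G) := by
  have hp := (Fact.out : p.Prime)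
  set L := Subgroup.normalizer (Q : Set G) with hL
  set C := Subgroup.centralizer (Q : Set G) with hC
  have hCL : C ≤ L := Subgroup.centralizer_le_normalizer _
  -- g ∉ Q
  have hgQ : g ∉ Q := by
    intro h
    obtain ⟨k, hk⟩ := hQ ⟨g, h⟩
    have hk' : g ^ (p ^ k) = 1 := congrArg Subtype.val hk
    have h1 : orderOf g ∣ p ^ k := orderOf_dvd_of_pow_eq_one hk'
    have h2 : orderOf g = 1 :=
      Nat.eq_one_of_dvd_coprimes (Nat.Coprime.pow_right k hcop) (dvd_refl _) h1
    rw [orderOf_eq_one_iff] at h2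
    exact hgC (h2 ▸ C.one_mem)
  -- Q commutative
  have hQc : IsMulCommutative Q := by
    apply hS.comm_of_normalizer_ne
    intro h
    rw [← hL] at h
    exact hgQ (h ▸ hgN)
  have hQC : Q ≤ C := Subgroup.le_centralizer_iff_isMulCommutative.mpr hQc
  -- C commutative
  have hLNC : L ≤ Subgroup.normalizer (C : Set G) :=
    (Subgroup.normal_subgroupOf_iff_le_normalizer hCL).mp inferInstance
  have hCc : IsMulCommutative C := by
    apply hS.comm_of_normalizer_ne
    intro h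
    exact hgC (h ▸ hLNC hgN)
  have hbetween : ∀ H : Subgroup G, C < H → H ≤ L → Subgroup.normalizer (H : Set G) = H := by
    intro H hCH _
    apply hS
    intro hHc
    obtain ⟨h, hhH, hhC⟩ := SetLike.exists_of_lt hCH
    apply hhC
    rw [hC, Subgroup.mem_centralizer_iff]
    intro q hq
    have hqH : q ∈ H := hCH.le (hQC hq)
    exact congrArg Subtype.val (hHc.is_comm.comm ⟨q, hqH⟩ ⟨h, hhH⟩)
  have hprime := relIndex_prime_of_selfNormalizing_between C L hCL (fun h => hgC (h hgN)) hbetween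
  set r := (C.subgroupOf L).index with hr
  have hpow : ∀ w ∈ L, w ^ r ∈ C := by
    intro w hw
    have := Subgroup.pow_index_mem (C.subgroupOf L) ⟨w, hw⟩
    rw [Subgroup.mem_subgroupOf] at this
    exact this
  have hrp : r ≠ p := by
    intro h
    apply hgC
    apply mem_of_pow_mem_of_coprime C g (m := r) (n := orderOf g)
    · rw [h]; exact hcop.symm
    · exact hpow g hgN
    · rw [pow_orderOf_eq_one]; exact C.one_mem
  have hpel : ∀ w ∈ L, ∀ k : ℕ, w ^ (p ^ k) = 1 → w ∈ C := by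
    intro w hw k hk
    apply mem_of_pow_mem_of_coprime C w (m := r) (n := p ^ k)
    · exact Nat.Coprime.pow_right k ((Nat.coprime_primes hprime hp).mpr hrp)
    · exact hpow w hw
    · rw [hk]; exact C.one_mem
  -- Q not Sylow
  obtain ⟨P, hQP⟩ := hQ.exists_le_sylow
  have hQneP : Q ≠ (P : Subgroup G) := by
    intro h
    apply hP P
    rw [← h]; exact hQc
  obtain ⟨w, hwP, hwL, hwQ⟩ :=
    exists_mem_normalizer_not_mem_of_lt P.2 (lt_of_le_of_ne hQP hQneP)
  obtain ⟨kw, hkw⟩ := P.2 ⟨w, hwP⟩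
  have hkw' : w ^ (p ^ kw) = 1 := congrArg Subtype.val hkw
  have hwC : w ∈ C := hpel w hwL kw hkw'
  have hQR : Q ≤ pPartSub C hCc p := by
    intro q hq
    obtain ⟨k, hk⟩ := hQ ⟨q, hq⟩
    exact ⟨hQC hq, k, congrArg Subtype.val hk⟩
  refine ⟨pPartSub C hCc p, ?_, ?_, ?_, ?_⟩
  · refine lt_of_le_of_ne hQR ?_
    intro h
    apply hwQ
    rw [h]
    exact ⟨hwC, kw, hkw'⟩
  · rintro ⟨c, hc, k, hk⟩
    exact ⟨k, Subtype.ext hk⟩
  · rw [Subgroup.mem_normalizer_iff]
    intro c
    have hgNC := hLNC hgN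
    rw [Subgroup.mem_normalizer_iff] at hgNC
    constructor
    · rintro ⟨hc, k, hk⟩
      refine ⟨(hgNC c).mp hc, k, ?_⟩
      rw [conj_pow, hk, mul_one, mul_inv_cancel]
    · rintro ⟨hc, k, hk⟩
      refine ⟨(hgNC c).mpr hc, k, ?_⟩
      rw [conj_pow] at hk
      have h1 : c ^ (p ^ k) = g⁻¹ * (g * c ^ (p ^ k) * g⁻¹) * g := by group
      rw [h1, hk]; group
  · intro h
    apply hgC
    exact Subgroup.centralizer_le (show (Q : Set G) ⊆ (pPartSub C hCc p : Set G) from hQR) h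

theorem SNA.solvable_or_simple [Finite G] (hS : SNA G) :
    Group.IsSolvable G ∨ IsSimpleGroup G := by
  by_contra hcon
  push Not at hcon
  obtain ⟨hns, hnsimple⟩ := hcon
  haveI : Nontrivial G := by
    by_contra h
    rw [not_nontrivial_iff_subsingleton] at h
    exact hns inferInstance
  have hex : ∃ N : Subgroup G, N.Normal ∧ N ≠ ⊥ ∧ N ≠ ⊤ := by
    by_contra h
    push Not at h
    apply hnsimple
    exact ⟨fun N hN => by
      by_contra hh
      push Not at hh
      exact hh.2 (h N hN hh.1)⟩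
  obtain ⟨N, hNn, hNb, hNt⟩ := hex
  have hNZ := hS.normal_le_center hns N hNt
  have hZne : Subgroup.center G ≠ ⊥ := fun h => hNb (le_bot_iff.mp (h ▸ hNZ))
  haveI : Nontrivial (Subgroup.center G) := (Subgroup.nontrivial_iff_ne_bot _).mpr hZne
  obtain ⟨p, hp, hdvd⟩ :=
    Nat.exists_prime_and_dvd (Finite.one_lt_card (α := Subgroup.center G)).ne'
  haveI : Fact p.Prime := ⟨hp⟩
  obtain ⟨z', hz'⟩ := exists_prime_orderOf_dvd_card' p hdvd
  obtain ⟨z, hzc, hzo⟩ : ∃ z : G, z ∈ Subgroup.center G ∧ orderOf z = p :=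
    ⟨z', z'.2, by rw [Subgroup.orderOf_coe, hz']⟩
  have hperf := hS.commutator_eq_top hns
  have hzP : ∀ P : Sylow p G, z ∈ (P : Subgroup G) := by
    intro P
    haveI : (Subgroup.zpowers z).Normal := by
      constructor
      intro n hn g
      obtain ⟨k, rfl⟩ := hn
      have h1 : z ^ k ∈ Subgroup.center G := Subgroup.zpow_mem _ hzc k
      have h2 := Subgroup.mem_center_iff.mp h1 g
      have h3 : g * z ^ k * g⁻¹ = z ^ k := by rw [h2]; group
      rw [h3]; exact ⟨k, rfl⟩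
    have h1 : IsPGroup p (Subgroup.zpowers z) :=
      isPGroup_zpowers_of_orderOf (k := 1) (by rw [hzo, pow_one])
    have h2 : IsPGroup p (Subgroup.zpowers z ⊔ (P : Subgroup G) : Subgroup G) :=
      h1.to_sup_of_normal_left P.isPGroup'
    have h3 := P.is_maximal' h2 le_sup_right
    rw [← h3]
    exact (le_sup_left : Subgroup.zpowers z ≤ _) (Subgroup.mem_zpowers z)
  have hPna : ∀ P : Sylow p G, ¬ IsMulCommutative (P : Subgroup G) := by
    intro P hc
    have h1 := Cfsg.Agent.Helper10.mem_commutator_sylow_of_central (P : Subgroup G) P.2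
      P.not_dvd_index z hzc (hzP P) (hperf ▸ Subgroup.mem_top z)
    have h2 : ⁅(P : Subgroup G), (P : Subgroup G)⁆ = ⊥ :=
      Subgroup.commutator_eq_bot_iff_le_centralizer.mpr
        (Subgroup.le_centralizer_iff_isMulCommutative.mpr hc)
    rw [h2, Subgroup.mem_bot] at h1
    rw [h1, orderOf_one] at hzo
    exact hp.one_lt.ne hzo
  obtain ⟨P⟩ : Nonempty (Sylow p G) := inferInstance
  have hnocomp : ¬ ∃ N : Subgroup G, N.Normal ∧ N.IsComplement' (P : Subgroup G) := by
    rintro ⟨K, hKn, hKc⟩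
    have hKt : K ≠ ⊤ := by
      intro h
      have h0 := hKc.card_mul_card
      rw [h, Subgroup.card_top] at h0
      have h1 : Nat.card (P : Subgroup G) = 1 := by
        have hpos : 0 < Nat.card G := Nat.card_pos
        exact Nat.eq_of_mul_eq_mul_left hpos (by rw [h0, mul_one])
      have h2 := Subgroup.eq_bot_of_card_eq _ h1
      have hz1 := hzP P
      rw [h2, Subgroup.mem_bot] at hz1
      rw [hz1, orderOf_one] at hzo
      exact hp.one_lt.ne hzo
    haveI := hKn
    have hKs : Group.IsSolvable K := isSolvable_of_isMulCommutative K (hS.comm_of_normal K hKt)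
    have hPs : Group.IsSolvable (P : Subgroup G) := by
      haveI : Group.IsNilpotent (P : Subgroup G) := P.2.isNilpotent
      infer_instance
    exact hns (isSolvable_of_sup_eq_top K (P : Subgroup G) hKs hPs
      (by rw [sup_comm]; exact hKc.sup_eq_top))
  rw [Cfsg.Agent.S0071.result P] at hnocomp
  push Not at hnocomp
  obtain ⟨Q0, hQ0P, g0, hg0N, hg0c, hg0C⟩ := hnocomp
  let Bad : Set (Subgroup G) := {Q | IsPGroup p Q ∧ ∃ g ∈ Subgroup.normalizer (Q : Set G),
    (orderOf g).Coprime p ∧ g ∉ Subgroup.centralizer (Q : Set G)}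
  have hBne : Bad.Nonempty := ⟨Q0, P.2.to_le hQ0P, g0, hg0N, hg0c, hg0C⟩
  obtain ⟨Q, hQB, hQmax⟩ :=
    Set.exists_max_image Bad (fun Q => Nat.card Q) (Set.toFinite _) hBne
  obtain ⟨hQp, g, hgN, hgc, hgC⟩ := hQB
  obtain ⟨R, hQR, hRp, hgNR, hgCR⟩ := hS.exists_larger_bad hPna Q hQp g hgN hgc hgC
  have h1 : Nat.card R ≤ Nat.card Q := hQmax R ⟨hRp, g, hgNR, hgc, hgCR⟩
  exact hQR.ne (Subgroup.eq_of_le_of_card_ge hQR.le h1)

end Cfsg.Agent.Helper20
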