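import Mathlib
import Cfsg.Agent.Lib.Helper20.SelfNorm2

set_option autoImplicit false

namespace Cfsg.Agent.Helper20

variable {G : Type*} [Group G]

/-- `a ↦ a x a⁻¹` is injective on `A` when `x` acts fixed-point-freely. -/
theorem conj_injOn_of_fpf (A : Subgroup G) (x : G)
    (hfpf : ∀ a : G, a ∈ A → a ≠ 1 → x * a * x⁻¹ ≠ a) {a b : G} (ha : a ∈ A) (hb : b ∈ A)
    (h : a * x * a⁻¹ = b * x * b⁻¹) : a = b := by
  by_contra hne
  have hmem : b⁻¹ * a ∈ A := A.mul_mem (A.inv_mem hb) ha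
  have hne1 : b⁻¹ * a ≠ 1 := by
    intro h1
    apply hne
    have : a = b * (b⁻¹ * a) := by group
    rw [this, h1, mul_one]
  apply hfpf _ hmem hne1
  have h2 : x = b⁻¹ * (a * x * a⁻¹) * b := by rw [h]; group
  calc x * (b⁻¹ * a) * x⁻¹ = (b⁻¹ * (a * x * a⁻¹) * b) * (b⁻¹ * a) * x⁻¹ := by rw [← h2]
    _ = b⁻¹ * a := by group

/-- Surjectivity of `b ↦ b x b⁻¹ x⁻¹` on an invariant finite subgroup of `A`. -/
theorem exists_comm_eq (A : Subgroup G) (x : G)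
    (hfpf : ∀ a : G, a ∈ A → a ≠ 1 → x * a * x⁻¹ ≠ a) (B : Subgroup G) [Finite B] (hBA : B ≤ A)
    (hinv : ∀ b ∈ B, b * x * b⁻¹ * x⁻¹ ∈ B) (d : G) (hd : d ∈ B) :
    ∃ b ∈ B, b * x * b⁻¹ * x⁻¹ = d := by
  let f : B → B := fun b => ⟨(b : G) * x * (b : G)⁻¹ * x⁻¹, hinv b b.2⟩
  have hinj : Function.Injective f := by
    intro a b hab
    have h1 : (a : G) * x * (a : G)⁻¹ * x⁻¹ = (b : G) * x * (b : G)⁻¹ * x⁻¹ :=
      congrArg Subtype.val hab
    have h2 : (a : G) * x * (a : G)⁻¹ = (b : G) * x * (b : G)⁻¹ := mul_right_cancel h1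
    exact Subtype.ext (conj_injOn_of_fpf A x hfpf (hBA a.2) (hBA b.2) h2)
  have hsurj : Function.Surjective f := Finite.injective_iff_surjective.mp hinj
  obtain ⟨b, hb⟩ := hsurj ⟨d, hd⟩
  exact ⟨b, b.2, congrArg Subtype.val hb⟩

/-- Any subgroup containing `x` is self-normalizing. -/
theorem normalizer_le_of_mem [Finite G] (A : Subgroup G) [A.Normal] (x : G)
    (hdec : ∀ g : G, ∃ i : ℤ, ∃ a ∈ A, g = x ^ i * a)
    (hfpf : ∀ a : G, a ∈ A → a ≠ 1 → x * a * x⁻¹ ≠ a) (H : Subgroup G) (hx : x ∈ H) :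
    Subgroup.normalizer (H : Set G) ≤ H := by
  intro n hn
  obtain ⟨i, a, ha, rfl⟩ := hdec n
  have hxi : x ^ i ∈ H := H.zpow_mem hx i
  have haN : a ∈ Subgroup.normalizer (H : Set G) := by
    have : a = (x ^ i)⁻¹ * (x ^ i * a) := by group
    rw [this]
    exact Subgroup.mul_mem _ (Subgroup.inv_mem _ (Subgroup.le_normalizer hxi)) hn
  have h1 : a * x * a⁻¹ ∈ H := (Subgroup.mem_normalizer_iff.mp haN x).mp hx
  have hdH : a * x * a⁻¹ * x⁻¹ ∈ H := H.mul_mem h1 (H.inv_mem hx)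
  have hdA : a * x * a⁻¹ * x⁻¹ ∈ A := by
    have : a * x * a⁻¹ * x⁻¹ = a * (x * a⁻¹ * x⁻¹) := by group
    rw [this]
    exact A.mul_mem ha (‹A.Normal›.conj_mem _ (A.inv_mem ha) x)
  have hinv : ∀ b ∈ H ⊓ A, b * x * b⁻¹ * x⁻¹ ∈ H ⊓ A := by
    intro b hb
    refine ⟨H.mul_mem (H.mul_mem (H.mul_mem hb.1 hx) (H.inv_mem hb.1)) (H.inv_mem hx), ?_⟩
    have : b * x * b⁻¹ * x⁻¹ = b * (x * b⁻¹ * x⁻¹) := by group
    rw [this]
    exact A.mul_mem hb.2 (‹A.Normal›.conj_mem _ (A.inv_mem hb.2) x)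
  obtain ⟨b, hb, hbd⟩ := exists_comm_eq A x hfpf (H ⊓ A) inf_le_right hinv _ ⟨hdH, hdA⟩
  have h2 : b * x * b⁻¹ = a * x * a⁻¹ := mul_right_cancel hbd
  have hab : b = a := conj_injOn_of_fpf A x hfpf hb.2 ha h2
  exact H.mul_mem hxi (hab ▸ hb.1)

/-- The hypotheses pass to a conjugate of `x` by an element of `A`. -/
theorem normalizer_le_of_conj_mem [Finite G] (A : Subgroup G) [A.Normal] (x : G)
    (hdec : ∀ g : G, ∃ i : ℤ, ∃ a ∈ A, g = x ^ i * a)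
    (hfpf : ∀ a : G, a ∈ A → a ≠ 1 → x * a * x⁻¹ ≠ a) (H : Subgroup G) (c : G) (hc : c ∈ A)
    (hx : c * x * c⁻¹ ∈ H) : Subgroup.normalizer (H : Set G) ≤ H := by
  apply normalizer_le_of_mem A (c * x * c⁻¹) _ _ H hx
  · intro g
    obtain ⟨i, a, ha, hg⟩ := hdec (c⁻¹ * g * c)
    refine ⟨i, c * a * c⁻¹, ‹A.Normal›.conj_mem _ ha c, ?_⟩
    have h1 : (c * x * c⁻¹) ^ i = c * x ^ i * c⁻¹ := by
      have := map_zpow (MulAut.conj c) x i
      simpa [MulAut.conj_apply] using this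
    rw [h1]
    have : g = c * (c⁻¹ * g * c) * c⁻¹ := by group
    rw [this, hg]; group
  · intro a ha hne heq
    have hmem : c⁻¹ * a * c ∈ A := by
      have := ‹A.Normal›.conj_mem _ ha c⁻¹
      rwa [inv_inv] at this
    have hne1 : c⁻¹ * a * c ≠ 1 := by
      intro h1
      apply hne
      have : a = c * (c⁻¹ * a * c) * c⁻¹ := by group
      rw [this, h1]; group
    apply hfpf _ hmem hne1
    have h2 : x * (c⁻¹ * a * c) * x⁻¹ = c⁻¹ * (c * x * c⁻¹ * a * (c * x * c⁻¹)⁻¹) * c := by group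
    rw [h2, heq]

/-- A nonabelian subgroup contains an element of the coset `x A`. -/
theorem exists_mem_coset_of_not_comm [Finite G] (A : Subgroup G) [A.Normal]
    (hA : IsMulCommutative A) (x : G) {p k : ℕ} (hp : p.Prime) (hxo : orderOf x = p ^ k)
    (hdec : ∀ g : G, ∃ i : ℤ, ∃ a ∈ A, g = x ^ i * a)
    (hxp : x ^ p ∈ Subgroup.center G) (H : Subgroup G) (hH : ¬ IsMulCommutative H) :
    ∃ h ∈ H, ∃ a ∈ A, h = x * a := by
  by_contra hcon
  push Not at hcon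
  apply hH
  -- every element of H is (x^p)^j * a
  have key : ∀ h ∈ H, ∃ j : ℤ, ∃ a ∈ A, h = (x ^ p) ^ j * a := by
    intro h hh
    obtain ⟨i, a, ha, rfl⟩ := hdec h
    by_cases hpi : (p : ℤ) ∣ i
    · obtain ⟨j, rfl⟩ := hpi
      exact ⟨j, a, ha, by rw [zpow_mul, zpow_natCast]⟩
    · exfalso
      have hcop : IsCoprime i ((p : ℤ) ^ k) := by
        apply IsCoprime.pow_right
        exact ((Nat.prime_iff_prime_int.mp hp).irreducible.coprime_iff_not_dvd.mpr hpi).symm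
      obtain ⟨u, v, huv⟩ := hcop
      -- (x^i a)^u ∈ x A
      have hq : (QuotientGroup.mk' A) ((x ^ i * a) ^ u) = (QuotientGroup.mk' A) x := by
        have h1 : (QuotientGroup.mk' A) (x ^ i * a) = (QuotientGroup.mk' A) (x ^ i) := by
          rw [map_mul]
          have : (QuotientGroup.mk' A) a = 1 := (QuotientGroup.eq_one_iff a).mpr ha
          rw [this, mul_one]
        rw [map_zpow, h1, ← map_zpow, ← zpow_mul]
        have h2 : x ^ (i * u) = x := by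
          have h3 : i * u = 1 - v * (p : ℤ) ^ k := by linarith
          rw [h3, zpow_sub, zpow_one, zpow_mul']
          have : x ^ ((p : ℤ) ^ k) = 1 := by
            have := pow_orderOf_eq_one x
            rw [hxo] at this
            exact_mod_cast this
          rw [this, one_zpow, inv_one, mul_one]
        rw [h2]
      have hmem : x⁻¹ * (x ^ i * a) ^ u ∈ A := by
        have := QuotientGroup.eq.mp hq.symm
        exact this
      exact hcon _ (H.zpow_mem hh u) _ hmem (by group)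
  refine ⟨⟨fun h1 h2 => ?_⟩⟩
  obtain ⟨j1, a1, ha1, e1⟩ := key h1 h1.2
  obtain ⟨j2, a2, ha2, e2⟩ := key h2 h2.2
  apply Subtype.ext
  have hz1 : (x ^ p) ^ j1 ∈ Subgroup.center G := Subgroup.zpow_mem _ hxp j1
  have hz2 : (x ^ p) ^ j2 ∈ Subgroup.center G := Subgroup.zpow_mem _ hxp j2
  have haa : a1 * a2 = a2 * a1 := congrArg Subtype.val (hA.is_comm.comm ⟨a1, ha1⟩ ⟨a2, ha2⟩)
  have c1 := Subgroup.mem_center_iff.mp hz1
  have c2 := Subgroup.mem_center_iff.mp hz2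
  show (h1 : G) * (h2 : G) = (h2 : G) * (h1 : G)
  rw [e1, e2]
  calc (x ^ p) ^ j1 * a1 * ((x ^ p) ^ j2 * a2)
      = (x ^ p) ^ j1 * (a1 * (x ^ p) ^ j2) * a2 := by group
    _ = (x ^ p) ^ j1 * ((x ^ p) ^ j2 * a1) * a2 := by rw [c2 a1]
    _ = (x ^ p) ^ j1 * (x ^ p) ^ j2 * (a1 * a2) := by group
    _ = (x ^ p) ^ j1 * (x ^ p) ^ j2 * (a2 * a1) := by rw [haa]
    _ = ((x ^ p) ^ j1 * (x ^ p) ^ j2) * a2 * a1 := by group
    _ = ((x ^ p) ^ j2 * (x ^ p) ^ j1) * a2 * a1 := by rw [← c2 ((x ^ p) ^ j1)]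
    _ = (x ^ p) ^ j2 * ((x ^ p) ^ j1 * a2) * a1 := by group
    _ = (x ^ p) ^ j2 * (a2 * (x ^ p) ^ j1) * a1 := by rw [c1 a2]
    _ = (x ^ p) ^ j2 * a2 * ((x ^ p) ^ j1 * a1) := by group

/-- The easy direction: the semidirect structure forces nonabelian subgroups to be
self-normalizing. -/
theorem sna_of_structure [Finite G] (x : G) (A : Subgroup G) {p : ℕ} (hp : p.Prime)
    (hAn : A.Normal) (hA : IsMulCommutative A) (hxo : ∃ k : ℕ, orderOf x = p ^ k)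
    (hc : (Subgroup.zpowers x).IsComplement' A) (hxp : x ^ p ∈ Subgroup.center G)
    (hfpf : ∀ a : G, a ∈ A → a ≠ 1 → x * a * x⁻¹ ≠ a) : SNA G := by
  intro H hH
  obtain ⟨k, hk⟩ := hxo
  have hdec : ∀ g : G, ∃ i : ℤ, ∃ a ∈ A, g = x ^ i * a := by
    intro g
    have hg : g ∈ (↑(Subgroup.zpowers x ⊔ A) : Set G) := by
      rw [hc.sup_eq_top]; trivial
    rw [Subgroup.mul_normal] at hg
    obtain ⟨h, hh, a, ha, rfl⟩ := hg
    obtain ⟨i, rfl⟩ := hh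
    exact ⟨i, a, ha, rfl⟩
  obtain ⟨h, hhH, a0, ha0, rfl⟩ := exists_mem_coset_of_not_comm A hA x hp hk hdec hxp H hH
  -- find c ∈ A with c x c⁻¹ = x a0
  have hinv : ∀ b ∈ A, b * x * b⁻¹ * x⁻¹ ∈ A := by
    intro b hb
    have : b * x * b⁻¹ * x⁻¹ = b * (x * b⁻¹ * x⁻¹) := by group
    rw [this]
    exact A.mul_mem hb (hAn.conj_mem _ (A.inv_mem hb) x)
  obtain ⟨c, hcA, hcd⟩ := exists_comm_eq A x hfpf A le_rfl hinv (x * a0 * x⁻¹)
    (hAn.conj_mem _ ha0 x)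
  have hcx : c * x * c⁻¹ = x * a0 := by
    have : c * x * c⁻¹ = (c * x * c⁻¹ * x⁻¹) * x := by group
    rw [this, hcd]; group
  apply le_antisymm _ Subgroup.le_normalizer
  exact normalizer_le_of_conj_mem A x hdec hfpf H c hcA (hcx ▸ hhH)

end Cfsg.Agent.Helper20
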