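import Mathlib
import Cfsg.Agent.Lib.Helper20.SelfNorm4
import Cfsg.Agent.Lib.Helper20.InvolutionQuotient
import Cfsg.Agent.Lib.Helper3.Schmidt

set_option autoImplicit false

namespace Cfsg.Agent.Helper20

universe u

variable {G : Type u} [Group G]

/-- `m`-torsion of a commutative subgroup. -/
def torsionSubOfComm (K : Subgroup G) (hK : IsMulCommutative K) (m : ℕ) : Subgroup G where
  carrier := {c | c ∈ K ∧ c ^ m = 1}
  one_mem' := ⟨K.one_mem, one_pow m⟩
  mul_mem' := by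
    rintro a b ⟨ha, ha'⟩ ⟨hb, hb'⟩
    have hab : Commute a b := congrArg Subtype.val (hK.is_comm.comm ⟨a, ha⟩ ⟨b, hb⟩)
    exact ⟨K.mul_mem ha hb, by rw [hab.mul_pow, ha', hb', one_mul]⟩
  inv_mem' := by
    rintro a ⟨ha, ha'⟩
    exact ⟨K.inv_mem ha, by rw [inv_pow, ha', inv_one]⟩

theorem torsionSub_normal (K : Subgroup G) [hKn : K.Normal] (hK : IsMulCommutative K) (m : ℕ) :
    (torsionSubOfComm K hK m).Normal := by
  constructor
  rintro c ⟨hc, hc'⟩ g
  exact ⟨hKn.conj_mem c hc g, by rw [conj_pow, hc', mul_one, mul_inv_cancel]⟩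

/-- The set of "commutators" `a⁻¹ (x a x⁻¹)`, `a ∈ A`, is a subgroup when `A` is commutative
and normal. -/
def commSub (A : Subgroup G) (hAn : A.Normal) (hA : IsMulCommutative A) (x : G) :
    Subgroup G where
  carrier := {d | ∃ a ∈ A, d = a⁻¹ * (x * a * x⁻¹)}
  one_mem' := ⟨1, A.one_mem, by group⟩
  mul_mem' := by
    rintro _ _ ⟨a, ha, rfl⟩ ⟨b, hb, rfl⟩
    refine ⟨a * b, A.mul_mem ha hb, ?_⟩
    have h1 : x * a * x⁻¹ ∈ A := hAn.conj_mem a ha x
    have hc : (a⁻¹ * (x * a * x⁻¹)) * b⁻¹ = b⁻¹ * (a⁻¹ * (x * a * x⁻¹)) :=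
      congrArg Subtype.val (hA.is_comm.comm
        ⟨a⁻¹ * (x * a * x⁻¹), A.mul_mem (A.inv_mem ha) h1⟩ ⟨b⁻¹, A.inv_mem hb⟩)
    calc a⁻¹ * (x * a * x⁻¹) * (b⁻¹ * (x * b * x⁻¹))
        = (a⁻¹ * (x * a * x⁻¹) * b⁻¹) * (x * b * x⁻¹) := by group
      _ = (b⁻¹ * (a⁻¹ * (x * a * x⁻¹))) * (x * b * x⁻¹) := by rw [hc]
      _ = (a * b)⁻¹ * (x * (a * b) * x⁻¹) := by group
  inv_mem' := by
    rintro _ ⟨a, ha, rfl⟩
    refine ⟨a⁻¹, A.inv_mem ha, ?_⟩
    have h1 : x * a⁻¹ * x⁻¹ ∈ A := hAn.conj_mem _ (A.inv_mem ha) x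
    have hc : (x * a⁻¹ * x⁻¹) * a = a * (x * a⁻¹ * x⁻¹) :=
      congrArg Subtype.val (hA.is_comm.comm ⟨_, h1⟩ ⟨a, ha⟩)
    calc (a⁻¹ * (x * a * x⁻¹))⁻¹ = (x * a⁻¹ * x⁻¹) * a := by group
      _ = a * (x * a⁻¹ * x⁻¹) := hc
      _ = a⁻¹⁻¹ * (x * a⁻¹ * x⁻¹) := by group

theorem commSub_le (A : Subgroup G) (hAn : A.Normal) (hA : IsMulCommutative A) (x : G) :
    commSub A hAn hA x ≤ A := by
  rintro _ ⟨a, ha, rfl⟩
  exact A.mul_mem (A.inv_mem ha) (hAn.conj_mem a ha x)

theorem mem_normalizer_commSub (A : Subgroup G) (hAn : A.Normal) (hA : IsMulCommutative A)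
    (x : G) : x ∈ Subgroup.normalizer ((commSub A hAn hA x : Subgroup G) : Set G) := by
  rw [Subgroup.mem_normalizer_iff]
  intro d
  constructor
  · rintro ⟨a, ha, rfl⟩
    exact ⟨x * a * x⁻¹, hAn.conj_mem a ha x, by group⟩
  · rintro ⟨a, ha, hd⟩
    refine ⟨x⁻¹ * a * x, ?_, ?_⟩
    · have := hAn.conj_mem a ha x⁻¹
      rwa [inv_inv] at this
    · have : d = x⁻¹ * (x * d * x⁻¹) * x := by group
      rw [this, hd]; group

theorem structure_of_sna [Finite G] [Group.IsSolvable G] (hnn : ¬ Group.IsNilpotent G)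
    (hS : SNA G) :
    ∃ (x : G) (A : Subgroup G) (p : ℕ), p.Prime ∧ A.Normal ∧ IsMulCommutative A ∧
      (∃ k : ℕ, orderOf x = p ^ k) ∧
      ¬ p ∣ Nat.card A ∧ (Subgroup.zpowers x).IsComplement' A ∧ x ^ p ∈ Subgroup.center G ∧
      ∀ a : G, a ∈ A → a ≠ 1 → x * a * x⁻¹ ≠ a := by
  haveI : Nontrivial G := by
    by_contra h
    rw [not_nontrivial_iff_subsingleton] at h
    exact hnn inferInstance
  obtain ⟨K, p, hKn, hp, hKi⟩ := Cfsg.Agent.Helper3.exists_normal_index_prime (G := G)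
  haveI := hKn
  haveI : Fact p.Prime := ⟨hp⟩
  have hKt : K ≠ ⊤ := by
    intro h; rw [h, Subgroup.index_top] at hKi; exact hp.one_lt.ne hKi
  have hKc := hS.comm_of_normal K hKt
  obtain ⟨P⟩ : Nonempty (Sylow p G) := inferInstance
  obtain ⟨k, hk⟩ := IsPGroup.iff_card.mp P.2
  set m := (P : Subgroup G).index with hm
  have hcardG : p ^ k * m = Nat.card G := by rw [← hk]; exact Subgroup.card_mul_index _
  have hmp : ¬ p ∣ m := P.not_dvd_index
  have hpG : p ∣ Nat.card G := by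
    rw [← K.card_mul_index, hKi]; exact dvd_mul_left _ _
  have hk1 : 1 ≤ k := by
    by_contra h
    have h0 : k = 0 := by omega
    rw [h0, pow_zero, one_mul] at hcardG
    exact hmp (hcardG ▸ hpG)
  have hcopm : m.Coprime p := ((Nat.Prime.coprime_iff_not_dvd hp).mpr hmp).symm
  -- A
  set A := torsionSubOfComm K hKc m with hA
  have hAK : A ≤ K := fun c hc => hc.1
  haveI hAn : A.Normal := torsionSub_normal K hKc m
  have hAc : IsMulCommutative A :=
    ⟨⟨fun a b => Subtype.ext (by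
      have h1 : (a : G) * (b : G) = (b : G) * (a : G) :=
        congrArg Subtype.val (hKc.is_comm.comm ⟨a, hAK a.2⟩ ⟨b, hAK b.2⟩)
      exact h1)⟩⟩
  have hpA : ¬ p ∣ Nat.card A := by
    intro h
    obtain ⟨c, hc⟩ := exists_prime_orderOf_dvd_card' p h
    have h1 : (c : G) ^ m = 1 := c.2.2
    have h2 : orderOf (c : G) = p := by rw [Subgroup.orderOf_coe]; exact hc
    exact hmp (h2 ▸ orderOf_dvd_of_pow_eq_one h1)
  have hpowA : ∀ g : G, g ^ (p ^ k) ∈ A := by
    intro g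
    constructor
    · have h1 : g ^ p ∈ K := by
        have := K.pow_index_mem g; rwa [hKi] at this
      obtain ⟨j, hj⟩ : p ∣ p ^ k := dvd_pow_self p (by omega)
      rw [hj, pow_mul]; exact K.pow_mem h1 j
    · rw [← pow_mul, hcardG]; exact pow_card_eq_one'
  have hQp : IsPGroup p (G ⧸ A) := by
    intro q
    obtain ⟨g, rfl⟩ := QuotientGroup.mk_surjective q
    exact ⟨k, by rw [← QuotientGroup.mk_pow]; exact (QuotientGroup.eq_one_iff _).mpr (hpowA g)⟩
  have hcopA : (Nat.card A).Coprime p := ((Nat.Prime.coprime_iff_not_dvd hp).mpr hpA).symm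
  have hcardA : Nat.card A = m := by
    obtain ⟨j, hj⟩ := IsPGroup.iff_card.mp hQp
    have h1 : Nat.card A * p ^ j = p ^ k * m := by
      rw [hcardG, ← hj, ← Subgroup.index_eq_card]; exact Subgroup.card_mul_index A
    apply Nat.dvd_antisymm
    · exact (Nat.Coprime.pow_right k hcopA).dvd_of_dvd_mul_left (Dvd.intro _ h1)
    · exact (Nat.Coprime.pow_right j hcopm).dvd_of_dvd_mul_right (Dvd.intro_left _ h1.symm)
  -- x ∈ P \ K
  have hex : ∃ x ∈ (P : Subgroup G), x ∉ K := by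
    by_contra h
    push Not at h
    have hPK : (P : Subgroup G) ≤ K := h
    have h1 : p ^ k ∣ Nat.card K := hk ▸ Subgroup.card_dvd_of_le hPK
    have h2 : Nat.card K * p = Nat.card G := by rw [← hKi]; exact K.card_mul_index
    have h3 : p ^ k * p ∣ p ^ k * m := by
      rw [hcardG, ← h2]; exact Nat.mul_dvd_mul_right h1 p
    exact hmp (Nat.dvd_of_mul_dvd_mul_left (pow_pos hp.pos k) h3)
  obtain ⟨x, hxP, hxK⟩ := hex
  have hdecK : ∀ g : G, ∃ i : ℤ, ∃ c ∈ K, g = x ^ i * c := by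
    intro g
    have hcard : Nat.card (G ⧸ K) = p := by rw [← Subgroup.index_eq_card, hKi]
    have hx1 : (QuotientGroup.mk' K x) ≠ 1 :=
      fun h => hxK ((QuotientGroup.eq_one_iff x).mp h)
    have htop := zpowers_eq_top_of_prime_card hcard hx1
    have hg : QuotientGroup.mk' K g ∈ Subgroup.zpowers (QuotientGroup.mk' K x) := by
      rw [htop]; trivial
    obtain ⟨i, hi⟩ := hg
    refine ⟨i, (x ^ i)⁻¹ * g, ?_, by group⟩
    have hi' : (QuotientGroup.mk' K) (x ^ i) = (QuotientGroup.mk' K) g := by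
      rw [map_zpow]; exact hi
    exact QuotientGroup.eq.mp hi'
  have hxpK : x ^ p ∈ K := by
    have := K.pow_index_mem x; rwa [hKi] at this
  have hxpZ : x ^ p ∈ Subgroup.center G := by
    rw [Subgroup.mem_center_iff]
    intro g
    obtain ⟨i, c, hc, rfl⟩ := hdecK g
    have h1 : c * x ^ p = x ^ p * c :=
      congrArg Subtype.val (hKc.is_comm.comm ⟨c, hc⟩ ⟨x ^ p, hxpK⟩)
    have h2 : x ^ i * x ^ p = x ^ p * x ^ i := by
      rw [← zpow_natCast x p, ← zpow_add, ← zpow_add, add_comm]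
    calc x ^ i * c * x ^ p = x ^ i * (c * x ^ p) := by group
      _ = x ^ i * (x ^ p * c) := by rw [h1]
      _ = (x ^ i * x ^ p) * c := by group
      _ = x ^ p * x ^ i * c := by rw [h2]
      _ = x ^ p * (x ^ i * c) := by group
  -- x does not centralize A
  have hxA : ∃ a ∈ A, x * a ≠ a * x := by
    by_contra h
    push Not at h
    apply hnn
    have hAZ : A ≤ Subgroup.center G := by
      intro a ha
      rw [Subgroup.mem_center_iff]
      intro g
      obtain ⟨i, c, hc, rfl⟩ := hdecK g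
      have h1 : c * a = a * c :=
        congrArg Subtype.val (hKc.is_comm.comm ⟨c, hc⟩ ⟨a, hAK ha⟩)
      have h2 : x ^ i * a = a * x ^ i := Commute.zpow_left (h a ha) i
      calc x ^ i * c * a = x ^ i * (c * a) := by group
        _ = x ^ i * (a * c) := by rw [h1]
        _ = (x ^ i * a) * c := by group
        _ = a * x ^ i * c := by rw [h2]
        _ = a * (x ^ i * c) := by group
    haveI : Group.IsNilpotent (G ⧸ A) := hQp.isNilpotent
    exact Subgroup.isNilpotent_of_ker_le_center (QuotientGroup.mk' A)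
      (by rw [QuotientGroup.ker_mk']; exact hAZ)
  obtain ⟨a1, ha1, hxa1⟩ := hxA
  have hHna : ¬ IsMulCommutative (A ⊔ Subgroup.zpowers x : Subgroup G) := by
    intro hc
    apply hxa1
    have h1 : x ∈ (A ⊔ Subgroup.zpowers x : Subgroup G) :=
      (le_sup_right : Subgroup.zpowers x ≤ A ⊔ Subgroup.zpowers x) (Subgroup.mem_zpowers x)
    have h2 : a1 ∈ (A ⊔ Subgroup.zpowers x : Subgroup G) :=
      (le_sup_left : A ≤ A ⊔ Subgroup.zpowers x) ha1
    exact congrArg Subtype.val (hc.is_comm.comm ⟨x, h1⟩ ⟨a1, h2⟩)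
  have hNH := hS _ hHna
  have hxP' : Subgroup.zpowers x ≤ (P : Subgroup G) := Subgroup.zpowers_le.mpr hxP
  have hAP : ∀ a ∈ A, a ∈ (P : Subgroup G) → a = 1 := by
    intro a ha haP
    obtain ⟨j, hj⟩ := P.2 ⟨a, haP⟩
    have hj' : a ^ (p ^ j) = 1 := congrArg Subtype.val hj
    have h1 : orderOf a ∣ p ^ j := orderOf_dvd_of_pow_eq_one hj'
    have h2 : orderOf a ∣ m := orderOf_dvd_of_pow_eq_one ha.2
    have h3 : orderOf a = 1 := Nat.eq_one_of_dvd_coprimes (Nat.Coprime.pow_right j hcopm) h2 h1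
    exact orderOf_eq_one_iff.mp h3
  have hzP : Subgroup.zpowers x = (P : Subgroup G) := by
    by_contra hne
    obtain ⟨w, hwP, hwN, hwx⟩ :=
      exists_mem_normalizer_not_mem_of_lt P.2 (lt_of_le_of_ne hxP' hne)
    have hwA : w ∈ Subgroup.normalizer (A : Set G) := by
      rw [Subgroup.normalizer_eq_top]; trivial
    have hwH : w ∈ Subgroup.normalizer ((A ⊔ Subgroup.zpowers x : Subgroup G) : Set G) :=
      Subgroup.normalizer_inf_normalizer_le_normalizer_sup _ _ ⟨hwA, hwN⟩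
    rw [hNH] at hwH
    have hwH' : w ∈ (↑(A ⊔ Subgroup.zpowers x) : Set G) := hwH
    rw [Subgroup.normal_mul] at hwH'
    obtain ⟨a, ha, y, hy, hay⟩ := hwH'
    have hay' : a * y = w := hay
    have haP : a ∈ (P : Subgroup G) := by
      have : a = w * y⁻¹ := by rw [← hay']; group
      rw [this]; exact Subgroup.mul_mem _ hwP (Subgroup.inv_mem _ (hxP' hy))
    have h1 := hAP a ha haP
    apply hwx; rw [← hay', h1, one_mul]; exact hy
  have hxo : orderOf x = p ^ k := by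
    rw [← Nat.card_zpowers, hzP]; exact hk
  have hcompl : (Subgroup.zpowers x).IsComplement' A := by
    apply Subgroup.isComplement'_of_coprime
    · rw [hzP, hk, hcardA]; exact hcardG
    · rw [hzP, hk]; exact Nat.Coprime.pow_left k hcopA.symm
  -- Claim F
  have hF : ∀ a ∈ A, ∀ c, c = a⁻¹ * (x * a * x⁻¹) → x * c = c * x → c = 1 := by
    intro a ha c hc hcx
    have hcA : c ∈ A := by
      rw [hc]; exact A.mul_mem (A.inv_mem ha) (hAn.conj_mem a ha x)
    have hind : ∀ i : ℕ, x ^ i * a * x⁻¹ ^ i = a * c ^ i := by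
      intro i
      induction i with
      | zero => simp
      | succ i ih =>
        have hxc : x * c ^ i = c ^ i * x := Commute.pow_right hcx i
        calc x ^ (i + 1) * a * x⁻¹ ^ (i + 1)
            = x * (x ^ i * a * x⁻¹ ^ i) * x⁻¹ := by rw [pow_succ', pow_succ]; group
          _ = x * (a * c ^ i) * x⁻¹ := by rw [ih]
          _ = (x * a * x⁻¹) * (x * c ^ i) * x⁻¹ := by group
          _ = (x * a * x⁻¹) * (c ^ i * x) * x⁻¹ := by rw [hxc]
          _ = a * (a⁻¹ * (x * a * x⁻¹)) * c ^ i := by group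
          _ = a * c ^ (i + 1) := by rw [← hc, pow_succ']; group
    have h1 := hind p
    have h2 : x ^ p * a * x⁻¹ ^ p = a := by
      have := Subgroup.mem_center_iff.mp hxpZ a
      rw [← this, inv_pow]; group
    rw [h2] at h1
    have h3 : c ^ p = 1 := by
      have : a * 1 = a * c ^ p := by rw [mul_one]; exact h1
      exact (mul_left_cancel this).symm
    have h4 : orderOf c ∣ p := orderOf_dvd_of_pow_eq_one h3
    have h5 : orderOf c ∣ m := orderOf_dvd_of_pow_eq_one hcA.2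
    have h6 : orderOf c = 1 := Nat.eq_one_of_dvd_coprimes hcopm h5 h4
    exact orderOf_eq_one_iff.mp h6
  refine ⟨x, A, p, hp, hAn, hAc, ⟨k, hxo⟩, hpA, hcompl, hxpZ, ?_⟩
  -- fixed-point-freeness
  intro a0 ha0 hne hfix
  have hxa0 : x * a0 = a0 * x := by
    calc x * a0 = (x * a0 * x⁻¹) * x := by group
      _ = a0 * x := by rw [hfix]
  set D := commSub A hAn hAc x with hD
  have hDA : D ≤ A := commSub_le A hAn hAc x
  have hxD : Subgroup.zpowers x ≤ Subgroup.normalizer (D : Set G) :=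
    Subgroup.zpowers_le.mpr (mem_normalizer_commSub A hAn hAc x)
  -- D ⊔ zpowers x nonabelian
  have hH'na : ¬ IsMulCommutative (D ⊔ Subgroup.zpowers x : Subgroup G) := by
    intro hc
    apply hxa1
    have hx' : x ∈ (D ⊔ Subgroup.zpowers x : Subgroup G) :=
      (le_sup_right : Subgroup.zpowers x ≤ D ⊔ Subgroup.zpowers x) (Subgroup.mem_zpowers x)
    have hd : a1⁻¹ * (x * a1 * x⁻¹) ∈ (D ⊔ Subgroup.zpowers x : Subgroup G) :=
      (le_sup_left : D ≤ D ⊔ Subgroup.zpowers x) ⟨a1, ha1, rfl⟩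
    have hcomm : x * (a1⁻¹ * (x * a1 * x⁻¹)) = (a1⁻¹ * (x * a1 * x⁻¹)) * x :=
      congrArg Subtype.val (hc.is_comm.comm ⟨x, hx'⟩ ⟨_, hd⟩)
    have h1 := hF a1 ha1 _ rfl hcomm
    have h2 : x * a1 * x⁻¹ = a1 := by
      have : x * a1 * x⁻¹ = a1 * (a1⁻¹ * (x * a1 * x⁻¹)) := by group
      rw [this, h1, mul_one]
    calc x * a1 = (x * a1 * x⁻¹) * x := by group
      _ = a1 * x := by rw [h2]
  have hNH' := hS _ hH'na
  -- a0 central-ish: normalizes everything
  have ha0Z : a0 ∈ Subgroup.center G := by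
    rw [Subgroup.mem_center_iff]
    intro g
    obtain ⟨i, c, hc, rfl⟩ := hdecK g
    have h1 : c * a0 = a0 * c :=
      congrArg Subtype.val (hKc.is_comm.comm ⟨c, hc⟩ ⟨a0, hAK ha0⟩)
    have h2 : x ^ i * a0 = a0 * x ^ i := Commute.zpow_left hxa0 i
    calc x ^ i * c * a0 = x ^ i * (c * a0) := by group
      _ = x ^ i * (a0 * c) := by rw [h1]
      _ = (x ^ i * a0) * c := by group
      _ = a0 * x ^ i * c := by rw [h2]
      _ = a0 * (x ^ i * c) := by group
  have ha0N : a0 ∈ Subgroup.normalizer ((D ⊔ Subgroup.zpowers x : Subgroup G) : Set G) := by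
    rw [Subgroup.mem_normalizer_iff]
    intro h
    have hc := Subgroup.mem_center_iff.mp ha0Z h
    have : a0 * h * a0⁻¹ = h := by rw [← hc]; group
    rw [this]
  rw [hNH'] at ha0N
  have ha0H : a0 ∈ (↑(D ⊔ Subgroup.zpowers x) : Set G) := ha0N
  rw [Subgroup.coe_mul_of_right_le_normalizer_left D (Subgroup.zpowers x) hxD] at ha0H
  obtain ⟨d, hd, y, hy, hdy0⟩ := ha0H
  have hdy : d * y = a0 := hdy0
  have hyA : y ∈ A := by
    have : y = d⁻¹ * a0 := by rw [← hdy]; group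
    rw [this]; exact A.mul_mem (A.inv_mem (hDA hd)) ha0
  have hy1 : y = 1 := hAP y hyA (hxP' hy)
  rw [hy1, mul_one] at hdy
  obtain ⟨a, ha, hda⟩ := hd
  exact hne (hdy ▸ hF a ha d hda (hdy ▸ hxa0))

end Cfsg.Agent.Helper20
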