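import Mathlib

set_option autoImplicit false

/-!
# Points of subspaces of a finite projective space, counted mod `q` (helper20)
-/

namespace Cfsg.Agent.Helper20.SharpTwo

open scoped LinearAlgebra.Projectivization
open Projectivization

variable {F : Type*} [Field F] {V : Type*} [AddCommGroup V] [Module F V]

/-- the set of projective points lying in the subspace `W` -/
def pts (W : Submodule F V) : Set (ℙ F V) := {x | x.rep ∈ W}

theorem mk_mem_pts (W : Submodule F V) (v : V) (hv : v ≠ 0) :
    Projectivization.mk F v hv ∈ pts W ↔ v ∈ W := by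
  obtain ⟨a, ha⟩ := exists_smul_eq_mk_rep F v hv
  show (Projectivization.mk F v hv).rep ∈ W ↔ v ∈ W
  rw [← ha]
  have : (a • v : V) = ((a : F) • v) := rfl
  rw [this]
  exact Submodule.smul_mem_iff W a.ne_zero

theorem pts_inf (W W' : Submodule F V) : pts (W ⊓ W') = pts W ∩ pts W' := by
  ext x
  simp [pts]

/-- the points of `W` correspond to the points of the projective space of `W` -/
noncomputable def ptsEquiv (W : Submodule F V) : ℙ F W ≃ pts W := by
  refine Equiv.ofBijective
    (fun x => ⟨Projectivization.map W.subtype W.injective_subtype x, ?_⟩) ⟨?_, ?_⟩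
  · induction x using Projectivization.ind with
    | h w hw =>
      rw [Projectivization.map_mk]
      exact (mk_mem_pts W _ _).mpr w.2
  · intro x y hxy
    have h := congrArg Subtype.val hxy
    exact Projectivization.map_injective W.subtype W.injective_subtype h
  · rintro ⟨y, hy⟩
    have hy' : y.rep ∈ W := hy
    have hne : (⟨y.rep, hy'⟩ : W) ≠ 0 := by
      intro h
      exact y.rep_nonzero (congrArg Subtype.val h)
    refine ⟨Projectivization.mk F ⟨y.rep, hy'⟩ hne, ?_⟩
    apply Subtype.ext
    show Projectivization.map W.subtype W.injective_subtype (Projectivization.mk F _ hne) = y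
    rw [Projectivization.map_mk]
    exact y.mk_rep

theorem card_pts [Finite F] [Finite V] (W : Submodule F V) :
    Nat.card W = Nat.card (pts W) * (Nat.card F - 1) + 1 := by
  rw [← Nat.card_congr (ptsEquiv W)]
  exact Projectivization.card' F W

/-- a nonzero subspace has `≡ 1 mod q` points -/
theorem card_pts_cast [Finite F] [Finite V] (W : Submodule F V) (hW : W ≠ ⊥) :
    ((Nat.card (pts W) : ℕ) : ZMod (Nat.card F)) = 1 := by
  have h1 := card_pts W
  have hq : 1 < Nat.card F := Finite.one_lt_card
  haveI : Module.Finite F W := Module.Finite.of_finite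
  have h2 : Nat.card W = Nat.card F ^ Module.finrank F W := Module.natCard_eq_pow_finrank
  have hpos : 0 < Module.finrank F W := by
    rw [Nat.pos_iff_ne_zero]
    intro h0
    exact hW (Submodule.finrank_eq_zero.mp h0)
  have hdvd : Nat.card F ∣ Nat.card W := by
    rw [h2]
    exact dvd_pow_self _ hpos.ne'
  have h3 : ((Nat.card W : ℕ) : ZMod (Nat.card F)) = 0 := (ZMod.natCast_eq_zero_iff _ _).mpr hdvd
  rw [h1] at h3
  push_cast [hq.le] at h3
  have h4 : ((Nat.card F : ℕ) : ZMod (Nat.card F)) = 0 := ZMod.natCast_self _
  rw [h4] at h3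
  have : ((Nat.card (pts W) : ℕ) : ZMod (Nat.card F)) * (0 - 1) + 1 = 0 := h3
  linear_combination -this

end Cfsg.Agent.Helper20.SharpTwo
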