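import Mathlib
import Cfsg.Agent.Lib.Helper20.SharpTwoA

set_option autoImplicit false

/-!
# No sharply 2-transitive sets of collineations of `PG(n-1, q)`, `n ≥ 3` (helper20)
-/

namespace Cfsg.Agent.Helper20.SharpTwo

open scoped LinearAlgebra.Projectivization
open Projectivization

/-- abstract double counting -/
theorem sum_card_eq_sq {P : Type*} [DecidableEq P] (S' : Finset (Equiv.Perm P)) (A : Finset P)
    (h : ∀ b ∈ A, ∀ d ∈ A, ∃! s, s ∈ S' ∧ s b = d) :
    ∑ s ∈ S', (A.filter (fun x => s x ∈ A)).card = A.card ^ 2 := by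
  have h1 : ∀ s ∈ S', (A.filter (fun x => s x ∈ A)).card = ∑ x ∈ A, if s x ∈ A then 1 else 0 := by
    intro s _
    rw [Finset.card_filter]
  rw [Finset.sum_congr rfl h1, Finset.sum_comm]
  have h2 : ∀ x ∈ A, (∑ s ∈ S', if s x ∈ A then 1 else 0) = A.card := by
    intro x hx
    rw [← Finset.card_filter]
    apply Finset.card_bij (fun s _ => s x)
    · intro s hs
      exact (Finset.mem_filter.mp hs).2
    · intro s1 hs1 s2 hs2 heq
      have hs1' := Finset.mem_filter.mp hs1
      have hs2' := Finset.mem_filter.mp hs2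
      obtain ⟨s0, _, huniq⟩ := h x hx (s1 x) hs1'.2
      rw [huniq s1 ⟨hs1'.1, rfl⟩, huniq s2 ⟨hs2'.1, heq.symm⟩]
    · intro d hd
      obtain ⟨s0, ⟨hs0, hs0d⟩, _⟩ := h x hx d hd
      exact ⟨s0, Finset.mem_filter.mpr ⟨hs0, by rw [hs0d]; exact hd⟩, hs0d⟩
  rw [Finset.sum_congr rfl h2, Finset.sum_const, smul_eq_mul, pow_two]

variable {F : Type*} [Field F] [Finite F]

theorem no_sharp (n : ℕ) (hn : 3 ≤ n) (S : Set (Equiv.Perm (ℙ F (Fin n → F))))
    (hS : ∀ s ∈ S, ∃ (σ : F ≃+* F) (f : (Fin n → F) →ₛₗ[(σ : F →+* F)] (Fin n → F))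
      (hf : Function.Injective f), ∀ x, s x = Projectivization.map f hf x)
    (hsharp : ∀ a b c d : ℙ F (Fin n → F), a ≠ b → c ≠ d → ∃! s, s ∈ S ∧ s a = c ∧ s b = d) :
    False := by
  classical
  set q := Nat.card F with hq
  have hq1 : 1 < q := Finite.one_lt_card
  haveI : Fact (1 < q) := ⟨hq1⟩
  haveI : Fintype (ℙ F (Fin n → F)) := Fintype.ofFinite _
  -- the hyperplane and the point
  obtain ⟨i0⟩ : Nonempty (Fin n) := ⟨⟨0, by omega⟩⟩
  obtain ⟨φ, hφ⟩ : ∃ φ : (Fin n → F) →ₗ[F] F, ∀ x, φ x = x i0 :=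
    ⟨LinearMap.proj i0, fun x => rfl⟩
  obtain ⟨H, hH⟩ : ∃ H : Submodule F (Fin n → F), H = LinearMap.ker φ := ⟨_, rfl⟩
  have hHmem : ∀ x, x ∈ H ↔ x i0 = 0 := by
    intro x
    rw [hH, LinearMap.mem_ker, hφ]
  obtain ⟨e0, he0i⟩ : ∃ e0 : Fin n → F, e0 i0 = 1 := ⟨Pi.single i0 1, Pi.single_eq_same _ _⟩
  have he0 : e0 ≠ 0 := by
    intro h
    rw [h, Pi.zero_apply] at he0i
    exact zero_ne_one he0i
  obtain ⟨p, hp⟩ : ∃ p : ℙ F (Fin n → F), p = Projectivization.mk F e0 he0 := ⟨_, rfl⟩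
  have hpH : p ∉ pts H := by
    rw [hp, mk_mem_pts, hHmem, he0i]
    exact one_ne_zero
  -- cardinalities
  have hcardV : Nat.card (Fin n → F) = q ^ n := by
    rw [Nat.card_fun, Nat.card_fin]
  have hfinH : Module.finrank F H = n - 1 := by
    have h1 := LinearMap.finrank_range_add_finrank_ker φ
    have h2 : LinearMap.range φ = ⊤ := by
      rw [LinearMap.range_eq_top]
      intro c
      exact ⟨Pi.single i0 c, by rw [hφ, Pi.single_eq_same]⟩
    rw [h2, finrank_top, Module.finrank_self, Module.finrank_fin_fun, ← hH] at h1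
    omega
  have hcardH : Nat.card H = q ^ (n - 1) := by
    rw [Module.natCard_eq_pow_finrank (K := F) (V := H), hfinH]
  have hHne : H ≠ ⊥ := by
    intro h
    have : Module.finrank F H = 0 := by rw [h]; simp
    omega
  -- finite sets
  obtain ⟨A, hA, hAcard⟩ : ∃ A : Finset (ℙ F (Fin n → F)), (∀ x, x ∈ A ↔ x ∈ pts H) ∧
      A.card = Nat.card (pts H) := by
    refine ⟨(pts H).toFinset, fun x => Set.mem_toFinset, ?_⟩
    rw [Nat.card_eq_fintype_card, Set.toFinset_card]
  obtain ⟨S', hS'⟩ : ∃ S' : Finset (Equiv.Perm (ℙ F (Fin n → F))),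
      ∀ s, s ∈ S' ↔ s ∈ S ∧ s p = p :=
    ⟨Finset.univ.filter (fun s => s ∈ S ∧ s p = p), fun s => by simp⟩
  -- the sharp transitivity restricted to S'
  have hkey : ∀ b ∈ A, ∀ d ∈ A, ∃! s, s ∈ S' ∧ s b = d := by
    intro b hb d hd
    have hbp : p ≠ b := by
      rintro rfl
      exact hpH ((hA _).mp hb)
    have hdp : p ≠ d := by
      rintro rfl
      exact hpH ((hA _).mp hd)
    obtain ⟨s, ⟨hsS, hsp, hsb⟩, huniq⟩ := hsharp p b p d hbp hdp
    refine ⟨s, ⟨(hS' s).mpr ⟨hsS, hsp⟩, hsb⟩, ?_⟩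
    intro s' ⟨hs', hs'b⟩
    have := (hS' s').mp hs'
    exact huniq s' ⟨this.1, this.2, hs'b⟩
  have hsum := sum_card_eq_sq S' A hkey
  -- each term is 1 mod q
  have hterm : ∀ s ∈ S', (((A.filter (fun x => s x ∈ A)).card : ℕ) : ZMod q) = 1 := by
    intro s hs
    obtain ⟨hsS, hsp⟩ := (hS' s).mp hs
    obtain ⟨σ, f, hf, hsf⟩ := hS s hsS
    obtain ⟨W, hW⟩ : ∃ W : Submodule F (Fin n → F), W = H ⊓ Submodule.comap f H := ⟨_, rfl⟩
    have hWmem : ∀ x, x ∈ W ↔ x ∈ H ∧ f x ∈ H := by
      intro x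
      rw [hW, Submodule.mem_inf, Submodule.mem_comap]
    have hfilter : A.filter (fun x => s x ∈ A) = (pts W).toFinset := by
      ext x
      simp only [Finset.mem_filter, Set.mem_toFinset, hA]
      induction x using Projectivization.ind with
      | h v hv =>
        rw [hsf, Projectivization.map_mk, mk_mem_pts, mk_mem_pts, mk_mem_pts, hWmem]
    have hWne : W ≠ ⊥ := by
      -- pigeonhole
      haveI : Fintype H := Fintype.ofFinite _
      haveI : Fintype (Fin n → F) := Fintype.ofFinite _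
      have hlt : Fintype.card (Fin n → F) < Fintype.card (H × H) := by
        rw [Fintype.card_prod, ← Nat.card_eq_fintype_card, ← Nat.card_eq_fintype_card, hcardV,
          hcardH, ← pow_add]
        exact Nat.pow_lt_pow_right hq1 (by omega)
      obtain ⟨x, y, hxy, heq⟩ :=
        Fintype.exists_ne_map_eq_of_card_lt
          (fun z : H × H => f (z.1 : Fin n → F) - (z.2 : Fin n → F)) hlt
      have heq' : f (x.1 : Fin n → F) - (x.2 : Fin n → F) =
          f (y.1 : Fin n → F) - (y.2 : Fin n → F) := heq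
      have h1 : f ((x.1 : Fin n → F) - (y.1 : Fin n → F)) =
          (x.2 : Fin n → F) - (y.2 : Fin n → F) := by
        rw [map_sub]
        have := heq'
        rw [sub_eq_sub_iff_add_eq_add] at this
        rw [sub_eq_sub_iff_add_eq_add, add_comm (x.2 : Fin n → F)]
        exact this
      have hmem : ((x.1 : Fin n → F) - (y.1 : Fin n → F)) ∈ W := by
        rw [hWmem, h1]
        exact ⟨H.sub_mem x.1.2 y.1.2, H.sub_mem x.2.2 y.2.2⟩
      intro hbot
      rw [hbot, Submodule.mem_bot, sub_eq_zero] at hmem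
      have h2 : (x.2 : Fin n → F) = (y.2 : Fin n → F) := by
        rw [hmem, sub_self, map_zero] at h1
        exact (sub_eq_zero.mp h1.symm)
      apply hxy
      exact Prod.ext (Subtype.ext hmem) (Subtype.ext h2)
    rw [hfilter, Set.toFinset_card, ← Nat.card_eq_fintype_card]
    exact card_pts_cast W hWne
  -- |S'| = v - 1
  have hvcard : Nat.card (Fin n → F) = Nat.card (ℙ F (Fin n → F)) * (q - 1) + 1 :=
    Projectivization.card' F (Fin n → F)
  have hS'card : S'.card + 1 = Nat.card (ℙ F (Fin n → F)) := by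
    -- choose b0 ≠ p
    obtain ⟨b0, hb0⟩ : ∃ b0, b0 ∈ A := by
      suffices hpos : 0 < A.card from Finset.card_pos.mp hpos
      rw [hAcard]
      have h1 := card_pts H
      rw [hcardH] at h1
      by_contra hneg
      have h0 : Nat.card (pts H) = 0 := by omega
      rw [h0] at h1
      have : q ^ 1 ≤ q ^ (n - 1) := Nat.pow_le_pow_right (by omega) (by omega)
      simp at h1
      omega
    have hb0p : p ≠ b0 := by
      rintro rfl
      exact hpH ((hA _).mp hb0)
    have hbij : S'.card = (Finset.univ.erase p).card := by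
      apply Finset.card_bij (fun s _ => s b0)
      · intro s hs
        obtain ⟨_, hsp⟩ := (hS' s).mp hs
        rw [Finset.mem_erase]
        refine ⟨?_, Finset.mem_univ _⟩
        intro h
        rw [← hsp] at h
        exact hb0p (s.injective h).symm
      · intro s1 hs1 s2 hs2 heq
        obtain ⟨h1S, h1p⟩ := (hS' s1).mp hs1
        obtain ⟨h2S, h2p⟩ := (hS' s2).mp hs2
        have hne : p ≠ s1 b0 := by
          intro h
          rw [← h1p] at h
          exact hb0p (s1.injective h)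
        obtain ⟨s0, _, huniq⟩ := hsharp p b0 p (s1 b0) hb0p hne
        rw [huniq s1 ⟨h1S, h1p, rfl⟩, huniq s2 ⟨h2S, h2p, heq.symm⟩]
      · intro d hd
        have hdp : p ≠ d := (Finset.ne_of_mem_erase hd).symm
        obtain ⟨s0, ⟨hs0S, hs0p, hs0b⟩, _⟩ := hsharp p b0 p d hb0p hdp
        exact ⟨s0, (hS' s0).mpr ⟨hs0S, hs0p⟩, hs0b⟩
    rw [hbij, Finset.card_erase_of_mem (Finset.mem_univ _), Finset.card_univ,
      Nat.card_eq_fintype_card]
    have : 0 < Fintype.card (ℙ F (Fin n → F)) := Fintype.card_pos_iff.mpr ⟨p⟩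
    omega
  -- v ≡ 1, k ≡ 1 mod q
  have hk1 : ((A.card : ℕ) : ZMod q) = 1 := by
    rw [hAcard]
    exact card_pts_cast H hHne
  have hv1 : ((Nat.card (ℙ F (Fin n → F)) : ℕ) : ZMod q) = 1 := by
    have h3 : ((Nat.card (Fin n → F) : ℕ) : ZMod q) = 0 := by
      rw [hcardV]
      push_cast
      rw [ZMod.natCast_self, zero_pow (by omega)]
    rw [hvcard] at h3
    push_cast [hq1.le] at h3
    rw [ZMod.natCast_self] at h3
    linear_combination -h3
  have hS0 : ((S'.card : ℕ) : ZMod q) = 0 := by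
    have := congrArg (fun t : ℕ => (t : ZMod q)) hS'card
    simp only [Nat.cast_add, Nat.cast_one] at this
    rw [hv1] at this
    linear_combination this
  -- conclusion
  have hfinal := congrArg (fun t : ℕ => (t : ZMod q)) hsum
  simp only [Nat.cast_sum, Nat.cast_pow] at hfinal
  rw [Finset.sum_congr rfl hterm, Finset.sum_const, nsmul_eq_mul, mul_one, hS0, hk1, one_pow]
    at hfinal
  exact zero_ne_one hfinal

end Cfsg.Agent.Helper20.SharpTwo
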