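import Mathlib

/-!
# Groups all of whose elements outside a normal subgroup of prime index `p` have order `p`
(helper20). Basic inheritance properties.
-/

set_option autoImplicit false

namespace Cfsg.Agent.Helper20

universe u

/-- `G` is a normal subgroup of index `p` of `Γ` and every element of `Γ` outside `G` has order
dividing `p`. -/
structure HT (p : ℕ) (Γ : Type u) [Group Γ] (G : Subgroup Γ) : Prop where
  normal : G.Normal
  index : G.index = p
  pow : ∀ x : Γ, x ∉ G → x ^ p = 1

variable {p : ℕ} {Γ : Type u} [Group Γ] {G : Subgroup Γ}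

theorem HT.ne_top [hp : Fact p.Prime] (h : HT p Γ G) : G ≠ ⊤ := by
  intro ht
  have := h.index
  rw [ht, Subgroup.index_top] at this
  exact hp.out.one_lt.ne this

theorem HT.exists_not_mem [Fact p.Prime] (h : HT p Γ G) : ∃ a : Γ, a ∉ G := by
  by_contra hcon
  push Not at hcon
  exact h.ne_top ((Subgroup.eq_top_iff' G).2 hcon)

theorem HT.mul_not_mem (h : HT p Γ G) {x a : Γ} (hx : x ∈ G) (ha : a ∉ G) : x * a ∉ G := by
  intro hxa
  apply ha
  have := G.mul_mem (G.inv_mem hx) hxa
  rwa [inv_mul_cancel_left] at this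

theorem HT.orderOf_eq [hp : Fact p.Prime] (h : HT p Γ G) {a : Γ} (ha : a ∉ G) : orderOf a = p := by
  apply orderOf_eq_prime (h.pow a ha)
  intro h1
  apply ha
  rw [h1]; exact G.one_mem

/-- If `H` is not contained in `G` then `H ⊔ G = ⊤`. -/
theorem HT.sup_eq_top [hp : Fact p.Prime] [Finite Γ] (h : HT p Γ G) {H : Subgroup Γ}
    (hH : ¬ H ≤ G) : H ⊔ G = ⊤ := by
  have h1 : (H ⊔ G).index ∣ p := by
    rw [← h.index]; exact Subgroup.index_dvd_of_le le_sup_right
  rcases (Nat.dvd_prime hp.out).1 h1 with h2 | h2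
  · exact Subgroup.index_eq_one.1 h2
  · exfalso
    apply hH
    have h3 : H ⊔ G = G := by
      symm
      apply Subgroup.eq_of_le_of_card_ge le_sup_right
      have e1 := Subgroup.card_mul_index (H ⊔ G)
      have e2 := Subgroup.card_mul_index G
      rw [h2] at e1
      rw [h.index] at e2
      have : Nat.card ↥(H ⊔ G) * p = Nat.card ↥G * p := by rw [e1, e2]
      exact (Nat.eq_of_mul_eq_mul_right hp.out.pos this).le
    rw [← h3]; exact le_sup_left

/-- The hypothesis passes to subgroups not contained in `G`. -/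
theorem HT.subgroup [Fact p.Prime] [Finite Γ] (h : HT p Γ G) (H : Subgroup Γ) (hH : ¬ H ≤ G) :
    HT p ↥H (G.subgroupOf H) := by
  haveI := h.normal
  refine ⟨inferInstance, ?_, ?_⟩
  · have h1 : G.relIndex H = G.index := by
      rw [← Subgroup.relIndex_sup_right, h.sup_eq_top hH, Subgroup.relIndex_top_right]
    rw [← h.index, ← h1]; rfl
  · intro x hx
    have hx' : (x : Γ) ∉ G := fun hc => hx (Subgroup.mem_subgroupOf.2 hc)
    apply Subtype.ext
    rw [Subgroup.coe_pow, Subgroup.coe_one]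
    exact h.pow _ hx'

/-- The hypothesis passes to quotients by normal subgroups contained in `G`. -/
theorem HT.quotient (h : HT p Γ G) (N : Subgroup Γ) [N.Normal] (hN : N ≤ G) :
    HT p (Γ ⧸ N) (G.map (QuotientGroup.mk' N)) := by
  haveI := h.normal
  refine ⟨Subgroup.Normal.map inferInstance _ (QuotientGroup.mk'_surjective N), ?_, ?_⟩
  · rw [Subgroup.index_map_eq _ (QuotientGroup.mk'_surjective N)
      (by rw [QuotientGroup.ker_mk']; exact hN)]
    exact h.index
  · intro x hx
    obtain ⟨g, rfl⟩ := QuotientGroup.mk'_surjective N x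
    have hg : g ∉ G := fun hc => hx (Subgroup.mem_map_of_mem _ hc)
    rw [← map_pow, h.pow g hg, map_one]

/-- The case `p = 2`: `G` is commutative. -/
theorem HT.comm_of_two (h : HT 2 Γ G) : ∀ x ∈ G, ∀ y ∈ G, x * y = y * x := by
  haveI : Fact (Nat.Prime 2) := ⟨Nat.prime_two⟩
  obtain ⟨a, ha⟩ := h.exists_not_mem
  have ha2 : a ^ 2 = 1 := h.pow a ha
  have hai : a⁻¹ = a := by rw [inv_eq_iff_mul_eq_one, ← pow_two, ha2]
  have hinv : ∀ x ∈ G, a * x * a⁻¹ = x⁻¹ := by
    intro x hx
    have h1 : (x * a) ^ 2 = 1 := h.pow _ (h.mul_not_mem hx ha)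
    rw [pow_two] at h1
    have h2 : a * x * a = x⁻¹ := by
      calc a * x * a = x⁻¹ * ((x * a) * (x * a)) := by group
        _ = x⁻¹ := by rw [h1, mul_one]
    rw [hai]; exact h2
  intro x hx y hy
  apply inv_injective
  calc (x * y)⁻¹ = a * (x * y) * a⁻¹ := (hinv _ (G.mul_mem hx hy)).symm
    _ = (a * x * a⁻¹) * (a * y * a⁻¹) := by group
    _ = x⁻¹ * y⁻¹ := by rw [hinv x hx, hinv y hy]
    _ = (y * x)⁻¹ := by rw [mul_inv_rev]

end Cfsg.Agent.Helper20
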