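import Mathlib
import Cfsg.Agent.Lib.Helper20.SplitAut1

/-!
# The averaging argument for splitting automorphisms (helper20)
-/

set_option autoImplicit false

namespace Cfsg.Agent.Helper20

universe u

section Abstract

variable {A : Type*} [CommGroup A] {Γ : Type*} [Group Γ]

theorem pow_conj_mem {H : Subgroup Γ} {a : Γ} (ha : ∀ x ∈ H, a * x * a⁻¹ ∈ H) (i : ℕ) :
    ∀ x ∈ H, a ^ i * x * (a ^ i)⁻¹ ∈ H := by
  induction i with
  | zero => intro x hx; simpa using hx
  | succ i ih =>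
    intro x hx
    have := ha _ (ih x hx)
    have e : a ^ (i + 1) * x * (a ^ (i + 1))⁻¹ = a * (a ^ i * x * (a ^ i)⁻¹) * a⁻¹ := by
      rw [pow_succ']; group
    rw [e]; exact this

theorem mul_pow_mul_inv_mem {H : Subgroup Γ} {a : Γ} (ha : ∀ x ∈ H, a * x * a⁻¹ ∈ H) (i : ℕ) :
    ∀ x ∈ H, (x * a) ^ i * (a ^ i)⁻¹ ∈ H := by
  induction i with
  | zero => intro x _; simp
  | succ i ih =>
    intro x hx
    have h1 := ih x hx
    have h2 := pow_conj_mem ha i x hx
    have := H.mul_mem h1 h2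
    have e : (x * a) ^ (i + 1) * (a ^ (i + 1))⁻¹ =
        (x * a) ^ i * (a ^ i)⁻¹ * (a ^ i * x * (a ^ i)⁻¹) := by
      rw [pow_succ, pow_succ]; group
    rw [e]; exact this

/-- The averaging lemma: if all "norms" `∏ i < p, ρ((x a)^i)` for `x ∈ H` vanish on the abelian
group `A`, where `a` normalises `H` and the `x a` have order dividing `p`, and `|H|` is coprime to
`|A|`, then `H` acts trivially on `A`. -/
theorem averaging (ρ : Γ →* MulAut A) (H : Subgroup Γ) [Finite H] (a : Γ) {p : ℕ} (hp : p.Prime)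
    (hnorm : ∀ x ∈ H, a * x * a⁻¹ ∈ H)
    (hpow : ∀ x ∈ H, (x * a) ^ p = 1)
    (hN : ∀ x ∈ H, ∀ v : A, ∏ i ∈ Finset.range p, ρ ((x * a) ^ i) v = 1)
    (hcop : (Nat.card H).Coprime (Nat.card A)) :
    ∀ h ∈ H, ∀ v : A, ρ h v = v := by
  classical
  haveI : Fintype H := Fintype.ofFinite H
  -- the trace map
  have hτ : ∀ (h : Γ) (_ : h ∈ H) (w : A), ρ h (∏ x : H, ρ (x : Γ) w) = ∏ x : H, ρ (x : Γ) w := by
    intro h hh w
    rw [map_prod]
    have e : ∀ x : H, ρ h (ρ (x : Γ) w) = ρ (((⟨h, hh⟩ : H) * x : H) : Γ) w := by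
      intro x
      rw [Subgroup.coe_mul, map_mul, MulAut.mul_apply]
    simp only [e]
    exact Function.Bijective.prod_comp (Group.mulLeft_bijective (⟨h, hh⟩ : H))
      (fun x : H => ρ (x : Γ) w)
  -- reindexing
  have hre : ∀ i : ℕ, ¬ p ∣ i → ∀ v : A,
      ∏ x : H, ρ (((x : Γ) * a) ^ i) v = ∏ x : H, ρ (x : Γ) (ρ (a ^ i) v) := by
    intro i hi v
    let β : H → H := fun x => ⟨((x : Γ) * a) ^ i * (a ^ i)⁻¹, mul_pow_mul_inv_mem hnorm i x x.2⟩
    have hβinj : Function.Injective β := by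
      intro x x' hxx
      have h1 : ((x : Γ) * a) ^ i = ((x' : Γ) * a) ^ i := by
        have := congrArg Subtype.val hxx
        exact mul_right_cancel this
      have hco : Nat.Coprime i p := ((Nat.Prime.coprime_iff_not_dvd hp).2 hi).symm
      obtain ⟨j, -, hj⟩ := Nat.exists_mul_mod_eq_one_of_coprime hco hp.one_lt
      have key : ∀ y : Γ, y ^ p = 1 → y = (y ^ i) ^ j := by
        intro y hy
        rw [← pow_mul, pow_eq_pow_mod (i * j) hy, hj, pow_one]
      have h2 : (x : Γ) * a = (x' : Γ) * a := by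
        rw [key _ (hpow x x.2), key _ (hpow x' x'.2), h1]
      exact Subtype.ext (mul_right_cancel h2)
    have hβ : Function.Bijective β := Finite.injective_iff_bijective.1 hβinj
    have e : ∀ x : H, ρ (((x : Γ) * a) ^ i) v = ρ ((β x : H) : Γ) (ρ (a ^ i) v) := by
      intro x
      rw [← MulAut.mul_apply, ← map_mul]
      congr 2
      change ((x : Γ) * a) ^ i = ((x : Γ) * a) ^ i * (a ^ i)⁻¹ * a ^ i
      group
    simp only [e]
    exact Function.Bijective.prod_comp hβ (fun x : H => ρ (x : Γ) (ρ (a ^ i) v))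
  obtain ⟨p', rfl⟩ : ∃ p', p = p' + 1 := ⟨p - 1, by have := hp.two_le; omega⟩
  -- the total product
  have htot : ∀ v : A, v ^ Nat.card H *
      ∏ i ∈ Finset.range p', ∏ x : H, ρ (x : Γ) (ρ (a ^ (i + 1)) v) = 1 := by
    intro v
    have h2 : ∏ i ∈ Finset.range (p' + 1), ∏ x : H, ρ (((x : Γ) * a) ^ i) v = 1 := by
      rw [Finset.prod_comm]
      exact Finset.prod_eq_one (fun x _ => hN x x.2 v)
    rw [Finset.prod_range_succ'] at h2
    have e0 : ∏ x : H, ρ (((x : Γ) * a) ^ 0) v = v ^ Nat.card H := by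
      simp [Nat.card_eq_fintype_card]
    have e1 : ∏ i ∈ Finset.range p', ∏ x : H, ρ (((x : Γ) * a) ^ (i + 1)) v =
        ∏ i ∈ Finset.range p', ∏ x : H, ρ (x : Γ) (ρ (a ^ (i + 1)) v) := by
      apply Finset.prod_congr rfl
      intro i hi
      rw [Finset.mem_range] at hi
      apply hre
      intro hdvd
      have := Nat.le_of_dvd (by omega) hdvd
      omega
    rw [e0, e1, mul_comm] at h2
    exact h2
  intro h hh v
  have hfix : ρ h (v ^ Nat.card H) = v ^ Nat.card H := by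
    have h1 := htot v
    rw [mul_eq_one_iff_eq_inv] at h1
    rw [h1, map_inv, map_prod]
    congr 1
    apply Finset.prod_congr rfl
    intro i _
    exact hτ h hh _
  rw [map_pow] at hfix
  have h3 : (ρ h v * v⁻¹) ^ Nat.card H = 1 := by
    rw [mul_pow, hfix, inv_pow, mul_inv_cancel]
  have h4 : orderOf (ρ h v * v⁻¹) ∣ Nat.card H := orderOf_dvd_of_pow_eq_one h3
  have h5 : orderOf (ρ h v * v⁻¹) ∣ Nat.card A := orderOf_dvd_natCard _
  have h6 : orderOf (ρ h v * v⁻¹) = 1 := Nat.eq_one_of_dvd_coprimes hcop h4 h5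
  rw [orderOf_eq_one_iff, mul_inv_eq_one] at h6
  exact h6

end Abstract

section Concrete

variable {p : ℕ} {Γ : Type u} [Group Γ] {G : Subgroup Γ}

/-- **Averaging**: in the situation `HT p Γ G`, let `V ≤ G` be an abelian normal subgroup of `Γ`
and `H ≤ G` a subgroup of order prime to `|V|` normalised by some `a ∉ G`. Then `H` centralises
`V`. -/
theorem HT.centralizes_of_normalizes [hp : Fact p.Prime] [Finite Γ] (h : HT p Γ G)
    (V : Subgroup Γ) [V.Normal] (hVG : V ≤ G) (hVc : ∀ x ∈ V, ∀ y ∈ V, x * y = y * x)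
    (H : Subgroup Γ) (hHG : H ≤ G) (a : Γ) (ha : a ∉ G) (hnorm : ∀ x ∈ H, a * x * a⁻¹ ∈ H)
    (hcop : (Nat.card H).Coprime (Nat.card V)) : ∀ x ∈ H, ∀ v ∈ V, x * v = v * x := by
  letI : CommGroup V := { (inferInstance : Group V) with
    mul_comm := fun a b => Subtype.ext (hVc a a.2 b b.2) }
  have hmul : ∀ a b : V, ((a * b : V) : Γ) = (a : Γ) * (b : Γ) := fun a b => rfl
  have hkey : ∀ (v : V) (y : Γ) (k : ℕ), ((v : Γ) * y) ^ k =
      ((∏ i ∈ Finset.range k, (MulAut.conjNormal (H := V) (y ^ i)) v : V) : Γ) * y ^ k := by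
    intro v y k
    induction k with
    | zero =>
      simp only [pow_zero, Finset.range_zero, Finset.prod_empty, mul_one]
      rfl
    | succ k ih =>
      rw [pow_succ, ih, Finset.prod_range_succ, hmul, MulAut.conjNormal_apply, pow_succ]
      group
  have hN : ∀ y : Γ, y ∉ G → ∀ v : V,
      ∏ i ∈ Finset.range p, (MulAut.conjNormal (H := V) (y ^ i)) v = 1 := by
    intro y hy v
    have h1 := hkey v y p
    have hvy : (v : Γ) * y ∉ G := h.mul_not_mem (hVG v.2) hy
    rw [h.pow _ hvy, h.pow _ hy, mul_one] at h1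
    exact Subtype.ext h1.symm
  have key := averaging (A := V) (MulAut.conjNormal (H := V)) H a hp.out hnorm
    (fun x hx => h.pow _ (h.mul_not_mem (hHG hx) ha))
    (fun x hx v => by
      have := hN (x * a) (h.mul_not_mem (hHG hx) ha) v
      exact this)
    hcop
  intro x hx v hv
  have h1 := congrArg Subtype.val (key x hx ⟨v, hv⟩)
  rw [MulAut.conjNormal_apply] at h1
  calc x * v = (x * v * x⁻¹) * x := by group
    _ = v * x := by rw [h1]

end Concrete

end Cfsg.Agent.Helper20
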