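import Mathlib
import Cfsg.Agent.Lib.Helper20.SplitAut2
import Cfsg.Agent.Lib.Helper7.Coprime
import Cfsg.Agent.Lib.Helper21.PiSubgroup

/-!
# Splitting automorphisms: the key commutation lemma and a nilpotency criterion (helper20)
-/

set_option autoImplicit false

namespace Cfsg.Agent.Helper20

universe u

open scoped commutatorElement

/-- A finite group in which elements of coprime prime-power orders commute is nilpotent. -/
theorem isNilpotent_of_commute_of_coprime_primePow {X : Type*} [Group X] [Finite X]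
    (hc : ∀ (q r : ℕ) (x y : X), q.Prime → r.Prime → q ≠ r → (∃ k, orderOf x = q ^ k) →
      (∃ l, orderOf y = r ^ l) → x * y = y * x) : Group.IsNilpotent X := by
  apply (Group.isNilpotent_of_finite_tfae (G := X)).out 3 0 |>.1
  intro r hr P
  rw [← Subgroup.normalizer_eq_top_iff, ← Subgroup.index_eq_one,
    Nat.eq_one_iff_not_exists_prime_dvd]
  intro q hq hdvd
  haveI : Fact q.Prime := ⟨hq⟩
  by_cases hqr : q = r
  · subst hqr
    have h1 : (Subgroup.normalizer ((P : Subgroup X) : Set X)).index ∣ (P : Subgroup X).index :=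
      Subgroup.index_dvd_of_le Subgroup.le_normalizer
    exact P.not_dvd_index (hdvd.trans h1)
  · obtain ⟨Q⟩ : Nonempty (Sylow q X) := inferInstance
    have hle : (Q : Subgroup X) ≤ Subgroup.normalizer ((P : Subgroup X) : Set X) := by
      refine le_trans ?_ (Subgroup.centralizer_le_normalizer _)
      intro x hx
      rw [Subgroup.mem_centralizer_iff]
      intro y hy
      have hxo : ∃ k, orderOf x = q ^ k := by
        obtain ⟨k, hk⟩ := (IsPGroup.iff_orderOf.1 Q.isPGroup') ⟨x, hx⟩
        rw [Subgroup.orderOf_mk] at hk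
        exact ⟨k, hk⟩
      have hyo : ∃ l, orderOf y = r ^ l := by
        obtain ⟨k, hk⟩ := (IsPGroup.iff_orderOf.1 P.isPGroup') ⟨y, hy⟩
        rw [Subgroup.orderOf_mk] at hk
        exact ⟨k, hk⟩
      exact (hc q r x y hq hr.out hqr hxo hyo).symm
    exact Q.not_dvd_index (hdvd.trans (Subgroup.index_dvd_of_le hle))

section KeyLemma

variable {p : ℕ} {Γ : Type u} [Group Γ] {G : Subgroup Γ}

/-- **Key lemma**: in the situation `HT p Γ G` with the induction hypothesis for smaller groups,
a nilpotent normal subgroup `N ≤ G` of `Γ` commutes elementwise with every subgroup `H ≤ G` of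
coprime order that is normalised by some element outside `G`. -/
theorem HT.commute_of_nilpotent_normal [hp : Fact p.Prime] [Finite Γ] (h : HT p Γ G)
    (ih : ∀ (Γ' : Type u) [Group Γ'] [Finite Γ'] (G' : Subgroup Γ'),
      Nat.card Γ' < Nat.card Γ → HT p Γ' G' → Group.IsNilpotent G')
    (N : Subgroup Γ) [hNn : N.Normal] (hNG : N ≤ G) (hNnil : Group.IsNilpotent N)
    (H : Subgroup Γ) (hHG : H ≤ G) (hcop : (Nat.card H).Coprime (Nat.card N))
    (a : Γ) (ha : a ∉ G) (hnorm : ∀ x ∈ H, a * x * a⁻¹ ∈ H) :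
    ∀ n ∈ N, ∀ x ∈ H, n * x = x * n := by
  by_cases hN1 : N = ⊥
  · intro n hn x _
    rw [hN1, Subgroup.mem_bot] at hn
    rw [hn, one_mul, mul_one]
  haveI : Nontrivial N := (Subgroup.nontrivial_iff_ne_bot N).2 hN1
  obtain ⟨V, hVdef⟩ : ∃ V : Subgroup Γ, V = (Subgroup.center N).map N.subtype := ⟨_, rfl⟩
  haveI hVn : V.Normal := by rw [hVdef]; infer_instance
  have hVN : V ≤ N := by
    rw [hVdef]
    rintro _ ⟨z, _, rfl⟩
    exact z.2
  have hV1 : V ≠ ⊥ := by
    rw [hVdef]
    intro hb
    rw [Subgroup.map_eq_bot_iff_of_injective _ N.subtype_injective] at hb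
    exact Group.IsNilpotent.center_ne_bot N hb
  have hVc : ∀ x ∈ V, ∀ y ∈ V, x * y = y * x := by
    rw [hVdef]
    rintro _ ⟨z, hz, rfl⟩ _ ⟨w, _, rfl⟩
    have := Subgroup.mem_center_iff.1 hz w
    exact (congrArg Subtype.val this).symm
  -- step 1: commutators lie in `V`
  have hquot : ∀ n ∈ N, ∀ x ∈ H, n * x * n⁻¹ * x⁻¹ ∈ V := by
    intro n hn x hx
    have hHT' := h.quotient V (hVN.trans hNG)
    have hcard : Nat.card (Γ ⧸ V) < Nat.card Γ := by
      have h1 := Subgroup.card_eq_card_quotient_mul_card_subgroup V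
      have h2 : 1 < Nat.card V := by
        rw [Subgroup.one_lt_card_iff_ne_bot]; exact hV1
      have h3 : 0 < Nat.card (Γ ⧸ V) := Nat.card_pos
      rw [h1]
      nlinarith
    have hnil := ih (Γ ⧸ V) _ hcard hHT'
    have hco : (orderOf (QuotientGroup.mk' V n)).Coprime (orderOf (QuotientGroup.mk' V x)) := by
      have h1 : orderOf (QuotientGroup.mk' V n) ∣ Nat.card N :=
        (orderOf_map_dvd _ n).trans (Subgroup.orderOf_dvd_natCard N hn)
      have h2 : orderOf (QuotientGroup.mk' V x) ∣ Nat.card H :=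
        (orderOf_map_dvd _ x).trans (Subgroup.orderOf_dvd_natCard H hx)
      exact Nat.Coprime.coprime_dvd_left h1 (Nat.Coprime.coprime_dvd_right h2 hcop.symm)
    have hcm := Cfsg.Agent.Helper21.commute_of_mem_of_nilpotent hnil
      (Subgroup.mem_map_of_mem (QuotientGroup.mk' V) (hNG hn))
      (Subgroup.mem_map_of_mem (QuotientGroup.mk' V) (hHG hx)) hco
    rw [← QuotientGroup.eq_one_iff]
    change QuotientGroup.mk' V (n * x * n⁻¹ * x⁻¹) = 1
    rw [map_mul, map_mul, map_mul, hcm, map_inv, map_inv]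
    group
  -- step 2: `H` centralises `V`
  have hcopV : (Nat.card H).Coprime (Nat.card V) :=
    Nat.Coprime.coprime_dvd_right (Subgroup.card_dvd_of_le hVN) hcop
  have hcent := h.centralizes_of_normalizes V (hVN.trans hNG) hVc H hHG a ha hnorm hcopV
  -- step 3
  have h3 : ⁅⁅N, H⁆, H⁆ = ⊥ := by
    rw [Subgroup.commutator_eq_bot_iff_le_centralizer, Subgroup.commutator_le]
    intro n hn x hx
    rw [Subgroup.mem_centralizer_iff]
    intro y hy
    have hv : ⁅n, x⁆ ∈ V := by
      rw [commutatorElement_def]; exact hquot n hn x hx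
    exact (hcent y hy _ hv)
  have hHN : H ≤ Subgroup.normalizer (N : Set Γ) := by
    rw [Subgroup.normalizer_eq_top]; exact le_top
  have h4 := Cfsg.Agent.Helper7.le_centralizer_of_commutator_commutator_eq_bot hcop hHN h3
  intro n hn x hx
  have := h4 hn
  rw [Subgroup.mem_centralizer_iff] at this
  exact (this x hx).symm

end KeyLemma

end Cfsg.Agent.Helper20
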