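import Mathlib
import Cfsg.Agent.Lib.Helper20.SplitAut3

/-!
# Splitting automorphisms: the case of a nontrivial normal `p`-subgroup (helper20)
-/

set_option autoImplicit false

namespace Cfsg.Agent.Helper20

universe u

variable {p : ℕ} {Γ : Type u} [Group Γ] {G : Subgroup Γ}

/-- An element of `G` of `q`-power order, `q ≠ p`, centralises every normal `p`-subgroup `D ≤ G`
of `Γ`. -/
theorem HT.centralizes_pSubgroup [hp : Fact p.Prime] [Finite Γ] (h : HT p Γ G)
    (ih : ∀ (Γ' : Type u) [Group Γ'] [Finite Γ'] (G' : Subgroup Γ'),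
      Nat.card Γ' < Nat.card Γ → HT p Γ' G' → Group.IsNilpotent G')
    (D : Subgroup Γ) [D.Normal] (hDG : D ≤ G) (hDp : IsPGroup p D)
    {q : ℕ} (hq : q.Prime) (hqp : q ≠ p) {x : Γ} (hx : x ∈ G) (hxo : ∃ k, orderOf x = q ^ k) :
    ∀ d ∈ D, d * x = x * d := by
  haveI : Fact q.Prime := ⟨hq⟩
  haveI := h.normal
  obtain ⟨k, hk⟩ := hxo
  have hzp : IsPGroup q (Subgroup.zpowers (⟨x, hx⟩ : G)) := by
    apply IsPGroup.of_card (n := k)
    rw [Nat.card_zpowers, Subgroup.orderOf_mk, hk]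
  obtain ⟨Q, hQ⟩ := hzp.exists_le_sylow
  obtain ⟨H, hH⟩ : ∃ H : Subgroup Γ, H = (Q : Subgroup G).map G.subtype := ⟨_, rfl⟩
  have hxH : x ∈ H := by
    rw [hH]
    exact ⟨⟨x, hx⟩, hQ (Subgroup.mem_zpowers _), rfl⟩
  have hHG : H ≤ G := by
    rw [hH]
    rintro _ ⟨y, _, rfl⟩
    exact y.2
  have hHcard : Nat.card H = Nat.card (Q : Subgroup G) := by
    rw [hH]
    exact Nat.card_congr
      ((Q : Subgroup G).equivMapOfInjective G.subtype G.subtype_injective).symm.toEquiv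
  have hcop : (Nat.card H).Coprime (Nat.card D) := by
    obtain ⟨m, hm⟩ := IsPGroup.iff_card.1 Q.isPGroup'
    obtain ⟨j, hj⟩ := IsPGroup.iff_card.1 hDp
    rw [hHcard, hm, hj]
    exact Nat.Coprime.pow _ _ ((Nat.coprime_primes hq hp.out).2 hqp)
  -- Frattini
  have hfr : Subgroup.normalizer (H : Set Γ) ⊔ G = ⊤ := by
    rw [hH]; exact Sylow.normalizer_sup_eq_top Q
  obtain ⟨a, haN, haG⟩ : ∃ a ∈ Subgroup.normalizer (H : Set Γ), a ∉ G := by
    by_contra hcon
    push Not at hcon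
    have : Subgroup.normalizer (H : Set Γ) ≤ G := hcon
    rw [sup_eq_right.2 this] at hfr
    exact h.ne_top hfr
  have hnorm : ∀ y ∈ H, a * y * a⁻¹ ∈ H := fun y hy =>
    (Subgroup.mem_normalizer_iff.1 haN y).1 hy
  haveI : Finite D := inferInstance
  have hDnil : Group.IsNilpotent D := hDp.isNilpotent
  exact fun d hd => h.commute_of_nilpotent_normal ih D hDG hDnil H hHG hcop a haG hnorm d hd x hxH

/-- **Case B**: if `G` contains a nontrivial normal `p`-subgroup of `Γ`, then `G` is nilpotent. -/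
theorem HT.nilpotent_of_normal_pSubgroup [hp : Fact p.Prime] [Finite Γ] (h : HT p Γ G)
    (ih : ∀ (Γ' : Type u) [Group Γ'] [Finite Γ'] (G' : Subgroup Γ'),
      Nat.card Γ' < Nat.card Γ → HT p Γ' G' → Group.IsNilpotent G')
    (D : Subgroup Γ) [D.Normal] (hDG : D ≤ G) (hDp : IsPGroup p D) (hD1 : D ≠ ⊥) :
    Group.IsNilpotent G := by
  -- the quotient by `D` is nilpotent
  have hHT' := h.quotient D hDG
  have hcard : Nat.card (Γ ⧸ D) < Nat.card Γ := by
    have h1 := Subgroup.card_eq_card_quotient_mul_card_subgroup D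
    have h2 : 1 < Nat.card D := by
      rw [Subgroup.one_lt_card_iff_ne_bot]; exact hD1
    have h3 : 0 < Nat.card (Γ ⧸ D) := Nat.card_pos
    rw [h1]
    nlinarith
  have hnil := ih (Γ ⧸ D) _ hcard hHT'
  -- main claim in `Γ`
  have main : ∀ (q r : ℕ) (x y : Γ), q.Prime → r.Prime → q ≠ r → q ≠ p → x ∈ G → y ∈ G →
      (∃ k, orderOf x = q ^ k) → (∃ l, orderOf y = r ^ l) → x * y = y * x := by
    intro q r x y hq hr hqr hqp hx hy hxo hyo
    have hcent := h.centralizes_pSubgroup ih D hDG hDp hq hqp hx hxo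
    have hco : (orderOf (QuotientGroup.mk' D x)).Coprime (orderOf (QuotientGroup.mk' D y)) := by
      obtain ⟨k, hk⟩ := hxo
      obtain ⟨l, hl⟩ := hyo
      have h1 : orderOf (QuotientGroup.mk' D x) ∣ q ^ k := hk ▸ orderOf_map_dvd _ x
      have h2 : orderOf (QuotientGroup.mk' D y) ∣ r ^ l := hl ▸ orderOf_map_dvd _ y
      exact Nat.Coprime.coprime_dvd_left h1 (Nat.Coprime.coprime_dvd_right h2
        (Nat.Coprime.pow _ _ ((Nat.coprime_primes hq hr).2 hqr)))
    have hcm := Cfsg.Agent.Helper21.commute_of_mem_of_nilpotent hnil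
      (Subgroup.mem_map_of_mem (QuotientGroup.mk' D) hx)
      (Subgroup.mem_map_of_mem (QuotientGroup.mk' D) hy) hco
    have hz : y⁻¹ * (x * y * x⁻¹) ∈ D := by
      rw [← QuotientGroup.eq_one_iff]
      change QuotientGroup.mk' D (y⁻¹ * (x * y * x⁻¹)) = 1
      rw [map_mul, map_mul, map_mul, hcm, map_inv, map_inv]
      group
    have hza : x * (y⁻¹ * (x * y * x⁻¹)) * x⁻¹ = y⁻¹ * (x * y * x⁻¹) := by
      rw [← hcent _ hz]; group
    have hcop : (orderOf x).Coprime (orderOf (y⁻¹ * (x * y * x⁻¹))) := by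
      obtain ⟨k, hk⟩ := hxo
      obtain ⟨j, hj⟩ := IsPGroup.iff_card.1 hDp
      have h2 : orderOf (y⁻¹ * (x * y * x⁻¹)) ∣ p ^ j := hj ▸ Subgroup.orderOf_dvd_natCard D hz
      rw [hk]
      exact Nat.Coprime.coprime_dvd_right h2
        (Nat.Coprime.pow _ _ ((Nat.coprime_primes hq hp.out).2 hqp))
    have := Cfsg.Agent.Helper7.conj_eq_self_of_coprime x y (isOfFinOrder_of_finite x) hza hcop
    calc x * y = (x * y * x⁻¹) * x := by group
      _ = y * x := by rw [this]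
  apply isNilpotent_of_commute_of_coprime_primePow
  intro q r x y hq hr hqr hxo hyo
  have hxo' : ∃ k, orderOf (x : Γ) = q ^ k := by
    obtain ⟨k, hk⟩ := hxo; exact ⟨k, by rw [Subgroup.orderOf_coe]; exact hk⟩
  have hyo' : ∃ l, orderOf (y : Γ) = r ^ l := by
    obtain ⟨l, hl⟩ := hyo; exact ⟨l, by rw [Subgroup.orderOf_coe]; exact hl⟩
  apply Subtype.ext
  rw [Subgroup.coe_mul, Subgroup.coe_mul]
  by_cases hqp : q = p
  · have hrp : r ≠ p := fun hrp => hqr (hqp.trans hrp.symm)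
    exact (main r q y x hr hq (Ne.symm hqr) hrp y.2 x.2 hyo' hxo').symm
  · exact main q r x y hq hr hqr hqp x.2 y.2 hxo' hyo'

/-- **Case 2**: if a nontrivial normal subgroup `Z` of `Γ` meets `G` trivially, then `G` is a
`p`-group. -/
theorem HT.isPGroup_of_normal_disjoint (h : HT p Γ G) (Z : Subgroup Γ) [hZn : Z.Normal]
    (hZG : Z ⊓ G = ⊥) (hZ1 : Z ≠ ⊥) : IsPGroup p G := by
  haveI := h.normal
  obtain ⟨z, hz, hz1⟩ := (Subgroup.ne_bot_iff_exists_ne_one (H := Z)).1 hZ1 |>.imp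
    (fun z hz => hz) |> fun ⟨z, hz⟩ => (⟨(z : Γ), z.2, fun h1 => hz (Subtype.ext h1)⟩ :
      ∃ z : Γ, z ∈ Z ∧ z ≠ 1)
  have hzG : z ∉ G := by
    intro hc
    have : z ∈ Z ⊓ G := ⟨hz, hc⟩
    rw [hZG, Subgroup.mem_bot] at this
    exact hz1 this
  intro g
  refine ⟨1, ?_⟩
  rw [pow_one]
  have hcomm : (g : Γ) * z = z * g := by
    have h1 : (g : Γ) * z * (g : Γ)⁻¹ * z⁻¹ ∈ Z ⊓ G := by
      constructor
      · exact Z.mul_mem (hZn.conj_mem z hz g) (Z.inv_mem hz)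
      · have : (g : Γ) * z * (g : Γ)⁻¹ * z⁻¹ = (g : Γ) * (z * (g : Γ)⁻¹ * z⁻¹) := by group
        rw [this]
        exact G.mul_mem g.2 (h.normal.conj_mem _ (G.inv_mem g.2) z)
    rw [hZG, Subgroup.mem_bot] at h1
    calc (g : Γ) * z = ((g : Γ) * z * (g : Γ)⁻¹ * z⁻¹) * (z * g) := by group
      _ = z * g := by rw [h1, one_mul]
  have h2 : ((g : Γ) * z) ^ p = 1 := h.pow _ (h.mul_not_mem g.2 hzG)
  have hc : Commute (g : Γ) z := hcomm
  rw [hc.mul_pow, h.pow z hzG, mul_one] at h2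
  exact Subtype.ext h2

end Cfsg.Agent.Helper20
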