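import Mathlib
import Cfsg.Prelude.Def_Transfer
import Cfsg.Agent.Lib.Helper20.SplitAut4
import Cfsg.Agent.Lib.Helper24.NilpotentSplit
import Cfsg.Agent.Lib.Helper1.Complement
import Cfsg.Agent.Lib.Helper1.FpfThompson

/-!
# Splitting automorphisms: normal `p`-complements (helper20)
-/

set_option autoImplicit false

namespace Cfsg.Agent.Helper20

universe u

variable {p : ℕ} {Γ : Type u} [Group Γ] {G : Subgroup Γ}

/-- If `G` is nilpotent of index `p` in `Γ`, then `Γ` has a normal `p`-complement. -/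
theorem HT.hasNormalPComplement_of_nilpotent [hp : Fact p.Prime] [Finite Γ] (h : HT p Γ G)
    (hnil : Group.IsNilpotent G) : Cfsg.HasNormalPComplement p Γ := by
  haveI := h.normal
  obtain ⟨S⟩ : Nonempty (Sylow p G) := inferInstance
  obtain ⟨Q, hQc, hQcop, hQcomm⟩ := Cfsg.Agent.Helper24.exists_complement_centralizing p S
  obtain ⟨m, hm⟩ : ∃ m, m = Nat.card Q := ⟨_, rfl⟩
  have hQpow : ∀ x : G, x ∈ Q → x ^ m = 1 := by
    intro x hx
    have := pow_card_eq_one' (G := Q) (x := ⟨x, hx⟩)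
    rw [hm]
    exact congrArg Subtype.val this
  have hchar : ∀ x : G, x ∈ Q ↔ x ^ m = 1 := by
    intro x
    refine ⟨hQpow x, ?_⟩
    intro hx
    obtain ⟨s, hs, q, hq, rfl⟩ := Cfsg.Agent.Helper1.IsComplement'.exists_mul hQc x
    have hc : Commute s q := hQcomm s hs q hq
    rw [hc.mul_pow, hQpow q hq, mul_one] at hx
    have hs1 : s = 1 := by
      obtain ⟨k, hk⟩ := (IsPGroup.iff_orderOf.1 S.isPGroup') ⟨s, hs⟩
      rw [Subgroup.orderOf_mk] at hk
      have h1 : orderOf s ∣ m := orderOf_dvd_of_pow_eq_one hx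
      have h2 : (orderOf s).Coprime m := by
        rw [hk, hm]; exact Nat.Coprime.pow_left _ hQcop.symm
      have := Nat.Coprime.eq_one_of_dvd h2 h1
      exact orderOf_eq_one_iff.1 this
    rw [hs1, one_mul]; exact hq
  obtain ⟨K, hK⟩ : ∃ K : Subgroup Γ, K = Q.map G.subtype := ⟨_, rfl⟩
  have hKn : K.Normal := by
    constructor
    rw [hK]
    rintro _ ⟨x, hx, rfl⟩ g
    refine ⟨⟨g * x * g⁻¹, h.normal.conj_mem _ x.2 g⟩, ?_, rfl⟩
    rw [SetLike.mem_coe, hchar]
    apply Subtype.ext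
    have h1 := congrArg Subtype.val ((hchar x).1 hx)
    rw [Subgroup.coe_pow, Subgroup.coe_one] at h1
    rw [Subgroup.coe_pow, Subgroup.coe_one]
    change (g * (x : Γ) * g⁻¹) ^ m = 1
    rw [conj_pow, h1]; group
  have hKcard : Nat.card K = m := by
    rw [hK, hm]
    exact Nat.card_congr (Q.equivMapOfInjective G.subtype G.subtype_injective).symm.toEquiv
  obtain ⟨P⟩ : Nonempty (Sylow p Γ) := inferInstance
  refine ⟨P, K, hKn, ?_⟩
  obtain ⟨s, hs⟩ := IsPGroup.iff_card.1 S.isPGroup'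
  have hΓ : Nat.card Γ = p ^ (s + 1) * m := by
    have h1 := Subgroup.card_mul_index G
    have h2 := hQc.card_mul_card
    rw [h.index, ← h2, hs, ← hm] at h1
    rw [← h1, pow_succ]; ring
  have hcopm : (p ^ (s + 1)).Coprime m := by
    rw [hm]; exact Nat.Coprime.pow_left _ hQcop.symm
  have hPcard : Nat.card (P : Subgroup Γ) = p ^ (s + 1) := by
    obtain ⟨t, ht⟩ := IsPGroup.iff_card.1 P.isPGroup'
    apply Nat.dvd_antisymm
    · have h1 : Nat.card (P : Subgroup Γ) ∣ p ^ (s + 1) * m := by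
        rw [← hΓ]; exact Subgroup.card_subgroup_dvd_card _
      have h2 : (Nat.card (P : Subgroup Γ)).Coprime m := by
        rw [ht, hm]; exact Nat.Coprime.pow_left _ hQcop.symm
      exact h2.dvd_of_dvd_mul_right h1
    · exact P.pow_dvd_card_of_pow_dvd_card (by rw [hΓ]; exact Dvd.intro _ rfl)
  apply Subgroup.isComplement'_of_coprime
  · rw [hKcard, hPcard, hΓ, mul_comm]
  · rw [hKcard, hPcard]; exact hcopm.symm

/-- **Step 2**: if `Γ` has a normal `p`-complement then `G` is nilpotent. -/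
theorem HT.nilpotent_of_hasNormalPComplement [hp : Fact p.Prime] [Finite Γ] (h : HT p Γ G)
    (ih : ∀ (Γ' : Type u) [Group Γ'] [Finite Γ'] (G' : Subgroup Γ'),
      Nat.card Γ' < Nat.card Γ → HT p Γ' G' → Group.IsNilpotent G')
    (hc : Cfsg.HasNormalPComplement p Γ) : Group.IsNilpotent G := by
  haveI := h.normal
  obtain ⟨P, K, hKn, hKP⟩ := hc
  haveI := hKn
  -- `K` has order prime to `p`
  have hKcop : (Nat.card K).Coprime p := by
    have h1 : Nat.card K = (P : Subgroup Γ).index := by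
      have e1 := hKP.card_mul_card
      have e2 := Subgroup.card_mul_index (P : Subgroup Γ)
      rw [← e2, mul_comm] at e1
      exact Nat.eq_of_mul_eq_mul_left Nat.card_pos e1
    rw [h1]
    exact ((Nat.Prime.coprime_iff_not_dvd hp.out).2 P.not_dvd_index).symm
  have hKel : ∀ k ∈ K, k ^ p = 1 → k = 1 := by
    intro k hk hkp
    have h1 : orderOf k ∣ p := orderOf_dvd_of_pow_eq_one hkp
    have h2 : orderOf k ∣ Nat.card K := Subgroup.orderOf_dvd_natCard K hk
    have := Nat.Coprime.eq_one_of_dvd (Nat.Coprime.coprime_dvd_left h2 hKcop) h1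
    exact orderOf_eq_one_iff.1 this
  have hKG : K ≤ G := by
    intro k hk
    by_contra hkG
    have := hKel k hk (h.pow k hkG)
    apply hkG; rw [this]; exact G.one_mem
  -- an element of `P` outside `G`
  obtain ⟨a, haP, haG⟩ : ∃ a ∈ (P : Subgroup Γ), a ∉ G := by
    by_contra hcon
    push Not at hcon
    have hPG : (P : Subgroup Γ) ≤ G := hcon
    have h1 : G.index ∣ (P : Subgroup Γ).index := Subgroup.index_dvd_of_le hPG
    rw [h.index] at h1
    exact P.not_dvd_index h1
  -- `K` is nilpotent by Thompson's theorem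
  have hKnil : Group.IsNilpotent K := by
    refine Cfsg.Agent.Helper1.Fpf.fpf_nilpotent (MulAut.conjNormal (H := K) a) ?_ hp.out ?_
    · intro k hk
      have h1 : a * (k : Γ) * a⁻¹ = k := by
        have := congrArg Subtype.val hk
        rwa [MulAut.conjNormal_apply] at this
      have hcm : Commute (k : Γ) a := by
        change (k : Γ) * a = a * k
        calc (k : Γ) * a = (a * (k : Γ) * a⁻¹) * a := by rw [h1]
          _ = a * k := by group
      have h2 : ((k : Γ) * a) ^ p = 1 := h.pow _ (h.mul_not_mem (hKG k.2) haG)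
      rw [hcm.mul_pow, h.pow a haG, mul_one] at h2
      exact Subtype.ext (hKel k k.2 h2)
    · rw [← map_pow, h.pow a haG, map_one]
  -- the Sylow subgroup of `G`
  obtain ⟨P₀, hP₀⟩ : ∃ P₀ : Subgroup Γ, P₀ = (P : Subgroup Γ) ⊓ G := ⟨_, rfl⟩
  have hP₀G : P₀ ≤ G := by rw [hP₀]; exact inf_le_right
  have hP₀p : IsPGroup p P₀ := by
    rw [hP₀]; exact P.isPGroup'.to_le inf_le_left
  have hnorm : ∀ x ∈ P₀, a * x * a⁻¹ ∈ P₀ := by
    intro x hx
    rw [hP₀] at hx ⊢
    exact ⟨(P : Subgroup Γ).mul_mem ((P : Subgroup Γ).mul_mem haP hx.1)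
      ((P : Subgroup Γ).inv_mem haP), h.normal.conj_mem x hx.2 a⟩
  have hcop : (Nat.card P₀).Coprime (Nat.card K) := by
    obtain ⟨j, hj⟩ := IsPGroup.iff_card.1 hP₀p
    rw [hj]; exact Nat.Coprime.pow_left _ hKcop.symm
  have hcomm := h.commute_of_nilpotent_normal ih K hKG hKnil P₀ hP₀G hcop a haG hnorm
  -- `G = K P₀`
  have hprod : ∀ g ∈ G, ∃ k ∈ K, ∃ x ∈ P₀, g = k * x := by
    intro g hg
    obtain ⟨k, hk, x, hx, rfl⟩ := Cfsg.Agent.Helper1.IsComplement'.exists_mul hKP g
    refine ⟨k, hk, x, ?_, rfl⟩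
    rw [hP₀]
    refine ⟨hx, ?_⟩
    have := G.mul_mem (G.inv_mem (hKG hk)) hg
    rwa [inv_mul_cancel_left] at this
  haveI : Group.IsNilpotent K := hKnil
  haveI : Group.IsNilpotent P₀ := hP₀p.isNilpotent
  let φ : K × P₀ →* G := MonoidHom.noncommCoprod (Subgroup.inclusion hKG) (Subgroup.inclusion hP₀G)
    (fun k x => Subtype.ext (hcomm k k.2 x x.2))
  have hφ : Function.Surjective φ := by
    intro g
    obtain ⟨k, hk, x, hx, hg⟩ := hprod g g.2
    refine ⟨(⟨k, hk⟩, ⟨x, hx⟩), ?_⟩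
    apply Subtype.ext
    rw [hg]
    rfl
  exact Group.nilpotent_of_surjective φ hφ

end Cfsg.Agent.Helper20
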