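import Mathlib
import Cfsg.Agent.Lib.Helper20.SplitAut5
import Cfsg.Agent.S0658
import Cfsg.Agent.S0659

/-!
# Splitting automorphisms of prime order: the Hughes–Thompson–Kegel theorem (helper20)
-/

set_option autoImplicit false

namespace Cfsg.Agent.Helper20

universe u

/-- **Kegel's theorem** (internal form): if `G` is a normal subgroup of prime index `p` in the
finite group `Γ` and all elements of `Γ` outside `G` have order `p`, then `G` is nilpotent. -/
theorem HT.isNilpotent_aux (p : ℕ) [hp : Fact p.Prime] : ∀ (n : ℕ) (Γ : Type u) [Group Γ] [Finite Γ]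
    (G : Subgroup Γ), Nat.card Γ = n → HT p Γ G → Group.IsNilpotent G := by
  intro n
  induction n using Nat.strong_induction_on with
  | _ n ihn =>
  intro Γ _ _ G hcard h
  have ih : ∀ (Γ' : Type u) [Group Γ'] [Finite Γ'] (G' : Subgroup Γ'),
      Nat.card Γ' < Nat.card Γ → HT p Γ' G' → Group.IsNilpotent G' := by
    intro Γ' _ _ G' hlt h'
    exact ihn (Nat.card Γ') (hcard ▸ hlt) Γ' G' rfl h'
  haveI := h.normal
  by_cases hp2 : p = 2
  · subst hp2
    have hc := h.comm_of_two
    exact isNilpotent_of_commute_of_coprime_primePow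
      (fun q r x y _ _ _ _ _ => Subtype.ext (hc x x.2 y y.2))
  obtain ⟨P⟩ : Nonempty (Sylow p Γ) := inferInstance
  obtain ⟨a, haP, haG⟩ : ∃ a ∈ (P : Subgroup Γ), a ∉ G := by
    by_contra hcon
    push Not at hcon
    have hPG : (P : Subgroup Γ) ≤ G := hcon
    have h1 : G.index ∣ (P : Subgroup Γ).index := Subgroup.index_dvd_of_le hPG
    rw [h.index] at h1
    exact P.not_dvd_index h1
  have hP1 : (P : Subgroup Γ) ≠ ⊥ := by
    intro hb
    rw [hb, Subgroup.mem_bot] at haP
    apply haG; rw [haP]; exact G.one_mem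
  obtain ⟨Z, hZdef⟩ : ∃ Z : Subgroup Γ, Z = Cfsg.centerThompsonAOf (P : Subgroup Γ) := ⟨_, rfl⟩
  have hZ1 : Z ≠ ⊥ := by
    rw [hZdef]; exact Cfsg.Agent.S0658.centerThompsonAOf_ne_bot _ P.isPGroup' hP1
  have hZP : Z ≤ (P : Subgroup Γ) := by
    rw [hZdef]; exact Cfsg.Agent.S0658.centerThompsonAOf_le_self _
  by_cases hZn : Z.Normal
  · by_cases hZG : Z ⊓ G = ⊥
    · exact (h.isPGroup_of_normal_disjoint Z hZG hZ1).isNilpotent
    · haveI : (Z ⊓ G).Normal := inferInstance
      exact h.nilpotent_of_normal_pSubgroup ih (Z ⊓ G) inf_le_right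
        (P.isPGroup'.to_le (inf_le_left.trans hZP)) hZG
  · obtain ⟨N, hN⟩ : ∃ N : Subgroup Γ, N = Subgroup.normalizer (Z : Set Γ) := ⟨_, rfl⟩
    have hNtop : N ≠ ⊤ := by
      rw [hN]; exact fun ht => hZn (Subgroup.normalizer_eq_top_iff.1 ht)
    have hPN : (P : Subgroup Γ) ≤ N := by
      intro g hg
      rw [hN, Subgroup.mem_normalizer_iff_map_conj_eq, hZdef]
      have h1 := Cfsg.Agent.Helper4.ZJ.centerThompsonAOf_map (MulAut.conj g) (P : Subgroup Γ)
      have h2 : (P : Subgroup Γ).map (MulAut.conj g).toMonoidHom = (P : Subgroup Γ) := by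
        have := Subgroup.le_normalizer hg
        rwa [Subgroup.mem_normalizer_iff_map_conj_eq] at this
      rw [h2] at h1
      exact h1.symm
    have hNG : ¬ N ≤ G := fun hc => haG (hc (hPN haP))
    have hHT' := h.subgroup N hNG
    have hlt : Nat.card N < Nat.card Γ := by
      have h1 : N.index ≠ 1 := fun h1 => hNtop (Subgroup.index_eq_one.1 h1)
      have h2 := Subgroup.card_mul_index N
      have h3 : 0 < N.index := Nat.pos_of_ne_zero Subgroup.index_ne_zero_of_finite
      have h4 : 0 < Nat.card N := Nat.card_pos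
      rw [← h2]
      have : 2 ≤ N.index := by omega
      nlinarith
    have hnil := ih N _ hlt hHT'
    have hcompl := hHT'.hasNormalPComplement_of_nilpotent hnil
    rw [hN, hZdef] at hcompl
    have := Cfsg.Agent.S0659.result hp2 P hcompl
    exact h.nilpotent_of_hasNormalPComplement ih this

/-- **Kegel's theorem**: if `G` is a normal subgroup of prime index `p` in the finite group `Γ`
and all elements of `Γ` outside `G` have order `p`, then `G` is nilpotent. -/
theorem HT.isNilpotent {p : ℕ} [Fact p.Prime] {Γ : Type u} [Group Γ] [Finite Γ] {G : Subgroup Γ}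
    (h : HT p Γ G) : Group.IsNilpotent G :=
  HT.isNilpotent_aux p _ Γ G rfl h

end Cfsg.Agent.Helper20
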