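import Mathlib
import Cfsg.Prelude.Def_KGroupFacts
import Cfsg.Agent.Lib.Helper20.StemCyclic
import Cfsg.Agent.Lib.Helper20.StemBasic

set_option autoImplicit false

namespace Cfsg.Agent.Helper20

/-- If `c = s x s⁻¹ x⁻¹` is central then `s x^j s⁻¹ (x^j)⁻¹ = c^j`. -/
theorem comm_zpow_of_central {Γ : Type*} [Group Γ] (s x : Γ)
    (hc : s * x * s⁻¹ * x⁻¹ ∈ Subgroup.center Γ) (j : ℤ) :
    s * x ^ j * s⁻¹ * (x ^ j)⁻¹ = (s * x * s⁻¹ * x⁻¹) ^ j := by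
  set c := s * x * s⁻¹ * x⁻¹ with hcdef
  have h1 : s * x * s⁻¹ = c * x := by rw [hcdef]; group
  have hcomm : Commute c x := (Subgroup.mem_center_iff.mp hc x).symm
  have h2 : s * x ^ j * s⁻¹ = (s * x * s⁻¹) ^ j := by
    simp
  rw [h2, h1, hcomm.mul_zpow]
  group

/-- If `c = s x s⁻¹ x⁻¹` is central and `s ^ n` is central then `c ^ n = 1`. -/
theorem comm_pow_eq_one_of_central {Γ : Type*} [Group Γ] (s x : Γ)
    (hc : s * x * s⁻¹ * x⁻¹ ∈ Subgroup.center Γ) (n : ℕ) (hs : s ^ n ∈ Subgroup.center Γ) :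
    (s * x * s⁻¹ * x⁻¹) ^ n = 1 := by
  set c := s * x * s⁻¹ * x⁻¹ with hcdef
  have h1 : x * s⁻¹ * x⁻¹ = s⁻¹ * c := by rw [hcdef]; group
  have hcomm : Commute s⁻¹ c := (Subgroup.mem_center_iff.mp hc s⁻¹)
  have h2 : x * (s⁻¹) ^ n * x⁻¹ = (x * s⁻¹ * x⁻¹) ^ n := by
    simp
  have h3 : x * (s⁻¹) ^ n * x⁻¹ = (s⁻¹) ^ n := by
    have hz := Subgroup.mem_center_iff.mp hs
    rw [inv_pow]
    have : x * (s ^ n)⁻¹ = (s ^ n)⁻¹ * x := by
      have := hz x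
      calc x * (s ^ n)⁻¹ = (s ^ n)⁻¹ * (s ^ n * x) * (s ^ n)⁻¹ := by group
        _ = (s ^ n)⁻¹ * (x * s ^ n) * (s ^ n)⁻¹ := by rw [← this]
        _ = (s ^ n)⁻¹ * x := by group
    rw [this, mul_assoc, mul_inv_cancel, mul_one]
  rw [h2, h1, hcomm.mul_pow] at h3
  exact mul_eq_left.mp h3

/-- In a stem extension of an abelian group generated by `a` and `t`, the kernel is generated by
the commutator of lifts of `t` and `a`. -/
theorem stem_ker_le_zpowers_comm {Γ G : Type*} [Group Γ] [CommGroup G] (σ : Γ →* G)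
    (hσ : Cfsg.IsStemExtension σ) (a t : G) (hgen : ∀ x : G, ∃ i j : ℤ, x = t ^ i * a ^ j)
    (s x₀ : Γ) (hs : σ s = t) (hx₀ : σ x₀ = a) :
    s * x₀ * s⁻¹ * x₀⁻¹ ∈ σ.ker ∧ ∀ k ∈ σ.ker, k ∈ Subgroup.zpowers (s * x₀ * s⁻¹ * x₀⁻¹) := by
  have hck : s * x₀ * s⁻¹ * x₀⁻¹ ∈ σ.ker := by
    rw [MonoidHom.mem_ker]
    simp only [map_mul, map_inv, hs, hx₀]
    rw [mul_comm t a, mul_assoc a, mul_inv_cancel, mul_one, mul_inv_cancel]
  refine ⟨hck, ?_⟩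
  intro k hk
  have hC : (Subgroup.zpowers a).Normal := Subgroup.normal_of_isMulCommutative _
  have hG : ∀ x : G, ∃ i : ℤ, t ^ i * x ∈ Subgroup.zpowers a := by
    intro x
    obtain ⟨i, j, rfl⟩ := hgen x
    refine ⟨-i, ?_⟩
    rw [← mul_assoc, ← zpow_add, neg_add_cancel, zpow_zero, one_mul]
    exact Subgroup.zpow_mem_zpowers a j
  obtain ⟨r, hr, hkr, -⟩ := stem_ker_eq_comm σ hσ (Subgroup.zpowers a) t hG s hs k hk
  obtain ⟨j, hj⟩ := Subgroup.mem_zpowers_iff.mp hr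
  have h1 : σ r = σ (x₀ ^ j) := by rw [map_zpow, hx₀, hj]
  rw [hkr, comm_eq_of_map_eq σ hσ.2.1 s r (x₀ ^ j) h1,
    comm_zpow_of_central s x₀ (hσ.2.1 hck) j]
  exact Subgroup.zpow_mem_zpowers _ j

end Cfsg.Agent.Helper20
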