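import Mathlib
import Cfsg.Agent.Lib.Helper20.SubCountC
import Cfsg.Agent.Lib.Helper20.SubCountE

set_option autoImplicit false

/-! Subgroups of order `p^a` outside a fixed Sylow `p`-subgroup: the local counts. -/

namespace Cfsg.Agent.Helper20.SubCount

open scoped Pointwise

universe u

variable {G : Type u} [Group G] [Finite G] {p : ℕ} [Fact p.Prime]

/-- fixed points of a `p`-group acting by conjugation on the subgroups of order `k` of a
normalized subgroup -/
theorem card_normalized_modEq (Q M : Subgroup G) (hQ : IsPGroup p Q)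
    (hQM : Q ≤ Subgroup.normalizer (M : Set G)) (k : ℕ) :
    Nat.card {H : Subgroup G // (Nat.card H = k ∧ H ≤ M) ∧ Q ≤ Subgroup.normalizer (H : Set G)}
      ≡ cntIn M k [MOD p] := by
  classical
  haveI : Fintype (Subgroup G) := Fintype.ofFinite _
  letI := conjSubAct Q
  have hsplit := card_subtype_split (fun H : Subgroup G => Nat.card H = k ∧ H ≤ M)
    (fun H => Q ≤ Subgroup.normalizer (H : Set G))
  have hcnt : cntIn M k = Nat.card {H : Subgroup G // Nat.card H = k ∧ H ≤ M} := by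
    unfold cntIn
    exact Nat.card_congr (Equiv.subtypeEquivRight (fun H => and_comm))
  have hdvd : p ∣ Nat.card {H : Subgroup G //
      (Nat.card H = k ∧ H ≤ M) ∧ ¬ Q ≤ Subgroup.normalizer (H : Set G)} := by
    rw [card_subtype_eq_sum]
    have := Cfsg.Agent.Helper20.pow_dvd_sum_of_pgroup_action (Γ := ↥Q) (Y := Subgroup G) hQ
      (fun H => if ((Nat.card H = k ∧ H ≤ M) ∧ ¬ Q ≤ Subgroup.normalizer (H : Set G))
        then 1 else 0) 1 le_rfl ?_ ?_ ?_
    · rwa [pow_one] at this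
    · intro γ H
      have h1 : Nat.card ↥(γ • H : Subgroup G) = Nat.card H := card_conj_smul (γ : G) H
      have h2 : (γ • H : Subgroup G) ≤ M ↔ H ≤ M := conj_smul_le_iff_of_mem (hQM γ.2) H
      have h3 : Q ≤ Subgroup.normalizer ((γ • H : Subgroup G) : Set G)
          ↔ Q ≤ Subgroup.normalizer (H : Set G) := by
        have := conj_smul_le_normalizer_iff (γ : G) Q H
        rwa [Subgroup.conj_smul_eq_self_of_mem γ.2] at this
      simp only [h1, h2, h3]
    · intro H
      exact one_dvd _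
    · intro H hfix
      have : Q ≤ Subgroup.normalizer (H : Set G) :=
        fun x hx => conj_smul_eq_iff.mp (hfix ⟨x, hx⟩)
      rw [if_neg (fun h => h.2 this)]
      exact dvd_zero _
  rw [hcnt, hsplit]
  obtain ⟨c, hc⟩ := hdvd
  rw [hc]
  unfold Nat.ModEq
  rw [Nat.add_mul_mod_self_left]

/-- the relation used in the double count -/
def Rel (P : Subgroup G) (p k : ℕ) (H Q : Subgroup G) : Prop :=
  (Nat.card H = k ∧ ¬ H ≤ P) ∧
    (Nat.card Q = Nat.card P ∧ p * Nat.card ↥(Q ⊓ P : Subgroup G) = Nat.card P) ∧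
    H ≤ Q ∧ Q ≤ Subgroup.normalizer (H : Set G)

theorem rel_unique (P : Sylow p G) (a : ℕ) (H Q : Subgroup G)
    (h : Rel (P : Subgroup G) p (p ^ a) H Q) :
    p * Nat.card ↥(Subgroup.normalizer (H : Set G) ⊓ (P : Subgroup G) : Subgroup G)
        = Nat.card (P : Subgroup G)
      ∧ Q = H ⊔ (Subgroup.normalizer (H : Set G) ⊓ (P : Subgroup G)) := by
  have hp : p.Prime := Fact.out
  obtain ⟨⟨hHc, hHP⟩, ⟨hQc, hQP⟩, hHQ, hQN⟩ := h
  have hHp : IsPGroup p H := IsPGroup.of_card hHc
  set S : Subgroup G := Subgroup.normalizer (H : Set G) ⊓ (P : Subgroup G) with hS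
  have h1 : Q ⊓ (P : Subgroup G) ≤ S := le_inf (inf_le_left.trans hQN) inf_le_right
  have h2 : S ≤ (P : Subgroup G) := inf_le_right
  have hSne : S ≠ (P : Subgroup G) := by
    intro hSP
    apply hHP
    apply le_sylow_of_le_normalizer P H hHp
    rw [← hSP]
    exact inf_le_left
  have hSeq : S = Q ⊓ (P : Subgroup G) :=
    (eq_or_eq_of_card_mul hp h1 h2 hQP).resolve_right hSne
  refine ⟨by rw [hSeq]; exact hQP, ?_⟩
  have h3 : S ≤ H ⊔ S := le_sup_right
  have h4 : H ⊔ S ≤ Q := sup_le hHQ (hSeq ▸ inf_le_left)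
  have h5 : p * Nat.card S = Nat.card Q := by rw [hQc, hSeq]; exact hQP
  rcases eq_or_eq_of_card_mul hp h3 h4 h5 with h6 | h6
  · exfalso
    apply hHP
    have : H ≤ S := by rw [← h6]; exact le_sup_left
    exact this.trans h2
  · exact h6.symm

theorem rel_exists (P : Sylow p G) (a : ℕ) (H : Subgroup G) (hH : Nat.card H = p ^ a)
    (hHP : ¬ H ≤ (P : Subgroup G))
    (hS : p * Nat.card ↥(Subgroup.normalizer (H : Set G) ⊓ (P : Subgroup G) : Subgroup G)
      = Nat.card (P : Subgroup G)) :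
    Rel (P : Subgroup G) p (p ^ a) H
      (H ⊔ (Subgroup.normalizer (H : Set G) ⊓ (P : Subgroup G))) := by
  have hp : p.Prime := Fact.out
  have hHp : IsPGroup p H := IsPGroup.of_card hH
  set S : Subgroup G := Subgroup.normalizer (H : Set G) ⊓ (P : Subgroup G) with hSdef
  have hSP : S ≤ (P : Subgroup G) := inf_le_right
  have hSp : IsPGroup p S := P.isPGroup'.to_le hSP
  have hHS : IsPGroup p (H ⊔ S : Subgroup G) :=
    IsPGroup.to_sup_of_normal_left' hHp hSp inf_le_left
  obtain ⟨Q', hQ', hQ'c⟩ := exists_le_card_eq P (H ⊔ S) hHS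
  have h3 : S ≤ H ⊔ S := le_sup_right
  have hnot : ¬ H ≤ S := fun h => hHP (h.trans hSP)
  have hQeq : H ⊔ S = Q' := by
    rcases eq_or_eq_of_card_mul hp h3 hQ' (by rw [hQ'c]; exact hS) with h6 | h6
    · exfalso
      apply hnot
      rw [← h6]
      exact le_sup_left
    · exact h6
  have hcard : Nat.card ↥(H ⊔ S : Subgroup G) = Nat.card (P : Subgroup G) := by
    rw [hQeq]; exact hQ'c
  refine ⟨⟨hH, hHP⟩, ⟨hcard, ?_⟩, le_sup_left, sup_le Subgroup.le_normalizer inf_le_left⟩
  have h7 : S ≤ (H ⊔ S) ⊓ (P : Subgroup G) := le_inf le_sup_right hSP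
  have h8 : (H ⊔ S) ⊓ (P : Subgroup G) ≤ (P : Subgroup G) := inf_le_right
  rcases eq_or_eq_of_card_mul hp h7 h8 hS with h9 | h9
  · rw [h9]; exact hS
  · exfalso
    apply hHP
    have hPle : (P : Subgroup G) ≤ H ⊔ S := by rw [← h9]; exact inf_le_left
    have : (P : Subgroup G) = H ⊔ S := Subgroup.eq_of_le_of_card_ge hPle (le_of_eq hcard)
    rw [this]
    exact le_sup_left

/-- the fibers of the relation over the first coordinate -/
theorem card_rel_fiber (P : Sylow p G) (a : ℕ) (H : Subgroup G)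
    [Decidable ((Nat.card H = p ^ a ∧ ¬ H ≤ (P : Subgroup G)) ∧
      p * Nat.card ↥(Subgroup.normalizer (H : Set G) ⊓ (P : Subgroup G) : Subgroup G)
        = Nat.card (P : Subgroup G))] :
    Nat.card {Q : Subgroup G // Rel (P : Subgroup G) p (p ^ a) H Q}
      = if ((Nat.card H = p ^ a ∧ ¬ H ≤ (P : Subgroup G)) ∧
          p * Nat.card ↥(Subgroup.normalizer (H : Set G) ⊓ (P : Subgroup G) : Subgroup G)
            = Nat.card (P : Subgroup G)) then 1 else 0 := by
  split_ifs with hD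
  · rw [Nat.card_eq_one_iff_unique]
    refine ⟨⟨fun Q Q' => ?_⟩, ⟨⟨_, rel_exists P a H hD.1.1 hD.1.2 hD.2⟩⟩⟩
    apply Subtype.ext
    rw [(rel_unique P a H Q.1 Q.2).2, (rel_unique P a H Q'.1 Q'.2).2]
  · haveI : IsEmpty {Q : Subgroup G // Rel (P : Subgroup G) p (p ^ a) H Q} := by
      constructor
      rintro ⟨Q, hQ⟩
      exact hD ⟨hQ.1, (rel_unique P a H Q hQ).1⟩
    exact Nat.card_of_isEmpty

end Cfsg.Agent.Helper20.SubCount
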