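import Mathlib
import Cfsg.Agent.Lib.Helper20.SubCountF

set_option autoImplicit false

/-! The number of subgroups of order `p^a` of a finite group is congruent modulo `p^2` to the
number of such subgroups of a Sylow `p`-subgroup (when `p^(a+1)` divides the group order). -/

namespace Cfsg.Agent.Helper20.SubCount

open scoped Pointwise

universe u

variable {G : Type u} [Group G] [Finite G] {p : ℕ} [Fact p.Prime]

/-- the fibers over the second coordinate have size divisible by `p` -/
theorem prime_dvd_card_rel (P : Sylow p G) (n : ℕ) (hn : Nat.card (P : Subgroup G) = p ^ n)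
    (a : ℕ) (ha : a < n) (Q : Subgroup G) :
    p ∣ Nat.card {H : Subgroup G // Rel (P : Subgroup G) p (p ^ a) H Q} := by
  have hp : p.Prime := Fact.out
  by_cases hQ : Nat.card Q = Nat.card (P : Subgroup G) ∧
      p * Nat.card ↥(Q ⊓ (P : Subgroup G) : Subgroup G) = Nat.card (P : Subgroup G)
  · obtain ⟨hQc, hQP⟩ := hQ
    have hQn : Nat.card Q = p ^ n := hQc.trans hn
    have hQp : IsPGroup p Q := IsPGroup.of_card hQn
    set R : Subgroup G := Q ⊓ (P : Subgroup G) with hR
    obtain ⟨m, rfl⟩ : ∃ m, n = m + 1 := ⟨n - 1, by omega⟩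
    have hRc : Nat.card R = p ^ m := by
      rw [hn, pow_succ, mul_comm] at hQP
      exact Nat.eq_of_mul_eq_mul_right hp.pos hQP
    -- `R` is normal in `Q`
    have hQR : Q ≤ Subgroup.normalizer (R : Set G) := by
      rw [← Subgroup.normal_subgroupOf_iff_le_normalizer (inf_le_left : R ≤ Q)]
      apply Subgroup.normal_of_index_eq_minFac_card
      rw [hQn, hp.pow_minFac (Nat.succ_ne_zero m)]
      have h1 := Subgroup.card_mul_index (R.subgroupOf Q)
      rw [Nat.card_congr (Subgroup.subgroupOfEquivOfLe (inf_le_left : R ≤ Q)).toEquiv, hRc, hQn,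
        pow_succ] at h1
      exact Nat.eq_of_mul_eq_mul_left (pow_pos hp.pos m) h1
    have hu := card_normalized_modEq Q Q hQp Subgroup.le_normalizer (p ^ a)
    have hv := card_normalized_modEq Q R hQp hQR (p ^ a)
    rw [cntIn_eq_cnt] at hu hv
    have hu1 : cnt ↥Q (p ^ a) ≡ 1 [MOD p] := cnt_modEq_one (m + 1) ↥Q p hQn a (by omega)
    have hv1 : cnt ↥R (p ^ a) ≡ 1 [MOD p] := cnt_modEq_one m ↥R p hRc a (by omega)
    have hsplit := card_subtype_split
      (fun H : Subgroup G => (Nat.card H = p ^ a ∧ H ≤ Q) ∧ Q ≤ Subgroup.normalizer (H : Set G))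
      (fun H => H ≤ (P : Subgroup G))
    have e1 : Nat.card {H : Subgroup G //
        ((Nat.card H = p ^ a ∧ H ≤ Q) ∧ Q ≤ Subgroup.normalizer (H : Set G)) ∧
          H ≤ (P : Subgroup G)}
        = Nat.card {H : Subgroup G //
          (Nat.card H = p ^ a ∧ H ≤ R) ∧ Q ≤ Subgroup.normalizer (H : Set G)} := by
      apply Nat.card_congr
      apply Equiv.subtypeEquivRight
      intro H
      constructor
      · rintro ⟨⟨⟨h1, h2⟩, h3⟩, h4⟩
        exact ⟨⟨h1, le_inf h2 h4⟩, h3⟩
      · rintro ⟨⟨h1, h2⟩, h3⟩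
        exact ⟨⟨⟨h1, h2.trans inf_le_left⟩, h3⟩, h2.trans inf_le_right⟩
    have e2 : Nat.card {H : Subgroup G //
        ((Nat.card H = p ^ a ∧ H ≤ Q) ∧ Q ≤ Subgroup.normalizer (H : Set G)) ∧
          ¬ H ≤ (P : Subgroup G)}
        = Nat.card {H : Subgroup G // Rel (P : Subgroup G) p (p ^ a) H Q} := by
      apply Nat.card_congr
      apply Equiv.subtypeEquivRight
      intro H
      constructor
      · rintro ⟨⟨⟨h1, h2⟩, h3⟩, h4⟩
        exact ⟨⟨h1, h4⟩, ⟨hQc, hQP⟩, h2, h3⟩
      · rintro ⟨⟨h1, h4⟩, -, h2, h3⟩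
        exact ⟨⟨⟨h1, h2⟩, h3⟩, h4⟩
    rw [e1, e2] at hsplit
    rw [hsplit] at hu
    have h5 : Nat.card {H : Subgroup G //
          (Nat.card H = p ^ a ∧ H ≤ R) ∧ Q ≤ Subgroup.normalizer (H : Set G)}
        + Nat.card {H : Subgroup G // Rel (P : Subgroup G) p (p ^ a) H Q}
        ≡ Nat.card {H : Subgroup G //
          (Nat.card H = p ^ a ∧ H ≤ R) ∧ Q ≤ Subgroup.normalizer (H : Set G)} + 0 [MOD p] := by
      rw [add_zero]
      exact (hu.trans hu1).trans (hv.trans hv1).symm
    exact (Nat.modEq_zero_iff_dvd).mp (Nat.ModEq.add_left_cancel' _ h5)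
  · haveI : IsEmpty {H : Subgroup G // Rel (P : Subgroup G) p (p ^ a) H Q} := by
      constructor
      rintro ⟨H, hH⟩
      exact hQ hH.2.1
    rw [Nat.card_of_isEmpty]
    exact dvd_zero _

/-- invariance of the relation under conjugation by elements of the Sylow subgroup -/
theorem rel_conj_iff (P : Subgroup G) (k : ℕ) (g : G) (hg : g ∈ P) (H Q : Subgroup G) :
    Rel P p k (MulAut.conj g • H) (MulAut.conj g • Q) ↔ Rel P p k H Q := by
  have hgN : g ∈ Subgroup.normalizer (P : Set G) := Subgroup.le_normalizer hg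
  have hP : MulAut.conj g • P = P := conj_smul_eq_iff.mpr hgN
  have h1 : Nat.card ↥(MulAut.conj g • H : Subgroup G) = Nat.card H := card_conj_smul g H
  have h2 : MulAut.conj g • H ≤ P ↔ H ≤ P := conj_smul_le_iff_of_mem hgN H
  have h3 : Nat.card ↥(MulAut.conj g • Q : Subgroup G) = Nat.card Q := card_conj_smul g Q
  have h4 : Nat.card ↥(MulAut.conj g • Q ⊓ P : Subgroup G) = Nat.card ↥(Q ⊓ P : Subgroup G) := by
    conv_lhs => rw [← hP]
    rw [← Subgroup.smul_inf, card_conj_smul]
  have h5 : MulAut.conj g • H ≤ MulAut.conj g • Q ↔ H ≤ Q :=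
    Subgroup.pointwise_smul_le_pointwise_smul_iff
  have h6 := conj_smul_le_normalizer_iff g Q H
  unfold Rel
  rw [h1, h2, h3, h4, h5, h6]

theorem card_rel_conj (P : Subgroup G) (k : ℕ) (g : G) (hg : g ∈ P) (Q : Subgroup G) :
    Nat.card {H : Subgroup G // Rel P p k H (MulAut.conj g • Q)}
      = Nat.card {H : Subgroup G // Rel P p k H Q} := by
  symm
  apply Nat.card_congr
  exact (MulAction.toPerm (MulAut.conj g) : Equiv.Perm (Subgroup G)).subtypeEquiv
    (fun H => (rel_conj_iff P k g hg H Q).symm)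

/-- a subgroup normalized by the Sylow subgroup does not occur in the relation -/
theorem card_rel_of_fixed (P : Sylow p G) (n : ℕ) (hn : Nat.card (P : Subgroup G) = p ^ n)
    (k : ℕ) (Q : Subgroup G) (hfix : ∀ g ∈ (P : Subgroup G), MulAut.conj g • Q = Q) :
    Nat.card {H : Subgroup G // Rel (P : Subgroup G) p k H Q} = 0 := by
  have hp : p.Prime := Fact.out
  haveI : IsEmpty {H : Subgroup G // Rel (P : Subgroup G) p k H Q} := by
    constructor
    rintro ⟨H, -, ⟨hQc, hQP⟩, -, -⟩
    have hQp : IsPGroup p Q := IsPGroup.of_card (hQc.trans hn)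
    have hle : Q ≤ (P : Subgroup G) :=
      le_sylow_of_le_normalizer P Q hQp (fun g hg => conj_smul_eq_iff.mp (hfix g hg))
    rw [inf_eq_left.mpr hle, hQc] at hQP
    have hpos : 0 < Nat.card (P : Subgroup G) := Nat.card_pos
    have : p * Nat.card (P : Subgroup G) = 1 * Nat.card (P : Subgroup G) := by rw [one_mul, hQP]
    have := Nat.eq_of_mul_eq_mul_right hpos this
    exact hp.one_lt.ne' this
  exact Nat.card_of_isEmpty

theorem card_normalizer_inf_conj (P : Subgroup G) (g : G) (hg : g ∈ P) (H : Subgroup G) :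
    Nat.card ↥(Subgroup.normalizer ((MulAut.conj g • H : Subgroup G) : Set G) ⊓ P : Subgroup G)
      = Nat.card ↥(Subgroup.normalizer (H : Set G) ⊓ P : Subgroup G) := by
  have hgN : g ∈ Subgroup.normalizer (P : Set G) := Subgroup.le_normalizer hg
  have hP : MulAut.conj g • P = P := conj_smul_eq_iff.mpr hgN
  rw [normalizer_conj_smul]
  conv_lhs => rw [← hP]
  rw [← Subgroup.smul_inf, card_conj_smul]

/-- the subgroups of order `p^a` outside `P` whose `P`-orbit has more than `p` elements -/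
theorem sq_dvd_card_far (P : Sylow p G) (n : ℕ) (hn : Nat.card (P : Subgroup G) = p ^ n)
    (a : ℕ) :
    p ^ 2 ∣ Nat.card {H : Subgroup G // (Nat.card H = p ^ a ∧ ¬ H ≤ (P : Subgroup G)) ∧
      ¬ p * Nat.card ↥(Subgroup.normalizer (H : Set G) ⊓ (P : Subgroup G) : Subgroup G)
        = Nat.card (P : Subgroup G)} := by
  classical
  have hp : p.Prime := Fact.out
  haveI : Fintype (Subgroup G) := Fintype.ofFinite _
  letI := conjSubAct (P : Subgroup G)
  rw [card_subtype_eq_sum]
  apply dvd_sum_of_orbit (Γ := ↥(P : Subgroup G)) (Y := Subgroup G)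
  · intro γ H
    have hgN : (γ : G) ∈ Subgroup.normalizer ((P : Subgroup G) : Set G) :=
      Subgroup.le_normalizer γ.2
    have hP : MulAut.conj (γ : G) • (P : Subgroup G) = (P : Subgroup G) :=
      conj_smul_eq_iff.mpr hgN
    have h1 : Nat.card ↥(γ • H : Subgroup G) = Nat.card H := card_conj_smul (γ : G) H
    have h2 : (γ • H : Subgroup G) ≤ (P : Subgroup G) ↔ H ≤ (P : Subgroup G) :=
      conj_smul_le_iff_of_mem hgN H
    have h3 : Nat.card ↥(Subgroup.normalizer ((γ • H : Subgroup G) : Set G) ⊓ (P : Subgroup G) :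
        Subgroup G) = Nat.card ↥(Subgroup.normalizer (H : Set G) ⊓ (P : Subgroup G) :
        Subgroup G) := card_normalizer_inf_conj (P : Subgroup G) (γ : G) γ.2 H
    simp only [h1, h2, h3]
  · intro H
    split_ifs with hH
    · rw [mul_one]
      obtain ⟨⟨hHc, hHP⟩, hne⟩ := hH
      have hHp : IsPGroup p H := IsPGroup.of_card hHc
      have horb := card_orbit_mul (P : Subgroup G) H
      set S : Subgroup G := Subgroup.normalizer (H : Set G) ⊓ (P : Subgroup G) with hS
      have hSP : S ≤ (P : Subgroup G) := inf_le_right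
      have hSd : Nat.card S ∣ p ^ n := hn ▸ Subgroup.card_dvd_of_le hSP
      obtain ⟨j, hj, hjeq⟩ := (Nat.dvd_prime_pow hp).mp hSd
      have hj1 : j ≠ n := by
        rintro rfl
        apply hHP
        apply le_sylow_of_le_normalizer P H hHp
        have : S = (P : Subgroup G) :=
          Subgroup.eq_of_le_of_card_ge hSP (by rw [hjeq, hn])
        rw [← this]
        exact inf_le_left
      have hj2 : j + 1 ≠ n := by
        rintro rfl
        apply hne
        rw [hjeq, hn, pow_succ, mul_comm]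
      obtain ⟨t, rfl⟩ : ∃ t, n = j + 2 + t := ⟨n - (j + 2), by omega⟩
      rw [hn, hjeq] at horb
      have h5 : p ^ (j + 2 + t) = p ^ (2 + t) * p ^ j := by
        rw [← pow_add]; congr 1; omega
      rw [h5] at horb
      have h6 := Nat.eq_of_mul_eq_mul_right (pow_pos hp.pos j) horb
      change Nat.card (MulAction.orbit ↥(P : Subgroup G) H) = p ^ (2 + t) at h6
      rw [h6, pow_add]
      exact Dvd.intro _ rfl
    · rw [mul_zero]
      exact dvd_zero _

/-- **Reduction to the Sylow subgroup.** -/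
theorem cnt_modEq_sylow (P : Sylow p G) (n : ℕ) (hn : Nat.card (P : Subgroup G) = p ^ n)
    (a : ℕ) (ha : a < n) :
    cnt G (p ^ a) ≡ cnt ↥(P : Subgroup G) (p ^ a) [MOD p ^ 2] := by
  classical
  have hp : p.Prime := Fact.out
  haveI : Fintype (Subgroup G) := Fintype.ofFinite _
  have e1 : cnt G (p ^ a)
      = Nat.card {H : Subgroup G // Nat.card H = p ^ a ∧ H ≤ (P : Subgroup G)}
        + Nat.card {H : Subgroup G // Nat.card H = p ^ a ∧ ¬ H ≤ (P : Subgroup G)} :=
    card_subtype_split _ _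
  have e2 : Nat.card {H : Subgroup G // Nat.card H = p ^ a ∧ H ≤ (P : Subgroup G)}
      = cnt ↥(P : Subgroup G) (p ^ a) := by
    rw [← cntIn_eq_cnt]
    unfold cntIn
    exact Nat.card_congr (Equiv.subtypeEquivRight (fun H => and_comm))
  have e3 := card_subtype_split
    (fun H : Subgroup G => Nat.card H = p ^ a ∧ ¬ H ≤ (P : Subgroup G))
    (fun H => p * Nat.card ↥(Subgroup.normalizer (H : Set G) ⊓ (P : Subgroup G) : Subgroup G)
        = Nat.card (P : Subgroup G))
  have e4 := sq_dvd_card_far P n hn a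
  -- the double count
  have hdc := double_count (fun H Q : Subgroup G => Rel (P : Subgroup G) p (p ^ a) H Q)
  have e5 : Nat.card {H : Subgroup G // (Nat.card H = p ^ a ∧ ¬ H ≤ (P : Subgroup G)) ∧
      p * Nat.card ↥(Subgroup.normalizer (H : Set G) ⊓ (P : Subgroup G) : Subgroup G)
        = Nat.card (P : Subgroup G)}
      = ∑ Q : Subgroup G, Nat.card {H : Subgroup G // Rel (P : Subgroup G) p (p ^ a) H Q} := by
    rw [card_subtype_eq_sum, ← hdc]
    apply Finset.sum_congr rfl
    intro H _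
    exact (card_rel_fiber P a H).symm
  have e6 : p ^ 2 ∣
      ∑ Q : Subgroup G, Nat.card {H : Subgroup G // Rel (P : Subgroup G) p (p ^ a) H Q} := by
    letI := conjSubAct (P : Subgroup G)
    apply Cfsg.Agent.Helper20.pow_dvd_sum_of_pgroup_action (Γ := ↥(P : Subgroup G))
      (Y := Subgroup G) P.isPGroup' _ 2 (by norm_num)
    · intro γ Q
      exact card_rel_conj (P : Subgroup G) (p ^ a) (γ : G) γ.2 Q
    · intro Q
      rw [show 2 - 1 = 1 from rfl, pow_one]
      exact prime_dvd_card_rel P n hn a ha Q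
    · intro Q hfix
      rw [card_rel_of_fixed P n hn (p ^ a) Q (fun g hg => hfix ⟨g, hg⟩)]
      exact dvd_zero _
  rw [e1, e2, e3, e5]
  obtain ⟨c1, hc1⟩ := e6
  obtain ⟨c2, hc2⟩ := e4
  rw [hc1, hc2]
  unfold Nat.ModEq
  rw [← mul_add, Nat.add_mul_mod_self_left]

end Cfsg.Agent.Helper20.SubCount
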