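import Mathlib

set_option autoImplicit false

namespace Cfsg.Agent.Helper20

variable {G : Type*} [Group G]

/-- Orbit–stabilizer for the conjugation action of a subgroup `N` on an element `x`. -/
theorem card_conj_by_subgroup (N : Subgroup G) [Finite N] (x : G) :
    Nat.card {h : G // ∃ n ∈ N, h = n * x * n⁻¹} *
      Nat.card ↥(N ⊓ Subgroup.centralizer ({x} : Set G)) = Nat.card N := by
  let act : MulAction N G :=
    MulAction.compHom G ((MulAut.conj : G →* MulAut G).comp N.subtype)
  have hsmul : ∀ (n : N) (g : G), n • g = (n : G) * g * (n : G)⁻¹ := fun n g => rfl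
  have h1 := Nat.card_congr (MulAction.orbitProdStabilizerEquivGroup N x)
  rw [Nat.card_prod] at h1
  rw [← h1]
  congr 1
  · apply Nat.card_congr
    apply Equiv.subtypeEquivRight
    intro h
    constructor
    · rintro ⟨n, hn, rfl⟩
      exact ⟨⟨n, hn⟩, rfl⟩
    · rintro ⟨n, rfl⟩
      exact ⟨n, n.2, rfl⟩
  · apply Nat.card_congr
    refine
      { toFun := fun c => ⟨⟨c.1, c.2.1⟩, ?_⟩
        invFun := fun s => ⟨s.1.1, s.1.2, ?_⟩
        left_inv := fun c => rfl
        right_inv := fun s => rfl }
    · rw [MulAction.mem_stabilizer_iff, hsmul]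
      have hc : (c : G) ∈ Subgroup.centralizer ({x} : Set G) := c.2.2
      rw [Subgroup.mem_centralizer_singleton_iff] at hc
      change (c : G) * x * (c : G)⁻¹ = x
      rw [hc, mul_assoc, mul_inv_cancel, mul_one]
    · have hs := s.2
      rw [MulAction.mem_stabilizer_iff, hsmul] at hs
      change (s.1 : G) ∈ Subgroup.centralizer ({x} : Set G)
      rw [Subgroup.mem_centralizer_singleton_iff]
      calc (s.1 : G) * x = (s.1 : G) * x * (s.1 : G)⁻¹ * (s.1 : G) := by group
        _ = x * (s.1 : G) := by rw [hs]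

end Cfsg.Agent.Helper20
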