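import Mathlib
import Cfsg.Agent.Lib.Helper20.SuzAutC
import Cfsg.Agent.Lib.Helper2.SzSylow

set_option autoImplicit false

/-! Automorphisms of a group with the multiplication table of a Sylow 2-subgroup of a Suzuki
group: coordinates. -/

namespace Cfsg.Agent.Helper20.SuzAut

open Cfsg.Agent.Helper2.Sz

variable {F : Type*} [Field F] {m : ℕ} {S : SzData F m} {G : Type*} [Group G] (T : TData S G)

/-- first coordinate -/
noncomputable def c1 (x : G) : F := (T.surj x).choose

/-- second coordinate -/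
noncomputable def c2 (x : G) : F := (T.surj x).choose_spec.choose

theorem tau_c (x : G) : T.τ (c1 T x) (c2 T x) = x := (T.surj x).choose_spec.choose_spec.symm

theorem c1_tau (a b : F) : c1 T (T.τ a b) = a := (T.inj (tau_c T (T.τ a b))).1

theorem c2_tau (a b : F) : c2 T (T.τ a b) = b := (T.inj (tau_c T (T.τ a b))).2

theorem tau_split (a b : F) : T.τ a b = T.τ a 0 * T.τ 0 b := by
  rw [T.mul, add_zero, zero_add, mul_zero, add_zero]

/-- the action on the quotient by the centre -/
noncomputable def fA (α : G ≃* G) (a : F) : F := c1 T (α (T.τ a 0))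

/-- the correction term -/
noncomputable def hA (α : G ≃* G) (a : F) : F := c2 T (α (T.τ a 0))

/-- the action on the centre -/
noncomputable def gA (α : G ≃* G) (b : F) : F := c2 T (α (T.τ 0 b))

theorem alpha_tau0 (α : G ≃* G) (a : F) : α (T.τ a 0) = T.τ (fA T α a) (hA T α a) :=
  (tau_c T _).symm

section fin

variable [Fintype F] (hF : Fintype.card F = 2 ^ (2 * m + 1)) (hm : 1 ≤ m)

include hF hm in
theorem alpha_center (α : G ≃* G) (b : F) : α (T.τ 0 b) = T.τ 0 (gA T α b) := by
  have hz : α (T.τ 0 b) ∈ Subgroup.center G := by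
    rw [Subgroup.mem_center_iff]
    intro y
    obtain ⟨y', rfl⟩ := α.surjective y
    rw [← map_mul, ← map_mul]
    congr 1
    exact (Subgroup.mem_center_iff.mp ((T.mem_center_iff hF hm 0 b).2 rfl)) y'
  have h1 := tau_c T (α (T.τ 0 b))
  rw [← h1] at hz
  have h0 := (T.mem_center_iff hF hm _ _).1 hz
  rw [← h1, h0]
  rfl

include hF hm in
theorem alpha_tau (α : G ≃* G) (a b : F) :
    α (T.τ a b) = T.τ (fA T α a) (hA T α a + gA T α b) := by
  rw [tau_split, map_mul, alpha_tau0, alpha_center T hF hm, T.mul, add_zero, mul_zero, add_zero]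

include hF hm in
theorem fA_zero (α : G ≃* G) : fA T α 0 = 0 ∧ hA T α 0 = 0 := by
  have h := alpha_tau0 T α 0
  rw [T.one, map_one, ← T.one] at h
  have := T.inj h
  exact ⟨this.1.symm, this.2.symm⟩

include hF hm in
theorem alpha_rel (α : G ≃* G) (a b c d : F) :
    fA T α (a + c) = fA T α a + fA T α c ∧
      hA T α (a + c) + gA T α (b + d + S.s a * c)
        = hA T α a + gA T α b + (hA T α c + gA T α d) + S.s (fA T α a) * fA T α c := by
  have h := map_mul α (T.τ a b) (T.τ c d)
  rw [T.mul, alpha_tau T hF hm, alpha_tau T hF hm, alpha_tau T hF hm, T.mul] at h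
  exact T.inj h

include hF hm in
theorem fA_add (α : G ≃* G) (a c : F) : fA T α (a + c) = fA T α a + fA T α c :=
  (alpha_rel T hF hm α a 0 c 0).1

include hF hm in
theorem gA_add (α : G ≃* G) (b d : F) : gA T α (b + d) = gA T α b + gA T α d := by
  have h := (alpha_rel T hF hm α 0 b 0 d).2
  simp only [add_zero, zero_add, (fA_zero T hF hm α).2, (fA_zero T hF hm α).1, map_zero,
    zero_mul, mul_zero] at h
  exact h

include hF hm in
theorem gA_nrm (α : G ≃* G) (a : F) :
    gA T α (a * S.s a) = fA T α a * S.s (fA T α a) := by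
  have h1 : α (T.τ a 0 ^ 2) = (α (T.τ a 0)) ^ 2 := map_pow α _ 2
  rw [T.sq, alpha_center T hF hm, alpha_tau0, T.sq] at h1
  have := (T.inj h1).2
  rw [mul_comm a, mul_comm (fA T α a)]
  exact this

include hF hm in
theorem fA_mul (α β : G ≃* G) (a : F) : fA T (α * β) a = fA T α (fA T β a) := by
  have h : (α * β) (T.τ a 0) = α (β (T.τ a 0)) := rfl
  rw [alpha_tau0, alpha_tau0 T β, alpha_tau T hF hm] at h
  exact (T.inj h).1

include hF hm in
theorem gA_mul (α β : G ≃* G) (b : F) : gA T (α * β) b = gA T α (gA T β b) := by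
  have h : (α * β) (T.τ 0 b) = α (β (T.τ 0 b)) := rfl
  rw [alpha_center T hF hm, alpha_center T hF hm β, alpha_center T hF hm] at h
  exact (T.inj h).2

theorem fA_one (a : F) : fA T (1 : G ≃* G) a = a := by
  unfold fA
  exact c1_tau T a 0

theorem gA_one (b : F) : gA T (1 : G ≃* G) b = b := by
  unfold gA
  exact c2_tau T 0 b

include hF hm in
theorem fA_inv_left (α : G ≃* G) (a : F) : fA T α⁻¹ (fA T α a) = a := by
  rw [← fA_mul T hF hm, inv_mul_cancel, fA_one]

include hF hm in
theorem fA_inv_right (α : G ≃* G) (a : F) : fA T α (fA T α⁻¹ a) = a := by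
  rw [← fA_mul T hF hm, mul_inv_cancel, fA_one]

include hF hm in
theorem gA_inv_left (α : G ≃* G) (a : F) : gA T α⁻¹ (gA T α a) = a := by
  rw [← gA_mul T hF hm, inv_mul_cancel, gA_one]

include hF hm in
theorem gA_inv_right (α : G ≃* G) (a : F) : gA T α (gA T α⁻¹ a) = a := by
  rw [← gA_mul T hF hm, mul_inv_cancel, gA_one]

include hF hm in
/-- every automorphism is semilinear modulo the centre -/
theorem exists_semilinear (α : G ≃* G) : ∃ i : Fin (2 * m + 1),
    (∀ a, fA T α a = fA T α 1 * a ^ (2 ^ i.1)) ∧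
    (∀ b, gA T α b = fA T α 1 * S.s (fA T α 1) * b ^ (2 ^ i.1)) :=
  semilinear (2 * m + 1) hF S.s S.hs S.h2 (fA T α) (gA T α) (fA T α⁻¹) (gA T α⁻¹)
    (fA_add T hF hm α) (gA_add T hF hm α) (gA_nrm T hF hm α)
    (fA_inv_left T hF hm α) (fA_inv_right T hF hm α)
    (gA_inv_left T hF hm α) (gA_inv_right T hF hm α)

include hF hm in
theorem fA_one_ne_zero (α : G ≃* G) : fA T α 1 ≠ 0 :=
  f_ne_zero (fA T α) (fA T α⁻¹) (fA_add T hF hm α) (fA_inv_left T hF hm α) one_ne_zero

end fin

/-- construction of endomorphisms from coordinate data -/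
noncomputable def mkHom (f g h : F → F)
    (hc : ∀ a b c d, f (a + c) = f a + f c ∧
      h (a + c) + g (b + d + S.s a * c) = h a + g b + (h c + g d) + S.s (f a) * f c) :
    G →* G :=
  MonoidHom.mk' (fun x => T.τ (f (c1 T x)) (h (c1 T x) + g (c2 T x))) (by
    intro x y
    obtain ⟨a, b, rfl⟩ := T.surj x
    obtain ⟨c, d, rfl⟩ := T.surj y
    rw [T.mul, c1_tau, c2_tau, c1_tau, c2_tau, c1_tau, c2_tau, T.mul, (hc a b c d).1,
      (hc a b c d).2])

theorem mkHom_apply (f g h : F → F)
    (hc : ∀ a b c d, f (a + c) = f a + f c ∧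
      h (a + c) + g (b + d + S.s a * c) = h a + g b + (h c + g d) + S.s (f a) * f c) (a b : F) :
    mkHom T f g h hc (T.τ a b) = T.τ (f a) (h a + g b) := by
  unfold mkHom
  rw [MonoidHom.mk'_apply, c1_tau, c2_tau]

theorem mkHom_bijective (f g h : F → F) (hfb : Function.Bijective f) (hgb : Function.Bijective g)
    (hc : ∀ a b c d, f (a + c) = f a + f c ∧
      h (a + c) + g (b + d + S.s a * c) = h a + g b + (h c + g d) + S.s (f a) * f c) :
    Function.Bijective (mkHom T f g h hc) := by
  constructor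
  · intro x y hxy
    obtain ⟨a, b, rfl⟩ := T.surj x
    obtain ⟨c, d, rfl⟩ := T.surj y
    rw [mkHom_apply, mkHom_apply] at hxy
    obtain ⟨h1, h2⟩ := T.inj hxy
    have hac : a = c := hfb.1 h1
    subst hac
    have hbd : b = d := hgb.1 (add_left_cancel h2)
    rw [hbd]
  · intro y
    obtain ⟨a', b', rfl⟩ := T.surj y
    obtain ⟨a, rfl⟩ := hfb.2 a'
    obtain ⟨b, hb⟩ := hgb.2 (b' - h a)
    refine ⟨T.τ a b, ?_⟩
    rw [mkHom_apply, hb]
    congr 1
    ring

/-- construction of automorphisms from coordinate data -/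
noncomputable def mkAut (f g h : F → F) (hfb : Function.Bijective f) (hgb : Function.Bijective g)
    (hc : ∀ a b c d, f (a + c) = f a + f c ∧
      h (a + c) + g (b + d + S.s a * c) = h a + g b + (h c + g d) + S.s (f a) * f c) :
    G ≃* G :=
  MulEquiv.ofBijective (mkHom T f g h hc) (mkHom_bijective T f g h hfb hgb hc)

theorem mkAut_apply (f g h : F → F) (hfb : Function.Bijective f) (hgb : Function.Bijective g)
    (hc : ∀ a b c d, f (a + c) = f a + f c ∧
      h (a + c) + g (b + d + S.s a * c) = h a + g b + (h c + g d) + S.s (f a) * f c) (a b : F) :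
    mkAut T f g h hfb hgb hc (T.τ a b) = T.τ (f a) (h a + g b) := by
  unfold mkAut
  rw [MulEquiv.ofBijective_apply, mkHom_apply]

end Cfsg.Agent.Helper20.SuzAut
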