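import Mathlib
import Cfsg.Agent.Lib.Helper20.SuzAutD

set_option autoImplicit false

/-! The automorphism group of a Sylow 2-subgroup of a Suzuki group: kernel and image of the action
on the central quotient. -/

namespace Cfsg.Agent.Helper20.SuzAut

open Cfsg.Agent.Helper2.Sz

variable {F : Type*} [Field F] {m : ℕ} {S : SzData F m} {G : Type*} [Group G] (T : TData S G)
  [Fintype F] (hF : Fintype.card F = 2 ^ (2 * m + 1)) (hm : 1 ≤ m)

/-- the induced permutation of the quotient by the centre -/
noncomputable def psi : MulAut G →* Equiv.Perm F where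
  toFun α := ⟨fA T α, fA T α⁻¹, fA_inv_left T hF hm α, fA_inv_right T hF hm α⟩
  map_one' := Equiv.ext (fA_one T)
  map_mul' α β := Equiv.ext (fA_mul T hF hm α β)

theorem psi_apply (α : MulAut G) (a : F) : psi T hF hm α a = fA T α a := rfl

theorem mem_ker_iff (α : MulAut G) : α ∈ (psi T hF hm).ker ↔ ∀ a, fA T α a = a := by
  rw [MonoidHom.mem_ker]
  constructor
  · intro h a
    rw [← psi_apply T hF hm, h]
    rfl
  · intro h
    apply Equiv.ext
    intro a
    rw [psi_apply, h]
    rfl

theorem ker_gA (α : MulAut G) (hα : α ∈ (psi T hF hm).ker) (b : F) : gA T α b = b := by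
  rw [mem_ker_iff] at hα
  obtain ⟨a, rfl⟩ := nrm_surj S.s S.hs b
  rw [gA_nrm T hF hm, hα]

theorem ker_apply (α : MulAut G) (hα : α ∈ (psi T hF hm).ker) (a b : F) :
    α (T.τ a b) = T.τ a (hA T α a + b) := by
  rw [alpha_tau T hF hm, ker_gA T hF hm α hα, (mem_ker_iff T hF hm α).1 hα]

theorem ker_hA_add (α : MulAut G) (hα : α ∈ (psi T hF hm).ker) (a c : F) :
    hA T α (a + c) = hA T α a + hA T α c := by
  have h := (alpha_rel T hF hm α a 0 c 0).2
  rw [ker_gA T hF hm α hα, ker_gA T hF hm α hα, (mem_ker_iff T hF hm α).1 hα,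
    (mem_ker_iff T hF hm α).1 hα] at h
  simp only [add_zero, zero_add] at h
  exact add_right_cancel h

/-- central automorphisms -/
noncomputable def centralAut (h : F →+ F) : MulAut G :=
  mkAut T id id h Function.bijective_id Function.bijective_id (by
    intro a b c d
    refine ⟨rfl, ?_⟩
    simp only [id, map_add]
    ring)

theorem centralAut_apply (h : F →+ F) (a b : F) :
    centralAut T h (T.τ a b) = T.τ a (h a + b) := by
  unfold centralAut
  rw [mkAut_apply]
  rfl

theorem centralAut_mem (h : F →+ F) : centralAut T h ∈ (psi T hF hm).ker := by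
  rw [mem_ker_iff]
  intro a
  unfold fA
  rw [centralAut_apply, c1_tau]

/-- the kernel is parametrized by the additive maps -/
noncomputable def kerEquiv : (psi T hF hm).ker ≃ (F →+ F) where
  toFun α := AddMonoidHom.mk' (hA T α.1) (ker_hA_add T hF hm α.1 α.2)
  invFun h := ⟨centralAut T h, centralAut_mem T hF hm h⟩
  left_inv α := by
    apply Subtype.ext
    apply MulEquiv.ext
    intro x
    obtain ⟨a, b, rfl⟩ := T.surj x
    show centralAut T _ (T.τ a b) = α.1 (T.τ a b)
    rw [centralAut_apply, ker_apply T hF hm α.1 α.2]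
    rfl
  right_inv h := by
    apply AddMonoidHom.ext
    intro a
    show hA T (centralAut T h) a = h a
    unfold hA
    rw [centralAut_apply, c2_tau, add_zero]

include hF in
theorem card_addHom (h2 : (2 : F) = 0) : Nat.card (F →+ F) = 2 ^ ((2 * m + 1) ^ 2) := by
  letI := charP_two h2
  letI := ZMod.algebra F 2
  have hfr := finrank_eq (2 * m + 1) hF h2
  let b := Module.finBasis (ZMod 2) F
  have e1 : (F →+ F) ≃ (F →ₗ[ZMod 2] F) := (AddMonoidHom.toZModLinearMapEquiv 2).toEquiv
  have e2 : (Fin (Module.finrank (ZMod 2) F) → F) ≃ (F →ₗ[ZMod 2] F) :=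
    (b.constr ℕ).toEquiv
  rw [Nat.card_congr e1, ← Nat.card_congr e2, Nat.card_fun, Nat.card_eq_fintype_card,
    Nat.card_eq_fintype_card, Fintype.card_fin, hfr, hF, ← pow_mul, sq]

include hF hm in
theorem card_ker : Nat.card (psi T hF hm).ker = 2 ^ ((2 * m + 1) ^ 2) := by
  rw [Nat.card_congr (kerEquiv T hF hm), card_addHom hF S.h2]

include hF hm in
theorem ker_comm (α β : MulAut G) (hα : α ∈ (psi T hF hm).ker) (hβ : β ∈ (psi T hF hm).ker) :
    α * β = β * α := by
  apply MulEquiv.ext
  intro x
  obtain ⟨a, b, rfl⟩ := T.surj x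
  show α (β (T.τ a b)) = β (α (T.τ a b))
  rw [ker_apply T hF hm β hβ, ker_apply T hF hm α hα, ker_apply T hF hm α hα,
    ker_apply T hF hm β hβ, add_left_comm]

include hF hm in
theorem ker_sq (α : MulAut G) (hα : α ∈ (psi T hF hm).ker) : α ^ 2 = 1 := by
  apply MulEquiv.ext
  intro x
  obtain ⟨a, b, rfl⟩ := T.surj x
  rw [pow_two]
  show α (α (T.τ a b)) = T.τ a b
  rw [ker_apply T hF hm α hα, ker_apply T hF hm α hα, ← add_assoc, S.add_self, zero_add]

/-- the semilinear automorphisms -/
noncomputable def semiAut (l : Fˣ) (i : ℕ) : MulAut G :=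
  letI := charP_two S.h2
  mkAut T (fun a => (l : F) * a ^ (2 ^ i)) (fun b => (l : F) * S.s l * b ^ (2 ^ i)) (fun _ => 0)
    (by
      have hinj : Function.Injective (fun a : F => (l : F) * a ^ (2 ^ i)) := by
        intro a c hac
        have h1 : a ^ (2 ^ i) = c ^ (2 ^ i) := mul_left_cancel₀ l.ne_zero hac
        rw [← iterateFrobenius_def, ← iterateFrobenius_def] at h1
        exact (iterateFrobenius F 2 i).injective h1
      exact Finite.injective_iff_bijective.mp hinj)
    (by
      have hl : (l : F) * S.s l ≠ 0 := mul_ne_zero l.ne_zero ((map_ne_zero S.s).2 l.ne_zero)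
      have hinj : Function.Injective (fun a : F => (l : F) * S.s l * a ^ (2 ^ i)) := by
        intro a c hac
        have h1 : a ^ (2 ^ i) = c ^ (2 ^ i) := mul_left_cancel₀ hl hac
        rw [← iterateFrobenius_def, ← iterateFrobenius_def] at h1
        exact (iterateFrobenius F 2 i).injective h1
      exact Finite.injective_iff_bijective.mp hinj)
    (by
      intro a b c d
      have hadd : ∀ x y : F, (x + y) ^ (2 ^ i) = x ^ (2 ^ i) + y ^ (2 ^ i) := by
        intro x y
        rw [← iterateFrobenius_def, ← iterateFrobenius_def, ← iterateFrobenius_def, map_add]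
      refine ⟨?_, ?_⟩
      · rw [hadd]; ring
      · rw [hadd, hadd, mul_pow, map_mul, map_pow]
        ring)

theorem semiAut_apply (l : Fˣ) (i : ℕ) (a b : F) :
    semiAut T l i (T.τ a b) = T.τ ((l : F) * a ^ (2 ^ i)) ((l : F) * S.s l * b ^ (2 ^ i)) := by
  unfold semiAut
  rw [mkAut_apply, zero_add]

theorem fA_semiAut (l : Fˣ) (i : ℕ) (a : F) : fA T (semiAut T l i) a = (l : F) * a ^ (2 ^ i) := by
  unfold fA
  rw [semiAut_apply, c1_tau]

/-- the image is parametrized by the semilinear maps -/
noncomputable def rangeEquiv : Fˣ × Fin (2 * m + 1) ≃ (psi T hF hm).range := by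
  refine Equiv.ofBijective (fun x => ⟨psi T hF hm (semiAut T x.1 x.2.1), ⟨_, rfl⟩⟩) ⟨?_, ?_⟩
  · rintro ⟨l, i⟩ ⟨l', j⟩ h
    have h1 : psi T hF hm (semiAut T l i.1) = psi T hF hm (semiAut T l' j.1) :=
      congrArg Subtype.val h
    have h2 : ∀ a : F, (l : F) * a ^ (2 ^ i.1) = (l' : F) * a ^ (2 ^ j.1) := by
      intro a
      have := congrArg (fun σ : Equiv.Perm F => σ a) h1
      simp only [psi_apply, fA_semiAut] at this
      exact this
    have hl : l = l' := by
      apply Units.ext
      have := h2 1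
      rwa [one_pow, one_pow, mul_one, mul_one] at this
    subst hl
    have hij : i = j := by
      apply frob_inj (2 * m + 1) hF S.h2
      intro x
      exact mul_left_cancel₀ l.ne_zero (h2 x)
    rw [hij]
  · rintro ⟨σ, α, rfl⟩
    obtain ⟨i, hi, -⟩ := exists_semilinear T hF hm α
    refine ⟨⟨Units.mk0 (fA T α 1) (fA_one_ne_zero T hF hm α), i⟩, ?_⟩
    apply Subtype.ext
    apply Equiv.ext
    intro a
    show psi T hF hm (semiAut T _ i.1) a = psi T hF hm α a
    rw [psi_apply, psi_apply, fA_semiAut, hi a]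
    rfl

include hF hm in
theorem card_range :
    Nat.card (psi T hF hm).range = (2 ^ (2 * m + 1) - 1) * (2 * m + 1) := by
  classical
  rw [← Nat.card_congr (rangeEquiv T hF hm), Nat.card_prod, Nat.card_eq_fintype_card,
    Nat.card_eq_fintype_card, Fintype.card_fin, Fintype.card_units, hF]

include T hF hm in
theorem finite_G : Finite G := by
  have := T.bijective
  exact Finite.of_surjective _ this.2

include T hF hm in
/-- the order of the automorphism group -/
theorem card_mulAut :
    Nat.card (MulAut G) = 2 ^ ((2 * m + 1) ^ 2) * ((2 * m + 1) * (2 ^ (2 * m + 1) - 1)) := by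
  have h1 := Subgroup.card_mul_index (psi T hF hm).ker
  rw [Subgroup.index_ker, card_ker T hF hm, card_range T hF hm] at h1
  rw [← h1, mul_comm (2 * m + 1)]

end Cfsg.Agent.Helper20.SuzAut
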