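import Mathlib
import Cfsg.Prelude.Def_Solvable
import Cfsg.Prelude.Def_Transfer
import Cfsg.Agent.Lib.Helper20.SuzAutE

set_option autoImplicit false

/-! The largest normal 2-subgroup of the automorphism group of a Sylow 2-subgroup of a Suzuki
group. -/

namespace Cfsg.Agent.Helper20.SuzAut

open Cfsg.Agent.Helper2.Sz

variable {F : Type*} [Field F] {m : ℕ} {S : SzData F m} {G : Type*} [Group G] (T : TData S G)
  [Fintype F] (hF : Fintype.card F = 2 ^ (2 * m + 1)) (hm : 1 ≤ m)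

include T hF hm in
theorem pCore_eq_ker : Cfsg.pCore 2 (MulAut G) = (psi T hF hm).ker := by
  haveI : Fact (Nat.Prime 2) := ⟨Nat.prime_two⟩
  haveI : Finite G := finite_G T hF hm
  have hkerP : IsPGroup 2 (psi T hF hm).ker := IsPGroup.of_card (card_ker T hF hm)
  have hle : (psi T hF hm).ker ≤ Cfsg.pCore 2 (MulAut G) :=
    le_sSup ⟨MonoidHom.normal_ker _, hkerP⟩
  have hcoreP : IsPGroup 2 (Cfsg.pCore 2 (MulAut G)) :=
    Sylow.sSup_of_normal _ (fun _ h => h.2) (fun _ h => h.1)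
  symm
  apply Subgroup.eq_of_le_of_card_ge hle
  obtain ⟨j, hj⟩ := hcoreP.exists_card_eq
  have hdvd : Nat.card (Cfsg.pCore 2 (MulAut G)) ∣ Nat.card (MulAut G) :=
    Subgroup.card_subgroup_dvd_card _
  rw [hj, card_mulAut T hF hm] at hdvd
  have hodd : Nat.Coprime (2 ^ j) ((2 * m + 1) * (2 ^ (2 * m + 1) - 1)) := by
    apply Nat.Coprime.pow_left
    rw [Nat.coprime_two_left]
    apply Odd.mul
    · exact ⟨m, rfl⟩
    · have h1 : 2 ∣ 2 ^ (2 * m + 1) := dvd_pow_self 2 (by omega)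
      obtain ⟨k, hk⟩ := h1
      have hk0 : 0 < k := by
        rcases Nat.eq_zero_or_pos k with h | h
        · rw [h, mul_zero] at hk
          exact absurd hk (by positivity)
        · exact h
      rw [hk]
      exact ⟨k - 1, by omega⟩
  have h2 := hodd.dvd_of_dvd_mul_right hdvd
  rw [hj, card_ker T hF hm]
  exact Nat.le_of_dvd (by positivity) h2

include T hF hm in
/-- the structure of the automorphism group -/
theorem aut_structure :
    Cfsg.IsElementaryAbelian 2 (Cfsg.pCore 2 (MulAut G)) ∧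
      Nat.card ↥(Cfsg.pCore 2 (MulAut G)) = 2 ^ ((2 * m + 1) ^ 2) ∧
      Nat.card (MulAut G) = 2 ^ ((2 * m + 1) ^ 2) * ((2 * m + 1) * (2 ^ (2 * m + 1) - 1)) := by
  rw [pCore_eq_ker T hF hm]
  refine ⟨⟨⟨⟨fun α β => Subtype.ext (ker_comm T hF hm α.1 β.1 α.2 β.2)⟩⟩, ?_⟩,
    card_ker T hF hm, card_mulAut T hF hm⟩
  intro α hα
  exact ker_sq T hF hm α hα

end Cfsg.Agent.Helper20.SuzAut
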