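import Mathlib
import Cfsg.Prelude.Def_FusionSystem
import Cfsg.Agent.Lib.Helper26.EssentialChain

/-!
# Resistance of 2-groups whose involutions are central and whose commutators are central

If `S` is a finite `p`-group in which every element of order dividing `p`... (here: abstractly) the subgroup
`Z(S)` is characterised inside every subgroup `P` by an automorphism-invariant condition, and `S/Z(S)` is
abelian, then `S` is normal in every saturated fusion system over `S`.
-/

set_option autoImplicit false

namespace Cfsg.Agent.Helper20.SuzResist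

open Cfsg Cfsg.FusionSystem Cfsg.Agent.Helper25 Cfsg.Agent.Helper26

variable {Ω : Type*} [Group Ω] {S : Subgroup Ω}

/-- Abstract resistance criterion: the central elements of `S` are exactly the solutions of `x * x = 1`
(so they are permuted by every automorphism of every subgroup), and all commutators are central. -/
theorem isNormal_top [Finite S] (hS : IsPGroup 2 S) (F : Cfsg.FusionSystem S) (hF : F.IsSaturated 2)
    (hinv : ∀ x : S, x * x = 1 ↔ x ∈ Subgroup.center S)
    (hcomm : ∀ x y : S, x⁻¹ * y⁻¹ * x * y ∈ Subgroup.center S) : F.IsNormal S := by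
  apply isNormal_of_forall_essential 2 hS F hF S
  rintro P (rfl | hP)
  · refine ⟨le_rfl, fun α _ => ?_⟩
    ext x
    simp only [Subgroup.subgroupOf_self, Subgroup.mem_top, iff_true]
    exact ⟨α.symm x, Subgroup.mem_top _, by simp⟩
  · exfalso
    have hPS : P ≤ S := le_of_isEssential F hP
    haveI : Finite P := Finite.of_injective (Subgroup.inclusion hPS) (Subgroup.inclusion_injective hPS)
    have hPp : IsPGroup 2 P := hS.to_le hPS
    apply not_essential_of_autS_le_pCore 2 hS F hF hP
    intro β hβ
    obtain ⟨s, hsS, hsβ⟩ := (mem_autInducedBy_iff β).mp hβ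
    have hβA : β ∈ F.autGroup P := autInducedBy_le_autGroup F hPS hβ
    -- the chain
    let Zp : Subgroup P := (Subgroup.center S).comap (Subgroup.inclusion hPS)
    let c : ℕ → Subgroup P := fun i => if i = 0 then ⊥ else if i = 1 then Zp else ⊤
    have hc0 : c 0 = ⊥ := rfl
    have hc1 : c 1 = Zp := rfl
    have hc2 : ∀ i, 2 ≤ i → c i = ⊤ := by
      intro i hi
      show (if i = 0 then ⊥ else if i = 1 then Zp else ⊤) = ⊤
      rw [if_neg (by omega), if_neg (by omega)]
    have hmemZ : ∀ y : P, y ∈ Zp ↔ y * y = 1 := by
      intro y
      show Subgroup.inclusion hPS y ∈ Subgroup.center S ↔ _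
      rw [← hinv]
      constructor
      · intro h
        apply Subtype.ext
        have := congrArg (fun z : S => (z : Ω)) h
        simpa using this
      · intro h
        apply Subtype.ext
        have := congrArg (fun z : P => (z : Ω)) h
        simpa using this
    have hmono : ∀ i, c i ≤ c (i + 1) := by
      intro i
      rcases i with _ | _ | i
      · rw [hc0]; exact bot_le
      · rw [hc2 2 le_rfl]; exact le_top
      · rw [hc2 (i + 2 + 1) (by omega)]; exact le_top
    have hinvc : ∀ i, ∀ α ∈ F.autGroup P, ∀ y ∈ c i, α y ∈ c i := by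
      intro i α _ y hy
      rcases i with _ | _ | i
      · rw [hc0, Subgroup.mem_bot] at hy ⊢
        rw [hy, map_one]
      · rw [hc1, hmemZ] at hy ⊢
        rw [← map_mul, hy, map_one]
      · rw [hc2 (i + 2) (by omega)]; exact Subgroup.mem_top _
    apply mem_pCore_of_stabilizesChain 2 hPp (F.autGroup P) c 2 hmono (hc2 2 le_rfl) hinvc
    · intro α _
      refine ⟨0, fun y hy => ?_⟩
      rw [hc0, Subgroup.mem_bot] at hy
      rw [hy, map_one]
    · refine ⟨hβA, fun i y hy => ?_⟩
      rcases i with _ | _ | i
      · -- y central, so fixed by conjugation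
        rw [hc0, Subgroup.mem_bot]
        have hy' : Subgroup.inclusion hPS y ∈ Subgroup.center S := hy
        have h1 := Subgroup.mem_center_iff.mp hy' ⟨s, hsS⟩
        have h2 : s * (y : Ω) = (y : Ω) * s := by
          have := congrArg (fun z : S => (z : Ω)) h1
          simpa using this
        have h3 : ((β y : P) : Ω) = (y : Ω) := by
          rw [hsβ, h2, mul_inv_cancel_right]
        have h4 : β y = y := Subtype.ext h3
        rw [h4, inv_mul_cancel]
      · -- commutators are central
        rw [hc1]
        show Subgroup.inclusion hPS (y⁻¹ * β y) ∈ Subgroup.center S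
        have h1 := hcomm (Subgroup.inclusion hPS y) (⟨s, hsS⟩ : S)⁻¹
        have h2 : Subgroup.inclusion hPS (y⁻¹ * β y) =
            (Subgroup.inclusion hPS y)⁻¹ * ((⟨s, hsS⟩ : S)⁻¹)⁻¹ * Subgroup.inclusion hPS y *
              (⟨s, hsS⟩ : S)⁻¹ := by
          apply Subtype.ext
          simp only [Subgroup.coe_inclusion, Subgroup.coe_mul, Subgroup.coe_inv, inv_inv]
          rw [hsβ]
          simp only [mul_assoc]
        rw [h2]
        exact h1
      · rw [hc2 (i + 2) (by omega)]; exact Subgroup.mem_top _

end Cfsg.Agent.Helper20.SuzResist
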