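import Mathlib
import Cfsg.Agent.Lib.Helper20.SylFifteen5

/-!
# Fifteen Sylow 7-subgroups of order 7: the order of the centralizer (helper20)
-/

set_option autoImplicit false

namespace Cfsg.Agent.Helper20.SylFifteen

open Subgroup MulAction

universe u

variable {G : Type u} [Group G] [Finite G]

/-- `2`-subgroups of the centralizer of a Sylow subgroup have order at most two -/
theorem two_subgroup_card (h15 : Nat.card (Sylow 7 G) = 15) (hf : Faithful G)
    (P : Sylow 7 G) (E : Subgroup G) (hE : IsPGroup 2 E)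
    (hEC : E ≤ centralizer ((P : Subgroup G) : Set G)) : Nat.card E ∣ 2 := by
  classical
  haveI : Finite (Sylow 7 G) := Nat.finite_of_card_ne_zero (by rw [h15]; norm_num)
  have hfix : ∀ y : ↥E, (y : G) • P = P := fun y => centralizer_smul P (hEC y.2)
  have hinv : ∀ y : ↥E, ∀ a ∈ ({P} : Set (Sylow 7 G))ᶜ, y • a ∈ ({P} : Set (Sylow 7 G))ᶜ := by
    intro y a ha hya
    apply ha
    have h1 : (y : G) • a = P := hya
    have h2 : a = (y : G)⁻¹ • P := by rw [eq_inv_smul_iff]; exact h1
    have h3 : (y : G)⁻¹ • P = P := by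
      rw [inv_smul_eq_iff]; exact (hfix y).symm
    rw [h2, h3]; rfl
  have hfree : ∀ y : ↥E, ∀ a ∈ ({P} : Set (Sylow 7 G))ᶜ, y • a = a → y = 1 := by
    intro y a ha hya
    by_contra hy1
    obtain ⟨k, hk⟩ := hE y
    have h1 : orderOf y ∣ 2 ^ k := orderOf_dvd_of_pow_eq_one hk
    obtain ⟨j, hj, hj2⟩ := (Nat.dvd_prime_pow Nat.prime_two).1 h1
    have hj0 : j ≠ 0 := by
      rintro rfl
      rw [pow_zero, orderOf_eq_one_iff] at hj2
      exact hy1 hj2
    set g : G := (y : G) ^ (2 ^ (j - 1)) with hg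
    have hoy : orderOf (y : G) = 2 ^ j := by rw [Subgroup.orderOf_coe, hj2]
    have hgo : orderOf g = 2 := by
      rw [hg, orderOf_pow_of_dvd (by positivity) (by rw [hoy]; exact pow_dvd_pow 2 (Nat.sub_le j 1)),
        hoy]
      have : 2 ^ j = 2 ^ (j - 1) * 2 := by
        rw [← pow_succ]; congr 1; omega
      rw [this, Nat.mul_div_cancel_left _ (by positivity)]
    have hgE : g ∈ E := E.pow_mem y.2 _
    have hga : g • a = a := by
      have h2 : (y : G) ∈ stabilizer G a := hya
      exact (stabilizer G a).pow_mem h2 _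
    have h3 := centralizer_prime h15 hf P (hEC hgE) Nat.prime_two hgo (by norm_num)
    have h4 : a ∈ fixedBy (Sylow 7 G) g := hga
    rw [h3.2] at h4
    exact ha h4
  have h1 := card_dvd_ncard_of_free ({P} : Set (Sylow 7 G))ᶜ hinv hfree
  rw [Set.ncard_compl, Set.ncard_singleton, h15] at h1
  obtain ⟨j, hj⟩ := IsPGroup.iff_card.1 hE
  rw [hj] at h1 ⊢
  rcases Nat.lt_or_ge j 2 with h | h
  · interval_cases j <;> simp
  · exfalso
    have h2 : 2 ^ 2 ∣ 2 ^ j := pow_dvd_pow 2 h
    have h3 := h2.trans h1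
    norm_num at h3

omit [Finite G] in
theorem sylow_le_centralizer (P : Sylow 7 G) (h7 : Nat.card (P : Subgroup G) = 7) :
    (P : Subgroup G) ≤ centralizer ((P : Subgroup G) : Set G) := by
  haveI : Fact (Nat.Prime 7) := fact7
  haveI : IsCyclic ↥(P : Subgroup G) := isCyclic_of_prime_card h7
  intro x hx y hy
  have := (IsCyclic.commGroup (α := ↥(P : Subgroup G))).mul_comm ⟨y, hy⟩ ⟨x, hx⟩
  exact congrArg Subtype.val this

theorem not_dvd_of_card_seven (P : Sylow 7 G) (h7 : Nat.card (P : Subgroup G) = 7) :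
    ¬ 49 ∣ Nat.card G := by
  have h1 := P.card_eq_multiplicity
  rw [h7] at h1
  have h2 : (Nat.card G).factorization 7 = 1 := by
    have : (7 : ℕ) ^ 1 = 7 ^ (Nat.card G).factorization 7 := by rw [pow_one]; exact h1
    exact (Nat.pow_right_injective (le_refl 2 |>.trans (by norm_num)) this).symm
  have h3 := Nat.pow_succ_factorization_not_dvd (Nat.card_pos (α := G)).ne' (by norm_num : Nat.Prime 7)
  rw [h2] at h3
  exact h3

end Cfsg.Agent.Helper20.SylFifteen
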