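import Mathlib
import Cfsg.Agent.Lib.Helper20.SylFifteen6

/-!
# Fifteen Sylow 7-subgroups of order 7: centralizer and normalizer orders (helper20)
-/

set_option autoImplicit false

namespace Cfsg.Agent.Helper20.SylFifteen

open Subgroup MulAction

universe u

variable {G : Type u} [Group G] [Finite G]

theorem card_centralizer (h15 : Nat.card (Sylow 7 G) = 15) (hf : Faithful G)
    (P : Sylow 7 G) (h7 : Nat.card (P : Subgroup G) = 7) :
    Nat.card (centralizer ((P : Subgroup G) : Set G)) = 7 ∨
      Nat.card (centralizer ((P : Subgroup G) : Set G)) = 14 := by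
  classical
  set C := centralizer ((P : Subgroup G) : Set G) with hC
  set n := Nat.card C with hn
  have h1 : 7 ∣ n := by
    rw [← h7]; exact Subgroup.card_dvd_of_le (sylow_le_centralizer P h7)
  have h2 : ¬ 49 ∣ n := fun h =>
    not_dvd_of_card_seven P h7 (h.trans (Subgroup.card_subgroup_dvd_card C))
  have h3 : ∀ r : ℕ, r.Prime → r ∣ n → r = 2 ∨ r = 7 := by
    intro r hr hrn
    haveI : Fact r.Prime := ⟨hr⟩
    obtain ⟨x, hx⟩ := exists_prime_orderOf_dvd_card' (G := ↥C) r hrn
    by_cases h : r = 7
    · exact Or.inr h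
    · left
      have hx' : orderOf (x : G) = r := by rw [Subgroup.orderOf_coe, hx]
      exact (centralizer_prime h15 hf P x.2 hr hx' h).1
  have h4 : ¬ 4 ∣ n := by
    intro h
    haveI : Fact (Nat.Prime 2) := ⟨Nat.prime_two⟩
    obtain ⟨K, hK⟩ := Sylow.exists_subgroup_card_pow_prime (G := ↥C) 2 (n := 2) (by norm_num; exact h)
    have h5 : Nat.card (K.map C.subtype) = 2 ^ 2 := by
      rw [Subgroup.card_map_of_injective C.subtype_injective, hK]
    have h6 := two_subgroup_card h15 hf P (K.map C.subtype) (IsPGroup.of_card h5)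
      (Subgroup.map_subtype_le K)
    rw [h5] at h6
    norm_num at h6
  obtain ⟨k, hk⟩ := h1
  have hk0 : k ≠ 0 := by
    rintro rfl
    have : 0 < n := Nat.card_pos
    omega
  have h5 : ¬ 7 ∣ k := by
    rintro ⟨j, rfl⟩
    exact h2 ⟨j, by rw [hk]; ring⟩
  have h6 : ∀ {d : ℕ}, d.Prime → d ∣ k → d = 2 := by
    intro d hd hdk
    rcases h3 d hd (hdk.trans ⟨7, by rw [hk]; ring⟩) with h | h
    · exact h
    · exact absurd (h ▸ hdk) h5
  have h7' := Nat.eq_prime_pow_of_unique_prime_dvd hk0 h6
  set j := k.primeFactorsList.length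
  rcases Nat.lt_or_ge j 2 with h | h
  · interval_cases j
    · left; rw [hk, h7']; norm_num
    · right; rw [hk, h7']; norm_num
  · exfalso
    apply h4
    have h8 : 2 ^ 2 ∣ 2 ^ j := pow_dvd_pow 2 h
    rw [hk, h7']
    exact Dvd.dvd.mul_left (by norm_num at h8 ⊢; exact h8) 7

/-- the index of the centralizer in the normalizer divides `6` -/
theorem relIndex_dvd_six (P : Sylow 7 G) (h7 : Nat.card (P : Subgroup G) = 7) :
    (centralizer ((P : Subgroup G) : Set G)).relIndex (normalizer ((P : Subgroup G) : Set G)) ∣ 6 := by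
  haveI : Fact (Nat.Prime 7) := fact7
  have h1 := relIndex_centralizer_dvd_totient (P : Subgroup G) (isCyclic_of_prime_card h7)
  rw [h7, Nat.totient_prime (by norm_num)] at h1
  exact h1

/-- the order of the group -/
theorem card_group (h15 : Nat.card (Sylow 7 G) = 15) (P : Sylow 7 G) :
    Nat.card G = 15 * (Nat.card (centralizer ((P : Subgroup G) : Set G)) *
      (centralizer ((P : Subgroup G) : Set G)).relIndex (normalizer ((P : Subgroup G) : Set G))) := by
  haveI : Finite (Sylow 7 G) := Nat.finite_of_card_ne_zero (by rw [h15]; norm_num)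
  have h1 := Sylow.card_eq_index_normalizer P
  rw [h15] at h1
  have h2 := Subgroup.card_mul_index (normalizer ((P : Subgroup G) : Set G))
  have h3 := card_inf_mul_relIndex (centralizer ((P : Subgroup G) : Set G))
    (normalizer ((P : Subgroup G) : Set G))
  rw [inf_of_le_left (Subgroup.centralizer_le_normalizer _)] at h3
  have h1' : (normalizer ((P : Subgroup G) : Set G)).index = 15 := h1.symm
  rw [h3, ← h2, h1']; ring

end Cfsg.Agent.Helper20.SylFifteen
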