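import Mathlib
import Cfsg.Agent.Lib.Helper20.SylFifteen7

/-!
# A `p`-group normalizing a subgroup: counting modulo `p` (helper20)
-/

set_option autoImplicit false

namespace Cfsg.Agent.Helper20.SylFifteen

open Subgroup MulAction

universe u

variable {G : Type u} [Group G] [Finite G]

/-- if the `p`-group `Q` normalizes `R`, then `|R| ≡ |C_R(Q)|` modulo `p` -/
theorem card_modEq_card_centralizer {p : ℕ} [Fact p.Prime] (Q R : Subgroup G)
    (hQ : IsPGroup p Q) (hQR : Q ≤ normalizer (R : Set G)) :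
    Nat.card R ≡ Nat.card ↥(R ⊓ centralizer (Q : Set G)) [MOD p] := by
  classical
  set Q' : Subgroup (ConjAct G) := Q.map (ConjAct.toConjAct (G := G)).toMonoidHom with hQ'
  have hQ'p : IsPGroup p Q' := hQ.map _
  have hmem : ∀ y : ↥Q', ConjAct.ofConjAct (y : ConjAct G) ∈ Q := by
    intro y
    obtain ⟨z, hz, hzy⟩ := y.2
    rw [← hzy]
    exact hz
  have hinv : ∀ y : ↥Q', ∀ a ∈ (R : Set G), y • a ∈ (R : Set G) := by
    intro y a ha
    show (y : ConjAct G) • a ∈ R
    rw [ConjAct.smul_def]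
    exact ((Subgroup.mem_normalizer_iff).1 (hQR (hmem y)) a).1 ha
  have h1 := ncard_invariant_modEq hQ'p (R : Set G) hinv
  have h2 : (R : Set G) ∩ fixedPoints ↥Q' G = ((R ⊓ centralizer (Q : Set G) : Subgroup G) : Set G) := by
    ext a
    simp only [Set.mem_inter_iff, SetLike.mem_coe, Subgroup.mem_inf, mem_fixedPoints]
    constructor
    · rintro ⟨ha, hfix⟩
      refine ⟨ha, ?_⟩
      rw [Subgroup.mem_centralizer_iff]
      intro y hy
      have h3 := hfix ⟨ConjAct.toConjAct y, ⟨y, hy, rfl⟩⟩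
      have h4 : (ConjAct.toConjAct y) • a = a := h3
      rw [ConjAct.smul_def, ConjAct.ofConjAct_toConjAct] at h4
      calc y * a = y * a * y⁻¹ * y := by group
        _ = a * y := by rw [h4]
    · rintro ⟨ha, hcent⟩
      refine ⟨ha, ?_⟩
      intro y
      show (y : ConjAct G) • a = a
      rw [ConjAct.smul_def]
      have h3 := (Subgroup.mem_centralizer_iff.1 hcent) _ (hmem y)
      rw [h3]; group
  rw [h2] at h1
  rw [← Nat.card_coe_set_eq, ← Nat.card_coe_set_eq] at h1
  exact h1

end Cfsg.Agent.Helper20.SylFifteen
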