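import Mathlib
import Cfsg.Agent.Lib.Helper20.SylFifteen8

/-!
# Fifteen Sylow 7-subgroups of order 7: a minimal example is simple (helper20)
-/

set_option autoImplicit false

namespace Cfsg.Agent.Helper20.SylFifteen

open Subgroup MulAction

universe u

variable {G : Type u} [Group G] [Finite G]

theorem exists_sylow_zpowers (P₀ : Sylow 7 G) (h7 : Nat.card (P₀ : Subgroup G) = 7)
    (x : G) (hx : orderOf x = 7) : ∃ P₁ : Sylow 7 G, (P₁ : Subgroup G) = zpowers x := by
  have h1 := P₀.card_eq_multiplicity
  rw [h7] at h1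
  have h2 : Nat.card (zpowers x) = 7 ^ (Nat.card G).factorization 7 := by
    rw [Nat.card_zpowers, hx]; exact h1
  exact ⟨Sylow.ofCard (zpowers x) h2, rfl⟩

theorem card_dvd_1260 (h15 : Nat.card (Sylow 7 G) = 15) (hf : Faithful G)
    (P : Sylow 7 G) (h7 : Nat.card (P : Subgroup G) = 7) : Nat.card G ∣ 1260 := by
  have h1 := card_group h15 P
  have h2 := card_centralizer h15 hf P h7
  have h3 := relIndex_dvd_six P h7
  rw [h1]
  have h4 : (1260 : ℕ) = 15 * (14 * 6) := by norm_num
  rw [h4]
  apply Nat.mul_dvd_mul_left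
  apply Nat.mul_dvd_mul _ h3
  rcases h2 with h | h <;> rw [h]
  norm_num

/-- a prime power dividing `1260`, prime to `7`, congruent mod `7` to a common divisor of itself
and `14`, is `2` -/
theorem arith_small (r k c : ℕ) (hr : r.Prime) (hk : k ≠ 0) (hq : r ^ k ∣ 1260) (hr7 : r ≠ 7)
    (hc1 : c ∣ r ^ k) (hc2 : c ∣ 14) (hmod : r ^ k % 7 = c % 7) : r = 2 ∧ k = 1 := by
  have hcle : c ≤ 14 := Nat.le_of_dvd (by norm_num) hc2
  have hc' : c = 1 ∨ c = 2 ∨ c = 7 ∨ c = 14 := by
    interval_cases c <;> first | omega | (exfalso; revert hc2; decide)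
  have hr1 : r ∣ 1260 := (dvd_pow_self r hk).trans hq
  have hrle : r ≤ 7 := by
    have h1 : (1260 : ℕ) = 2 * (2 * (3 * (3 * (5 * 7)))) := by norm_num
    rw [h1] at hr1
    rcases (Nat.Prime.dvd_mul hr).1 hr1 with h | h
    · exact (Nat.le_of_dvd (by norm_num) h).trans (by norm_num)
    rcases (Nat.Prime.dvd_mul hr).1 h with h | h
    · exact (Nat.le_of_dvd (by norm_num) h).trans (by norm_num)
    rcases (Nat.Prime.dvd_mul hr).1 h with h | h
    · exact (Nat.le_of_dvd (by norm_num) h).trans (by norm_num)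
    rcases (Nat.Prime.dvd_mul hr).1 h with h | h
    · exact (Nat.le_of_dvd (by norm_num) h).trans (by norm_num)
    rcases (Nat.Prime.dvd_mul hr).1 h with h | h
    · exact (Nat.le_of_dvd (by norm_num) h).trans (by norm_num)
    · exact Nat.le_of_dvd (by norm_num) h
  have hk3 : k < 3 := by
    by_contra h
    have h3 : r ^ 3 ∣ r ^ k := pow_dvd_pow r (by omega)
    have h4 := h3.trans hq
    have hr2 : 2 ≤ r := hr.two_le
    interval_cases r <;> revert h4 <;> decide
  have hr2 : 2 ≤ r := hr.two_le
  interval_cases r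
  · -- r = 2
    interval_cases k
    · exact absurd rfl hk
    · exact ⟨rfl, rfl⟩
    · exfalso
      rcases hc' with rfl | rfl | rfl | rfl <;> omega
  · -- r = 3
    exfalso
    interval_cases k
    · exact absurd rfl hk
    · rcases hc' with rfl | rfl | rfl | rfl <;> omega
    · rcases hc' with rfl | rfl | rfl | rfl
      · omega
      · revert hc1; decide
      · omega
      · omega
  · exact absurd (by norm_num : ¬ Nat.Prime 4) (fun h => h hr)
  · -- r = 5
    exfalso
    interval_cases k
    · exact absurd rfl hk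
    · rcases hc' with rfl | rfl | rfl | rfl <;> omega
    · revert hq; decide
  · exact absurd (by norm_num : ¬ Nat.Prime 6) (fun h => h hr)
  · exact absurd rfl hr7

end Cfsg.Agent.Helper20.SylFifteen
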