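import Mathlib
import Cfsg.Agent.Lib.Helper20.SylFifteen9

/-!
# Fifteen Sylow 7-subgroups of order 7: a minimal example is simple, part 2 (helper20)
-/

set_option autoImplicit false

namespace Cfsg.Agent.Helper20.SylFifteen

open Subgroup MulAction

universe u

variable {G : Type u} [Group G] [Finite G]

theorem small_sylow (h15 : Nat.card (Sylow 7 G) = 15) (hf : Faithful G)
    (h7 : ∀ P : Sylow 7 G, Nat.card (P : Subgroup G) = 7)
    (M : Subgroup G) [M.Normal] (hd : ¬ 7 ∣ Nat.card M) (r : ℕ) [hr : Fact r.Prime]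
    (hrM : r ∣ Nat.card M) (R : Sylow r ↥M) : r = 2 ∧ Nat.card (R : Subgroup ↥M) = 2 := by
  classical
  haveI : Finite (Sylow 7 G) := Nat.finite_of_card_ne_zero (by rw [h15]; norm_num)
  obtain ⟨P₀⟩ : Nonempty (Sylow 7 G) := inferInstance
  have hP₀ := h7 P₀
  set R' : Subgroup G := (R : Subgroup ↥M).map M.subtype with hR'
  set k := (Nat.card M).factorization r with hk
  have hk0 : k ≠ 0 := by
    have := (hr.out.factorization_pos_of_dvd (Nat.card_pos (α := ↥M)).ne' hrM)
    omega
  have hRcard : Nat.card (R : Subgroup ↥M) = r ^ k := R.card_eq_multiplicity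
  have hR'card : Nat.card R' = r ^ k := by
    rw [hR', Subgroup.card_map_of_injective M.subtype_injective, hRcard]
  set H := normalizer (R' : Set G) with hH
  have hfr : H ⊔ M = ⊤ := Sylow.normalizer_sup_eq_top R
  have h7G : 7 ∣ Nat.card G := by
    rw [← hP₀]; exact Subgroup.card_subgroup_dvd_card _
  have h7idx : 7 ∣ M.index := by
    have h1 := Subgroup.card_mul_index M
    rw [← h1] at h7G
    exact ((Nat.Prime.dvd_mul (by norm_num)).1 h7G).resolve_left hd
  have hidx : M.index = M.relIndex H := by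
    rw [← Subgroup.relIndex_sup_right H M, hfr, Subgroup.relIndex_top_right]
  have h7H : 7 ∣ Nat.card H := by
    rw [hidx] at h7idx
    exact h7idx.trans (Subgroup.relIndex_dvd_card M H)
  obtain ⟨x, hx⟩ := exists_prime_orderOf_dvd_card' (G := ↥H) 7 h7H
  have hx' : orderOf (x : G) = 7 := by rw [Subgroup.orderOf_coe, hx]
  obtain ⟨P₁, hP₁⟩ := exists_sylow_zpowers P₀ hP₀ (x : G) hx'
  have hP₁H : (P₁ : Subgroup G) ≤ normalizer (R' : Set G) := by
    rw [hP₁, Subgroup.zpowers_le]; exact x.2
  have hmod := card_modEq_card_centralizer (P₁ : Subgroup G) R' P₁.isPGroup' hP₁H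
  set c := Nat.card ↥(R' ⊓ centralizer ((P₁ : Subgroup G) : Set G)) with hc
  have hc1 : c ∣ r ^ k := by
    rw [← hR'card]; exact Subgroup.card_dvd_of_le inf_le_left
  have hc2 : c ∣ 14 := by
    have h1 : c ∣ Nat.card (centralizer ((P₁ : Subgroup G) : Set G)) :=
      Subgroup.card_dvd_of_le inf_le_right
    rcases card_centralizer h15 hf P₁ (h7 P₁) with h | h
    · rw [h] at h1; exact h1.trans (by norm_num)
    · rw [h] at h1; exact h1
  have hr7 : r ≠ 7 := by
    rintro rfl; exact hd hrM
  have hq : r ^ k ∣ 1260 := by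
    rw [← hR'card]
    exact (Subgroup.card_subgroup_dvd_card R').trans (card_dvd_1260 h15 hf P₀ hP₀)
  rw [hR'card] at hmod
  have := arith_small r k c hr.out hk0 hq hr7 hc1 hc2 hmod
  refine ⟨this.1, ?_⟩
  rw [hRcard, this.1, this.2]; norm_num

theorem eq_bot_of_normal (h15 : Nat.card (Sylow 7 G) = 15) (hf : Faithful G)
    (h7 : ∀ P : Sylow 7 G, Nat.card (P : Subgroup G) = 7)
    (IH : ∀ (H : Type u) [Group H] [Finite H], Nat.card H < Nat.card G →
      Nat.card (Sylow 7 H) ≠ 15)
    (M : Subgroup G) [M.Normal] (hM : M ≠ ⊤) : M = ⊥ := by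
  classical
  haveI : Finite (Sylow 7 G) := Nat.finite_of_card_ne_zero (by rw [h15]; norm_num)
  obtain ⟨P₀⟩ : Nonempty (Sylow 7 G) := inferInstance
  have hP₀ := h7 P₀
  by_cases hd : 7 ∣ Nat.card M
  · exfalso
    obtain ⟨x, hx⟩ := exists_prime_orderOf_dvd_card' (G := ↥M) 7 hd
    have hx' : orderOf (x : G) = 7 := by rw [Subgroup.orderOf_coe, hx]
    obtain ⟨P₁, hP₁⟩ := exists_sylow_zpowers P₀ hP₀ (x : G) hx'
    have hPM : (P₁ : Subgroup G) ≤ M := by rw [hP₁, Subgroup.zpowers_le]; exact x.2
    have h1 := card_sylow_of_normal M P₁ hPM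
    rw [h15] at h1
    have hlt : Nat.card M < Nat.card G := by
      rcases (Subgroup.card_le_card_group M).lt_or_eq with h | h
      · exact h
      · exact absurd (Subgroup.card_eq_iff_eq_top M |>.1 h) hM
    exact IH ↥M hlt h1
  · by_contra hMbot
    have hM1 : Nat.card M ≠ 1 := fun h => hMbot (Subgroup.card_eq_one.1 h)
    -- every prime divisor of `|M|` is `2`
    have hall : ∀ {d : ℕ}, d.Prime → d ∣ Nat.card M → d = 2 := by
      intro d hdp hdM
      haveI : Fact d.Prime := ⟨hdp⟩
      obtain ⟨R⟩ : Nonempty (Sylow d ↥M) := inferInstance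
      exact (small_sylow h15 hf h7 M hd d hdM R).1
    have hpow := Nat.eq_prime_pow_of_unique_prime_dvd (Nat.card_pos (α := ↥M)).ne' hall
    haveI : Fact (Nat.Prime 2) := ⟨Nat.prime_two⟩
    obtain ⟨R⟩ : Nonempty (Sylow 2 ↥M) := inferInstance
    have h2M : 2 ∣ Nat.card M := by
      obtain ⟨d, hdp, hdM⟩ := Nat.exists_prime_and_dvd hM1
      rw [← hall hdp hdM]; exact hdM
    have hR2 := (small_sylow h15 hf h7 M hd 2 h2M R).2
    have hRtop : (R : Subgroup ↥M) = ⊤ := by
      have h3 : IsPGroup 2 (⊤ : Subgroup ↥M) := by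
        apply IsPGroup.of_card (n := (Nat.card M).primeFactorsList.length)
        rw [Subgroup.card_top]; exact hpow
      exact (R.3 h3 le_top).symm
    have hMcard : Nat.card M = 2 := by
      rw [← hR2, hRtop, Subgroup.card_top]
    -- a normal subgroup of order two is central, hence acts trivially
    obtain ⟨y, hy⟩ := (Nat.card_eq_two_iff' (1 : ↥M)).1 hMcard
    have hy1 : (y : G) ≠ 1 := fun h => hy.1 (Subtype.ext h)
    have hconj : ∀ g : G, g * (y : G) * g⁻¹ = y := by
      intro g
      have h3 : (⟨g * (y : G) * g⁻¹, ‹M.Normal›.conj_mem _ y.2 g⟩ : ↥M) ≠ 1 := by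
        intro h
        have h4 : g * (y : G) * g⁻¹ = 1 := congrArg Subtype.val h
        apply hy1
        have : (y : G) = g⁻¹ * (g * (y : G) * g⁻¹) * g := by group
        rw [this, h4]; group
      have h5 := hy.2 _ h3
      exact congrArg Subtype.val h5
    apply hy1
    apply hf
    intro P
    apply centralizer_smul P
    rw [Subgroup.mem_centralizer_iff]
    intro h _
    have := hconj h
    calc h * (y : G) = h * (y : G) * h⁻¹ * h := by group
      _ = (y : G) * h := by rw [this]

end Cfsg.Agent.Helper20.SylFifteen
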