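import Mathlib
import Cfsg.Agent.Lib.Helper20.SylFifteen10
import Cfsg.Agent.Lib.Helper7.ZStar3

/-!
# Fifteen Sylow 7-subgroups of order 7: the final contradictions (helper20)
-/

set_option autoImplicit false

namespace Cfsg.Agent.Helper20.SylFifteen

open Subgroup MulAction

universe u

variable {G : Type u} [Group G] [Finite G]

/-- a Sylow `p`-subgroup of order `p` with `gcd (p - 1, |G|) = 1` has a normal complement -/
theorem exists_normal_of_coprime (p m : ℕ) [hp : Fact p.Prime] (hG : Nat.card G = p * m)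
    (hm : ¬ p ∣ m) (hm1 : 1 < m) (hcop : Nat.Coprime (p - 1) (p * m)) :
    ∃ K : Subgroup G, K.Normal ∧ K ≠ ⊥ ∧ K ≠ ⊤ := by
  obtain ⟨P⟩ : Nonempty (Sylow p G) := inferInstance
  have hPcard : Nat.card (P : Subgroup G) = p := by
    obtain ⟨j, hj⟩ := IsPGroup.iff_card.1 P.isPGroup'
    have h1 := Subgroup.card_mul_index (P : Subgroup G)
    have h2 := P.not_dvd_index
    rw [hj, hG] at h1
    rcases Nat.lt_or_ge j 2 with h | h
    · interval_cases j
      · exfalso
        rw [pow_zero, one_mul] at h1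
        exact h2 ⟨m, h1⟩
      · rw [hj, pow_one]
    · exfalso
      have h3 : p ^ 2 ∣ p ^ j := pow_dvd_pow p h
      have h4 : p ^ 2 ∣ p * m := by rw [← h1]; exact h3.trans (dvd_mul_right _ _)
      rw [pow_two] at h4
      exact hm ((Nat.mul_dvd_mul_iff_left hp.out.pos).1 h4)
  have hcyc : IsCyclic ↥(P : Subgroup G) := isCyclic_of_prime_card hPcard
  have h1 := relIndex_centralizer_dvd_totient (P : Subgroup G) hcyc
  rw [hPcard, Nat.totient_prime hp.out] at h1
  have h2 : (centralizer ((P : Subgroup G) : Set G)).relIndex (normalizer ((P : Subgroup G) : Set G))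
      ∣ p * m := by
    rw [← hG]
    exact (Subgroup.relIndex_dvd_card _ _).trans (Subgroup.card_subgroup_dvd_card _)
  have h3 : (centralizer ((P : Subgroup G) : Set G)).relIndex
      (normalizer ((P : Subgroup G) : Set G)) = 1 :=
    Nat.eq_one_of_dvd_coprimes hcop h1 h2
  have h4 : normalizer ((P : Subgroup G) : Set G) ≤ centralizer ((P : Subgroup G) : Set G) :=
    Subgroup.relIndex_eq_one.1 h3
  obtain ⟨K, hKn, hK⟩ := exists_normal_complement P h4
  rw [hPcard, hG, mul_comm] at hK
  have hKm : Nat.card K = m := Nat.eq_of_mul_eq_mul_left hp.out.pos hK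
  refine ⟨K, hKn, ?_, ?_⟩
  · rintro rfl
    rw [Subgroup.card_bot] at hKm
    omega
  · rintro rfl
    rw [Subgroup.card_top, hG] at hKm
    have : 2 ≤ p := hp.out.two_le
    nlinarith

theorem caseB_seven (hsimple : ∀ (M : Subgroup G) [M.Normal], M ≠ ⊤ → M = ⊥)
    (e : ℕ) (he : e ∣ 6) (hG : Nat.card G = 15 * (7 * e)) : False := by
  have he6 : e ≤ 6 := Nat.le_of_dvd (by norm_num) he
  have key : ∃ K : Subgroup G, K.Normal ∧ K ≠ ⊥ ∧ K ≠ ⊤ := by
    haveI : Fact (Nat.Prime 2) := ⟨Nat.prime_two⟩
    haveI : Fact (Nat.Prime 5) := ⟨by norm_num⟩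
    interval_cases e
    · exact absurd he (by norm_num)
    · exact exists_normal_of_coprime 5 21 (by rw [hG]) (by norm_num) (by norm_num) (by norm_num)
    · exact exists_normal_of_coprime 2 105 (by rw [hG]) (by norm_num) (by norm_num) (by norm_num)
    · exact exists_normal_of_coprime 5 63 (by rw [hG]) (by norm_num) (by norm_num) (by norm_num)
    · exact absurd he (by norm_num)
    · exact absurd he (by norm_num)
    · exact exists_normal_of_coprime 2 315 (by rw [hG]) (by norm_num) (by norm_num) (by norm_num)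
  obtain ⟨K, hKn, hK1, hK2⟩ := key
  exact hK1 (hsimple K hK2)

end Cfsg.Agent.Helper20.SylFifteen
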