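import Mathlib
import Cfsg.Agent.Lib.Helper20.SylFifteen11

/-!
# Fifteen Sylow 7-subgroups of order 7: centralizer of order 14 (helper20)
-/

set_option autoImplicit false

namespace Cfsg.Agent.Helper20.SylFifteen

open Subgroup MulAction

universe u

variable {G : Type u} [Group G] [Finite G]

omit [Finite G] in
theorem orderOf_conj_eq (g x : G) : orderOf (g * x * g⁻¹) = orderOf x := by
  have := (MulAut.conj g).orderOf_eq x
  rwa [MulAut.conj_apply] at this

/-- two commuting involutions of the centralizer are equal -/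
theorem eq_of_commute_involutions (h15 : Nat.card (Sylow 7 G) = 15) (hf : Faithful G)
    (P : Sylow 7 G) (t t' : G) (ht : orderOf t = 2) (ht' : orderOf t' = 2)
    (htC : t ∈ centralizer ((P : Subgroup G) : Set G))
    (htC' : t' ∈ centralizer ((P : Subgroup G) : Set G)) (hc : Commute t t') : t' = t := by
  classical
  have comm : ∀ (m : ↥(zpowers t)) (n : ↥(zpowers t')),
      Commute ((zpowers t).subtype m) ((zpowers t').subtype n) := by
    intro m n
    obtain ⟨i, hi⟩ := m.2
    obtain ⟨j, hj⟩ := n.2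
    show Commute (m : G) (n : G)
    rw [← hi, ← hj]
    exact (hc.zpow_left i).zpow_right j
  set φ := MonoidHom.noncommCoprod (zpowers t).subtype (zpowers t').subtype comm with hφ
  set E := φ.range with hE
  have h1 : Nat.card E ∣ 2 ^ 2 := by
    have h2 := Subgroup.card_range_dvd φ
    rw [Nat.card_prod, Nat.card_zpowers, Nat.card_zpowers, ht, ht'] at h2
    exact h2
  obtain ⟨j, _, hj⟩ := (Nat.dvd_prime_pow Nat.prime_two).1 h1
  have hE2 : IsPGroup 2 E := IsPGroup.of_card hj
  have hEC : E ≤ centralizer ((P : Subgroup G) : Set G) := by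
    rintro _ ⟨⟨a, b⟩, rfl⟩
    rw [hφ, MonoidHom.noncommCoprod_apply]
    refine Subgroup.mul_mem _ ?_ ?_
    · have : zpowers t ≤ centralizer ((P : Subgroup G) : Set G) := by
        rw [Subgroup.zpowers_le]; exact htC
      exact this a.2
    · have : zpowers t' ≤ centralizer ((P : Subgroup G) : Set G) := by
        rw [Subgroup.zpowers_le]; exact htC'
      exact this b.2
  have h2 := two_subgroup_card h15 hf P E hE2 hEC
  have htE : t ∈ E := ⟨(⟨t, mem_zpowers t⟩, 1), by rw [hφ, MonoidHom.noncommCoprod_apply]; simp⟩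
  have htE' : t' ∈ E := ⟨(1, ⟨t', mem_zpowers t'⟩), by rw [hφ, MonoidHom.noncommCoprod_apply]; simp⟩
  have ht1 : t ≠ 1 := by
    intro h; rw [h, orderOf_one] at ht; omega
  have ht1' : t' ≠ 1 := by
    intro h; rw [h, orderOf_one] at ht'; omega
  have h3 : Nat.card E = 1 ∨ Nat.card E = 2 := by
    have := Nat.le_of_dvd (by norm_num) h2
    have hpos : 0 < Nat.card E := Nat.card_pos
    omega
  rcases h3 with h3 | h3
  · exfalso
    have := Subgroup.card_eq_one.1 h3
    rw [this, Subgroup.mem_bot] at htE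
    exact ht1 htE
  · obtain ⟨y, hy⟩ := (Nat.card_eq_two_iff' (1 : ↥E)).1 h3
    have h4 := hy.2 ⟨t, htE⟩ (fun h => ht1 (congrArg Subtype.val h))
    have h5 := hy.2 ⟨t', htE'⟩ (fun h => ht1' (congrArg Subtype.val h))
    have := h5.trans h4.symm
    exact congrArg Subtype.val this

theorem caseB_fourteen (h15 : Nat.card (Sylow 7 G) = 15) (hf : Faithful G)
    (P : Sylow 7 G)
    (hsimple : ∀ (M : Subgroup G) [M.Normal], M ≠ ⊤ → M = ⊥)
    (hC : Nat.card (centralizer ((P : Subgroup G) : Set G)) = 14) : False := by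
  classical
  haveI : Fact (Nat.Prime 2) := ⟨Nat.prime_two⟩
  obtain ⟨x, hx⟩ := exists_prime_orderOf_dvd_card' (G := ↥(centralizer ((P : Subgroup G) : Set G))) 2
    (by rw [hC]; norm_num)
  set t : G := (x : G) with ht
  have hto : orderOf t = 2 := by rw [ht, Subgroup.orderOf_coe, hx]
  have htC : t ∈ centralizer ((P : Subgroup G) : Set G) := x.2
  have hfix := (centralizer_prime h15 hf P htC Nat.prime_two hto (by norm_num)).2
  have ht1 : t ≠ 1 := by
    intro h; rw [h, orderOf_one] at hto; omega
  have hiso : Cfsg.IsIsolated t := by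
    intro g hc
    set t' := g * t * g⁻¹ with ht'
    -- `t'` fixes `P`
    have h1 : t' • P ∈ fixedBy (Sylow 7 G) t := by
      show t • (t' • P) = t' • P
      rw [smul_smul, hc.eq, ← smul_smul, centralizer_smul P htC]
    rw [hfix, Set.mem_singleton_iff] at h1
    -- hence `g` normalizes `P`
    have h3 : t' • P = P := h1
    rw [ht', mul_smul, mul_smul] at h3
    have h4 : t • (g⁻¹ • P) = g⁻¹ • P := by
      have := congrArg (fun Q => g⁻¹ • Q) h3
      simpa only [inv_smul_smul] using this
    have h2 : g⁻¹ • P ∈ fixedBy (Sylow 7 G) t := h4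
    rw [hfix, Set.mem_singleton_iff, Sylow.smul_eq_iff_mem_normalizer] at h2
    -- `t'` centralizes `P`
    have htC' : t' ∈ centralizer ((P : Subgroup G) : Set G) := by
      rw [Subgroup.mem_centralizer_iff]
      intro h hh
      have h5 : g⁻¹ * h * g⁻¹⁻¹ ∈ (P : Subgroup G) := ((Subgroup.mem_normalizer_iff).1 h2 h).1 hh
      rw [inv_inv] at h5
      have hk := (Subgroup.mem_centralizer_iff.1 htC) _ h5
      calc h * t' = g * ((g⁻¹ * h * g) * t) * g⁻¹ := by rw [ht']; group
        _ = g * (t * (g⁻¹ * h * g)) * g⁻¹ := by rw [hk]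
        _ = t' * h := by rw [ht']; group
    have hto' : orderOf t' = 2 := by rw [ht', orderOf_conj_eq, hto]
    exact eq_of_commute_involutions h15 hf P t t' hto hto' htC htC' hc
  obtain ⟨N₀, hN₀n, hN₀odd, hN₀⟩ := Cfsg.Agent.Helper7.ZStar.zstar_exists t hto hiso
  have hN₀bot : N₀ = ⊥ := by
    apply hsimple N₀
    rintro rfl
    rw [Subgroup.card_top] at hN₀odd
    have h2 : 2 ∣ Nat.card G := by rw [← hto]; exact orderOf_dvd_natCard t
    rw [Nat.odd_iff] at hN₀odd
    omega
  have hcentral : ∀ g : G, g * t = t * g := by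
    intro g
    have h1 := hN₀ g
    rw [hN₀bot, Subgroup.mem_bot] at h1
    calc g * t = (t * g * t⁻¹ * g⁻¹)⁻¹ * (t * g) := by group
      _ = t * g := by rw [h1]; group
  apply ht1
  apply hf
  intro Q
  apply centralizer_smul Q
  rw [Subgroup.mem_centralizer_iff]
  intro h _
  exact hcentral h

end Cfsg.Agent.Helper20.SylFifteen
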