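import Mathlib
import Cfsg.Agent.Lib.Helper20.SylFifteen12

/-!
# No finite group has exactly fifteen Sylow 7-subgroups (helper20)
-/

set_option autoImplicit false

namespace Cfsg.Agent.Helper20.SylFifteen

open Subgroup MulAction

universe u

theorem main_aux : ∀ n : ℕ, ∀ (G : Type u) [Group G] [Finite G], Nat.card G = n →
    Nat.card (Sylow 7 G) ≠ 15 := by
  intro n
  induction n using Nat.strong_induction_on with
  | _ n ih =>
    intro G _ _ hn h15
    classical
    haveI : Finite (Sylow 7 G) := Nat.finite_of_card_ne_zero (by rw [h15]; norm_num)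
    have IH : ∀ (H : Type u) [Group H] [Finite H], Nat.card H < Nat.card G →
        Nat.card (Sylow 7 H) ≠ 15 := by
      intro H _ _ hlt
      exact ih (Nat.card H) (hn ▸ hlt) H rfl
    -- the action on the Sylow subgroups is faithful
    have hf : Faithful G := by
      intro g hg
      by_contra hg1
      set K : Subgroup G := (MulAction.toPermHom G (Sylow 7 G)).ker with hK
      have hmemK : ∀ k : G, k ∈ K ↔ ∀ P : Sylow 7 G, k • P = P := by
        intro k
        rw [hK, MonoidHom.mem_ker]
        constructor
        · intro h P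
          have := congrArg (fun σ : Equiv.Perm (Sylow 7 G) => σ P) h
          simpa using this
        · intro h
          exact Equiv.ext fun P => h P
      have hKle : ∀ P : Sylow 7 G, K ≤ normalizer ((P : Subgroup G) : Set G) := by
        intro P k hk
        exact Sylow.smul_eq_iff_mem_normalizer.1 ((hmemK k).1 hk P)
      have h1 := card_sylow_quotient K hKle
      rw [h15] at h1
      have hgK : g ∈ K := (hmemK g).2 hg
      have hKcard : 1 < Nat.card K := by
        rw [Finite.one_lt_card_iff_nontrivial]
        exact ⟨⟨⟨g, hgK⟩, 1, fun h => hg1 (congrArg Subtype.val h)⟩⟩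
      have hlt : Nat.card (G ⧸ K) < Nat.card G := by
        have h2 := Subgroup.card_mul_index K
        rw [← Subgroup.index_eq_card]
        have hpos : 0 < K.index := Nat.pos_of_ne_zero Subgroup.index_ne_zero_of_finite
        nlinarith
      exact IH (G ⧸ K) hlt h1
    -- two distinct Sylow subgroups
    haveI : Nontrivial (Sylow 7 G) := by
      rw [← Finite.one_lt_card_iff_nontrivial, h15]; norm_num
    obtain ⟨P₀, Q₀, h0⟩ := exists_pair_ne (Sylow 7 G)
    by_cases hm : 1 < Nat.card ↥((P₀ : Subgroup G) ⊓ Q₀)
    · exact caseA h15 hf P₀ Q₀ h0 hm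
    · have hm1 : Nat.card ↥((P₀ : Subgroup G) ⊓ Q₀) = 1 := by
        have : 0 < Nat.card ↥((P₀ : Subgroup G) ⊓ Q₀) := Nat.card_pos
        omega
      have hP₀ : Nat.card (P₀ : Subgroup G) = 7 := by
        rw [← inter_card h15 P₀ Q₀ h0, hm1]
      have h7 : ∀ P : Sylow 7 G, Nat.card (P : Subgroup G) = 7 := fun P => by
        rw [card_eq_of_sylow P P₀, hP₀]
      have hsimple : ∀ (M : Subgroup G) [M.Normal], M ≠ ⊤ → M = ⊥ :=
        fun M _ hM => eq_bot_of_normal h15 hf h7 IH M hM
      have hG := card_group h15 P₀
      rcases card_centralizer h15 hf P₀ hP₀ with hC | hC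
      · rw [hC] at hG
        exact caseB_seven hsimple _ (relIndex_dvd_six P₀ hP₀) hG
      · exact caseB_fourteen h15 hf P₀ hsimple hC

theorem main (G : Type u) [Group G] [Finite G] : Nat.card (Sylow 7 G) ≠ 15 :=
  main_aux _ G rfl

end Cfsg.Agent.Helper20.SylFifteen
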