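import Mathlib

/-! Groups generated by elements of order dividing `p`: the abelianization has exponent `p`.
Also the index-two "even part" of a permutation group generated by involutions. -/

namespace Cfsg.Agent.Helper20.SylPerm

open Equiv

/-- the group `K` is generated by its elements `x` with `x ^ p = 1` -/
def GenByPow (p : ℕ) (K : Type*) [Group K] : Prop :=
  Subgroup.closure {x : K | x ^ p = 1} = ⊤

theorem GenByPow.of_mulEquiv {p : ℕ} {K L : Type*} [Group K] [Group L] (e : K ≃* L)
    (h : GenByPow p K) : GenByPow p L := by
  unfold GenByPow at h ⊢
  have h1 : (Subgroup.closure {x : K | x ^ p = 1}).map e.toMonoidHom = ⊤ := by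
    rw [h, ← MonoidHom.range_eq_map]
    exact MonoidHom.range_eq_top.2 e.surjective
  rw [MonoidHom.map_closure] at h1
  rw [eq_top_iff, ← h1]
  apply Subgroup.closure_mono
  rintro _ ⟨x, hx, rfl⟩
  show (e x) ^ p = 1
  rw [← map_pow, show x ^ p = 1 from hx, map_one]

theorem GenByPow.pow_mem_commutator {p : ℕ} {K : Type*} [Group K] (h : GenByPow p K) (x : K) :
    x ^ p ∈ commutator K := by
  unfold GenByPow at h
  let ψ : K →* Abelianization K := (powMonoidHom p).comp Abelianization.of
  have h1 : ψ.ker = ⊤ := by
    rw [eq_top_iff, ← h, Subgroup.closure_le]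
    intro y hy
    show ψ y = 1
    show (Abelianization.of y) ^ p = 1
    rw [← map_pow, show y ^ p = 1 from hy, map_one]
  have h2 : x ∈ ψ.ker := by rw [h1]; trivial
  have h3 : Abelianization.of (x ^ p) = 1 := by
    rw [map_pow]; exact h2
  rw [← Abelianization.ker_of]
  exact h3

theorem genByPow_of_closure {p : ℕ} {G : Type*} [Group G] (H : Subgroup G) (I : Set G)
    (hI : Subgroup.closure I = H) (hp : ∀ x ∈ I, x ^ p = 1) : GenByPow p H := by
  subst hI
  unfold GenByPow
  rw [eq_top_iff, ← Subgroup.closure_closure_coe_preimage (k := I)]
  apply Subgroup.closure_mono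
  intro x hx
  show x ^ p = 1
  apply Subtype.ext
  rw [Subgroup.coe_pow, Subgroup.coe_one]
  exact hp _ hx

/-- Schreier-type lemma: if `H` is generated by involutions, the odd ones commuting pairwise,
then the even part of `H` is generated by involutions. -/
theorem even_part_closure {α : Type*} [Fintype α] [DecidableEq α] (H : Subgroup (Perm α))
    (I : Set (Perm α)) (hI : Subgroup.closure I = H) (h2 : ∀ x ∈ I, x ^ 2 = 1)
    (hc : ∀ x ∈ I, ∀ y ∈ I, Perm.sign x ≠ 1 → Perm.sign y ≠ 1 → Commute x y) :
    Subgroup.closure {x : Perm α | x ∈ H ∧ Perm.sign x = 1 ∧ x ^ 2 = 1} =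
      H ⊓ alternatingGroup α := by
  set J : Set (Perm α) := {x : Perm α | x ∈ H ∧ Perm.sign x = 1 ∧ x ^ 2 = 1} with hJ
  set K := Subgroup.closure J with hK
  have hIH : ∀ x ∈ I, x ∈ H := fun x hx => hI ▸ Subgroup.subset_closure hx
  have hJK : ∀ x, x ∈ H → Perm.sign x = 1 → x ^ 2 = 1 → x ∈ K :=
    fun x h1 h2 h3 => Subgroup.subset_closure ⟨h1, h2, h3⟩
  apply le_antisymm
  · rw [hK, Subgroup.closure_le]
    rintro x ⟨h1, h2, -⟩
    exact Subgroup.mem_inf.2 ⟨h1, Perm.mem_alternatingGroup.2 h2⟩
  · by_cases hodd : ∃ t ∈ I, Perm.sign t ≠ 1
    · obtain ⟨t, htI, ht⟩ := hodd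
      have ht2 : t * t = 1 := by rw [← sq]; exact h2 t htI
      have step : ∀ x : Perm α, ∀ y ∈ I, (x ∈ K ∨ x * t ∈ K) → (x * y ∈ K ∨ x * y * t ∈ K) := by
        intro x y hy ih
        have hy2 : y * y = 1 := by rw [← sq]; exact h2 y hy
        by_cases hys : Perm.sign y = 1
        · have hyK : y ∈ K := hJK y (hIH y hy) hys (h2 y hy)
          have htyt : t * y * t ∈ K := by
            apply hJK
            · exact H.mul_mem (H.mul_mem (hIH t htI) (hIH y hy)) (hIH t htI)
            · rw [map_mul, map_mul, hys, mul_one, ← map_mul, ht2, map_one]
            · rw [sq]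
              calc t * y * t * (t * y * t) = t * y * (t * t) * y * t := by group
                _ = t * (y * y) * t := by rw [ht2]; group
                _ = 1 := by rw [hy2, mul_one, ht2]
          rcases ih with ih | ih
          · exact Or.inl (K.mul_mem ih hyK)
          · right
            have : x * y * t = (x * t) * (t * y * t) := by
              calc x * y * t = x * (t * t) * y * t := by rw [ht2, mul_one]
                _ = (x * t) * (t * y * t) := by group
            rw [this]
            exact K.mul_mem ih htyt
        · have hcom : Commute y t := hc y hy t htI hys ht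
          have hyt : y * t ∈ K := by
            apply hJK
            · exact H.mul_mem (hIH y hy) (hIH t htI)
            · rw [map_mul]
              rcases Int.units_eq_one_or (Perm.sign y) with h | h
              · exact absurd h hys
              · rcases Int.units_eq_one_or (Perm.sign t) with h' | h'
                · exact absurd h' ht
                · rw [h, h']; rfl
            · rw [sq]
              calc y * t * (y * t) = y * (t * y) * t := by group
                _ = y * (y * t) * t := by rw [hcom.eq]
                _ = (y * y) * (t * t) := by group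
                _ = 1 := by rw [hy2, ht2, mul_one]
          rcases ih with ih | ih
          · right
            rw [mul_assoc]
            exact K.mul_mem ih hyt
          · left
            have : x * y = (x * t) * (y * t) := by
              calc x * y = x * y * (t * t) := by rw [ht2, mul_one]
                _ = x * (y * t) * t := by group
                _ = x * (t * y) * t := by rw [hcom.eq]
                _ = (x * t) * (y * t) := by group
            rw [this]
            exact K.mul_mem ih hyt
      have key : ∀ h ∈ Subgroup.closure I, h ∈ K ∨ h * t ∈ K := by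
        intro h hh
        induction hh using Subgroup.closure_induction_right with
        | one => exact Or.inl K.one_mem
        | mul_right x hx y hy ih => exact step x y hy ih
        | mul_inv_cancel x hx y hy ih =>
          have hy2 : y * y = 1 := by rw [← sq]; exact h2 y hy
          have hyinv : y⁻¹ = y := inv_eq_of_mul_eq_one_left hy2
          rw [hyinv]
          exact step x y hy ih
      intro x hx
      obtain ⟨hxH, hxA⟩ := Subgroup.mem_inf.1 hx
      have hxs : Perm.sign x = 1 := Perm.mem_alternatingGroup.1 hxA
      rcases key x (hI ▸ hxH) with h | h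
      · exact h
      · exfalso
        have hK_le : K ≤ alternatingGroup α := by
          rw [hK, Subgroup.closure_le]
          rintro z ⟨-, hz, -⟩
          exact Perm.mem_alternatingGroup.2 hz
        have := Perm.mem_alternatingGroup.1 (hK_le h)
        rw [map_mul, hxs, one_mul] at this
        exact ht this
    · have hall : ∀ t ∈ I, Perm.sign t = 1 := by
        intro t ht
        by_contra hne
        exact hodd ⟨t, ht, hne⟩
      have : H ≤ K := by
        rw [← hI, Subgroup.closure_le]
        intro x hx
        exact hJK x (hIH x hx) (hall x hx) (h2 x hx)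
      exact inf_le_left.trans this

end Cfsg.Agent.Helper20.SylPerm
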