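import Mathlib

/-! Permutational wreath product `C_p ≀ H` inside `Perm (β × ZMod p)`. -/

namespace Cfsg.Agent.Helper20.SylPerm

open Equiv

variable {β : Type*} (p : ℕ)

/-- `(i, j) ↦ (σ i, j + c i)` -/
def wrPerm (σ : Perm β) (c : β → ZMod p) : Perm (β × ZMod p) where
  toFun x := (σ x.1, x.2 + c x.1)
  invFun x := (σ⁻¹ x.1, x.2 - c (σ⁻¹ x.1))
  left_inv x := by
    ext
    · simp
    · simp
  right_inv x := by
    ext
    · simp
    · simp

@[simp] theorem wrPerm_apply (σ : Perm β) (c : β → ZMod p) (x : β × ZMod p) :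
    wrPerm p σ c x = (σ x.1, x.2 + c x.1) := rfl

theorem wrPerm_mul (σ σ' : Perm β) (c c' : β → ZMod p) :
    wrPerm p σ c * wrPerm p σ' c' = wrPerm p (σ * σ') (fun i => c' i + c (σ' i)) := by
  ext x
  · simp
  · simp [add_assoc]

theorem wrPerm_one : wrPerm p (1 : Perm β) (0 : β → ZMod p) = 1 := by
  ext x
  · simp
  · simp

theorem wrPerm_inv (σ : Perm β) (c : β → ZMod p) :
    (wrPerm p σ c)⁻¹ = wrPerm p σ⁻¹ (fun i => - c (σ⁻¹ i)) := by
  apply inv_eq_of_mul_eq_one_left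
  rw [wrPerm_mul]
  rw [← wrPerm_one]
  congr 1
  · simp
  · funext i
    simp

theorem wrPerm_injective : Function.Injective
    (fun x : Perm β × (β → ZMod p) => wrPerm p x.1 x.2) := by
  rintro ⟨σ, c⟩ ⟨σ', c'⟩ h
  have h1 : ∀ i, wrPerm p σ c (i, 0) = wrPerm p σ' c' (i, 0) := fun i => by
    have : wrPerm p σ c = wrPerm p σ' c' := h
    rw [this]
  have h2 : σ = σ' := by
    ext i
    have := h1 i
    simp only [wrPerm_apply, Prod.mk.injEq] at this
    rw [this.1]
  have h3 : c = c' := by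
    funext i
    have := h1 i
    simp only [wrPerm_apply, Prod.mk.injEq, zero_add] at this
    exact this.2
  rw [h2, h3]

/-- the wreath subgroup -/
def wrSubgroup (H : Subgroup (Perm β)) : Subgroup (Perm (β × ZMod p)) where
  carrier := {g | ∃ σ ∈ H, ∃ c : β → ZMod p, g = wrPerm p σ c}
  mul_mem' := by
    rintro _ _ ⟨σ, hσ, c, rfl⟩ ⟨σ', hσ', c', rfl⟩
    exact ⟨σ * σ', H.mul_mem hσ hσ', _, wrPerm_mul p σ σ' c c'⟩
  one_mem' := ⟨1, H.one_mem, 0, (wrPerm_one p).symm⟩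
  inv_mem' := by
    rintro _ ⟨σ, hσ, c, rfl⟩
    exact ⟨σ⁻¹, H.inv_mem hσ, _, wrPerm_inv p σ c⟩

theorem mem_wrSubgroup (H : Subgroup (Perm β)) (g : Perm (β × ZMod p)) :
    g ∈ wrSubgroup p H ↔ ∃ σ ∈ H, ∃ c : β → ZMod p, g = wrPerm p σ c := Iff.rfl

theorem card_wrSubgroup [Finite β] [NeZero p] (H : Subgroup (Perm β)) :
    Nat.card (wrSubgroup p H) = Nat.card H * p ^ Nat.card β := by
  have e : (H × (β → ZMod p)) ≃ wrSubgroup p H := by
    refine Equiv.ofBijective
      (fun x => ⟨wrPerm p x.1.1 x.2, ⟨x.1.1, x.1.2, x.2, rfl⟩⟩) ⟨?_, ?_⟩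
    · rintro ⟨⟨σ, hσ⟩, c⟩ ⟨⟨σ', hσ'⟩, c'⟩ h
      have h1 : wrPerm p σ c = wrPerm p σ' c' := congrArg Subtype.val h
      have h2 := wrPerm_injective p (a₁ := (σ, c)) (a₂ := (σ', c')) h1
      simp only [Prod.mk.injEq] at h2
      obtain ⟨rfl, rfl⟩ := h2
      rfl
    · rintro ⟨g, σ, hσ, c, rfl⟩
      exact ⟨⟨⟨σ, hσ⟩, c⟩, rfl⟩
  rw [← Nat.card_congr e, Nat.card_prod, Nat.card_fun, Nat.card_zmod]

/-- lifting a permutation of `β` to the blocks -/
def liftHom : Perm β →* Perm (β × ZMod p) where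
  toFun σ := wrPerm p σ 0
  map_one' := wrPerm_one p
  map_mul' σ σ' := by
    rw [wrPerm_mul]
    congr 1
    funext i
    simp

/-- the base group -/
def baseHom : Multiplicative (β → ZMod p) →* Perm (β × ZMod p) where
  toFun c := wrPerm p 1 (Multiplicative.toAdd c)
  map_one' := wrPerm_one p
  map_mul' c c' := by
    rw [wrPerm_mul]
    congr 1
    funext i
    simp [add_comm]

theorem wrPerm_eq_mul (σ : Perm β) (c : β → ZMod p) :
    wrPerm p σ c = liftHom p σ * baseHom p (Multiplicative.ofAdd c) := by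
  show wrPerm p σ c = wrPerm p σ 0 * wrPerm p 1 c
  rw [wrPerm_mul]
  congr 1
  funext i
  simp

theorem baseHom_pow [NeZero p] (c : Multiplicative (β → ZMod p)) : (baseHom p c) ^ p = 1 := by
  rw [← map_pow]
  have : c ^ p = 1 := by
    show Multiplicative.ofAdd (p • Multiplicative.toAdd c) = 1
    have h0 : p • Multiplicative.toAdd c = 0 := by
      funext i
      simp
    rw [h0]; rfl
  rw [this, map_one]

theorem sign_liftHom [Fintype β] [DecidableEq β] [NeZero p] (σ : Perm β) :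
    Perm.sign (liftHom p σ) = (Perm.sign σ) ^ p := by
  have h : liftHom p σ = Equiv.prodCongrLeft (fun _ : ZMod p => σ) := by
    ext x
    · simp [liftHom]
    · simp [liftHom]
  rw [h, Perm.sign_prodCongrLeft]
  simp

end Cfsg.Agent.Helper20.SylPerm
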