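import Mathlib
import Cfsg.Agent.Lib.Helper20.SylPermWr

/-! A standard Sylow `p`-subgroup of `Perm α`, generated by elements of order `p`
such that the odd generators commute pairwise. -/

namespace Cfsg.Agent.Helper20.SylPerm

open Equiv

theorem sign_viaEmbeddingHom {α β : Type*} [Fintype α] [DecidableEq α] [Fintype β] [DecidableEq β]
    (ι : α ↪ β) (e : Perm α) : Perm.sign (Perm.viaEmbeddingHom ι e) = Perm.sign e := by
  classical
  rw [Perm.viaEmbeddingHom_apply]
  unfold Perm.viaEmbedding
  convert Perm.sign_extendDomain e (ofInjective ι.1 ι.2)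

/-- generators of the wreath subgroup -/
def wrGens {β : Type*} (p : ℕ) (I : Set (Perm β)) : Set (Perm (β × ZMod p)) :=
  Set.range (baseHom p) ∪ liftHom p '' I

theorem closure_wrGens {β : Type*} (p : ℕ) (H : Subgroup (Perm β)) (I : Set (Perm β))
    (hI : Subgroup.closure I = H) : Subgroup.closure (wrGens p I) = wrSubgroup p H := by
  apply le_antisymm
  · rw [Subgroup.closure_le]
    rintro g (⟨c, rfl⟩ | ⟨σ, hσ, rfl⟩)
    · exact ⟨1, H.one_mem, Multiplicative.toAdd c, rfl⟩
    · exact ⟨σ, hI ▸ Subgroup.subset_closure hσ, 0, rfl⟩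
  · rintro g ⟨σ, hσ, c, rfl⟩
    rw [wrPerm_eq_mul]
    apply Subgroup.mul_mem
    · have h1 : (Subgroup.closure I).map (liftHom p) ≤ Subgroup.closure (wrGens p I) := by
        rw [MonoidHom.map_closure]
        apply Subgroup.closure_mono
        exact Set.subset_union_right
      apply h1
      exact Subgroup.mem_map_of_mem _ (hI ▸ hσ)
    · apply Subgroup.subset_closure
      exact Or.inl ⟨_, rfl⟩

theorem wrGens_pow {β : Type*} (p : ℕ) [NeZero p] (I : Set (Perm β)) (hp : ∀ x ∈ I, x ^ p = 1) :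
    ∀ x ∈ wrGens p I, x ^ p = 1 := by
  rintro g (⟨c, rfl⟩ | ⟨σ, hσ, rfl⟩)
  · exact baseHom_pow p c
  · rw [← map_pow, hp σ hσ, map_one]

theorem wrGens_commute {β : Type*} [Fintype β] [DecidableEq β] (p : ℕ) [NeZero p]
    (I : Set (Perm β)) (hp : ∀ x ∈ I, x ^ p = 1) :
    ∀ x ∈ wrGens p I, ∀ y ∈ wrGens p I, Perm.sign x ≠ 1 → Perm.sign y ≠ 1 → Commute x y := by
  have hev : ∀ σ ∈ I, Perm.sign (liftHom p σ) = 1 := by
    intro σ hσ
    rw [sign_liftHom, ← map_pow, hp σ hσ, map_one]
  rintro x (⟨c, rfl⟩ | ⟨σ, hσ, rfl⟩) y (⟨c', rfl⟩ | ⟨σ', hσ', rfl⟩) hx hy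
  · show baseHom p c * baseHom p c' = baseHom p c' * baseHom p c
    rw [← map_mul, ← map_mul, mul_comm]
  · exact absurd (hev σ' hσ') hy
  · exact absurd (hev σ hσ) hx
  · exact absurd (hev σ hσ) hx

theorem factorization_factorial_lt (p : ℕ) [hp : Fact p.Prime] (n : ℕ) (h : n < p) :
    (n.factorial).factorization p = 0 := by
  apply Nat.factorization_eq_zero_of_not_dvd
  rw [hp.out.dvd_factorial]
  omega

theorem factorization_factorial_step (p : ℕ) [hp : Fact p.Prime] (n : ℕ) :
    (n.factorial).factorization p = ((n / p).factorial).factorization p + n / p := by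
  rw [Nat.factorization_def _ hp.out, Nat.factorization_def _ hp.out,
    ← padicValNat_mul_div_factorial n, padicValNat_factorial_mul]

theorem exists_std (p : ℕ) [hp : Fact p.Prime] : ∀ n : ℕ, ∀ (α : Type) [Fintype α] [DecidableEq α],
    Fintype.card α = n → ∃ (H : Subgroup (Perm α)) (I : Set (Perm α)),
      Nat.card H = p ^ (n.factorial).factorization p ∧ Subgroup.closure I = H ∧
      (∀ x ∈ I, x ^ p = 1) ∧
      (∀ x ∈ I, ∀ y ∈ I, Perm.sign x ≠ 1 → Perm.sign y ≠ 1 → Commute x y) := by
  haveI : NeZero p := ⟨hp.out.ne_zero⟩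
  intro n
  induction n using Nat.strong_induction_on with
  | _ n ih =>
    intro α _ _ hα
    by_cases hnp : n < p
    · refine ⟨⊥, ∅, ?_, Subgroup.closure_empty, by simp, by simp⟩
      rw [factorization_factorial_lt p n hnp, pow_zero]
      exact Subgroup.card_bot
    · have hpn : p ≤ n := by omega
      have hm : n / p < n := Nat.div_lt_self (by have := hp.out.pos; omega) hp.out.one_lt
      obtain ⟨Hm, Im, hcard, hcl, hpow, -⟩ := ih (n / p) hm (Fin (n / p)) (Fintype.card_fin _)
      have hle : Fintype.card (Fin (n / p) × ZMod p) ≤ Fintype.card α := by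
        rw [Fintype.card_prod, Fintype.card_fin, ZMod.card, hα]
        exact Nat.div_mul_le_self n p
      obtain ⟨ι⟩ := Function.Embedding.nonempty_of_card_le hle
      refine ⟨(wrSubgroup p Hm).map (Perm.viaEmbeddingHom ι),
        Perm.viaEmbeddingHom ι '' (wrGens p Im), ?_, ?_, ?_, ?_⟩
      · rw [Subgroup.card_map_of_injective (Perm.viaEmbeddingHom_injective ι), card_wrSubgroup,
          hcard, factorization_factorial_step p n, pow_add, Nat.card_eq_fintype_card,
          Fintype.card_fin]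
      · rw [← MonoidHom.map_closure, closure_wrGens p Hm Im hcl]
      · rintro _ ⟨x, hx, rfl⟩
        rw [← map_pow, wrGens_pow p Im hpow x hx, map_one]
      · rintro _ ⟨x, hx, rfl⟩ _ ⟨y, hy, rfl⟩ hsx hsy
        rw [sign_viaEmbeddingHom] at hsx hsy
        have := wrGens_commute p Im hpow x hx y hy hsx hsy
        exact this.map (Perm.viaEmbeddingHom ι)

end Cfsg.Agent.Helper20.SylPerm
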