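import Mathlib
import Cfsg.Agent.Lib.Helper20.SylPermGen
import Cfsg.Agent.Lib.Helper20.SylPermStd

/-! Every Sylow `p`-subgroup of `Perm α` is generated by elements of order `p`; so is every
Sylow `p`-subgroup of the alternating group. -/

namespace Cfsg.Agent.Helper20.SylPerm

open Equiv
open scoped Pointwise

theorem exists_gens_sylow (p : ℕ) [hp : Fact p.Prime] (α : Type) [Fintype α] [DecidableEq α]
    (P : Sylow p (Perm α)) : ∃ I : Set (Perm α), Subgroup.closure I = (P : Subgroup (Perm α)) ∧
      (∀ x ∈ I, x ^ p = 1) ∧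
      (∀ x ∈ I, ∀ y ∈ I, Perm.sign x ≠ 1 → Perm.sign y ≠ 1 → Commute x y) := by
  obtain ⟨H, I, hcard, hcl, hpow, hcomm⟩ := exists_std p (Fintype.card α) α rfl
  have hc : Nat.card H = p ^ (Nat.card (Perm α)).factorization p := by
    rw [hcard, Nat.card_perm, Nat.card_eq_fintype_card]
  let P0 : Sylow p (Perm α) := Sylow.ofCard H hc
  obtain ⟨g, hg⟩ := MulAction.exists_smul_eq (Perm α) P0 P
  refine ⟨(fun y => g * y * g⁻¹) '' I, ?_, ?_, ?_⟩
  · have h1 : (P : Subgroup (Perm α)) = MulAut.conj g • (P0 : Subgroup (Perm α)) := by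
      rw [← hg, Sylow.coe_subgroup_smul]
    have h2 : (P0 : Subgroup (Perm α)) = H := rfl
    rw [h1, h2, ← hcl, Subgroup.smul_closure]
    congr 1
  · rintro _ ⟨y, hy, rfl⟩
    rw [conj_pow, hpow y hy, mul_one, mul_inv_cancel]
  · rintro _ ⟨x, hx, rfl⟩ _ ⟨y, hy, rfl⟩ hsx hsy
    have e1 : ∀ z : Perm α, Perm.sign (g * z * g⁻¹) = Perm.sign z := by
      intro z
      rw [map_mul, map_mul, mul_comm, ← mul_assoc, ← map_mul, inv_mul_cancel, map_one, one_mul]
    rw [e1] at hsx hsy
    exact (Commute.conj_iff g).2 (hcomm x hx y hy hsx hsy)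

theorem sylow_perm_genByPow (p : ℕ) [hp : Fact p.Prime] (α : Type) [Fintype α] [DecidableEq α]
    (P : Sylow p (Perm α)) : GenByPow p (P : Subgroup (Perm α)) := by
  obtain ⟨I, hcl, hpow, -⟩ := exists_gens_sylow p α P
  exact genByPow_of_closure _ I hcl hpow

theorem sign_eq_one_of_odd_pGroup {p : ℕ} [hp : Fact p.Prime] (hp2 : p ≠ 2) {α : Type} [Fintype α]
    [DecidableEq α] (P : Subgroup (Perm α)) (hP : IsPGroup p P) (x : Perm α) (hx : x ∈ P) :
    Perm.sign x = 1 := by
  obtain ⟨k, hk⟩ := hP ⟨x, hx⟩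
  have hk' : x ^ (p ^ k) = 1 := by
    have := congrArg Subtype.val hk
    simpa using this
  have h1 : (Perm.sign x) ^ (p ^ k) = 1 := by rw [← map_pow, hk', map_one]
  rcases Int.units_eq_one_or (Perm.sign x) with h | h
  · exact h
  · exfalso
    rw [h] at h1
    have hodd : Odd (p ^ k) := (hp.out.odd_of_ne_two hp2).pow
    rw [hodd.neg_one_pow] at h1
    exact absurd h1 (by decide)

theorem sylow_inf_alternating_genByPow (p : ℕ) [hp : Fact p.Prime] (α : Type) [Fintype α]
    [DecidableEq α] (P : Sylow p (Perm α)) :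
    GenByPow p ((P : Subgroup (Perm α)) ⊓ alternatingGroup α : Subgroup (Perm α)) := by
  obtain ⟨I, hcl, hpow, hcomm⟩ := exists_gens_sylow p α P
  by_cases hp2 : p = 2
  · subst hp2
    have h := even_part_closure (P : Subgroup (Perm α)) I hcl hpow hcomm
    apply genByPow_of_closure _ _ h
    rintro x ⟨-, -, hx⟩
    exact hx
  · have hle : (P : Subgroup (Perm α)) ≤ alternatingGroup α := by
      intro x hx
      exact Perm.mem_alternatingGroup.2 (sign_eq_one_of_odd_pGroup hp2 _ P.2 x hx)
    apply genByPow_of_closure _ I _ hpow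
    rw [inf_eq_left.2 hle]
    exact hcl

theorem sylow_alternating_genByPow (p : ℕ) [hp : Fact p.Prime] (α : Type) [Fintype α]
    [DecidableEq α] (Q : Sylow p (alternatingGroup α)) :
    GenByPow p (Q : Subgroup (alternatingGroup α)) := by
  have hQ'p : IsPGroup p ((Q : Subgroup (alternatingGroup α)).map (alternatingGroup α).subtype) :=
    Q.2.map (alternatingGroup α).subtype
  obtain ⟨P, hP⟩ := hQ'p.exists_le_sylow
  have hR : IsPGroup p ((P : Subgroup (Perm α)).subgroupOf (alternatingGroup α)) :=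
    P.2.comap_subtype
  have hQR : (Q : Subgroup (alternatingGroup α)) ≤
      (P : Subgroup (Perm α)).subgroupOf (alternatingGroup α) := by
    intro x hx
    rw [Subgroup.mem_subgroupOf]
    exact hP (Subgroup.mem_map_of_mem _ hx)
  have hRQ := Q.is_maximal' hR hQR
  have hQeq : (Q : Subgroup (alternatingGroup α)).map (alternatingGroup α).subtype =
      (P : Subgroup (Perm α)) ⊓ alternatingGroup α := by
    apply le_antisymm
    · exact le_inf hP (Subgroup.map_subtype_le _)
    · intro y hy
      obtain ⟨hyP, hyA⟩ := Subgroup.mem_inf.1 hy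
      have : (⟨y, hyA⟩ : alternatingGroup α) ∈
          (P : Subgroup (Perm α)).subgroupOf (alternatingGroup α) := by
        rw [Subgroup.mem_subgroupOf]; exact hyP
      rw [hRQ] at this
      exact ⟨⟨y, hyA⟩, this, rfl⟩
  have h1 : GenByPow p ((Q : Subgroup (alternatingGroup α)).map (alternatingGroup α).subtype) := by
    rw [hQeq]
    exact sylow_inf_alternating_genByPow p α P
  have e : (Q : Subgroup (alternatingGroup α)) ≃*
      ((Q : Subgroup (alternatingGroup α)).map (alternatingGroup α).subtype) :=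
    Subgroup.equivMapOfInjective (Q : Subgroup (alternatingGroup α)) (alternatingGroup α).subtype
      (alternatingGroup α).subtype_injective
  exact h1.of_mulEquiv e.symm

end Cfsg.Agent.Helper20.SylPerm
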