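import Mathlib
import Cfsg.Agent.Lib.Helper20.SylFifteen12

/-!
# Thirty-five Sylow 17-subgroups: intersections (helper20)
-/

set_option autoImplicit false

namespace Cfsg.Agent.Helper20.SylThirtyFive

open Subgroup MulAction Cfsg.Agent.Helper20.SylFifteen

universe u

variable {G : Type u} [Group G] [Finite G]

instance fact17 : Fact (Nat.Prime 17) := ⟨by norm_num⟩

omit [Finite G] in
theorem stabilizer_card (P Q : Sylow 17 G) :
    Nat.card (stabilizer ↥(P : Subgroup G) Q) = Nat.card ↥((P : Subgroup G) ⊓ Q) := by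
  refine Nat.card_congr ⟨fun y => ⟨y.1.1, y.1.2, ?_⟩, fun y => ⟨⟨y.1, y.2.1⟩, ?_⟩, ?_, ?_⟩
  · have h1 : (y.1 : ↥(P : Subgroup G)) • Q = Q := y.2
    have h2 : ((y.1 : ↥(P : Subgroup G)) : G) • Q = Q := h1
    rw [Sylow.smul_eq_iff_mem_normalizer] at h2
    have h3 : ((y.1 : ↥(P : Subgroup G)) : G) ∈ (P : Subgroup G) ⊓ normalizer (Q : Set G) :=
      ⟨y.1.2, h2⟩
    rw [P.isPGroup'.inf_normalizer_sylow Q] at h3
    exact h3.2
  · show (⟨y.1, y.2.1⟩ : ↥(P : Subgroup G)) • Q = Q
    show (y.1 : G) • Q = Q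
    rw [Sylow.smul_eq_iff_mem_normalizer]
    exact le_normalizer y.2.2
  · intro y; rfl
  · intro y; rfl

omit [Finite G] in
theorem inter_card (h35 : Nat.card (Sylow 17 G) = 35) (P Q : Sylow 17 G) (hPQ : P ≠ Q) :
    Nat.card ↥((P : Subgroup G) ⊓ Q) * 17 = Nat.card (P : Subgroup G) := by
  classical
  haveI : Finite (Sylow 17 G) := Nat.finite_of_card_ne_zero (by rw [h35]; norm_num)
  obtain ⟨n, hn⟩ := (P.isPGroup').card_orbit (α := Sylow 17 G) Q
  have h1 : Nat.card (orbit ↥(P : Subgroup G) Q) * Nat.card (stabilizer ↥(P : Subgroup G) Q)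
      = Nat.card (P : Subgroup G) := by
    rw [← Nat.card_prod]
    exact Nat.card_congr (orbitProdStabilizerEquivGroup ↥(P : Subgroup G) Q)
  have h2 : orbit ↥(P : Subgroup G) Q ⊆ ({P} : Set (Sylow 17 G))ᶜ := by
    rintro _ ⟨y, rfl⟩ hy
    have hy' : y • Q = P := hy
    have h3 : Q = y⁻¹ • P := by rw [eq_inv_smul_iff]; exact hy'
    have h4 : y⁻¹ • P = P := by
      show ((y⁻¹ : ↥(P : Subgroup G)) : G) • P = P
      rw [Sylow.smul_eq_iff_mem_normalizer]
      exact le_normalizer (y⁻¹).2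
    exact hPQ (by rw [h3, h4])
  have h3 : (orbit ↥(P : Subgroup G) Q).ncard ≤ 34 := by
    have h4 := Set.ncard_le_ncard h2 (Set.toFinite _)
    have h5 : (({P} : Set (Sylow 17 G))ᶜ).ncard = 34 := by
      rw [Set.ncard_compl, Set.ncard_singleton, h35]
    omega
  rw [← Nat.card_coe_set_eq, hn] at h3
  have h4 : n ≠ 0 := by
    rintro rfl
    rw [pow_zero] at hn
    have h5 : Q ∈ fixedPoints ↥(P : Subgroup G) (Sylow 17 G) := by
      intro y
      have h6 : y • Q ∈ orbit ↥(P : Subgroup G) Q := ⟨y, rfl⟩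
      have h7 : Q ∈ orbit ↥(P : Subgroup G) Q := mem_orbit_self Q
      have h8 := Nat.card_eq_one_iff_unique.1 hn
      have h9 := h8.1.elim ⟨y • Q, h6⟩ ⟨Q, h7⟩
      exact congrArg Subtype.val h9
    rw [P.isPGroup'.sylow_mem_fixedPoints_iff] at h5
    exact hPQ (Sylow.ext (P.3 Q.2 h5)).symm
  have h5 : n = 1 := by
    rcases Nat.lt_or_ge n 2 with h | h
    · omega
    · exfalso
      have : 17 ^ 2 ≤ 17 ^ n := Nat.pow_le_pow_right (by norm_num) h
      omega
  rw [hn, h5, pow_one, stabilizer_card] at h1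
  rw [mul_comm]; exact h1

theorem card_eq_of_sylow (P Q : Sylow 17 G) :
    Nat.card (P : Subgroup G) = Nat.card (Q : Subgroup G) := by
  rw [Sylow.card_eq_multiplicity, Sylow.card_eq_multiplicity]

/-- the kernel of the action on the Sylow subgroups is trivial -/
def Faithful (G : Type u) [Group G] : Prop :=
  ∀ g : G, (∀ P : Sylow 17 G, g • P = P) → g = 1

omit [Finite G] in
theorem eq_bot_of_le_all (hf : Faithful G) (A : Subgroup G)
    (hA : ∀ P : Sylow 17 G, A ≤ P) : A = ⊥ := by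
  rw [eq_bot_iff]
  intro a ha
  rw [Subgroup.mem_bot]
  apply hf
  intro P
  rw [Sylow.smul_eq_iff_mem_normalizer]
  exact le_normalizer (hA P ha)

/-- the number of Sylow subgroups containing a nontrivial `17`-subgroup lying in two of them -/
theorem ncard_containing (h35 : Nat.card (Sylow 17 G) = 35) (hf : Faithful G)
    (b : Subgroup G) (hb : b ≠ ⊥) (P Q : Sylow 17 G) (hPQ : P ≠ Q)
    (hbP : b ≤ P) (hbQ : b ≤ Q) :
    {R : Sylow 17 G | b ≤ R}.ncard = 18 := by
  classical
  haveI : Finite (Sylow 17 G) := Nat.finite_of_card_ne_zero (by rw [h35]; norm_num)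
  have hb7 : IsPGroup 17 b := P.isPGroup'.to_le hbP
  have h1 := hb7.card_modEq_card_fixedPoints (α := Sylow 17 G)
  have h2 : fixedPoints ↥b (Sylow 17 G) = {R : Sylow 17 G | b ≤ R} := by
    ext R
    rw [hb7.sylow_mem_fixedPoints_iff]
    rfl
  rw [h2, h35, Nat.card_coe_set_eq] at h1
  set k := {R : Sylow 17 G | b ≤ R}.ncard with hk
  have h3 : k ≤ 35 := by
    rw [hk, ← h35, ← Set.ncard_univ]
    exact Set.ncard_le_ncard (Set.subset_univ _) (Set.toFinite _)
  have h4 : 2 ≤ k := by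
    have h5 : ({P, Q} : Set (Sylow 17 G)) ⊆ {R : Sylow 17 G | b ≤ R} := by
      intro R hR
      rcases hR with rfl | rfl
      · exact hbP
      · exact hbQ
    have h6 := Set.ncard_le_ncard h5 (Set.toFinite _)
    rw [Set.ncard_pair hPQ] at h6
    exact h6
  have h5 : k ≠ 35 := by
    intro h
    apply hb
    apply eq_bot_of_le_all hf
    have h6 : {R : Sylow 17 G | b ≤ R} = Set.univ := by
      apply Set.eq_of_subset_of_ncard_le (Set.subset_univ _) _ (Set.toFinite _)
      rw [Set.ncard_univ, h35, ← hk, h]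
    intro R
    have : R ∈ {R : Sylow 17 G | b ≤ R} := by rw [h6]; trivial
    exact this
  have h6 : 35 % 17 = k % 17 := h1
  omega

theorem caseA (h35 : Nat.card (Sylow 17 G) = 35) (hf : Faithful G)
    (P₀ Q₀ : Sylow 17 G) (h0 : P₀ ≠ Q₀) (hm : 1 < Nat.card ↥((P₀ : Subgroup G) ⊓ Q₀)) : False := by
  classical
  haveI : Finite (Sylow 17 G) := Nat.finite_of_card_ne_zero (by rw [h35]; norm_num)
  letI : Fintype (Sylow 17 G) := Fintype.ofFinite _
  set m := Nat.card ↥((P₀ : Subgroup G) ⊓ Q₀) with hmdef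
  have hcard : ∀ P Q : Sylow 17 G, P ≠ Q → Nat.card ↥((P : Subgroup G) ⊓ Q) = m := by
    intro P Q hPQ
    have h1 := inter_card h35 P Q hPQ
    have h2 := inter_card h35 P₀ Q₀ h0
    rw [card_eq_of_sylow P P₀, ← h2] at h1
    omega
  have hne : ∀ P Q : Sylow 17 G, P ≠ Q → (P : Subgroup G) ⊓ Q ≠ ⊥ := by
    intro P Q hPQ h
    have := hcard P Q hPQ
    rw [h, Subgroup.card_bot] at this
    omega
  let s : Finset (Sylow 17 G × Sylow 17 G) := (Finset.univ : Finset (Sylow 17 G)).offDiag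
  let f : Sylow 17 G × Sylow 17 G → Subgroup G := fun pq => (pq.1 : Subgroup G) ⊓ pq.2
  have hs : s.card = 1190 := by
    rw [Finset.offDiag_card, Finset.card_univ, ← Nat.card_eq_fintype_card, h35]
  have key := Finset.card_eq_sum_card_image f s
  have hfib : ∀ b ∈ s.image f, (s.filter fun a => f a = b).card = 306 := by
    intro b hb
    rw [Finset.mem_image] at hb
    obtain ⟨⟨P, Q⟩, hPQs, rfl⟩ := hb
    have hPQ : P ≠ Q := by
      have := Finset.mem_offDiag.1 hPQs
      exact this.2.2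
    have h8 := ncard_containing h35 hf ((P : Subgroup G) ⊓ Q) (hne P Q hPQ) P Q hPQ
      inf_le_left inf_le_right
    have h9 : (s.filter fun a => f a = f (P, Q))
        = (Finset.univ.filter fun R : Sylow 17 G => (P : Subgroup G) ⊓ Q ≤ R).offDiag := by
      ext ⟨P', Q'⟩
      simp only [Finset.mem_filter, Finset.mem_offDiag, Finset.mem_univ, true_and, s, f]
      constructor
      · rintro ⟨hne', heq⟩
        refine ⟨?_, ?_, hne'⟩
        · rw [← heq]; exact inf_le_left
        · rw [← heq]; exact inf_le_right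
      · rintro ⟨h1, h2, hne'⟩
        refine ⟨hne', ?_⟩
        symm
        apply Subgroup.eq_of_le_of_card_ge (le_inf h1 h2)
        rw [hcard P Q hPQ, hcard P' Q' hne']
    rw [h9, Finset.offDiag_card]
    have h10 : (Finset.univ.filter fun R : Sylow 17 G => (P : Subgroup G) ⊓ Q ≤ R).card = 18 := by
      rw [← h8, Set.ncard_eq_toFinset_card']
      congr 1
      ext R
      simp
    rw [h10]
  rw [Finset.sum_congr rfl hfib, Finset.sum_const, smul_eq_mul, hs] at key
  omega

end Cfsg.Agent.Helper20.SylThirtyFive
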