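import Mathlib
import Cfsg.Agent.Lib.Helper20.SylTF3

/-!
# Thirty-five Sylow 17-subgroups of order 17: the centralizer of a Sylow subgroup (helper20)
-/

set_option autoImplicit false

namespace Cfsg.Agent.Helper20.SylThirtyFive

open Subgroup MulAction Cfsg.Agent.Helper20.SylFifteen

universe u

variable {G : Type u} [Group G] [Finite G]

omit [Finite G] in
theorem fixedPoints_sylow (P : Sylow 17 G) :
    fixedPoints ↥(P : Subgroup G) (Sylow 17 G) = {P} := by
  ext Q
  rw [P.isPGroup'.sylow_mem_fixedPoints_iff, Set.mem_singleton_iff]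
  constructor
  · intro h
    exact Sylow.ext (P.3 Q.2 h)
  · rintro rfl
    exact le_rfl

omit [Finite G] in
theorem centralizer_smul (P : Sylow 17 G) {g : G} (hg : g ∈ centralizer ((P : Subgroup G) : Set G)) :
    g • P = P := by
  rw [Sylow.smul_eq_iff_mem_normalizer]
  exact Subgroup.centralizer_le_normalizer _ hg

/-- an element of prime order `r ≠ 17` centralizing a Sylow subgroup is an involution with
exactly one fixed point -/
theorem centralizer_prime (h35 : Nat.card (Sylow 17 G) = 35) (hf : Faithful G)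
    (P : Sylow 17 G) {g : G} (hg : g ∈ centralizer ((P : Subgroup G) : Set G))
    {r : ℕ} (hr : r.Prime) (hgr : orderOf g = r) (hr7 : r ≠ 17) :
    r = 2 ∧ fixedBy (Sylow 17 G) g = {P} := by
  classical
  haveI : Finite (Sylow 17 G) := Nat.finite_of_card_ne_zero (by rw [h35]; norm_num)
  haveI : Fact r.Prime := ⟨hr⟩
  set F := fixedBy (Sylow 17 G) g with hF
  have hPF : P ∈ F := centralizer_smul P hg
  have hcomm : ∀ y : ↥(P : Subgroup G), g * (y : G) = (y : G) * g := by
    intro y
    exact ((Subgroup.mem_centralizer_iff.1 hg) y y.2).symm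
  have hinv : ∀ y : ↥(P : Subgroup G), ∀ a ∈ F, y • a ∈ F := by
    intro y a ha
    show g • (y • a) = y • a
    have ha' : g • a = a := ha
    show g • ((y : G) • a) = (y : G) • a
    rw [smul_smul, hcomm y, ← smul_smul, ha']
  have h1 := ncard_invariant_modEq P.isPGroup' F hinv
  rw [fixedPoints_sylow P] at h1
  have h2 : F ∩ {P} = {P} := by
    ext Q
    simp only [Set.mem_inter_iff, Set.mem_singleton_iff]
    constructor
    · exact fun h => h.2
    · rintro rfl; exact ⟨hPF, rfl⟩
  rw [h2, Set.ncard_singleton] at h1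
  have h3 : F.ncard ≤ 35 := by
    rw [← h35, ← Set.ncard_univ]
    exact Set.ncard_le_ncard (Set.subset_univ _) (Set.toFinite _)
  have hZ : IsPGroup r ↥(zpowers g) := by
    apply IsPGroup.of_card (n := 1)
    rw [Nat.card_zpowers, hgr, pow_one]
  have hinv2 : ∀ y : ↥(zpowers g), ∀ a ∈ Fᶜ, y • a ∈ Fᶜ := by
    intro y a ha hya
    apply ha
    obtain ⟨k, hk⟩ := y.2
    have h4 : g • ((y : G) • a) = (y : G) • a := hya
    have h5 : g * (y : G) = (y : G) * g := by
      rw [← hk]
      exact (Commute.zpow_right (Commute.refl g) k).eq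
    rw [smul_smul, h5, ← smul_smul] at h4
    exact smul_left_cancel _ h4
  have h4 := ncard_invariant_modEq hZ Fᶜ hinv2
  rw [fixedPoints_zpowers, ← hF, Set.compl_inter_self, Set.ncard_empty] at h4
  have h5 : Fᶜ.ncard = 35 - F.ncard := by
    rw [Set.ncard_compl, h35]
  have h6 : r ∣ 35 - F.ncard := by
    rw [← h5]
    exact (Nat.modEq_zero_iff_dvd.1 h4)
  have h7 : F.ncard % 17 = 1 % 17 := h1
  have h8 : F.ncard = 1 ∨ F.ncard = 18 ∨ F.ncard = 35 := by omega
  rcases h8 with h8 | h8 | h8
  · rw [h8] at h6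
    have h9 : r ∣ 2 * 17 := by norm_num; exact h6
    rcases (Nat.Prime.dvd_mul hr).1 h9 with h10 | h10
    · refine ⟨(Nat.prime_dvd_prime_iff_eq hr Nat.prime_two).1 h10, ?_⟩
      obtain ⟨Q, hQ⟩ := Set.ncard_eq_one.1 h8
      rw [hQ] at hPF ⊢
      rw [Set.mem_singleton_iff] at hPF
      rw [hPF]
    · exact absurd ((Nat.prime_dvd_prime_iff_eq hr (by norm_num)).1 h10) hr7
  · rw [h8] at h6
    exact absurd ((Nat.prime_dvd_prime_iff_eq hr (by norm_num)).1 h6) hr7
  · exfalso
    have h9 : F = Set.univ := by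
      apply Set.eq_of_subset_of_ncard_le (Set.subset_univ _) _ (Set.toFinite _)
      rw [Set.ncard_univ, h35, h8]
    have h10 : g = 1 := by
      apply hf
      intro Q
      have : Q ∈ F := by rw [h9]; trivial
      exact this
    rw [h10, orderOf_one] at hgr
    exact hr.one_lt.ne hgr

/-- `2`-subgroups of the centralizer of a Sylow subgroup have order at most two -/
theorem two_subgroup_card (h35 : Nat.card (Sylow 17 G) = 35) (hf : Faithful G)
    (P : Sylow 17 G) (E : Subgroup G) (hE : IsPGroup 2 E)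
    (hEC : E ≤ centralizer ((P : Subgroup G) : Set G)) : Nat.card E ∣ 2 := by
  classical
  haveI : Finite (Sylow 17 G) := Nat.finite_of_card_ne_zero (by rw [h35]; norm_num)
  have hfix : ∀ y : ↥E, (y : G) • P = P := fun y => centralizer_smul P (hEC y.2)
  have hinv : ∀ y : ↥E, ∀ a ∈ ({P} : Set (Sylow 17 G))ᶜ, y • a ∈ ({P} : Set (Sylow 17 G))ᶜ := by
    intro y a ha hya
    apply ha
    have h1 : (y : G) • a = P := hya
    have h2 : a = (y : G)⁻¹ • P := by rw [eq_inv_smul_iff]; exact h1
    have h3 : (y : G)⁻¹ • P = P := by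
      rw [inv_smul_eq_iff]; exact (hfix y).symm
    rw [h2, h3]; rfl
  have hfree : ∀ y : ↥E, ∀ a ∈ ({P} : Set (Sylow 17 G))ᶜ, y • a = a → y = 1 := by
    intro y a ha hya
    by_contra hy1
    obtain ⟨k, hk⟩ := hE y
    have h1 : orderOf y ∣ 2 ^ k := orderOf_dvd_of_pow_eq_one hk
    obtain ⟨j, hj, hj2⟩ := (Nat.dvd_prime_pow Nat.prime_two).1 h1
    have hj0 : j ≠ 0 := by
      rintro rfl
      rw [pow_zero, orderOf_eq_one_iff] at hj2
      exact hy1 hj2
    set g : G := (y : G) ^ (2 ^ (j - 1)) with hg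
    have hoy : orderOf (y : G) = 2 ^ j := by rw [Subgroup.orderOf_coe, hj2]
    have hgo : orderOf g = 2 := by
      rw [hg, orderOf_pow_of_dvd (by positivity) (by rw [hoy]; exact pow_dvd_pow 2 (Nat.sub_le j 1)),
        hoy]
      have : 2 ^ j = 2 ^ (j - 1) * 2 := by
        rw [← pow_succ]; congr 1; omega
      rw [this, Nat.mul_div_cancel_left _ (by positivity)]
    have hgE : g ∈ E := E.pow_mem y.2 _
    have hga : g • a = a := by
      have h2 : (y : G) ∈ stabilizer G a := hya
      exact (stabilizer G a).pow_mem h2 _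
    have h3 := centralizer_prime h35 hf P (hEC hgE) Nat.prime_two hgo (by norm_num)
    have h4 : a ∈ fixedBy (Sylow 17 G) g := hga
    rw [h3.2] at h4
    exact ha h4
  have h1 := card_dvd_ncard_of_free ({P} : Set (Sylow 17 G))ᶜ hinv hfree
  rw [Set.ncard_compl, Set.ncard_singleton, h35] at h1
  obtain ⟨j, hj⟩ := IsPGroup.iff_card.1 hE
  rw [hj] at h1 ⊢
  rcases Nat.lt_or_ge j 2 with h | h
  · interval_cases j <;> simp
  · exfalso
    have h2 : 2 ^ 2 ∣ 2 ^ j := pow_dvd_pow 2 h
    have h3 := h2.trans h1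
    norm_num at h3

omit [Finite G] in
theorem sylow_le_centralizer (P : Sylow 17 G) (h7 : Nat.card (P : Subgroup G) = 17) :
    (P : Subgroup G) ≤ centralizer ((P : Subgroup G) : Set G) := by
  haveI : Fact (Nat.Prime 17) := fact17
  haveI : IsCyclic ↥(P : Subgroup G) := isCyclic_of_prime_card h7
  intro x hx y hy
  have := (IsCyclic.commGroup (α := ↥(P : Subgroup G))).mul_comm ⟨y, hy⟩ ⟨x, hx⟩
  exact congrArg Subtype.val this

theorem not_dvd_of_card (P : Sylow 17 G) (h7 : Nat.card (P : Subgroup G) = 17) :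
    ¬ 289 ∣ Nat.card G := by
  have h1 := P.card_eq_multiplicity
  rw [h7] at h1
  have h2 : (Nat.card G).factorization 17 = 1 := by
    have : (17 : ℕ) ^ 1 = 17 ^ (Nat.card G).factorization 17 := by rw [pow_one]; exact h1
    exact (Nat.pow_right_injective (by norm_num : 2 ≤ 17) this).symm
  have h3 := Nat.pow_succ_factorization_not_dvd (Nat.card_pos (α := G)).ne' (by norm_num : Nat.Prime 17)
  rw [h2] at h3
  exact h3

theorem card_centralizer (h35 : Nat.card (Sylow 17 G) = 35) (hf : Faithful G)
    (P : Sylow 17 G) (h7 : Nat.card (P : Subgroup G) = 17) :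
    Nat.card (centralizer ((P : Subgroup G) : Set G)) = 17 ∨
      Nat.card (centralizer ((P : Subgroup G) : Set G)) = 34 := by
  classical
  set C := centralizer ((P : Subgroup G) : Set G) with hC
  set n := Nat.card C with hn
  have h1 : 17 ∣ n := by
    rw [← h7]; exact Subgroup.card_dvd_of_le (sylow_le_centralizer P h7)
  have h2 : ¬ 289 ∣ n := fun h =>
    not_dvd_of_card P h7 (h.trans (Subgroup.card_subgroup_dvd_card C))
  have h3 : ∀ r : ℕ, r.Prime → r ∣ n → r = 2 ∨ r = 17 := by
    intro r hr hrn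
    haveI : Fact r.Prime := ⟨hr⟩
    obtain ⟨x, hx⟩ := exists_prime_orderOf_dvd_card' (G := ↥C) r hrn
    by_cases h : r = 17
    · exact Or.inr h
    · left
      have hx' : orderOf (x : G) = r := by rw [Subgroup.orderOf_coe, hx]
      exact (centralizer_prime h35 hf P x.2 hr hx' h).1
  have h4 : ¬ 4 ∣ n := by
    intro h
    haveI : Fact (Nat.Prime 2) := ⟨Nat.prime_two⟩
    obtain ⟨K, hK⟩ := Sylow.exists_subgroup_card_pow_prime (G := ↥C) 2 (n := 2) (by norm_num; exact h)
    have h5 : Nat.card (K.map C.subtype) = 2 ^ 2 := by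
      rw [Subgroup.card_map_of_injective C.subtype_injective, hK]
    have h6 := two_subgroup_card h35 hf P (K.map C.subtype) (IsPGroup.of_card h5)
      (Subgroup.map_subtype_le K)
    rw [h5] at h6
    norm_num at h6
  obtain ⟨k, hk⟩ := h1
  have hk0 : k ≠ 0 := by
    rintro rfl
    have : 0 < n := Nat.card_pos
    omega
  have h5 : ¬ 17 ∣ k := by
    rintro ⟨j, rfl⟩
    exact h2 ⟨j, by rw [hk]; ring⟩
  have h6 : ∀ {d : ℕ}, d.Prime → d ∣ k → d = 2 := by
    intro d hd hdk
    rcases h3 d hd (hdk.trans ⟨17, by rw [hk]; ring⟩) with h | h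
    · exact h
    · exact absurd (h ▸ hdk) h5
  have h7' := Nat.eq_prime_pow_of_unique_prime_dvd hk0 h6
  set j := k.primeFactorsList.length
  rcases Nat.lt_or_ge j 2 with h | h
  · interval_cases j
    · left; rw [hk, h7']; norm_num
    · right; rw [hk, h7']; norm_num
  · exfalso
    apply h4
    have h8 : 2 ^ 2 ∣ 2 ^ j := pow_dvd_pow 2 h
    rw [hk, h7']
    exact Dvd.dvd.mul_left (by norm_num at h8 ⊢; exact h8) 17

/-- the index of the centralizer in the normalizer divides `16` -/
theorem relIndex_dvd_sixteen (P : Sylow 17 G) (h7 : Nat.card (P : Subgroup G) = 17) :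
    (centralizer ((P : Subgroup G) : Set G)).relIndex (normalizer ((P : Subgroup G) : Set G)) ∣ 16 := by
  haveI : Fact (Nat.Prime 17) := fact17
  have h1 := relIndex_centralizer_dvd_totient (P : Subgroup G) (isCyclic_of_prime_card h7)
  rw [h7, Nat.totient_prime (by norm_num)] at h1
  exact h1

/-- the order of the group -/
theorem card_group (h35 : Nat.card (Sylow 17 G) = 35) (P : Sylow 17 G) :
    Nat.card G = 35 * (Nat.card (centralizer ((P : Subgroup G) : Set G)) *
      (centralizer ((P : Subgroup G) : Set G)).relIndex (normalizer ((P : Subgroup G) : Set G))) := by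
  haveI : Finite (Sylow 17 G) := Nat.finite_of_card_ne_zero (by rw [h35]; norm_num)
  have h1 := Sylow.card_eq_index_normalizer P
  rw [h35] at h1
  have h2 := Subgroup.card_mul_index (normalizer ((P : Subgroup G) : Set G))
  have h3 := card_inf_mul_relIndex (centralizer ((P : Subgroup G) : Set G))
    (normalizer ((P : Subgroup G) : Set G))
  rw [inf_of_le_left (Subgroup.centralizer_le_normalizer _)] at h3
  have h1' : (normalizer ((P : Subgroup G) : Set G)).index = 35 := h1.symm
  rw [h3, ← h2, h1']; ring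

end Cfsg.Agent.Helper20.SylThirtyFive
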