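import Mathlib
import Cfsg.Agent.Lib.Helper20.SylTF5

/-!
# Thirty-five Sylow 17-subgroups of order 17: a minimal example is simple (helper20)
-/

set_option autoImplicit false

namespace Cfsg.Agent.Helper20.SylThirtyFive

open Subgroup MulAction Cfsg.Agent.Helper20.SylFifteen

universe u

variable {G : Type u} [Group G] [Finite G]

theorem exists_sylow_zpowers (P₀ : Sylow 17 G) (h7 : Nat.card (P₀ : Subgroup G) = 17)
    (x : G) (hx : orderOf x = 17) : ∃ P₁ : Sylow 17 G, (P₁ : Subgroup G) = zpowers x := by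
  have h1 := P₀.card_eq_multiplicity
  rw [h7] at h1
  have h2 : Nat.card (zpowers x) = 17 ^ (Nat.card G).factorization 17 := by
    rw [Nat.card_zpowers, hx]; exact h1
  exact ⟨Sylow.ofCard (zpowers x) h2, rfl⟩

theorem card_dvd_19040 (h35 : Nat.card (Sylow 17 G) = 35) (hf : Faithful G)
    (P : Sylow 17 G) (h7 : Nat.card (P : Subgroup G) = 17) : Nat.card G ∣ 19040 := by
  have h1 := card_group h35 P
  have h2 := card_centralizer h35 hf P h7
  have h3 := relIndex_dvd_sixteen P h7
  rw [h1]
  have h4 : (19040 : ℕ) = 35 * (34 * 16) := by norm_num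
  rw [h4]
  apply Nat.mul_dvd_mul_left
  apply Nat.mul_dvd_mul _ h3
  rcases h2 with h | h <;> rw [h]
  norm_num

/-- a prime power dividing `19040`, prime to `17`, congruent mod `17` to a common divisor of itself
and `34`, is `2` -/
theorem arith_small (r k c : ℕ) (hr : r.Prime) (hk : k ≠ 0) (hq : r ^ k ∣ 19040) (hr7 : r ≠ 17)
    (hc1 : c ∣ r ^ k) (hc2 : c ∣ 34) (hmod : r ^ k % 17 = c % 17) : r = 2 ∧ k = 1 := by
  have hcle : c ≤ 34 := Nat.le_of_dvd (by norm_num) hc2
  have hc' : c = 1 ∨ c = 2 ∨ c = 17 ∨ c = 34 := by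
    interval_cases c <;> first | omega | (exfalso; revert hc2; decide)
  have hr1 : r ∣ 19040 := (dvd_pow_self r hk).trans hq
  have hrle : r ≤ 17 := by
    have h1 : (19040 : ℕ) = 2 * (2 * (2 * (2 * (2 * (5 * (7 * 17)))))) := by norm_num
    rw [h1] at hr1
    rcases (Nat.Prime.dvd_mul hr).1 hr1 with h | h
    · exact (Nat.le_of_dvd (by norm_num) h).trans (by norm_num)
    rcases (Nat.Prime.dvd_mul hr).1 h with h | h
    · exact (Nat.le_of_dvd (by norm_num) h).trans (by norm_num)
    rcases (Nat.Prime.dvd_mul hr).1 h with h | h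
    · exact (Nat.le_of_dvd (by norm_num) h).trans (by norm_num)
    rcases (Nat.Prime.dvd_mul hr).1 h with h | h
    · exact (Nat.le_of_dvd (by norm_num) h).trans (by norm_num)
    rcases (Nat.Prime.dvd_mul hr).1 h with h | h
    · exact (Nat.le_of_dvd (by norm_num) h).trans (by norm_num)
    rcases (Nat.Prime.dvd_mul hr).1 h with h | h
    · exact (Nat.le_of_dvd (by norm_num) h).trans (by norm_num)
    rcases (Nat.Prime.dvd_mul hr).1 h with h | h
    · exact (Nat.le_of_dvd (by norm_num) h).trans (by norm_num)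
    · exact Nat.le_of_dvd (by norm_num) h
  have hk6 : k < 6 := by
    by_contra h
    have h3 : r ^ 6 ∣ r ^ k := pow_dvd_pow r (by omega)
    have h4 := h3.trans hq
    have hr2 : 2 ≤ r := hr.two_le
    have h5 : 2 ^ 6 ≤ r ^ 6 := Nat.pow_le_pow_left hr2 6
    interval_cases r <;> revert h4 <;> decide
  have hr2 : 2 ≤ r := hr.two_le
  have hc17 : ¬ 17 ∣ c := by
    intro h
    have h1 : 17 ∣ r ^ k := h.trans hc1
    have h2 := (Nat.Prime.dvd_of_dvd_pow (by norm_num) h1)
    exact hr7 ((Nat.prime_dvd_prime_iff_eq (by norm_num) hr).1 h2).symm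
  have hc'' : c = 1 ∨ c = 2 := by
    rcases hc' with h | h | h | h
    · exact Or.inl h
    · exact Or.inr h
    · exact absurd (h ▸ dvd_rfl) hc17
    · exact absurd (h ▸ (by norm_num : 17 ∣ 34)) hc17
  interval_cases r
  · -- r = 2
    interval_cases k
    · exact absurd rfl hk
    · exact ⟨rfl, rfl⟩
    all_goals (exfalso; rcases hc'' with rfl | rfl <;> omega)
  · exact absurd hr1 (by decide)
  · exact absurd (by norm_num : ¬ Nat.Prime 4) (fun h => h hr)
  · -- r = 5
    exfalso
    interval_cases k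
    · exact absurd rfl hk
    · rcases hc'' with rfl | rfl <;> omega
    all_goals (revert hq; decide)
  · exact absurd (by norm_num : ¬ Nat.Prime 6) (fun h => h hr)
  · -- r = 7
    exfalso
    interval_cases k
    · exact absurd rfl hk
    · rcases hc'' with rfl | rfl <;> omega
    all_goals (revert hq; decide)
  · exact absurd (by norm_num : ¬ Nat.Prime 8) (fun h => h hr)
  · exact absurd (by norm_num : ¬ Nat.Prime 9) (fun h => h hr)
  · exact absurd (by norm_num : ¬ Nat.Prime 10) (fun h => h hr)
  · exact absurd hr1 (by decide)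
  · exact absurd (by norm_num : ¬ Nat.Prime 12) (fun h => h hr)
  · exact absurd hr1 (by decide)
  · exact absurd (by norm_num : ¬ Nat.Prime 14) (fun h => h hr)
  · exact absurd (by norm_num : ¬ Nat.Prime 15) (fun h => h hr)
  · exact absurd (by norm_num : ¬ Nat.Prime 16) (fun h => h hr)
  · exact absurd rfl hr7

end Cfsg.Agent.Helper20.SylThirtyFive
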