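import Mathlib
import Cfsg.Agent.Lib.Helper20.SylTF10

/-!
# Self-centralizing Sylow subgroups of prime order: cyclic Sylow 2-subgroups (helper20)
-/

set_option autoImplicit false

namespace Cfsg.Agent.Helper20.SylThirtyFive

open Subgroup MulAction Cfsg.Agent.Helper20.SylFifteen

universe u

variable {G : Type u} [Group G] [Finite G]

/-- if a subgroup `P` of odd prime order `p` is its own centralizer, then the `2`-subgroups of its
normalizer are cyclic -/
theorem isCyclic_two_subgroup {p : ℕ} [hp : Fact p.Prime] (P : Subgroup G)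
    (hP : Nat.card P = p) (hC : Nat.card (centralizer (P : Set G)) = p) (hp2 : p ≠ 2)
    (S : Subgroup G) (hS : IsPGroup 2 S) (hSN : S ≤ normalizer (P : Set G)) : IsCyclic S := by
  classical
  haveI : IsCyclic ↥P := isCyclic_of_prime_card hP
  have hcycU : IsCyclic (ZMod (Nat.card ↥P))ˣ := by
    rw [hP]
    infer_instance
  haveI : IsCyclic (MulAut ↥P) :=
    isCyclic_of_surjective (IsCyclic.mulAutMulEquiv ↥P).symm (IsCyclic.mulAutMulEquiv ↥P).symm.surjective
  set g : ↥S →* MulAut ↥P := P.normalizerMonoidHom.comp (Subgroup.inclusion hSN) with hg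
  apply isCyclic_of_injective g
  rw [injective_iff_map_eq_one]
  intro s hs
  have h1 : (Subgroup.inclusion hSN s) ∈ P.normalizerMonoidHom.ker := hs
  rw [Subgroup.normalizerMonoidHom_ker, Subgroup.mem_subgroupOf] at h1
  have h2 : (s : G) ∈ S ⊓ centralizer (P : Set G) := ⟨s.2, h1⟩
  have h3 : Nat.card ↥(S ⊓ centralizer (P : Set G)) = 1 := by
    have h4 : Nat.card ↥(S ⊓ centralizer (P : Set G)) ∣ p := by
      rw [← hC]; exact Subgroup.card_dvd_of_le inf_le_right
    obtain ⟨j, hj⟩ := IsPGroup.iff_card.1 (hS.to_le (inf_le_left : S ⊓ centralizer (P : Set G) ≤ S))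
    rcases (Nat.dvd_prime hp.out).1 h4 with h | h
    · exact h
    · exfalso
      rw [hj] at h
      have h5 : 2 ∣ p := by
        rw [← h]
        rcases Nat.eq_zero_or_pos j with rfl | hj0
        · rw [pow_zero] at h
          exact absurd h.symm hp.out.one_lt.ne'
        · exact dvd_pow_self 2 hj0.ne'
      exact hp2 ((Nat.prime_dvd_prime_iff_eq Nat.prime_two hp.out).1 h5).symm
  have h4 := Subgroup.card_eq_one.1 h3
  rw [h4, Subgroup.mem_bot] at h2
  exact Subtype.ext h2

/-- a group of even order with cyclic Sylow `2`-subgroups, which is not a `2`-group, has a proper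
nontrivial normal subgroup -/
theorem exists_normal_of_cyclic_two (S : Sylow 2 G) (hS : IsCyclic ↥(S : Subgroup G))
    (h2 : 2 ∣ Nat.card G) (q : ℕ) (hq : q.Prime) (hq2 : q ≠ 2) (hqG : q ∣ Nat.card G) :
    ∃ K : Subgroup G, K.Normal ∧ K ≠ ⊥ ∧ K ≠ ⊤ := by
  haveI : Fact (Nat.Prime 2) := ⟨Nat.prime_two⟩
  have hmin : (Nat.card G).minFac = 2 := (Nat.minFac_eq_two_iff _).2 h2
  have h1 := hS.normalizer_le_centralizer hmin
  obtain ⟨K, hKn, hK⟩ := exists_normal_complement S h1
  refine ⟨K, hKn, ?_, ?_⟩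
  · rintro rfl
    rw [Subgroup.card_bot, one_mul] at hK
    -- `G` would be a `2`-group
    obtain ⟨j, hj⟩ := IsPGroup.iff_card.1 S.isPGroup'
    rw [← hK, hj] at hqG
    exact hq2 ((Nat.prime_dvd_prime_iff_eq hq Nat.prime_two).1 (hq.dvd_of_dvd_pow hqG))
  · rintro rfl
    rw [Subgroup.card_top] at hK
    have h3 : Nat.card (S : Subgroup G) = 1 := by
      have hpos : 0 < Nat.card G := Nat.card_pos
      nlinarith
    have h4 := S.card_eq_multiplicity
    rw [h3] at h4
    have h5 : (Nat.card G).factorization 2 = 0 := by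
      by_contra h
      have : 2 ^ 1 ≤ 2 ^ (Nat.card G).factorization 2 :=
        Nat.pow_le_pow_right (by norm_num) (Nat.pos_of_ne_zero h)
      omega
    have h6 := (Nat.factorization_eq_zero_iff _ _).1 h5
    rcases h6 with h6 | h6 | h6
    · exact h6 Nat.prime_two
    · exact h6 h2
    · exact (Nat.card_pos (α := G)).ne' h6

end Cfsg.Agent.Helper20.SylThirtyFive
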