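import Mathlib
import Cfsg.Agent.Lib.Helper20.SylTF11

/-!
# Thirty-five Sylow 17-subgroups of order 17: the final contradictions (helper20)
-/

set_option autoImplicit false

namespace Cfsg.Agent.Helper20.SylThirtyFive

open Subgroup MulAction Cfsg.Agent.Helper20.SylFifteen

universe u

variable {G : Type u} [Group G] [Finite G]

theorem caseB_seventeen (h35 : Nat.card (Sylow 17 G) = 35)
    (hsimple : ∀ (M : Subgroup G) [M.Normal], M ≠ ⊤ → M = ⊥)
    (P : Sylow 17 G) (hP : Nat.card (P : Subgroup G) = 17)
    (hC : Nat.card (centralizer ((P : Subgroup G) : Set G)) = 17)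
    (e : ℕ) (he : e ∣ 16) (hG : Nat.card G = 35 * (17 * e)) : False := by
  classical
  haveI : Finite (Sylow 17 G) := Nat.finite_of_card_ne_zero (by rw [h35]; norm_num)
  have key : ∃ K : Subgroup G, K.Normal ∧ K ≠ ⊥ ∧ K ≠ ⊤ := by
    by_cases h2 : 2 ∣ Nat.card G
    · haveI : Fact (Nat.Prime 2) := ⟨Nat.prime_two⟩
      set N := normalizer ((P : Subgroup G) : Set G) with hN
      have hidx : N.index = 35 := by
        have := Sylow.card_eq_index_normalizer P
        rw [h35] at this
        exact this.symm
      have hGN : Nat.card G = 35 * Nat.card N := by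
        rw [← Subgroup.card_mul_index N, hidx, mul_comm]
      obtain ⟨S_N⟩ : Nonempty (Sylow 2 ↥N) := inferInstance
      set S₀ : Subgroup G := (S_N : Subgroup ↥N).map N.subtype with hS₀
      have hS₀N : S₀ ≤ N := Subgroup.map_subtype_le _
      have hS₀card : Nat.card S₀ = 2 ^ (Nat.card N).factorization 2 := by
        rw [hS₀, Subgroup.card_map_of_injective N.subtype_injective]
        exact S_N.card_eq_multiplicity
      have hS₀p : IsPGroup 2 S₀ := IsPGroup.of_card hS₀card
      obtain ⟨S, hS⟩ := hS₀p.exists_le_sylow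
      have hfac : (Nat.card G).factorization 2 = (Nat.card N).factorization 2 := by
        rw [hGN, Nat.factorization_mul (by norm_num) (Nat.card_pos (α := ↥N)).ne']
        have : (35 : ℕ).factorization 2 = 0 :=
          Nat.factorization_eq_zero_of_not_dvd (by norm_num)
        simp [this]
      have hSeq : S₀ = (S : Subgroup G) := by
        apply Subgroup.eq_of_le_of_card_ge hS
        rw [S.card_eq_multiplicity, hS₀card, hfac]
      have hcyc : IsCyclic ↥(S : Subgroup G) := by
        rw [← hSeq]
        exact isCyclic_two_subgroup (P : Subgroup G) hP hC (by norm_num) S₀ hS₀p hS₀N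
      have h17 : 17 ∣ Nat.card G := by rw [hG]; exact ⟨35 * e, by ring⟩
      exact exists_normal_of_cyclic_two S hcyc h2 17 (by norm_num) (by norm_num) h17
    · have he1 : e = 1 := by
        have hele : e ≤ 16 := Nat.le_of_dvd (by norm_num) he
        have hodd : ¬ 2 ∣ e := fun h => h2 (by rw [hG]; exact (h.mul_left 17).mul_left 35)
        interval_cases e <;> first | rfl | (exfalso; revert he; decide) | (exfalso; exact hodd (by decide))
      rw [he1] at hG
      exact exists_normal_of_coprime 17 35 (by rw [hG]) (by norm_num) (by norm_num) (by norm_num)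
  obtain ⟨K, hKn, hK1, hK2⟩ := key
  exact hK1 (hsimple K hK2)

/-- two commuting involutions of the centralizer are equal -/
theorem eq_of_commute_involutions (h35 : Nat.card (Sylow 17 G) = 35) (hf : Faithful G)
    (P : Sylow 17 G) (t t' : G) (ht : orderOf t = 2) (ht' : orderOf t' = 2)
    (htC : t ∈ centralizer ((P : Subgroup G) : Set G))
    (htC' : t' ∈ centralizer ((P : Subgroup G) : Set G)) (hc : Commute t t') : t' = t := by
  classical
  have comm : ∀ (m : ↥(zpowers t)) (n : ↥(zpowers t')),
      Commute ((zpowers t).subtype m) ((zpowers t').subtype n) := by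
    intro m n
    obtain ⟨i, hi⟩ := m.2
    obtain ⟨j, hj⟩ := n.2
    show Commute (m : G) (n : G)
    rw [← hi, ← hj]
    exact (hc.zpow_left i).zpow_right j
  set φ := MonoidHom.noncommCoprod (zpowers t).subtype (zpowers t').subtype comm with hφ
  set E := φ.range with hE
  have h1 : Nat.card E ∣ 2 ^ 2 := by
    have h2 := Subgroup.card_range_dvd φ
    rw [Nat.card_prod, Nat.card_zpowers, Nat.card_zpowers, ht, ht'] at h2
    exact h2
  obtain ⟨j, _, hj⟩ := (Nat.dvd_prime_pow Nat.prime_two).1 h1
  have hE2 : IsPGroup 2 E := IsPGroup.of_card hj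
  have hEC : E ≤ centralizer ((P : Subgroup G) : Set G) := by
    rintro _ ⟨⟨a, b⟩, rfl⟩
    rw [hφ, MonoidHom.noncommCoprod_apply]
    refine Subgroup.mul_mem _ ?_ ?_
    · have : zpowers t ≤ centralizer ((P : Subgroup G) : Set G) := by
        rw [Subgroup.zpowers_le]; exact htC
      exact this a.2
    · have : zpowers t' ≤ centralizer ((P : Subgroup G) : Set G) := by
        rw [Subgroup.zpowers_le]; exact htC'
      exact this b.2
  have h2 := two_subgroup_card h35 hf P E hE2 hEC
  have htE : t ∈ E := ⟨(⟨t, mem_zpowers t⟩, 1), by rw [hφ, MonoidHom.noncommCoprod_apply]; simp⟩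
  have htE' : t' ∈ E := ⟨(1, ⟨t', mem_zpowers t'⟩), by rw [hφ, MonoidHom.noncommCoprod_apply]; simp⟩
  have ht1 : t ≠ 1 := by
    intro h; rw [h, orderOf_one] at ht; omega
  have ht1' : t' ≠ 1 := by
    intro h; rw [h, orderOf_one] at ht'; omega
  have h3 : Nat.card E = 1 ∨ Nat.card E = 2 := by
    have := Nat.le_of_dvd (by norm_num) h2
    have hpos : 0 < Nat.card E := Nat.card_pos
    omega
  rcases h3 with h3 | h3
  · exfalso
    have := Subgroup.card_eq_one.1 h3
    rw [this, Subgroup.mem_bot] at htE
    exact ht1 htE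
  · obtain ⟨y, hy⟩ := (Nat.card_eq_two_iff' (1 : ↥E)).1 h3
    have h4 := hy.2 ⟨t, htE⟩ (fun h => ht1 (congrArg Subtype.val h))
    have h5 := hy.2 ⟨t', htE'⟩ (fun h => ht1' (congrArg Subtype.val h))
    have := h5.trans h4.symm
    exact congrArg Subtype.val this

theorem caseB_thirtyfour (h35 : Nat.card (Sylow 17 G) = 35) (hf : Faithful G)
    (P : Sylow 17 G)
    (hsimple : ∀ (M : Subgroup G) [M.Normal], M ≠ ⊤ → M = ⊥)
    (hC : Nat.card (centralizer ((P : Subgroup G) : Set G)) = 34) : False := by
  classical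
  haveI : Fact (Nat.Prime 2) := ⟨Nat.prime_two⟩
  obtain ⟨x, hx⟩ := exists_prime_orderOf_dvd_card' (G := ↥(centralizer ((P : Subgroup G) : Set G))) 2
    (by rw [hC]; norm_num)
  set t : G := (x : G) with ht
  have hto : orderOf t = 2 := by rw [ht, Subgroup.orderOf_coe, hx]
  have htC : t ∈ centralizer ((P : Subgroup G) : Set G) := x.2
  have hfix := (centralizer_prime h35 hf P htC Nat.prime_two hto (by norm_num)).2
  have ht1 : t ≠ 1 := by
    intro h; rw [h, orderOf_one] at hto; omega
  have hiso : Cfsg.IsIsolated t := by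
    intro g hc
    set t' := g * t * g⁻¹ with ht'
    have h1 : t' • P ∈ fixedBy (Sylow 17 G) t := by
      show t • (t' • P) = t' • P
      rw [smul_smul, hc.eq, ← smul_smul, centralizer_smul P htC]
    rw [hfix, Set.mem_singleton_iff] at h1
    have h3 : t' • P = P := h1
    rw [ht', mul_smul, mul_smul] at h3
    have h4 : t • (g⁻¹ • P) = g⁻¹ • P := by
      have := congrArg (fun Q => g⁻¹ • Q) h3
      simpa only [inv_smul_smul] using this
    have h2 : g⁻¹ • P ∈ fixedBy (Sylow 17 G) t := h4
    rw [hfix, Set.mem_singleton_iff, Sylow.smul_eq_iff_mem_normalizer] at h2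
    have htC' : t' ∈ centralizer ((P : Subgroup G) : Set G) := by
      rw [Subgroup.mem_centralizer_iff]
      intro h hh
      have h5 : g⁻¹ * h * g⁻¹⁻¹ ∈ (P : Subgroup G) := ((Subgroup.mem_normalizer_iff).1 h2 h).1 hh
      rw [inv_inv] at h5
      have hk := (Subgroup.mem_centralizer_iff.1 htC) _ h5
      calc h * t' = g * ((g⁻¹ * h * g) * t) * g⁻¹ := by rw [ht']; group
        _ = g * (t * (g⁻¹ * h * g)) * g⁻¹ := by rw [hk]
        _ = t' * h := by rw [ht']; group
    have hto' : orderOf t' = 2 := by rw [ht', orderOf_conj_eq, hto]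
    exact eq_of_commute_involutions h35 hf P t t' hto hto' htC htC' hc
  obtain ⟨N₀, hN₀n, hN₀odd, hN₀⟩ := Cfsg.Agent.Helper7.ZStar.zstar_exists t hto hiso
  have hN₀bot : N₀ = ⊥ := by
    apply hsimple N₀
    rintro rfl
    rw [Subgroup.card_top] at hN₀odd
    have h2 : 2 ∣ Nat.card G := by rw [← hto]; exact orderOf_dvd_natCard t
    rw [Nat.odd_iff] at hN₀odd
    omega
  have hcentral : ∀ g : G, g * t = t * g := by
    intro g
    have h1 := hN₀ g
    rw [hN₀bot, Subgroup.mem_bot] at h1
    calc g * t = (t * g * t⁻¹ * g⁻¹)⁻¹ * (t * g) := by group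
      _ = t * g := by rw [h1]; group
  apply ht1
  apply hf
  intro Q
  apply centralizer_smul Q
  rw [Subgroup.mem_centralizer_iff]
  intro h _
  exact hcentral h

theorem main_aux : ∀ n : ℕ, ∀ (G : Type u) [Group G] [Finite G], Nat.card G = n →
    Nat.card (Sylow 17 G) ≠ 35 := by
  intro n
  induction n using Nat.strong_induction_on with
  | _ n ih =>
    intro G _ _ hn h35
    classical
    haveI : Finite (Sylow 17 G) := Nat.finite_of_card_ne_zero (by rw [h35]; norm_num)
    have IH : ∀ (H : Type u) [Group H] [Finite H], Nat.card H < Nat.card G →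
        Nat.card (Sylow 17 H) ≠ 35 := by
      intro H _ _ hlt
      exact ih (Nat.card H) (hn ▸ hlt) H rfl
    have hf : Faithful G := by
      intro g hg
      by_contra hg1
      set K : Subgroup G := (MulAction.toPermHom G (Sylow 17 G)).ker with hK
      have hmemK : ∀ k : G, k ∈ K ↔ ∀ P : Sylow 17 G, k • P = P := by
        intro k
        rw [hK, MonoidHom.mem_ker]
        constructor
        · intro h P
          have := congrArg (fun σ : Equiv.Perm (Sylow 17 G) => σ P) h
          simpa using this
        · intro h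
          exact Equiv.ext fun P => h P
      have hKle : ∀ P : Sylow 17 G, K ≤ normalizer ((P : Subgroup G) : Set G) := by
        intro P k hk
        exact Sylow.smul_eq_iff_mem_normalizer.1 ((hmemK k).1 hk P)
      have h1 := card_sylow_quotient K hKle
      rw [h35] at h1
      have hgK : g ∈ K := (hmemK g).2 hg
      have hKcard : 1 < Nat.card K := by
        rw [Finite.one_lt_card_iff_nontrivial]
        exact ⟨⟨⟨g, hgK⟩, 1, fun h => hg1 (congrArg Subtype.val h)⟩⟩
      have hlt : Nat.card (G ⧸ K) < Nat.card G := by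
        have h2 := Subgroup.card_mul_index K
        rw [← Subgroup.index_eq_card]
        have hpos : 0 < K.index := Nat.pos_of_ne_zero Subgroup.index_ne_zero_of_finite
        nlinarith
      exact IH (G ⧸ K) hlt h1
    haveI : Nontrivial (Sylow 17 G) := by
      rw [← Finite.one_lt_card_iff_nontrivial, h35]; norm_num
    obtain ⟨P₀, Q₀, h0⟩ := exists_pair_ne (Sylow 17 G)
    by_cases hm : 1 < Nat.card ↥((P₀ : Subgroup G) ⊓ Q₀)
    · exact caseA h35 hf P₀ Q₀ h0 hm
    · have hm1 : Nat.card ↥((P₀ : Subgroup G) ⊓ Q₀) = 1 := by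
        have : 0 < Nat.card ↥((P₀ : Subgroup G) ⊓ Q₀) := Nat.card_pos
        omega
      have hP₀ : Nat.card (P₀ : Subgroup G) = 17 := by
        rw [← inter_card h35 P₀ Q₀ h0, hm1]
      have h7 : ∀ P : Sylow 17 G, Nat.card (P : Subgroup G) = 17 := fun P => by
        rw [card_eq_of_sylow P P₀, hP₀]
      have hsimple : ∀ (M : Subgroup G) [M.Normal], M ≠ ⊤ → M = ⊥ :=
        fun M _ hM => eq_bot_of_normal h35 hf h7 IH M hM
      have hG := card_group h35 P₀
      rcases card_centralizer h35 hf P₀ hP₀ with hC | hC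
      · have hG' := hG
        rw [hC] at hG'
        exact caseB_seventeen h35 hsimple P₀ hP₀ hC _ (relIndex_dvd_sixteen P₀ hP₀) hG'
      · exact caseB_thirtyfour h35 hf P₀ hsimple hC

theorem main (G : Type u) [Group G] [Finite G] : Nat.card (Sylow 17 G) ≠ 35 :=
  main_aux _ G rfl

end Cfsg.Agent.Helper20.SylThirtyFive
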