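import Mathlib
import Cfsg.Agent.Lib.Helper20.SylTO3

/-!
# Twenty-one Sylow 5-subgroups of order 5: `2`-elements normalizing Sylow subgroups (helper20)
-/

set_option autoImplicit false

namespace Cfsg.Agent.Helper20.SylTwentyOne

open Subgroup MulAction Cfsg.Agent.Helper20.SylFifteen

universe u

variable {G : Type u} [Group G] [Finite G]

omit [Finite G] in
theorem sylow_le_centralizer (P : Sylow 5 G) (h5 : Nat.card (P : Subgroup G) = 5) :
    (P : Subgroup G) ≤ centralizer ((P : Subgroup G) : Set G) := by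
  haveI : Fact (Nat.Prime 5) := fact5
  haveI : IsCyclic ↥(P : Subgroup G) := isCyclic_of_prime_card h5
  intro x hx y hy
  have := (IsCyclic.commGroup (α := ↥(P : Subgroup G))).mul_comm ⟨y, hy⟩ ⟨x, hx⟩
  exact congrArg Subtype.val this

/-- a nontrivial `2`-element has a power of order two -/
theorem exists_pow_orderOf_two {H : Type*} [Group H] {c : H} (hc2 : ∃ k : ℕ, c ^ 2 ^ k = 1)
    (hc1 : c ≠ 1) : ∃ n : ℕ, orderOf (c ^ n) = 2 := by
  obtain ⟨k, hk⟩ := hc2
  have h1 : orderOf c ∣ 2 ^ k := orderOf_dvd_of_pow_eq_one hk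
  obtain ⟨j, hj, hj2⟩ := (Nat.dvd_prime_pow Nat.prime_two).1 h1
  have hj0 : j ≠ 0 := by
    rintro rfl
    rw [pow_zero, orderOf_eq_one_iff] at hj2
    exact hc1 hj2
  refine ⟨2 ^ (j - 1), ?_⟩
  rw [orderOf_pow_of_dvd (by positivity) (by rw [hj2]; exact pow_dvd_pow 2 (Nat.sub_le j 1)), hj2]
  have : 2 ^ j = 2 ^ (j - 1) * 2 := by
    rw [← pow_succ]; congr 1; omega
  rw [this, Nat.mul_div_cancel_left _ (by positivity)]

/-- a `2`-element centralizing one Sylow subgroup and normalizing another centralizes it -/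
theorem two_element_centralizes (h21 : Nat.card (Sylow 5 G) = 21) (hf : Faithful G)
    (hnorm : ∀ M : Subgroup G, M.Normal → (∀ P : Sylow 5 G, (P : Subgroup G) ≤ M) → M = ⊤)
    (P Q : Sylow 5 G) {c : G} (hc : c ∈ centralizer ((P : Subgroup G) : Set G))
    (hc2 : ∃ k : ℕ, c ^ 2 ^ k = 1) (hcQ : c • Q = Q) :
    c ∈ centralizer ((Q : Subgroup G) : Set G) := by
  by_cases hc1 : c = 1
  · rw [hc1]; exact Subgroup.one_mem _
  · obtain ⟨n, hn⟩ := exists_pow_orderOf_two hc2 hc1
    have h1 := involution_fixedBy h21 hf hnorm P (Subgroup.pow_mem _ hc n) hn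
    have h2 : Q ∈ fixedBy (Sylow 5 G) (c ^ n) := by
      have h3 : c ∈ stabilizer G Q := hcQ
      exact (stabilizer G Q).pow_mem h3 n
    rw [h1, Set.mem_singleton_iff] at h2
    rw [h2]; exact hc

omit [Finite G] in
/-- an element normalizing but not centralizing a group of order five, with square centralizing
it, inverts it -/
theorem inverts (Q : Sylow 5 G) (h5 : Nat.card (Q : Subgroup G) = 5) {y : G}
    (hyC : y ∉ centralizer ((Q : Subgroup G) : Set G))
    (hy : y ∈ normalizer ((Q : Subgroup G) : Set G))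
    (hy2 : y ^ 2 ∈ centralizer ((Q : Subgroup G) : Set G)) {q : G} (hq : q ∈ (Q : Subgroup G)) :
    y * q * y⁻¹ = q⁻¹ := by
  haveI : Finite ↥(Q : Subgroup G) := Nat.finite_of_card_ne_zero (by rw [h5]; norm_num)
  set D : Subgroup G := (Q : Subgroup G) ⊓ centralizer {y} with hD
  have hDQ : D ≤ Q := inf_le_left
  have h1 : Nat.card D ∣ 5 := by rw [← h5]; exact Subgroup.card_dvd_of_le hDQ
  have h2 : Nat.card D = 1 ∨ Nat.card D = 5 := (Nat.dvd_prime (by norm_num)).1 h1
  have hDbot : D = ⊥ := by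
    rcases h2 with h2 | h2
    · exact Subgroup.card_eq_one.1 h2
    · exfalso
      have h3 : D = Q := Subgroup.eq_of_le_of_card_ge hDQ (by rw [h2, h5])
      apply hyC
      rw [Subgroup.mem_centralizer_iff]
      intro q' hq'
      have h4 : q' ∈ D := by rw [h3]; exact hq'
      have h5' := (Subgroup.mem_centralizer_iff.1 h4.2) y rfl
      exact h5'.symm
  have hq' : y * q * y⁻¹ ∈ (Q : Subgroup G) := ((Subgroup.mem_normalizer_iff.1 hy) q).1 hq
  have hcomm : q * (y * q * y⁻¹) = (y * q * y⁻¹) * q :=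
    ((Subgroup.mem_centralizer_iff.1 (sylow_le_centralizer Q h5 hq')) q hq)
  have hsq : y ^ 2 * q = q * y ^ 2 := ((Subgroup.mem_centralizer_iff.1 hy2) q hq).symm
  have hz : q * (y * q * y⁻¹) ∈ D := by
    refine Subgroup.mem_inf.2 ⟨(Q : Subgroup G).mul_mem hq hq', ?_⟩
    rw [Subgroup.mem_centralizer_iff]
    intro h hh
    rw [Set.mem_singleton_iff] at hh
    rw [hh]
    -- y * z = z * y
    have h6 : y * (q * (y * q * y⁻¹)) = (y * q * y⁻¹) * (y ^ 2 * q) * y⁻¹ := by
      rw [pow_two]; group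
    rw [h6, hsq]
    have h7 : y * q * y⁻¹ * (q * y ^ 2) * y⁻¹ = (y * q * y⁻¹ * q) * y := by
      rw [pow_two]; group
    rw [h7, ← hcomm]
  rw [hDbot, Subgroup.mem_bot] at hz
  exact eq_inv_of_mul_eq_one_right hz

end Cfsg.Agent.Helper20.SylTwentyOne
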