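import Mathlib
import Cfsg.Agent.Lib.Helper20.SylTO4
import Cfsg.Agent.Lib.Helper20.SylFifteen8

/-!
# Twenty-one Sylow 5-subgroups of order 5: the normalizer is not the centralizer (helper20)
-/

set_option autoImplicit false

namespace Cfsg.Agent.Helper20.SylTwentyOne

open Subgroup MulAction Cfsg.Agent.Helper20.SylFifteen

universe u

variable {G : Type u} [Group G] [Finite G]

theorem exists_sylow_zpowers (P₀ : Sylow 5 G) (h5 : Nat.card (P₀ : Subgroup G) = 5)
    (x : G) (hx : orderOf x = 5) : ∃ P₁ : Sylow 5 G, (P₁ : Subgroup G) = zpowers x := by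
  have h1 := P₀.card_eq_multiplicity
  rw [h5] at h1
  have h2 : Nat.card (zpowers x) = 5 ^ (Nat.card G).factorization 5 := by
    rw [Nat.card_zpowers, hx]; exact h1
  exact ⟨Sylow.ofCard (zpowers x) h2, rfl⟩

theorem not_dvd_of_card_five (P : Sylow 5 G) (h5 : Nat.card (P : Subgroup G) = 5) :
    ¬ 25 ∣ Nat.card G := by
  have h1 := P.card_eq_multiplicity
  rw [h5] at h1
  have h2 : (Nat.card G).factorization 5 = 1 := by
    have : (5 : ℕ) ^ 1 = 5 ^ (Nat.card G).factorization 5 := by rw [pow_one]; exact h1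
    exact (Nat.pow_right_injective (le_refl 2 |>.trans (by norm_num)) this).symm
  have h3 := Nat.pow_succ_factorization_not_dvd (Nat.card_pos (α := G)).ne' (by norm_num : Nat.Prime 5)
  rw [h2] at h3
  exact h3

/-- the order of the centralizer of a Sylow subgroup is prime to `7` -/
theorem not_seven_dvd_centralizer (h21 : Nat.card (Sylow 5 G) = 21) (hf : Faithful G)
    (P : Sylow 5 G) : ¬ 7 ∣ Nat.card (centralizer ((P : Subgroup G) : Set G)) := by
  intro h
  haveI : Fact (Nat.Prime 7) := ⟨by norm_num⟩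
  obtain ⟨x, hx⟩ := exists_prime_orderOf_dvd_card'
    (G := ↥(centralizer ((P : Subgroup G) : Set G))) 7 h
  have hx' : orderOf (x : G) = 7 := by rw [Subgroup.orderOf_coe, hx]
  exact not_seven h21 hf P x.2 hx'

theorem card_group (h21 : Nat.card (Sylow 5 G) = 21) (P : Sylow 5 G) :
    Nat.card G = 21 * Nat.card (normalizer ((P : Subgroup G) : Set G)) := by
  haveI : Finite (Sylow 5 G) := Nat.finite_of_card_ne_zero (by rw [h21]; norm_num)
  have h1 := Sylow.card_eq_index_normalizer P
  rw [h21] at h1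
  have h2 := Subgroup.card_mul_index (normalizer ((P : Subgroup G) : Set G))
  have h1' : (normalizer ((P : Subgroup G) : Set G)).index = 21 := h1.symm
  rw [← h2, h1']; ring

theorem normalizer_not_le_centralizer (h21 : Nat.card (Sylow 5 G) = 21) (hf : Faithful G)
    (h5 : ∀ P : Sylow 5 G, Nat.card (P : Subgroup G) = 5) (P : Sylow 5 G) :
    ¬ normalizer ((P : Subgroup G) : Set G) ≤ centralizer ((P : Subgroup G) : Set G) := by
  classical
  intro h
  haveI : Fact (Nat.Prime 7) := ⟨by norm_num⟩
  obtain ⟨K, hKn, hK⟩ := exists_normal_complement P h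
  rw [h5 P] at hK
  have hNC : normalizer ((P : Subgroup G) : Set G) = centralizer ((P : Subgroup G) : Set G) :=
    le_antisymm h (Subgroup.centralizer_le_normalizer _)
  have hG := card_group h21 P
  rw [hNC] at hG
  have h7C := not_seven_dvd_centralizer h21 hf P
  -- `49` does not divide the order of `G`
  have h49 : ¬ 49 ∣ Nat.card G := by
    intro h49
    rw [hG] at h49
    have h1 : (49 : ℕ) = 7 * 7 := by norm_num
    have h2 : (21 : ℕ) = 7 * 3 := by norm_num
    rw [h1, h2, mul_assoc] at h49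
    have h3 := Nat.dvd_of_mul_dvd_mul_left (by norm_num) h49
    rcases (Nat.Prime.dvd_mul (by norm_num)).1 h3 with h4 | h4
    · norm_num at h4
    · exact h7C h4
  have h7K : 7 ∣ Nat.card K := by
    have h1 : 7 ∣ Nat.card K * 5 := by
      rw [hK, hG]
      exact ⟨3 * Nat.card (centralizer ((P : Subgroup G) : Set G)), by ring⟩
    rcases (Nat.Prime.dvd_mul (by norm_num)).1 h1 with h4 | h4
    · exact h4
    · norm_num at h4
  have h5K : ¬ 5 ∣ Nat.card K := by
    rintro ⟨j, hj⟩
    apply not_dvd_of_card_five P (h5 P)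
    exact ⟨j, by rw [← hK, hj]; ring⟩
  obtain ⟨R⟩ : Nonempty (Sylow 7 ↥K) := inferInstance
  set R' : Subgroup G := (R : Subgroup ↥K).map K.subtype with hR'
  set k := (Nat.card K).factorization 7 with hk
  have hk0 : k ≠ 0 := by
    have := ((by norm_num : Nat.Prime 7).factorization_pos_of_dvd (Nat.card_pos (α := ↥K)).ne' h7K)
    omega
  have hRcard : Nat.card (R : Subgroup ↥K) = 7 ^ k := R.card_eq_multiplicity
  have hR'card : Nat.card R' = 7 ^ k := by
    rw [hR', Subgroup.card_map_of_injective K.subtype_injective, hRcard]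
  have hk1 : k = 1 := by
    rcases Nat.lt_or_ge k 2 with hlt | hge
    · omega
    · exfalso
      apply h49
      have h1 : 7 ^ 2 ∣ 7 ^ k := pow_dvd_pow 7 hge
      have h2 : 7 ^ k ∣ Nat.card G := by
        rw [← hR'card]; exact Subgroup.card_subgroup_dvd_card R'
      exact (by norm_num : (49 : ℕ) = 7 ^ 2) ▸ h1.trans h2
  set H := normalizer (R' : Set G) with hH
  have hfr : H ⊔ K = ⊤ := Sylow.normalizer_sup_eq_top R
  have h5idx : 5 ∣ K.index := by
    have h1 := Subgroup.card_mul_index K
    have h2 : 5 ∣ Nat.card K * K.index := by rw [h1, ← hK]; exact Dvd.intro_left _ rfl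
    exact ((Nat.Prime.dvd_mul (by norm_num)).1 h2).resolve_left h5K
  have hidx : K.index = K.relIndex H := by
    rw [← Subgroup.relIndex_sup_right H K, hfr, Subgroup.relIndex_top_right]
  have h5H : 5 ∣ Nat.card H := by
    rw [hidx] at h5idx
    exact h5idx.trans (Subgroup.relIndex_dvd_card K H)
  obtain ⟨x, hx⟩ := exists_prime_orderOf_dvd_card' (G := ↥H) 5 h5H
  have hx' : orderOf (x : G) = 5 := by rw [Subgroup.orderOf_coe, hx]
  obtain ⟨P₁, hP₁⟩ := exists_sylow_zpowers P (h5 P) (x : G) hx'
  have hP₁H : (P₁ : Subgroup G) ≤ normalizer (R' : Set G) := by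
    rw [hP₁, Subgroup.zpowers_le]; exact x.2
  have hmod := card_modEq_card_centralizer (P₁ : Subgroup G) R' P₁.isPGroup' hP₁H
  set c := Nat.card ↥(R' ⊓ centralizer ((P₁ : Subgroup G) : Set G)) with hc
  have hc1 : c ∣ 7 ^ k := by
    rw [← hR'card]; exact Subgroup.card_dvd_of_le inf_le_left
  have hc2 : c ∣ Nat.card (centralizer ((P₁ : Subgroup G) : Set G)) :=
    Subgroup.card_dvd_of_le inf_le_right
  have h7C₁ := not_seven_dvd_centralizer h21 hf P₁
  rw [hk1, pow_one] at hc1
  have hc' : c = 1 := by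
    rcases (Nat.dvd_prime (by norm_num)).1 hc1 with h1 | h1
    · exact h1
    · exact absurd (h1 ▸ hc2) h7C₁
  rw [hR'card, hk1, hc'] at hmod
  exact absurd hmod (by decide)

end Cfsg.Agent.Helper20.SylTwentyOne
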