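import Mathlib

/-!
# Evaluating the transfer when the homomorphism is a power on the relevant conjugates (helper20)
-/

set_option autoImplicit false

namespace Cfsg.Agent.Helper20.SylTwentyOne

open Subgroup MulAction

/-- if `ϕ (g₀⁻¹ g^k g₀) = a^k` whenever `g₀⁻¹ g^k g₀ ∈ H`, then the transfer of `g` is
`a ^ [G : H]` -/
theorem transfer_eq_pow_of_forall {G : Type*} [Group G] {H : Subgroup G} {A : Type*} [CommGroup A]
    (ϕ : H →* A) [H.FiniteIndex] (g : G) (a : A)
    (key : ∀ (k : ℕ) (g₀ : G) (hk : g₀⁻¹ * g ^ k * g₀ ∈ H), ϕ ⟨g₀⁻¹ * g ^ k * g₀, hk⟩ = a ^ k) :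
    MonoidHom.transfer ϕ g = a ^ H.index := by
  classical
  letI := H.fintypeQuotientOfFiniteIndex
  rw [MonoidHom.transfer_eq_prod_quotient_orbitRel_zpowers_quot,
    Subgroup.index_eq_sum_minimalPeriod H g, ← Finset.prod_pow_eq_pow_sum]
  refine Finset.prod_congr rfl fun q _ => ?_
  exact key _ _ _

end Cfsg.Agent.Helper20.SylTwentyOne
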