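import Mathlib
import Cfsg.Agent.Lib.Helper20.SylTO5
import Cfsg.Agent.Lib.Helper20.SylTO6

/-!
# Twenty-one Sylow 5-subgroups of order 5: the transfer into `Aut P` (helper20)
-/

set_option autoImplicit false

namespace Cfsg.Agent.Helper20.SylTwentyOne

open Subgroup MulAction Cfsg.Agent.Helper20.SylFifteen

universe u

variable {G : Type u} [Group G] [Finite G]

omit [Finite G] in
theorem conj_mem_smul (g₀ : G) (P : Sylow 5 G) {x : G} (hx : x ∈ (P : Subgroup G)) :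
    g₀ * x * g₀⁻¹ ∈ ((g₀ • P : Sylow 5 G) : Subgroup G) := by
  rw [Sylow.coe_subgroup_smul]
  have := Subgroup.smul_mem_pointwise_smul x (MulAut.conj g₀) (P : Subgroup G) hx
  simpa [MulAut.smul_def, MulAut.conj_apply] using this

omit [Finite G] in
theorem smul_smul_eq (g₀ v : G) (P : Sylow 5 G)
    (h : g₀⁻¹ * v * g₀ ∈ normalizer ((P : Subgroup G) : Set G)) : v • (g₀ • P) = g₀ • P := by
  have h1 : (g₀⁻¹ * v * g₀) • P = P := Sylow.smul_eq_iff_mem_normalizer.2 h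
  calc v • (g₀ • P) = (v * g₀) • P := (mul_smul _ _ _).symm
    _ = (g₀ * (g₀⁻¹ * v * g₀)) • P := by congr 1; group
    _ = g₀ • ((g₀⁻¹ * v * g₀) • P) := mul_smul _ _ _
    _ = g₀ • P := by rw [h1]

omit [Finite G] in
theorem conj_mem_centralizer (g₀ c : G) (P : Sylow 5 G)
    (hc : c ∈ centralizer (((g₀ • P : Sylow 5 G) : Subgroup G) : Set G)) :
    g₀⁻¹ * c * g₀ ∈ centralizer ((P : Subgroup G) : Set G) := by
  rw [Subgroup.mem_centralizer_iff]
  intro x hx
  have h1 := (Subgroup.mem_centralizer_iff.1 hc) _ (conj_mem_smul g₀ P hx)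
  calc x * (g₀⁻¹ * c * g₀) = g₀⁻¹ * ((g₀ * x * g₀⁻¹) * c) * g₀ := by group
    _ = g₀⁻¹ * (c * (g₀ * x * g₀⁻¹)) * g₀ := by rw [h1]
    _ = g₀⁻¹ * c * g₀ * x := by group

/-- a `2`-element of the normalizer, outside the centralizer, with square in the centralizer -/
theorem exists_two_element (h21 : Nat.card (Sylow 5 G) = 21) (hf : Faithful G)
    (h5 : ∀ P : Sylow 5 G, Nat.card (P : Subgroup G) = 5) (P : Sylow 5 G) :
    ∃ w : G, w ∈ normalizer ((P : Subgroup G) : Set G) ∧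
      w ∉ centralizer ((P : Subgroup G) : Set G) ∧
      w ^ 2 ∈ centralizer ((P : Subgroup G) : Set G) ∧ ∃ k : ℕ, w ^ 2 ^ k = 1 := by
  classical
  set N := normalizer ((P : Subgroup G) : Set G) with hN
  set C := centralizer ((P : Subgroup G) : Set G) with hC
  haveI : IsCyclic ↥(P : Subgroup G) := isCyclic_of_prime_card (h5 P)
  have hCN : C ≤ N := Subgroup.centralizer_le_normalizer _
  -- fourth powers of elements of the normalizer centralize
  have hpow4 : ∀ n : G, n ∈ N → n ^ 4 ∈ C := by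
    intro n hn
    have h1 : ((P : Subgroup G).normalizerMonoidHom ⟨n, hn⟩) ^ 4 = 1 := by
      have h2 := pow_card_eq_one' (G := MulAut ↥(P : Subgroup G))
        (x := (P : Subgroup G).normalizerMonoidHom ⟨n, hn⟩)
      rwa [IsCyclic.card_mulAut, h5 P, Nat.totient_prime (by norm_num)] at h2
    rw [← map_pow, ← MonoidHom.mem_ker, Subgroup.normalizerMonoidHom_ker,
      Subgroup.mem_subgroupOf] at h1
    exact h1
  obtain ⟨g, hgN, hgC⟩ := SetLike.not_le_iff_exists.1 (normalizer_not_le_centralizer h21 hf h5 P)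
  obtain ⟨k, m, hm, hkm⟩ := Nat.exists_eq_two_pow_mul_odd (orderOf_pos g).ne'
  have hg'N : g ^ m ∈ N := N.pow_mem hgN m
  have hg'C : g ^ m ∉ C := by
    intro h
    apply hgC
    have h1 : Nat.gcd m 4 = 1 := by
      have h2 : Nat.Coprime m 2 := Nat.coprime_two_right.2 hm
      have h3 : Nat.Coprime m (2 ^ 2) := Nat.Coprime.pow_right 2 h2
      exact h3
    obtain ⟨a, b, hab⟩ : ∃ a b : ℤ, (m : ℤ) * a + 4 * b = 1 := by
      have := Int.gcd_eq_gcd_ab (m : ℤ) 4
      have h4 : Int.gcd (m : ℤ) 4 = 1 := by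
        have : Int.gcd (m : ℤ) ((4 : ℕ) : ℤ) = Nat.gcd m 4 := Int.gcd_natCast_natCast m 4
        simpa [h1] using this
      rw [h4] at this
      push_cast at this
      exact ⟨Int.gcdA (m : ℤ) 4, Int.gcdB (m : ℤ) 4, this.symm⟩
    have h5' : g = (g ^ m) ^ a * (g ^ 4) ^ b := by
      rw [← zpow_natCast g m, ← zpow_natCast g 4, ← zpow_mul, ← zpow_mul, ← zpow_add]
      push_cast
      rw [hab, zpow_one]
    rw [h5']
    exact C.mul_mem (C.zpow_mem h a) (C.zpow_mem (hpow4 g hgN) b)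
  have hg'2 : (g ^ m) ^ 2 ^ k = 1 := by
    rw [← pow_mul, mul_comm, ← hkm, pow_orderOf_eq_one]
  by_cases hsq : (g ^ m) ^ 2 ∈ C
  · exact ⟨g ^ m, hg'N, hg'C, hsq, k, hg'2⟩
  · refine ⟨(g ^ m) ^ 2, N.pow_mem hg'N 2, hsq, ?_, k, ?_⟩
    · rw [← pow_mul]
      exact hpow4 _ hg'N
    · rw [← pow_mul, mul_comm, pow_mul, hg'2, one_pow]

theorem caseB (h21 : Nat.card (Sylow 5 G) = 21) (hf : Faithful G)
    (hnorm : ∀ M : Subgroup G, M.Normal → (∀ P : Sylow 5 G, (P : Subgroup G) ≤ M) → M = ⊤)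
    (h5 : ∀ P : Sylow 5 G, Nat.card (P : Subgroup G) = 5) : False := by
  classical
  haveI : Finite (Sylow 5 G) := Nat.finite_of_card_ne_zero (by rw [h21]; norm_num)
  obtain ⟨P⟩ : Nonempty (Sylow 5 G) := inferInstance
  obtain ⟨w, hwN, hwC, hw2C, hw2⟩ := exists_two_element h21 hf h5 P
  set N := normalizer ((P : Subgroup G) : Set G) with hN
  set C := centralizer ((P : Subgroup G) : Set G) with hC
  haveI : IsCyclic ↥(P : Subgroup G) := isCyclic_of_prime_card (h5 P)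
  haveI : NeZero (Nat.card ↥(P : Subgroup G)) := ⟨by rw [h5 P]; norm_num⟩
  let ν : N →* MulAut ↥(P : Subgroup G) := (P : Subgroup G).normalizerMonoidHom
  let e : MulAut ↥(P : Subgroup G) ≃* (ZMod (Nat.card ↥(P : Subgroup G)))ˣ :=
    IsCyclic.mulAutMulEquiv _
  let ϕ : N →* (ZMod (Nat.card ↥(P : Subgroup G)))ˣ := e.toMonoidHom.comp ν
  have hϕ : ∀ n : N, ϕ n = e (ν n) := fun n => rfl
  have hker : ∀ n : N, ϕ n = 1 ↔ (n : G) ∈ C := by
    intro n
    rw [hϕ, MulEquiv.map_eq_one_iff, ← MonoidHom.mem_ker]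
    show n ∈ (P : Subgroup G).normalizerMonoidHom.ker ↔ _
    rw [Subgroup.normalizerMonoidHom_ker, Subgroup.mem_subgroupOf]
  have htot : Nat.totient (Nat.card ↥(P : Subgroup G)) = 4 := by
    rw [h5 P]; exact Nat.totient_prime (by norm_num)
  have hpow4 : ∀ a : (ZMod (Nat.card ↥(P : Subgroup G)))ˣ, a ^ 4 = 1 := by
    intro a
    have := pow_card_eq_one (x := a)
    rwa [ZMod.card_units_eq_totient, htot] at this
  set ε := ϕ ⟨w, hwN⟩ with hε
  have hε1 : ε ≠ 1 := fun h => hwC ((hker ⟨w, hwN⟩).1 h)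
  have hε2 : ε ^ 2 = 1 := by
    rw [hε, ← map_pow]
    exact (hker _).2 (by simpa using hw2C)
  -- `w` inverts `P`
  have hwinv : ∀ x : G, x ∈ (P : Subgroup G) → w * x * w⁻¹ = x⁻¹ :=
    fun x hx => inverts P (h5 P) hwC hwN hw2C hx
  -- powers of `w` are `2`-elements
  have hpow2 : ∀ k : ℕ, ∃ i : ℕ, (w ^ k) ^ 2 ^ i = 1 := by
    intro k
    obtain ⟨i, hi⟩ := hw2
    exact ⟨i, by rw [← pow_mul, mul_comm, pow_mul, hi, one_pow]⟩
  have key : ∀ (k : ℕ) (g₀ : G) (hk : g₀⁻¹ * w ^ k * g₀ ∈ N),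
      ϕ ⟨g₀⁻¹ * w ^ k * g₀, hk⟩ = ε ^ k := by
    intro k g₀ hk
    set Q : Sylow 5 G := g₀ • P with hQ
    have hvQ : w ^ k • Q = Q := smul_smul_eq g₀ (w ^ k) P hk
    rcases Nat.even_or_odd' k with ⟨j, hj | hj⟩
    · -- even exponent
      have hvC : w ^ k ∈ C := by
        rw [hj, pow_mul]; exact C.pow_mem hw2C j
      have h1 := two_element_centralizes h21 hf hnorm P Q hvC (hpow2 k) hvQ
      have h2 := conj_mem_centralizer g₀ (w ^ k) P h1
      rw [(hker _).2 h2, hj, pow_mul, hε2, one_pow]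
    · -- odd exponent
      set v := w ^ k with hv
      have hvN : v ∈ N := N.pow_mem hwN k
      have hv2C : v ^ 2 ∈ C := by
        rw [hv, ← pow_mul, mul_comm, pow_mul]; exact C.pow_mem hw2C k
      have hvC : v ∉ C := by
        intro h
        apply hwC
        have h1 : w = v * ((w ^ 2) ^ j)⁻¹ := by
          rw [hv, hj, pow_succ, pow_mul]; group
        rw [h1]
        exact C.mul_mem h (C.inv_mem (C.pow_mem hw2C j))
      have hv2Q : v ^ 2 • Q = Q := by
        rw [pow_two, mul_smul, hvQ, hvQ]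
      have h1 : v ^ 2 ∈ centralizer ((Q : Subgroup G) : Set G) := by
        refine two_element_centralizes h21 hf hnorm P Q hv2C ?_ hv2Q
        obtain ⟨i, hi⟩ := hpow2 k
        exact ⟨i, by rw [← pow_mul, mul_comm, pow_mul, hi, one_pow]⟩
      have h2 : v ∉ centralizer ((Q : Subgroup G) : Set G) := by
        intro h
        apply hvC
        exact two_element_centralizes h21 hf hnorm Q P h (hpow2 k)
          (Sylow.smul_eq_iff_mem_normalizer.2 hvN)
      have h3 : v ∈ normalizer ((Q : Subgroup G) : Set G) :=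
        Sylow.smul_eq_iff_mem_normalizer.1 hvQ
      have hvinv : ∀ q : G, q ∈ (Q : Subgroup G) → v * q * v⁻¹ = q⁻¹ :=
        fun q hq => inverts Q (h5 Q) h2 h3 h1 hq
      have h4 : ν ⟨g₀⁻¹ * v * g₀, hk⟩ = ν ⟨w, hwN⟩ := by
        apply MulEquiv.ext
        intro x
        apply Subtype.ext
        show g₀⁻¹ * v * g₀ * (x : G) * (g₀⁻¹ * v * g₀)⁻¹ = w * (x : G) * w⁻¹
        rw [hwinv x x.2]
        have h6 := hvinv _ (conj_mem_smul g₀ P x.2)
        calc g₀⁻¹ * v * g₀ * (x : G) * (g₀⁻¹ * v * g₀)⁻¹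
            = g₀⁻¹ * (v * (g₀ * (x : G) * g₀⁻¹) * v⁻¹) * g₀ := by group
          _ = g₀⁻¹ * (g₀ * (x : G) * g₀⁻¹)⁻¹ * g₀ := by rw [h6]
          _ = (x : G)⁻¹ := by group
      rw [hϕ, h4, ← hϕ, ← hε, hj, pow_succ, pow_mul, hε2, one_pow, one_mul]
  have hidx : N.index = 21 := by
    rw [← h21]; exact (Sylow.card_eq_index_normalizer P).symm
  have htr := transfer_eq_pow_of_forall ϕ w ε key
  rw [hidx] at htr
  have hε21 : ε ^ 21 = ε := by
    have : ε ^ 21 = (ε ^ 2) ^ 10 * ε := by rw [← pow_mul, ← pow_succ]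
    rw [this, hε2, one_pow, one_mul]
  rw [hε21] at htr
  set τ := MonoidHom.transfer ϕ with hτ
  have h1 : τ.ker = ⊤ := by
    apply hnorm _ inferInstance
    intro P' x hx
    rw [MonoidHom.mem_ker]
    have hx5 : x ^ 5 = 1 := by
      have := pow_card_eq_one' (G := ↥(P' : Subgroup G)) (x := ⟨x, hx⟩)
      rw [h5 P'] at this
      exact congrArg Subtype.val this
    have h2 : τ x ^ 5 = 1 := by rw [← map_pow, hx5, map_one]
    have h3 := hpow4 (τ x)
    calc τ x = τ x ^ 5 * (τ x ^ 4)⁻¹ := by group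
      _ = 1 := by rw [h2, h3]; simp
  have h2 : w ∈ τ.ker := by rw [h1]; trivial
  rw [MonoidHom.mem_ker, htr] at h2
  exact hε1 h2

end Cfsg.Agent.Helper20.SylTwentyOne
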