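import Mathlib
import Cfsg.Agent.Lib.Helper20.SylowConj2

set_option autoImplicit false

namespace Cfsg.Agent.Helper20

variable {G : Type*} [Group G]

/-- An element of `p`-power order of `P N` (with `N` normal) is conjugate into the Sylow
`p`-subgroup `P` by an element of `N`. -/
theorem exists_conj_mem_sylow_of_mem_sup_normal [Finite G] {p : ℕ} [Fact p.Prime] (P : Sylow p G)
    (N : Subgroup G) [N.Normal] {c : G} (hcK : c ∈ N ⊔ (P : Subgroup G))
    (hc : ∃ k : ℕ, orderOf c = p ^ k) : ∃ n ∈ N, n⁻¹ * c * n ∈ (P : Subgroup G) := by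
  obtain ⟨k, hkK, hk⟩ := exists_conj_mem_sylow_of_le P (le_sup_right : (P : Subgroup G) ≤ N ⊔ P) hcK hc
  have hk' : k ∈ ((N ⊔ (P : Subgroup G) : Subgroup G) : Set G) := hkK
  rw [Subgroup.normal_mul N (P : Subgroup G)] at hk'
  obtain ⟨n1, hn1, p1, hp1, rfl⟩ := Set.mem_mul.mp hk'
  refine ⟨n1, hn1, ?_⟩
  have e : n1⁻¹ * c * n1 = p1 * ((n1 * p1)⁻¹ * c * (n1 * p1)) * p1⁻¹ := by group
  rw [e]
  exact Subgroup.mul_mem _ (Subgroup.mul_mem _ hp1 hk) (Subgroup.inv_mem _ hp1)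

/-- A `p`-subgroup meets trivially any subgroup whose order is not divisible by `p`. -/
theorem eq_one_of_mem_of_orderOf_pow {p : ℕ} [Fact p.Prime] (N : Subgroup G) [Finite N]
    (hN : ¬ p ∣ Nat.card N) {n : G} (hn : n ∈ N) (hp : ∃ k : ℕ, orderOf n = p ^ k) : n = 1 := by
  obtain ⟨k, hk⟩ := hp
  have h1 : orderOf n ∣ Nat.card N := Subgroup.orderOf_dvd_natCard N hn
  rcases Nat.eq_zero_or_pos k with rfl | hkpos
  · rw [pow_zero] at hk
    exact orderOf_eq_one_iff.mp hk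
  · exfalso
    apply hN
    rw [hk] at h1
    exact (dvd_pow_self p hkpos.ne').trans h1

end Cfsg.Agent.Helper20
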