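import Mathlib
import Cfsg.Agent.Lib.Helper20.TCDefs

set_option autoImplicit false

/-! Piece GOODTR of S3104: transport of a good configuration along an isomorphism. -/

namespace Cfsg.Agent.Helper20.TC

open Cfsg Cfsg.Agent.Helper20.GL4Sub
open scoped Pointwise

namespace GOODTR

variable {V V' : Type*} [Group V] [Group V'] (θ : V ≃* V')

theorem congr_apply (f : MulAut V) (v' : V') : MulAut.congr θ f v' = θ (f (θ.symm v')) := rfl

theorem congr_fix_iff (f : MulAut V) (v' : V') :
    MulAut.congr θ f v' = v' ↔ f (θ.symm v') = θ.symm v' := by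
  rw [congr_apply]
  constructor
  · intro h
    have := congrArg θ.symm h
    rwa [MulEquiv.symm_apply_apply] at this
  · intro h
    rw [h, MulEquiv.apply_symm_apply]

theorem mem_map_iff (W : Subgroup V) (v' : V') : v' ∈ W.map θ.toMonoidHom ↔ θ.symm v' ∈ W := by
  constructor
  · rintro ⟨w, hw, rfl⟩
    show θ.symm (θ w) ∈ W
    rw [MulEquiv.symm_apply_apply]; exact hw
  · intro h
    exact ⟨θ.symm v', h, θ.apply_symm_apply v'⟩

end GOODTR

theorem good_transport {V V' : Type*} [Group V] [Group V'] (θ : V ≃* V')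
    (a c : Fin 3 → MulAut V) (W : Subgroup V) (h : Good a c W) :
    Good (fun i => MulAut.congr θ (a i)) (fun i => MulAut.congr θ (c i))
      (W.map θ.toMonoidHom) := by
  refine ⟨?_, ?_, ?_, ?_, ?_, ?_, ?_, ?_, ?_⟩
  · intro i
    show MulAut.congr θ (a i) * MulAut.congr θ (a i) = 1
    rw [← map_mul, h.sq i, map_one]
  · intro i j
    show MulAut.congr θ (a i) * MulAut.congr θ (a j) = MulAut.congr θ (a j) * MulAut.congr θ (a i)
    rw [← map_mul, ← map_mul, h.comm i j]
  · intro e he
    apply h.indep e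
    apply (MulAut.congr θ).injective
    rw [map_mul, map_mul, map_one, apply_ite (MulAut.congr θ), apply_ite (MulAut.congr θ),
      apply_ite (MulAut.congr θ), map_one]
    exact he
  · rw [← h.card_W]
    exact (Nat.card_congr (θ.subgroupMap W).toEquiv).symm
  · rintro i _ ⟨w, hw, rfl⟩
    show MulAut.congr θ (a i) (θ w) = θ w
    rw [GOODTR.congr_apply, MulEquiv.symm_apply_apply, h.fixW i w hw]
  · intro i j hij v' hv'
    have hv2 : MulAut.congr θ (a i * a j) v' = v' := by
      rw [map_mul]; exact hv'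
    rw [GOODTR.congr_fix_iff] at hv2
    exact (GOODTR.mem_map_iff θ W v').2 (h.fix2 i j hij _ hv2)
  · intro v' hv'
    have hv2 : MulAut.congr θ (a 0 * a 1 * a 2) v' = v' := by
      rw [map_mul, map_mul]; exact hv'
    rw [GOODTR.congr_fix_iff] at hv2
    exact (GOODTR.mem_map_iff θ W v').2 (h.fix3 _ hv2)
  · intro i
    show MulAut.congr θ (c i) * MulAut.congr θ (a i) = MulAut.congr θ (a i) * MulAut.congr θ (c i)
    rw [← map_mul, ← map_mul, h.cc i]
  · intro i v' hv' hex
    have hv2 : a i (θ.symm v') = θ.symm v' := (GOODTR.congr_fix_iff θ (a i) v').1 hv'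
    obtain ⟨u', hu'⟩ := hex
    apply (GOODTR.mem_map_iff θ W v').2
    apply h.ffree i _ hv2
    refine ⟨θ.symm u', ?_⟩
    have h1 : MulAut.congr θ (c i) v' = v' * (MulAut.congr θ (a i) u' * u'⁻¹) := hu'
    rw [GOODTR.congr_apply, GOODTR.congr_apply] at h1
    have h2 := congrArg θ.symm h1
    rw [MulEquiv.symm_apply_apply, map_mul, map_mul, MulEquiv.symm_apply_apply, map_inv] at h2
    exact h2

end Cfsg.Agent.Helper20.TC
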