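import Mathlib
import Cfsg.Agent.Lib.Helper20.TCDefs
import Cfsg.Agent.Lib.Helper4.GL4SubIDX6
import Cfsg.Agent.Lib.Helper10.GL4SubG45
import Cfsg.Agent.Lib.Helper4.GL4SubORD15
import Cfsg.Agent.Lib.Helper7.GL4SubMOVED
import Cfsg.Agent.Lib.Helper19.GL4SubEMB

set_option autoImplicit false

/-! Piece PAIRSTAB of S3104: a subgroup of `A8` isomorphic to the symmetric group of degree 6 is
the stabilizer of a pair of points. -/

namespace Cfsg.Agent.Helper20.TC

open Cfsg Cfsg.Agent.Helper20.GL4Sub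
open scoped Pointwise

namespace PAIRSTAB

theorem mem_pairStab_iff (i j : Fin 8) (g : A8) :
    g ∈ pairStab i j ↔ ∀ x, (x = i ∨ x = j) ↔ ((g : Equiv.Perm (Fin 8)) x = i ∨
      (g : Equiv.Perm (Fin 8)) x = j) := by
  unfold pairStab
  rw [Subgroup.mem_subgroupOf, MulAction.mem_stabilizer_iff]
  constructor
  · intro h x
    have h1 : ∀ y, y ∈ ((g : Equiv.Perm (Fin 8)) • ({i, j} : Set (Fin 8))) ↔ y ∈ ({i, j} : Set (Fin 8)) := by
      intro y; rw [h]
    have h2 := h1 ((g : Equiv.Perm (Fin 8)) x)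
    rw [← Equiv.Perm.smul_def, Set.smul_mem_smul_set_iff] at h2
    simp only [Set.mem_insert_iff, Set.mem_singleton_iff] at h2
    exact h2
  · intro h
    ext y
    have h2 := h ((g : Equiv.Perm (Fin 8))⁻¹ y)
    rw [Set.mem_smul_set_iff_inv_smul_mem]
    simp only [Set.mem_insert_iff, Set.mem_singleton_iff, Equiv.Perm.smul_def] at h2 ⊢
    rw [h2]
    simp

/-- the stabilizer of a pair has at most 720 elements -/
theorem card_pairStab_le (i j : Fin 8) (hij : i ≠ j) : Nat.card ↥(pairStab i j) ≤ 720 := by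
  classical
  let M : Set (Fin 8) := {x | ¬ (x = i ∨ x = j)}
  have hM : Nat.card M = 6 := by
    rw [Nat.card_eq_fintype_card, Fintype.card_subtype]
    have h1 : (Finset.univ.filter (fun x : Fin 8 => x ∈ M)) = Finset.univ \ {i, j} := by
      ext x
      simp [M]
    rw [h1, Finset.card_sdiff_of_subset (Finset.subset_univ _), Finset.card_univ, Fintype.card_fin,
      Finset.card_pair hij]
  let F : ↥(pairStab i j) → Equiv.Perm M := fun g =>
    Equiv.Perm.subtypePerm (((g : A8) : A8) : Equiv.Perm (Fin 8)) (by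
      intro x
      have h := (mem_pairStab_iff i j (g : A8)).1 g.2 x
      show ¬ (_ = i ∨ _ = j) ↔ ¬ (x = i ∨ x = j)
      rw [h])
  have hF : Function.Injective F := by
    intro g h hgh
    have hfix : ∀ x ∈ M, ((((h : A8) : A8) : Equiv.Perm (Fin 8))⁻¹ *
        (((g : A8) : A8) : Equiv.Perm (Fin 8))) x = x := by
      intro x hx
      have h1 := congrArg (fun σ : Equiv.Perm M => ((σ ⟨x, hx⟩ : M) : Fin 8)) hgh
      have h2 : (((g : A8) : A8) : Equiv.Perm (Fin 8)) x = (((h : A8) : A8) : Equiv.Perm (Fin 8)) x := h1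
      rw [Equiv.Perm.mul_apply, h2]
      simp
    have hsign : Equiv.Perm.sign ((((h : A8) : A8) : Equiv.Perm (Fin 8))⁻¹ *
        (((g : A8) : A8) : Equiv.Perm (Fin 8))) = 1 := by
      rw [map_mul, map_inv, Equiv.Perm.mem_alternatingGroup.1 (h : A8).2,
        Equiv.Perm.mem_alternatingGroup.1 (g : A8).2]
      simp
    have h1 := EMB.eq_one_of_fix M hM _ hsign hfix
    apply Subtype.ext
    apply Subtype.ext
    have h2 : (((g : A8) : A8) : Equiv.Perm (Fin 8)) = (((h : A8) : A8) : Equiv.Perm (Fin 8)) := by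
      rw [inv_mul_eq_one] at h1
      exact h1.symm
    exact h2
  have hfin : Finite M := Finite.of_injective (fun x : M => (x : Fin 8)) Subtype.val_injective
  have hcardP : Nat.card (Equiv.Perm M) = 720 := by
    rw [Nat.card_perm, hM]; rfl
  calc Nat.card ↥(pairStab i j) ≤ Nat.card (Equiv.Perm M) := Nat.card_le_card_of_injective F hF
    _ = 720 := hcardP

/-- the copy of the alternating group of degree 6 inside `G` -/
theorem exists_A6 (G : Subgroup A8) (φ : ↥G ≃* Equiv.Perm (Fin 6)) :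
    ∃ S : Subgroup A8, S ≤ G ∧ G ≤ Subgroup.normalizer (S : Set A8) ∧ IsSimpleGroup ↥S ∧
      Nat.card ↥S = 360 := by
  obtain ⟨S0, hS0⟩ : ∃ S0 : Subgroup ↥G, S0 = (alternatingGroup (Fin 6)).comap φ.toMonoidHom :=
    ⟨_, rfl⟩
  have hS0n : S0.Normal := by
    rw [hS0]; exact Subgroup.Normal.comap inferInstance _
  have hmap : S0.map φ.toMonoidHom = alternatingGroup (Fin 6) := by
    rw [hS0]
    exact Subgroup.map_comap_eq_self_of_surjective (f := φ.toMonoidHom) φ.surjective _
  have eS : ↥(S0.map G.subtype) ≃* ↥(alternatingGroup (Fin 6)) :=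
    ((S0.equivMapOfInjective G.subtype G.subtype_injective).symm).trans
      ((φ.subgroupMap S0).trans (MulEquiv.subgroupCongr hmap))
  clear hS0 hmap
  have hsimple : IsSimpleGroup ↥(alternatingGroup (Fin 6)) :=
    alternatingGroup.isSimpleGroup (by simp)
  have hS : IsSimpleGroup ↥(S0.map G.subtype) := eS.isSimpleGroup
  have hcard : Nat.card ↥(S0.map G.subtype) = 360 := by
    rw [Nat.card_congr eS.toEquiv]
    have h2 := two_mul_card_alternatingGroup (α := Fin 6)
    rw [Fintype.card_perm, Fintype.card_fin] at h2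
    rw [Nat.card_eq_fintype_card]
    have h6 : Nat.factorial 6 = 720 := by decide
    rw [h6] at h2
    change Fintype.card ↥(alternatingGroup (Fin 6)) = 360
    omega
  refine ⟨S0.map G.subtype, ?_, ?_, hS, hcard⟩
  · rintro _ ⟨s, -, rfl⟩
    exact s.2
  · intro g hg
    rw [Subgroup.mem_normalizer_iff]
    intro x
    constructor
    · rintro ⟨s, hs, rfl⟩
      refine ⟨⟨g, hg⟩ * s * ⟨g, hg⟩⁻¹, hS0n.conj_mem s hs _, ?_⟩
      simp
    · rintro ⟨s, hs, hse⟩
      refine ⟨⟨g, hg⟩⁻¹ * s * ⟨g, hg⟩, ?_, ?_⟩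
      · have := hS0n.conj_mem s hs ⟨g, hg⟩⁻¹
        simpa using this
      · have h1 : G.subtype (⟨g, hg⟩⁻¹ * s * ⟨g, hg⟩) = g⁻¹ * (G.subtype s) * g := by simp
        rw [h1, hse]; group

end PAIRSTAB

theorem eq_pairStab (G : Subgroup A8) (h : Nonempty (↥G ≃* Equiv.Perm (Fin 6))) :
    ∃ i j : Fin 8, i ≠ j ∧ G = pairStab i j := by
  classical
  obtain ⟨φ⟩ := h
  -- the alternating group inside `G`
  obtain ⟨S, hSG, hN, hS, hcard⟩ := PAIRSTAB.exists_A6 G φ
  have hm := card_moved idx6 ord45 noFix15 S hS hcard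
  -- the two fixed points
  have hc6 : (Finset.univ.filter (fun x : Fin 8 => x ∈ moved S)).card = 6 := by
    rw [← hm, Nat.card_eq_fintype_card, Fintype.card_subtype]
  have hc2 : (Finset.univ.filter (fun x : Fin 8 => x ∉ moved S)).card = 2 := by
    have h := Finset.card_filter_add_card_filter_not (s := (Finset.univ : Finset (Fin 8)))
      (fun x => x ∈ moved S)
    rw [hc6, Finset.card_univ, Fintype.card_fin] at h
    omega
  obtain ⟨i, j, hij, hpair⟩ := Finset.card_eq_two.1 hc2
  have hmem : ∀ x : Fin 8, x ∉ moved S ↔ (x = i ∨ x = j) := by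
    intro x
    have : x ∈ Finset.univ.filter (fun x : Fin 8 => x ∉ moved S) ↔ x ∈ ({i, j} : Finset (Fin 8)) := by
      rw [hpair]
    simpa using this
  have hGP : G ≤ pairStab i j := by
    intro g hg
    rw [PAIRSTAB.mem_pairStab_iff]
    intro x
    rw [← hmem, ← hmem]
    exact not_congr (EMB.mem_moved_iff S G hN ⟨g, hg⟩ x)
  refine ⟨i, j, hij, ?_⟩
  have hcG : Nat.card ↥G = 720 := by
    rw [Nat.card_congr φ.toEquiv, Nat.card_perm, Nat.card_fin]; rfl
  have hfinP : Finite ↥(pairStab i j) := inferInstance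
  exact Subgroup.eq_of_le_of_card_ge hGP (by
    rw [hcG]; exact PAIRSTAB.card_pairStab_le i j hij)

end Cfsg.Agent.Helper20.TC
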