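import Mathlib
import Cfsg.Agent.Lib.Helper20.TCDefs

set_option autoImplicit false

/-! Piece SCARD of S3104. -/

namespace Cfsg.Agent.Helper20.TC

open Cfsg Cfsg.Agent.Helper20.GL4Sub Cfsg.Agent.Helper12
open scoped Pointwise

namespace SCARD

/-- the order of a preimage -/
theorem card_comap_of_le_range {G H : Type*} [Group G] [Group H] (f : G →* H) (E : Subgroup H)
    (hE : E ≤ f.range) : Nat.card ↥(E.comap f) = Nat.card ↥f.ker * Nat.card ↥E := by
  have hle : f.ker ≤ E.comap f := by
    intro x hx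
    rw [Subgroup.mem_comap, MonoidHom.mem_ker.1 hx]
    exact E.one_mem
  have h1 := Subgroup.relIndex_mul_relIndex (⊥ : Subgroup G) f.ker (E.comap f) bot_le hle
  rw [Subgroup.relIndex_bot_left, Subgroup.relIndex_bot_left, Subgroup.relIndex_ker,
    Subgroup.map_comap_eq, inf_of_le_right hE] at h1
  exact h1.symm

end SCARD

variable {X : Type*} [Group X] [Finite X] (R : Subgroup X) [R.Normal]

theorem card_secY (hker : (Cfsg.Agent.Helper12.FA.rho R).ker = R)
    (hV : IsE16 (↥R ⧸ frattini ↥R)) (a : Fin 3 → MulAut (↥R ⧸ frattini ↥R))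
    (W : Subgroup (↥R ⧸ frattini ↥R)) (hW : Nat.card W = 4)
    (hE : Nat.card ↥(Subgroup.closure (Set.range a)) = 8)
    (ha : ∀ i, a i ∈ (Cfsg.Agent.Helper12.FA.rho R).range) :
    Nat.card ↥(secY R a) = 32 * Nat.card ↥(secN R W) := by
  have hle : Subgroup.closure (Set.range a) ≤ (FA.rho R).range := by
    rw [Subgroup.closure_le]
    rintro _ ⟨i, rfl⟩
    exact ha i
  have hY : Nat.card ↥(secY R a) = Nat.card ↥R * 8 := by
    unfold secY
    rw [SCARD.card_comap_of_le_range _ _ hle, hE, hker]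
  have hN : Nat.card ↥(secN R W) = Nat.card ↥(frattini ↥R) * 4 := by
    unfold secN
    rw [← Nat.card_congr ((W.comap (QuotientGroup.mk' (frattini ↥R))).equivMapOfInjective
      R.subtype R.subtype_injective).toEquiv]
    rw [SCARD.card_comap_of_le_range (QuotientGroup.mk' (frattini ↥R)) W
      (by rw [MonoidHom.range_eq_top.2 (QuotientGroup.mk'_surjective _)]; exact le_top),
      QuotientGroup.ker_mk', hW]
  have hR : Nat.card ↥R = 16 * Nat.card ↥(frattini ↥R) := by
    rw [Subgroup.card_eq_card_quotient_mul_card_subgroup (frattini ↥R), hV.2.2]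
  rw [hY, hN, hR]
  ring

end Cfsg.Agent.Helper20.TC
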