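import Mathlib
import Cfsg.Agent.Lib.Helper20.TCDefs

set_option autoImplicit false

/-! Pieces SLE and SNORM of S3104. -/

namespace Cfsg.Agent.Helper20.TC

open Cfsg Cfsg.Agent.Helper20.GL4Sub Cfsg.Agent.Helper12
open scoped Pointwise

variable {X : Type*} [Group X] [Finite X] (R : Subgroup X) [R.Normal]

omit [Finite X] in
theorem secN_le_secY (hker : (Cfsg.Agent.Helper12.FA.rho R).ker = R)
    (a : Fin 3 → MulAut (↥R ⧸ frattini ↥R)) (W : Subgroup (↥R ⧸ frattini ↥R)) :
    secN R W ≤ secY R a := by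
  rintro _ ⟨r, -, rfl⟩
  have hr : (r : X) ∈ (FA.rho R).ker := by rw [hker]; exact r.2
  show FA.rho R (r : X) ∈ Subgroup.closure (Set.range a)
  rw [MonoidHom.mem_ker.1 hr]
  exact Subgroup.one_mem _

namespace SNORM

omit [Finite X] in
/-- every element of the closure fixes `W` pointwise -/
theorem fix_of_closure (a : Fin 3 → MulAut (↥R ⧸ frattini ↥R))
    (W : Subgroup (↥R ⧸ frattini ↥R)) (hfix : ∀ i, ∀ w ∈ W, a i w = w) :
    ∀ g ∈ Subgroup.closure (Set.range a), ∀ w ∈ W, g w = w := by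
  intro g hg
  induction hg using Subgroup.closure_induction with
  | mem x hx =>
    obtain ⟨i, rfl⟩ := hx
    exact hfix i
  | one => intro w _; rfl
  | mul x y _ _ ihx ihy =>
    intro w hw
    rw [MulAut.mul_apply, ihy w hw, ihx w hw]
  | inv x _ ih =>
    intro w hw
    have h1 := ih w hw
    calc x⁻¹ w = x⁻¹ (x w) := by rw [h1]
      _ = w := by rw [← MulAut.mul_apply, inv_mul_cancel]; rfl

omit [Finite X] in
/-- conjugation by an element of `secY` maps `secN` into itself -/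
theorem conj_mem (a : Fin 3 → MulAut (↥R ⧸ frattini ↥R))
    (W : Subgroup (↥R ⧸ frattini ↥R)) (hfix : ∀ i, ∀ w ∈ W, a i w = w)
    (y : X) (hy : y ∈ secY R a) (n : X) (hn : n ∈ secN R W) : y * n * y⁻¹ ∈ secN R W := by
  obtain ⟨r, hr, rfl⟩ := hn
  have hrW : (QuotientGroup.mk r : ↥R ⧸ frattini ↥R) ∈ W := hr
  have h1 := fix_of_closure R a W hfix (FA.rho R y) hy _ hrW
  rw [FA.rho_mk] at h1
  refine ⟨MulAut.conjNormal y r, ?_, ?_⟩
  · show (QuotientGroup.mk (MulAut.conjNormal y r) : ↥R ⧸ frattini ↥R) ∈ W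
    rw [h1]; exact hrW
  · simp [MulAut.conjNormal_apply]

end SNORM

omit [Finite X] in
theorem secY_le_normalizer (a : Fin 3 → MulAut (↥R ⧸ frattini ↥R))
    (W : Subgroup (↥R ⧸ frattini ↥R)) (hfix : ∀ i, ∀ w ∈ W, a i w = w) :
    secY R a ≤ Subgroup.normalizer (secN R W : Set X) := by
  intro y hy
  rw [Subgroup.mem_normalizer_iff]
  intro n
  constructor
  · intro hn
    exact SNORM.conj_mem R a W hfix y hy n hn
  · intro hn
    have hy' : y⁻¹ ∈ secY R a := (secY R a).inv_mem hy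
    have := SNORM.conj_mem R a W hfix y⁻¹ hy' _ hn
    have h2 : y⁻¹ * (y * n * y⁻¹) * y⁻¹⁻¹ = n := by group
    rw [h2] at this
    exact this

end Cfsg.Agent.Helper20.TC
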