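import Mathlib
import Cfsg.Agent.S0012
import Cfsg.Agent.Lib.Helper20.TCDefs

set_option autoImplicit false

/-! Piece SSQ of S3104: the squares of the elements of `secY R a` lie in `secN R W`. -/

namespace Cfsg.Agent.Helper20.TC

open Cfsg Cfsg.Agent.Helper20.GL4Sub Cfsg.Agent.Helper12
open scoped Pointwise commutatorElement

namespace SSQ

/-- in a group generated by commuting involutions every element is an involution -/
theorem sq_one_of_closure {G : Type*} [Group G] (k : Set G) (hsq : ∀ x ∈ k, x * x = 1)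
    (hcomm : ∀ x ∈ k, ∀ y ∈ k, x * y = y * x) : ∀ g ∈ Subgroup.closure k, g * g = 1 := by
  have hcm : IsMulCommutative ↥(Subgroup.closure k) := Subgroup.isMulCommutative_closure hcomm
  have hc : ∀ x ∈ Subgroup.closure k, ∀ y ∈ Subgroup.closure k, x * y = y * x := by
    intro x hx y hy
    have := hcm.is_comm.comm (⟨x, hx⟩ : ↥(Subgroup.closure k)) ⟨y, hy⟩
    exact congrArg Subtype.val this
  intro g hg
  induction hg using Subgroup.closure_induction with
  | mem x hx => exact hsq x hx
  | one => simp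
  | mul x y hx hy ihx ihy =>
    calc x * y * (x * y) = x * (y * x) * y := by group
      _ = x * (x * y) * y := by rw [hc y hy x hx]
      _ = (x * x) * (y * y) := by group
      _ = 1 := by rw [ihx, ihy, one_mul]
  | inv x hx ih =>
    have : x⁻¹ = x := by
      rw [inv_eq_iff_mul_eq_one]; exact ih
    rw [this]; exact ih

variable {X : Type*} [Group X] [Finite X] (R : Subgroup X)

/-- the Frattini quotient of a 2-group is commutative of exponent 2 -/
theorem quot_facts (hR : IsPGroup 2 ↥R) :
    (∀ u w : ↥R ⧸ frattini ↥R, u * w = w * u) ∧ (∀ u : ↥R ⧸ frattini ↥R, u * u = 1) := by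
  have h12 := Cfsg.Agent.S0012.result (G := ↥R) 2 hR
  constructor
  · intro u w
    induction u using QuotientGroup.induction_on with
    | H a =>
      induction w using QuotientGroup.induction_on with
      | H b =>
        rw [← QuotientGroup.mk_mul, ← QuotientGroup.mk_mul, QuotientGroup.eq]
        apply h12.1
        have : (a * b)⁻¹ * (b * a) = ⁅b⁻¹, a⁻¹⁆ := by
          rw [commutatorElement_def]
          group
        rw [this, commutator_def]
        exact Subgroup.commutator_mem_commutator (Subgroup.mem_top _) (Subgroup.mem_top _)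
  · intro u
    induction u using QuotientGroup.induction_on with
    | H a =>
      rw [← QuotientGroup.mk_mul, QuotientGroup.eq_one_iff, ← pow_two]
      exact h12.2 a

omit [Finite X] in
/-- membership in `secN` -/
theorem mem_secN (W : Subgroup (↥R ⧸ frattini ↥R)) (r : ↥R)
    (h : (QuotientGroup.mk r : ↥R ⧸ frattini ↥R) ∈ W) : (r : X) ∈ secN R W :=
  ⟨r, h, rfl⟩

end SSQ

variable {X : Type*} [Group X] [Finite X] (R : Subgroup X) [R.Normal]

theorem sq_mem_secN (hR : IsPGroup 2 ↥R) (hker : (Cfsg.Agent.Helper12.FA.rho R).ker = R)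
    (a c : Fin 3 → MulAut (↥R ⧸ frattini ↥R)) (W : Subgroup (↥R ⧸ frattini ↥R))
    (hG : Good a c W)
    (hform : ∀ g ∈ Subgroup.closure (Set.range a), ∃ e : Fin 3 → Bool,
      g = (if e 0 then a 0 else 1) * (if e 1 then a 1 else 1) * (if e 2 then a 2 else 1))
    (hc : ∀ i, c i ∈ (Cfsg.Agent.Helper12.FA.rho R).range) :
    ∀ y ∈ secY R a, y ^ 2 ∈ secN R W := by
  intro y hy
  obtain ⟨hVc, hVe⟩ := SSQ.quot_facts R hR
  have hyE : FA.rho R y ∈ Subgroup.closure (Set.range a) := hy
  -- the square of `ρ y` is trivial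
  have hsq1 : FA.rho R y * FA.rho R y = 1 := by
    apply SSQ.sq_one_of_closure (Set.range a) _ _ _ hyE
    · rintro _ ⟨i, rfl⟩; exact hG.sq i
    · rintro _ ⟨i, rfl⟩ _ ⟨j, rfl⟩; exact hG.comm i j
  have hy2R : y ^ 2 ∈ R := by
    rw [← hker, MonoidHom.mem_ker, pow_two, map_mul]
    exact hsq1
  -- the class of `y ^ 2`
  set v : ↥R ⧸ frattini ↥R := QuotientGroup.mk (⟨y ^ 2, hy2R⟩ : ↥R) with hv
  have hfix : FA.rho R y v = v := by
    rw [hv, FA.rho_mk]
    congr 1
    apply Subtype.ext
    simp only [MulAut.conjNormal_apply]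
    group
  suffices hvW : v ∈ W from SSQ.mem_secN R W ⟨y ^ 2, hy2R⟩ hvW
  obtain ⟨e, he⟩ := hform _ hyE
  -- the transvection case
  have trans_case : ∀ i, FA.rho R y = a i → v ∈ W := by
    intro i hi
    obtain ⟨g, hg⟩ := hc i
    have hy' : FA.rho R (g * y * g⁻¹) = a i := by
      rw [map_mul, map_mul, map_inv, hg, hi, hG.cc i, mul_inv_cancel_right]
    have hrR : g * y * g⁻¹ * y⁻¹ ∈ R := by
      rw [← hker, MonoidHom.mem_ker, map_mul, hy', map_inv, hi, mul_inv_cancel]
    set u : ↥R ⧸ frattini ↥R := QuotientGroup.mk (⟨g * y * g⁻¹ * y⁻¹, hrR⟩ : ↥R) with hu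
    apply hG.ffree i v (by rw [← hi]; exact hfix)
    refine ⟨u, ?_⟩
    have h1 : c i v = u * a i u * v := by
      rw [← hg, ← hi, hv, hu, FA.rho_mk, FA.rho_mk, ← QuotientGroup.mk_mul, ← QuotientGroup.mk_mul]
      congr 1
      apply Subtype.ext
      simp only [MulAut.conjNormal_apply, Subgroup.coe_mul, pow_two]
      group
    have huinv : u⁻¹ = u := by
      rw [inv_eq_iff_mul_eq_one]; exact hVe u
    rw [h1, huinv, hVc (u * a i u) v, hVc u (a i u)]
  have hv1 : ∀ i j, i ≠ j → FA.rho R y = a i * a j → v ∈ W := by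
    intro i j hij h
    exact hG.fix2 i j hij v (by rw [← h]; exact hfix)
  -- the eight cases
  rcases h0 : e 0 with _ | _ <;> rcases h1 : e 1 with _ | _ <;> rcases h2 : e 2 with _ | _ <;>
    simp only [h0, h1, h2, if_true, if_false, Bool.false_eq_true, mul_one, one_mul] at he
  · -- trivial
    have hyR : y ∈ R := by rw [← hker, MonoidHom.mem_ker]; exact he
    have : v = 1 := by
      have h3 : v = (QuotientGroup.mk (⟨y, hyR⟩ : ↥R) : ↥R ⧸ frattini ↥R) *
          QuotientGroup.mk (⟨y, hyR⟩ : ↥R) := by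
        rw [hv, ← QuotientGroup.mk_mul]
        congr 1
        apply Subtype.ext
        simp [pow_two]
      rw [h3]; exact hVe _
    rw [this]; exact W.one_mem
  · exact trans_case 2 he
  · exact trans_case 1 he
  · exact hv1 1 2 (by decide) he
  · exact trans_case 0 he
  · exact hv1 0 2 (by decide) he
  · exact hv1 0 1 (by decide) he
  · exact hG.fix3 v (by rw [← he]; exact hfix)

end Cfsg.Agent.Helper20.TC
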