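import Mathlib
import Cfsg.Agent.S3103
import Cfsg.Agent.Lib.Helper20.TCDefs
import Cfsg.Agent.Lib.Helper1.TCAUT48
import Cfsg.Agent.Lib.Helper1.TCCENTNS
import Cfsg.Agent.Lib.Helper10.TCPSL3
import Cfsg.Agent.Lib.Helper10.TCRANGE
import Cfsg.Agent.Lib.Helper14.TC_BURN
import Cfsg.Agent.Lib.Helper14.TC_E16B
import Cfsg.Agent.Lib.Helper14.TC_S7
import Cfsg.Agent.Lib.Helper15.TCISO16
import Cfsg.Agent.Lib.Helper15.TCPAIRCONJ
import Cfsg.Agent.Lib.Helper17.TCCFRANGE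
import Cfsg.Agent.Lib.Helper17.TCE16A
import Cfsg.Agent.Lib.Helper17.TCMINAB
import Cfsg.Agent.Lib.Helper17.TCSFIN
import Cfsg.Agent.Lib.Helper20.TCGOODTR
import Cfsg.Agent.Lib.Helper20.TCPAIRSTAB
import Cfsg.Agent.Lib.Helper20.TCSCARD
import Cfsg.Agent.Lib.Helper20.TCSNORM
import Cfsg.Agent.Lib.Helper20.TCSSQ
import Cfsg.Agent.Lib.Helper22.TCALL3
import Cfsg.Agent.Lib.Helper22.TCAUT16
import Cfsg.Agent.Lib.Helper28.TCCENT
import Cfsg.Agent.Lib.Helper28.TCECARD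
import Cfsg.Agent.Lib.Helper28.TCEFORM
import Cfsg.Agent.Lib.Helper28.TCFINISH
import Cfsg.Agent.Lib.Helper28.TCPIHOM
import Cfsg.Agent.Lib.Helper5.TCSOLVP
import Cfsg.Agent.Lib.Helper9.TCMODELGOOD
import Cfsg.Agent.Lib.Helper9.TCMODELINJ
import Cfsg.Agent.Lib.Helper20.GL4SubMainA8
import Cfsg.Agent.Lib.Helper10.SecFusion
import Cfsg.Agent.Lib.Helper12.Small60
import Cfsg.Agent.Lib.Helper14.Basic

set_option autoImplicit false

/-! Assembly of statement S3104 from the pieces of `plans/S3104_Skel.lean.txt` (all landed). -/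

namespace Cfsg.Agent.Helper20.TC

open Cfsg Cfsg.Agent.Helper20.GL4Sub
open scoped Pointwise

/-- conjugacy of the subgroups of `A8` isomorphic to the symmetric group of degree 6 -/
theorem s6Conj : S6Conj := by
  intro G1 G2 h1 h2
  obtain ⟨i, j, hij, rfl⟩ := eq_pairStab G1 h1
  obtain ⟨k, l, hkl, rfl⟩ := eq_pairStab G2 h2
  exact pairStab_conj i j k l hij hkl

/-- a subgroup of `MulAut V` isomorphic to the symmetric group of degree 6 (or everything)
contains a good configuration -/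
theorem exists_good (hconj : S6Conj) {V : Type*} [Group V] (hV : IsE16 V)
    (G : Subgroup (MulAut V)) (hG : Nonempty (↥G ≃* Equiv.Perm (Fin 6)) ∨ G = ⊤) :
    ∃ (a c : Fin 3 → MulAut V) (W : Subgroup V), Good a c W ∧ (∀ i, a i ∈ G) ∧
      (∀ i, c i ∈ G) := by
  obtain ⟨hV0, s, d, W0, hgood⟩ := model_good
  obtain ⟨θ0⟩ := iso_of_isE16 hV0 hV
  rcases hG with ⟨⟨φ⟩⟩ | hG
  · obtain ⟨ε⟩ := aut_iso_A8 hV
    let Θ : MulAut V0 ≃* MulAut V := MulAut.congr θ0
    let j : Equiv.Perm (Fin 6) →* MulAut V := Θ.toMonoidHom.comp psi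
    have hj : Function.Injective j := fun x y h => psi_injective (Θ.injective h)
    let k : Equiv.Perm (Fin 6) →* A8 := ε.toMonoidHom.comp j
    have hk : Function.Injective k := fun x y h => hj (ε.injective h)
    have h1 : Nonempty (↥k.range ≃* Equiv.Perm (Fin 6)) := ⟨(MonoidHom.ofInjective hk).symm⟩
    have h2 : Nonempty (↥(G.map ε.toMonoidHom) ≃* Equiv.Perm (Fin 6)) :=
      ⟨(ε.subgroupMap G).symm.trans φ⟩
    obtain ⟨g, hg⟩ := hconj _ _ h1 h2
    let α : MulAut V := ε.symm g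
    have key : ∀ σ : Equiv.Perm (Fin 6), α * j σ * α⁻¹ ∈ G := by
      intro σ
      have hmem : (MulAut.conj g).toMonoidHom (k σ) ∈ G.map ε.toMonoidHom := by
        rw [← hg]
        exact Subgroup.mem_map_of_mem _ ⟨σ, rfl⟩
      obtain ⟨x, hx, hxe⟩ := hmem
      have hxa : x = α * j σ * α⁻¹ := by
        apply ε.injective
        have h3 : ε x = g * k σ * g⁻¹ := hxe
        rw [h3, map_mul, map_mul, map_inv]
        simp [α, k]
      rw [← hxa]; exact hx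
    let θ : V0 ≃* V := θ0.trans α
    have hθ : ∀ f : MulAut V0, MulAut.congr θ f = α * Θ f * α⁻¹ := by
      intro f
      apply MulEquiv.ext
      intro v
      rfl
    refine ⟨fun i => MulAut.congr θ (psi (s i)), fun i => MulAut.congr θ (psi (d i)),
      W0.map θ.toMonoidHom, good_transport θ _ _ _ hgood, ?_, ?_⟩
    · intro i
      show MulAut.congr θ (psi (s i)) ∈ G
      rw [hθ]; exact key (s i)
    · intro i
      show MulAut.congr θ (psi (d i)) ∈ G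
      rw [hθ]; exact key (d i)
  · subst hG
    exact ⟨_, _, _, good_transport θ0 _ _ _ hgood, fun _ => Subgroup.mem_top _,
      fun _ => Subgroup.mem_top _⟩


/-- the case of a nontrivial odd core -/
theorem odd_core_case {Q : Type*} [Group Q] [Finite Q] (hns : ¬ Group.IsSolvable Q)
    (f : Q →* A8) (hf : Function.Injective f) (hO : Cfsg.pPrimeCore 2 Q ≠ ⊥) :
    Nat.card ↥(Cfsg.pCore 3 Q) = 3 ∧
      (Nonempty (Q ⧸ Cfsg.pCore 3 Q ≃* ↥(alternatingGroup (Fin 5))) ∨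
        Nonempty (Q ⧸ Cfsg.pCore 3 Q ≃* Equiv.Perm (Fin 5))) := by
  obtain ⟨N0, hN0n, hN0c, hN0⟩ :
      ∃ N0 : Subgroup Q, N0.Normal ∧ (Nat.card N0).Coprime 2 ∧ N0 ≠ ⊥ := by
    by_contra hcon
    push Not at hcon
    apply hO
    unfold Cfsg.pPrimeCore
    rw [sSup_eq_bot]
    rintro N ⟨hn, hc⟩
    exact hcon N hn hc
  let e : Q ≃* f.range := MonoidHom.ofInjective hf
  have hnsK : ¬ Group.IsSolvable ↥f.range := fun h =>
    hns (Group.isSolvable_of_isSolvable_injective (f := e.toMonoidHom) e.injective)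
  have hNK : N0.map f ≤ f.range := by
    rintro _ ⟨x, -, rfl⟩
    exact ⟨x, rfl⟩
  have hnorm : f.range ≤ Subgroup.normalizer ((N0.map f : Subgroup A8) : Set A8) := by
    rintro _ ⟨q, rfl⟩
    rw [Subgroup.mem_normalizer_iff]
    intro h
    constructor
    · rintro ⟨n, hn, rfl⟩
      exact ⟨q * n * q⁻¹, hN0n.conj_mem n hn q, by simp⟩
    · rintro ⟨n, hn, hne⟩
      refine ⟨q⁻¹ * n * q, ?_, ?_⟩
      · have := hN0n.conj_mem n hn q⁻¹
        simpa using this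
      · rw [map_mul, map_mul, hne, map_inv]
        group
  have hN1 : N0.map f ≠ ⊥ := by
    intro h
    apply hN0
    rw [eq_bot_iff]
    intro x hx
    have : f x ∈ N0.map f := Subgroup.mem_map_of_mem f hx
    rw [h, Subgroup.mem_bot] at this
    rw [Subgroup.mem_bot]
    exact hf (this.trans (map_one f).symm)
  have hodd : (Nat.card ↥(N0.map f)).Coprime 2 := by
    rw [Nat.card_congr (N0.equivMapOfInjective f hf).symm.toEquiv]
    exact hN0c
  obtain ⟨M, hMK, hMn, hM1, hMc, hMcard, hM9⟩ :=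
    exists_min_ab solvSmall f.range (N0.map f) hNK hnorm hN1 hodd
  have hC := cent_not_solvable aut48 f.range M hnsK hMK hMn hMc hMcard hM9
  have h3 := all_three_cycles centSmall (f.range ⊓ Subgroup.centralizer (M : Set A8)) M hC
    inf_le_right hMcard hM9
  obtain ⟨x, hx3, hMx⟩ := eq_zpowers_of_all M hM1 h3 hMcard
  have hxK : x ∈ f.range := hMK (hMx ▸ Subgroup.mem_zpowers x)
  obtain ⟨π, hπ⟩ := exists_pi f.range x hxK hx3 (hMx ▸ hMn)
  have hker : Nat.card (π.comp e.toMonoidHom).ker = 3 := by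
    have h1 : (π.comp e.toMonoidHom).ker = π.ker.comap e.toMonoidHom := rfl
    rw [h1, ← hπ]
    have h2 : (π.ker.comap e.toMonoidHom).map e.toMonoidHom = π.ker :=
      Subgroup.map_comap_eq_self_of_surjective (f := e.toMonoidHom) e.surjective _
    rw [Nat.card_congr (e.subgroupMap (π.ker.comap e.toMonoidHom)).toEquiv]
    exact congrArg (fun S : Subgroup ↥f.range => Nat.card ↥S) h2
  exact finish _ hker (range_of_not_solvable hns _ hker)

/-- the first assertion of S3104, for a group with an embedding in `A8` -/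
theorem part_one {Q : Type*} [Group Q] [Finite Q] (hns : ¬ Group.IsSolvable Q)
    (hO2 : Cfsg.pCore 2 Q = ⊥) (f : Q →* A8) (hf : Function.Injective f) :
    (∃ (F : Type) (_ : Field F) (_ : Fintype F), Fintype.card F = 2 ∧
        Nonempty (Q ≃* Matrix.ProjectiveSpecialLinearGroup (Fin 3) F)) ∨
      (∃ n : ℕ, 5 ≤ n ∧ n ≤ 8 ∧ Nonempty (Q ≃* ↥(alternatingGroup (Fin n)))) ∨
      (∃ n : ℕ, 5 ≤ n ∧ n ≤ 7 ∧ Nonempty (Q ≃* Equiv.Perm (Fin n))) ∨
      (Nat.card ↥(Cfsg.pCore 3 Q) = 3 ∧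
        (Nonempty (Q ⧸ Cfsg.pCore 3 Q ≃* ↥(alternatingGroup (Fin 5))) ∨
          Nonempty (Q ⧸ Cfsg.pCore 3 Q ≃* Equiv.Perm (Fin 5)))) := by
  by_cases hO : Cfsg.pPrimeCore 2 Q = ⊥
  · have hCF := coreFree_range f hf hO hO2
    let e : Q ≃* f.range := MonoidHom.ofInjective hf
    have hne : f.range ≠ ⊥ := by
      intro h
      apply hns
      have hsub : Subsingleton Q := by
        constructor
        intro a b
        apply hf
        have ha : f a ∈ f.range := ⟨a, rfl⟩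
        have hb : f b ∈ f.range := ⟨b, rfl⟩
        rw [h, Subgroup.mem_bot] at ha hb
        rw [ha, hb]
      infer_instance
    rcases main_A8 f.range hne hCF with ⟨n, h5, h8, ⟨g⟩⟩ | ⟨⟨g⟩⟩ | ⟨⟨g⟩⟩ | ⟨⟨g⟩⟩
    · right; left; exact ⟨n, h5, h8, ⟨e.trans g⟩⟩
    · right; right; left; exact ⟨5, le_refl _, by norm_num, ⟨e.trans g⟩⟩
    · right; right; left; exact ⟨6, by norm_num, by norm_num, ⟨e.trans g⟩⟩
    · left
      obtain ⟨t⟩ := gl3_iso_psl3
      exact ⟨ZMod 2, inferInstance, inferInstance, by simp, ⟨(e.trans g).trans t⟩⟩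
  · right; right; right
    exact odd_core_case hns f hf hO

/-- a good configuration realized in `X` contradicts sectional 2-rank at most 4 -/
theorem section_contra {X : Type*} [Group X] [Finite X] (R : Subgroup X) [R.Normal]
    (hR : IsPGroup 2 ↥R) (hker : (Cfsg.Agent.Helper12.FA.rho R).ker = R)
    (hV : IsE16 (↥R ⧸ frattini ↥R)) (a c : Fin 3 → MulAut (↥R ⧸ frattini ↥R))
    (W : Subgroup (↥R ⧸ frattini ↥R)) (hG : Good a c W)
    (ha : ∀ i, a i ∈ (Cfsg.Agent.Helper12.FA.rho R).range)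
    (hc : ∀ i, c i ∈ (Cfsg.Agent.Helper12.FA.rho R).range) :
    ¬ Cfsg.SectionalPRankLE 2 4 X := by
  have hform := closure_form a hG.sq hG.comm
  have hE := closure_card a hG.sq hG.comm hG.indep hform
  exact not_rank_of_section (secY R a) (secN R W) (secN_le_secY R hker a W)
    (secY_le_normalizer R a W hG.fixW) (sq_mem_secN R hR hker a c W hG hform hc)
    (card_secY R hker hV a W hG.card_W hE ha)

/-- the Frattini quotient of the 2-core has order 16 when 5 divides the order of the group induced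
on it -/
theorem isE16_of_five {X : Type*} [Group X] [Finite X]
    (h4 : Cfsg.SectionalPRankLE 2 4 ↥(Cfsg.pCore 2 X))
    (h5 : 5 ∣ Nat.card ↥(Cfsg.Agent.Helper12.FA.rho (Cfsg.pCore 2 X)).range) :
    IsE16 (↥(Cfsg.pCore 2 X) ⧸ frattini ↥(Cfsg.pCore 2 X)) := by
  obtain ⟨hc, he, hcard⟩ := frattini_quot_small h4
  refine ⟨hc, he, ?_⟩
  have hp : IsPGroup 2 (↥(Cfsg.pCore 2 X) ⧸ frattini ↥(Cfsg.pCore 2 X)) := fun v =>
    ⟨1, by rw [pow_one]; exact he v⟩
  obtain ⟨n, hn⟩ := IsPGroup.iff_card.mp hp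
  by_contra hne
  have h8 : Nat.card (↥(Cfsg.pCore 2 X) ⧸ frattini ↥(Cfsg.pCore 2 X)) ≤ 8 := by
    rw [hn] at hcard hne ⊢
    have hn4 : n ≤ 4 := by
      by_contra hlt
      push Not at hlt
      have : 2 ^ 5 ≤ 2 ^ n := Nat.pow_le_pow_right (by norm_num) hlt
      omega
    have hn3 : n ≤ 3 := by
      rcases Nat.lt_or_ge n 4 with h | h
      · omega
      · exfalso
        apply hne
        have : n = 4 := by omega
        rw [this]; norm_num
    calc 2 ^ n ≤ 2 ^ 3 := Nat.pow_le_pow_right (by norm_num) hn3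
      _ = 8 := by norm_num
  exact five_not_dvd_aut hc he h8 (dvd_trans h5 (Subgroup.card_subgroup_dvd_card _))

/-- the second assertion of S3104 -/
theorem part_two {X : Type*} [Group X] [Finite X] (hc : Cfsg.IsPConstrained 2 X)
    (hO : Cfsg.oddCore X = ⊥) (h4 : Cfsg.SectionalPRankLE 2 4 ↥(Cfsg.pCore 2 X))
    (h4X : Cfsg.SectionalPRankLE 2 4 X) :
    ¬ (Nonempty (X ⧸ Cfsg.pCore 2 X ≃* Equiv.Perm (Fin 6)) ∨
        Nonempty (X ⧸ Cfsg.pCore 2 X ≃* Equiv.Perm (Fin 7)) ∨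
        Nonempty (X ⧸ Cfsg.pCore 2 X ≃* ↥(alternatingGroup (Fin 8)))) := by
  classical
  have hCQ := Cfsg.Agent.Helper12.FA.centralizer_pCore_le hc hO
  have hker : (Cfsg.Agent.Helper12.FA.rho (Cfsg.pCore 2 X)).ker = Cfsg.pCore 2 X :=
    le_antisymm (Cfsg.Agent.Helper12.FA.ker_rho_le hCQ) Cfsg.Agent.Helper12.FA.le_ker_rho
  have hRp : IsPGroup 2 ↥(Cfsg.pCore 2 X) := Cfsg.Agent.Helper14.pCore_isPGroup 2 X
  have eQ : X ⧸ Cfsg.pCore 2 X ≃* ↥(Cfsg.Agent.Helper12.FA.rho (Cfsg.pCore 2 X)).range :=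
    (QuotientGroup.quotientMulEquivOfEq hker.symm).trans
      (QuotientGroup.quotientKerEquivRange (Cfsg.Agent.Helper12.FA.rho (Cfsg.pCore 2 X)))
  rintro (⟨⟨φ⟩⟩ | ⟨⟨φ⟩⟩ | ⟨⟨φ⟩⟩)
  · have h5 : 5 ∣ Nat.card ↥(Cfsg.Agent.Helper12.FA.rho (Cfsg.pCore 2 X)).range := by
      rw [Nat.card_congr (eQ.symm.trans φ).toEquiv, Nat.card_perm, Nat.card_fin]
      decide
    have hV := isE16_of_five h4 h5
    obtain ⟨a, c, W, hG, ha, hcc⟩ := exists_good s6Conj hV _ (Or.inl ⟨eQ.symm.trans φ⟩)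
    exact section_contra (Cfsg.pCore 2 X) hRp hker hV a c W hG ha hcc h4X
  · obtain ⟨f, hf⟩ := Cfsg.Agent.S3103.result hc hO h4
    exact no_S7 (f.comp φ.symm.toMonoidHom) (hf.comp φ.symm.injective)
  · have hcardQ : Nat.card ↥(Cfsg.Agent.Helper12.FA.rho (Cfsg.pCore 2 X)).range = 20160 := by
      rw [Nat.card_congr (eQ.symm.trans φ).toEquiv]
      exact card_A8
    have h5 : 5 ∣ Nat.card ↥(Cfsg.Agent.Helper12.FA.rho (Cfsg.pCore 2 X)).range := by
      rw [hcardQ]; decide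
    have hV := isE16_of_five h4 h5
    have htop : (Cfsg.Agent.Helper12.FA.rho (Cfsg.pCore 2 X)).range = ⊤ := by
      obtain ⟨ε⟩ := aut_iso_A8 hV
      have : Finite (MulAut (↥(Cfsg.pCore 2 X) ⧸ frattini ↥(Cfsg.pCore 2 X))) :=
        Finite.of_equiv _ ε.symm.toEquiv
      apply Subgroup.eq_top_of_card_eq
      rw [hcardQ, Nat.card_congr ε.toEquiv, card_A8]
    obtain ⟨a, c, W, hG, ha, hcc⟩ := exists_good s6Conj hV _ (Or.inr htop)
    exact section_contra (Cfsg.pCore 2 X) hRp hker hV a c W hG ha hcc h4X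

/-- statement S3104 -/
theorem main {X : Type*} [Group X] [Finite X] (hns : ¬ Group.IsSolvable X)
    (hc : Cfsg.IsPConstrained 2 X) (hO : Cfsg.oddCore X = ⊥)
    (h4 : Cfsg.SectionalPRankLE 2 4 ↥(Cfsg.pCore 2 X)) :
    ((∃ (F : Type) (_ : Field F) (_ : Fintype F), Fintype.card F = 2 ∧
          Nonempty (X ⧸ Cfsg.pCore 2 X ≃* Matrix.ProjectiveSpecialLinearGroup (Fin 3) F)) ∨
        (∃ n : ℕ, 5 ≤ n ∧ n ≤ 8 ∧
          Nonempty (X ⧸ Cfsg.pCore 2 X ≃* ↥(alternatingGroup (Fin n)))) ∨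
        (∃ n : ℕ, 5 ≤ n ∧ n ≤ 7 ∧ Nonempty (X ⧸ Cfsg.pCore 2 X ≃* Equiv.Perm (Fin n))) ∨
        (Nat.card ↥(Cfsg.pCore 3 (X ⧸ Cfsg.pCore 2 X)) = 3 ∧
          (Nonempty ((X ⧸ Cfsg.pCore 2 X) ⧸ Cfsg.pCore 3 (X ⧸ Cfsg.pCore 2 X) ≃*
              ↥(alternatingGroup (Fin 5))) ∨
            Nonempty ((X ⧸ Cfsg.pCore 2 X) ⧸ Cfsg.pCore 3 (X ⧸ Cfsg.pCore 2 X) ≃*
              Equiv.Perm (Fin 5))))) ∧
      (Cfsg.SectionalPRankLE 2 4 X →
        ¬ (Nonempty (X ⧸ Cfsg.pCore 2 X ≃* Equiv.Perm (Fin 6)) ∨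
            Nonempty (X ⧸ Cfsg.pCore 2 X ≃* Equiv.Perm (Fin 7)) ∨
            Nonempty (X ⧸ Cfsg.pCore 2 X ≃* ↥(alternatingGroup (Fin 8))))) := by
  have hQ2 : Cfsg.pCore 2 (X ⧸ Cfsg.pCore 2 X) = ⊥ := Cfsg.Agent.Helper10.pCore_quotient_pCore 2 X
  have hRp : IsPGroup 2 ↥(Cfsg.pCore 2 X) := Cfsg.Agent.Helper14.pCore_isPGroup 2 X
  have hnsQ : ¬ Group.IsSolvable (X ⧸ Cfsg.pCore 2 X) := by
    intro h
    apply hns
    have : Fact (Nat.Prime 2) := ⟨Nat.prime_two⟩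
    have hnil : Group.IsNilpotent ↥(Cfsg.pCore 2 X) := hRp.isNilpotent
    have hR : Group.IsSolvable ↥(Cfsg.pCore 2 X) := inferInstance
    exact Cfsg.Agent.Helper12.Small60.isSolvable_of_normal (Cfsg.pCore 2 X) hR h
  obtain ⟨f, hf⟩ := Cfsg.Agent.S3103.result hc hO h4
  exact ⟨part_one hnsQ hQ2 f hf, fun h4X => part_two hc hO h4 h4X⟩

end Cfsg.Agent.Helper20.TC
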