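import Mathlib
import Cfsg.Agent.Lib.Helper11.TGBase
import Cfsg.Agent.Lib.Helper11.TGDefsD4
import Cfsg.Agent.Lib.Lead.TwD4Grp
import Cfsg.Agent.Lib.Lead.TwClass

/-!
# S2407, PIECE D4ACT: the action of `hD4 f a b` on `X_18`, `X_17`; additivity of the class element of `18`
-/

set_option autoImplicit false

namespace Cfsg.Agent.Helper11.TG

open Cfsg Cfsg.Lie Cfsg.Agent.Lead.Chev Cfsg.Agent.Lead.Tw Cfsg.Agent.Helper11.CG

section D4

variable {K : Type*} [Field K] (f : K ≃+* K)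

theorem d4act_conj4 {G : Type*} [Group G] (A B C E x : G) :
    (((A * B) * C) * E) * x * ((((A * B) * C) * E))⁻¹ =
      A * (B * (C * (E * x * E⁻¹) * C⁻¹) * B⁻¹) * A⁻¹ := by
  group

/-- the action of `hD4 f a b` on an arbitrary root subgroup -/
theorem d4act_gen (a b : K) (ha : a ≠ 0) (hb : b ≠ 0) (s : ℕ) (hs : s < chevD4.nroots) (t : K) :
    hD4 f a b * xGL chevD4 (D4.hF (K := K)).xadd s t * (hD4 f a b)⁻¹ =
      xGL chevD4 (D4.hF (K := K)).xadd s
        (a ^ (chevD4.cartan 0 s) * ((f a) ^ (chevD4.cartan 2 s) *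
          ((f (f a)) ^ (chevD4.cartan 3 s) * (b ^ (chevD4.cartan 1 s) * t)))) := by
  have hfa : f a ≠ 0 := (map_ne_zero f).2 ha
  have hffa : f (f a) ≠ 0 := (map_ne_zero f).2 hfa
  unfold hD4
  rw [d4act_conj4, hGLt_conj chevD4 D4.hF 1 (by decide) s hs b hb,
    hGLt_conj chevD4 D4.hF 3 (by decide) s hs _ hffa,
    hGLt_conj chevD4 D4.hF 2 (by decide) s hs _ hfa,
    hGLt_conj chevD4 D4.hF 0 (by decide) s hs a ha]

theorem d4_h_diag [Fintype K] (a b : K) (ha : a ≠ 0) (hb : b ≠ 0) :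
    hD4 f a b ∈ chevD4.diagonalSubgroup K := by
  have hfa : f a ≠ 0 := (map_ne_zero f).2 ha
  have hffa : f (f a) ≠ 0 := (map_ne_zero f).2 hfa
  unfold hD4
  exact mul_mem (mul_mem (mul_mem
    (hGLt_mem_diagonal chevD4 _ _ (by decide) a ha)
    (hGLt_mem_diagonal chevD4 _ _ (by decide) _ hfa))
    (hGLt_mem_diagonal chevD4 _ _ (by decide) _ hffa))
    (hGLt_mem_diagonal chevD4 _ _ (by decide) b hb)

theorem d4_h_act18 [Fintype K] (a b : K) (ha : a ≠ 0) (hb : b ≠ 0) (t : K) :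
    hD4 f a b * xGL chevD4 (D4.hF (K := K)).xadd 18 t * (hD4 f a b)⁻¹ =
      xGL chevD4 (D4.hF (K := K)).xadd 18 (a ^ 2 * b⁻¹ * t) := by
  rw [d4act_gen f a b ha hb 18 (by decide) t]
  have e0 : chevD4.cartan 0 18 = 2 := by decide +kernel
  have e1 : chevD4.cartan 1 18 = -1 := by decide +kernel
  have e2 : chevD4.cartan 2 18 = 0 := by decide +kernel
  have e3 : chevD4.cartan 3 18 = 0 := by decide +kernel
  rw [e0, e1, e2, e3]
  congr 1
  rw [zpow_zero, zpow_zero, one_mul, one_mul, zpow_neg_one, mul_assoc, zpow_ofNat]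

theorem d4_h_act17 [Fintype K] (a b : K) (ha : a ≠ 0) (hb : b ≠ 0) (t : K) :
    hD4 f a b * xGL chevD4 (D4.hF (K := K)).xadd 17 t * (hD4 f a b)⁻¹ =
      xGL chevD4 (D4.hF (K := K)).xadd 17 (a⁻¹ * f a * f (f a) * t) := by
  rw [d4act_gen f a b ha hb 17 (by decide) t]
  have e0 : chevD4.cartan 0 17 = -1 := by decide +kernel
  have e1 : chevD4.cartan 1 17 = 0 := by decide +kernel
  have e2 : chevD4.cartan 2 17 = 1 := by decide +kernel
  have e3 : chevD4.cartan 3 17 = 1 := by decide +kernel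
  rw [e0, e1, e2, e3]
  congr 1
  rw [zpow_zero, one_mul, zpow_one, zpow_one, zpow_neg_one, mul_assoc, mul_assoc]

/-- the class element of the class of `18` -/
theorem d4_yC18 (t : K) :
    yC D4.hF (D4.tw f) 3 (xGL chevD4 (D4.hF (K := K)).xadd 18 t) =
      xGL chevD4 (D4.hF (K := K)).xadd 18 t * xGL chevD4 (D4.hF (K := K)).xadd 13 (f t) *
        xGL chevD4 (D4.hF (K := K)).xadd 12 (f (f t)) := by
  have s0 : chevD4.simple 0 = 18 := by decide +kernel
  have s2 : chevD4.simple 2 = 13 := by decide +kernel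
  have r18 : (D4.tw f).ρ 18 = 13 := by
    show Cfsg.Agent.Helper6.ChevC.GD4a.gp.π 18 = 13
    decide +kernel
  have r13 : (D4.tw f).ρ 13 = 12 := by
    show Cfsg.Agent.Helper6.ChevC.GD4a.gp.π 13 = 12
    decide +kernel
  have c18 : ∀ v : K, (D4.tw f).c 18 v = f v := by
    intro v
    rw [← s0]
    exact D4.c_simple f 0 (by norm_num) v
  have c13 : ∀ v : K, (D4.tw f).c 13 v = f v := by
    intro v
    rw [← s2]
    exact D4.c_simple f 2 (by norm_num) v
  rw [yC_three, (D4.tw f).map_x 18 (by decide), r18, c18, (D4.tw f).map_x 13 (by decide), r13, c13]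

theorem d4act_shuffle {G : Type*} [Group G] (a1 a2 a3 b1 b2 b3 : G) (h21 : Commute a2 b1)
    (h31 : Commute a3 b1) (h32 : Commute a3 b2) :
    (a1 * b1) * (a2 * b2) * (a3 * b3) = (a1 * a2 * a3) * (b1 * b2 * b3) := by
  simp only [mul_assoc]
  rw [h31.left_comm, h21.left_comm, h32.left_comm]

theorem d4_add18 [Fintype K] (t u : K) :
    yC D4.hF (D4.tw f) 3 (xGL chevD4 (D4.hF (K := K)).xadd 18 (t + u)) =
      yC D4.hF (D4.tw f) 3 (xGL chevD4 (D4.hF (K := K)).xadd 18 t) *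
        yC D4.hF (D4.tw f) 3 (xGL chevD4 (D4.hF (K := K)).xadd 18 u) := by
  rw [d4_yC18, d4_yC18, d4_yC18]
  simp only [map_add]
  have h21 : Commute (xGL chevD4 (D4.hF (K := K)).xadd 13 (f t)) (xGL chevD4 (D4.hF (K := K)).xadd 18 u) :=
    Cfsg.Agent.Lead.Tw.xGL_commute D4.hF 13 18 (by decide) (by decide) (by decide +kernel) _ _
  have h31 : Commute (xGL chevD4 (D4.hF (K := K)).xadd 12 (f (f t))) (xGL chevD4 (D4.hF (K := K)).xadd 18 u) :=
    Cfsg.Agent.Lead.Tw.xGL_commute D4.hF 12 18 (by decide) (by decide) (by decide +kernel) _ _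
  have h32 : Commute (xGL chevD4 (D4.hF (K := K)).xadd 12 (f (f t))) (xGL chevD4 (D4.hF (K := K)).xadd 13 (f u)) :=
    Cfsg.Agent.Lead.Tw.xGL_commute D4.hF 12 13 (by decide) (by decide) (by decide +kernel) _ _
  rw [← xGL_mul, ← xGL_mul, ← xGL_mul]
  exact d4act_shuffle _ _ _ _ _ _ h21 h31 h32

end D4

end Cfsg.Agent.Helper11.TG
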