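import Mathlib
import Cfsg.Agent.Lib.Helper11.TGBase
import Cfsg.Agent.Lib.Helper11.TGDefsD4
import Cfsg.Agent.Lib.Lead.TwD4Grp
import Cfsg.Agent.Lib.Lead.TwClass
import Cfsg.Agent.Lib.Helper20.TGD4ACT

/-!
# S2407, PIECE D4COMM: the commutator of the class elements of `17` and `18` is `x_22(Tr(t u))`
-/

set_option autoImplicit false

namespace Cfsg.Agent.Helper11.TG

open Cfsg Cfsg.Lie Cfsg.Agent.Lead.Chev Cfsg.Agent.Lead.Tw Cfsg.Agent.Helper11.CG
open scoped commutatorElement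

/-- three pairs with central commutators -/
theorem d4comm_group {G : Type*} [Group G] (a1 a2 a3 b1 b2 b3 z1 z2 z3 : G)
    (h11 : b1 * a1 = a1 * b1 * z1) (h22 : b2 * a2 = a2 * b2 * z2) (h33 : b3 * a3 = a3 * b3 * z3)
    (h12 : Commute b2 a1) (h13 : Commute b3 a1) (h21 : Commute b1 a2) (h23 : Commute b3 a2)
    (h31 : Commute b1 a3) (h32 : Commute b2 a3)
    (hz1 : ∀ x ∈ [a1, a2, a3, b1, b2, b3], Commute z1 x)
    (hz2 : ∀ x ∈ [a1, a2, a3, b1, b2, b3], Commute z2 x)
    (hz3 : ∀ x ∈ [a1, a2, a3, b1, b2, b3], Commute z3 x) :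
    ⁅a1 * a2 * a3, b1 * b2 * b3⁆ = (z1 * z2 * z3)⁻¹ := by
  have e11 : ∀ c, b1 * (a1 * c) = a1 * (b1 * (z1 * c)) := fun c => by
    rw [← mul_assoc, h11, mul_assoc, mul_assoc]
  have e22 : ∀ c, b2 * (a2 * c) = a2 * (b2 * (z2 * c)) := fun c => by
    rw [← mul_assoc, h22, mul_assoc, mul_assoc]
  have e33 : ∀ c, b3 * (a3 * c) = a3 * (b3 * (z3 * c)) := fun c => by
    rw [← mul_assoc, h33, mul_assoc, mul_assoc]
  have key : ∀ x, b1 * (b2 * (b3 * (a1 * (a2 * (a3 * x))))) =
      a1 * (a2 * (a3 * (b1 * (b2 * (b3 * (z1 * (z2 * (z3 * x)))))))) := by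
    intro x
    rw [h13.left_comm, h12.left_comm, e11, h23.left_comm, e22, (hz1 a2 (by simp)).left_comm,
      h21.left_comm, e33, (hz2 a3 (by simp)).left_comm, h32.left_comm,
      (hz1 a3 (by simp)).left_comm, h31.left_comm, (hz1 b2 (by simp)).left_comm,
      (hz2 b3 (by simp)).left_comm, (hz1 b3 (by simp)).left_comm]
  have key' : (b1 * b2 * b3) * (a1 * a2 * a3) = (a1 * a2 * a3) * (b1 * b2 * b3) * (z1 * z2 * z3) := by
    have := key 1
    simp only [mul_assoc, mul_one] at this ⊢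
    exact this
  have hZ : ∀ x ∈ [a1, a2, a3, b1, b2, b3], Commute (z1 * z2 * z3) x := fun x hx =>
    ((hz1 x hx).mul_left (hz2 x hx)).mul_left (hz3 x hx)
  have hZA : Commute (z1 * z2 * z3) (a1 * a2 * a3) :=
    ((hZ a1 (by simp)).mul_right (hZ a2 (by simp))).mul_right (hZ a3 (by simp))
  have hZB : Commute (z1 * z2 * z3) (b1 * b2 * b3) :=
    ((hZ b1 (by simp)).mul_right (hZ b2 (by simp))).mul_right (hZ b3 (by simp))
  have gen : ∀ A B Z : G, B * A = A * B * Z → Commute Z A → Commute Z B → ⁅A, B⁆ = Z⁻¹ := by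
    intro A B Z h hA hB
    have hAB : Commute Z⁻¹ (A * B) := (hA.mul_right hB).inv_left
    have e : A * B = Z⁻¹ * (B * A) := by
      rw [h, ← mul_assoc Z⁻¹ (A * B) Z, hAB.eq, inv_mul_cancel_right]
    rw [commutatorElement_def, e]
    group
  exact gen _ _ _ key' hZA hZB

section D4

variable {K : Type*} [Field K] (f : K ≃+* K)

/-- the class element of the class of `17` -/
theorem d4_yC17 (t : K) :
    yC D4.hF (D4.tw f) 3 (xGL chevD4 (D4.hF (K := K)).xadd 17 t) =
      xGL chevD4 (D4.hF (K := K)).xadd 17 t * xGL chevD4 (D4.hF (K := K)).xadd 20 (-(f t)) *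
        xGL chevD4 (D4.hF (K := K)).xadd 21 (-(f (f t))) := by
  have r17 : (D4.tw f).ρ 17 = 20 := by
    show Cfsg.Agent.Helper6.ChevC.GD4a.gp.π 17 = 20
    decide +kernel
  have r20 : (D4.tw f).ρ 20 = 21 := by
    show Cfsg.Agent.Helper6.ChevC.GD4a.gp.π 20 = 21
    decide +kernel
  have c17 : ∀ v : K, (D4.tw f).c 17 v = -(f v) := by
    intro v
    show ((Cfsg.Agent.Helper6.ChevC.GD4a.gp.ε 17 : ℤ) : K) * f v = -(f v)
    have : Cfsg.Agent.Helper6.ChevC.GD4a.gp.ε 17 = -1 := by decide +kernel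
    rw [this]
    simp
  have c20 : ∀ v : K, (D4.tw f).c 20 v = f v := by
    intro v
    show ((Cfsg.Agent.Helper6.ChevC.GD4a.gp.ε 20 : ℤ) : K) * f v = f v
    have : Cfsg.Agent.Helper6.ChevC.GD4a.gp.ε 20 = 1 := by decide +kernel
    rw [this]
    simp
  rw [yC_three, (D4.tw f).map_x 17 (by decide), r17, c17, (D4.tw f).map_x 20 (by decide), r20, c20,
    map_neg]

/-- the commutator relation in `GL` -/
theorem d4comm_rel (r s : ℕ) (hr : r < chevD4.nroots) (hs : s < chevD4.nroots) (h1 : s ≠ r)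
    (h2 : s ≠ chevD4.neg r) (t u : K) :
    xGL chevD4 (D4.hF (K := K)).xadd s u * xGL chevD4 (D4.hF (K := K)).xadd r t =
      xGL chevD4 (D4.hF (K := K)).xadd r t * xGL chevD4 (D4.hF (K := K)).xadd s u *
        wordGL chevD4 (D4.hF (K := K)).xadd (chevD4.commWord K r s t u) := by
  apply Units.ext
  rw [Units.val_mul, Units.val_mul, Units.val_mul, wordGL_val, xGL_val, xGL_val]
  exact (D4.hF (K := K)).comm r hr s hs h1 h2 t u

theorem d4comm_22 (r : ℕ) (hr : r ∈ [17, 20, 21, 18, 13, 12]) (t u : K) :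
    Commute (xGL chevD4 (D4.hF (K := K)).xadd 22 t) (xGL chevD4 (D4.hF (K := K)).xadd r u) := by
  simp only [List.mem_cons, List.not_mem_nil, or_false] at hr
  rcases hr with rfl | rfl | rfl | rfl | rfl | rfl
  · exact Cfsg.Agent.Lead.Tw.xGL_commute D4.hF 22 17 (by decide) (by decide) (by decide +kernel) _ _
  · exact Cfsg.Agent.Lead.Tw.xGL_commute D4.hF 22 20 (by decide) (by decide) (by decide +kernel) _ _
  · exact Cfsg.Agent.Lead.Tw.xGL_commute D4.hF 22 21 (by decide) (by decide) (by decide +kernel) _ _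
  · exact Cfsg.Agent.Lead.Tw.xGL_commute D4.hF 22 18 (by decide) (by decide) (by decide +kernel) _ _
  · exact Cfsg.Agent.Lead.Tw.xGL_commute D4.hF 22 13 (by decide) (by decide) (by decide +kernel) _ _
  · exact Cfsg.Agent.Lead.Tw.xGL_commute D4.hF 22 12 (by decide) (by decide) (by decide +kernel) _ _

theorem d4_comm [Fintype K] : ∃ e : K, (e = 1 ∨ e = -1) ∧ ∀ t u : K,
    ⁅yC D4.hF (D4.tw f) 3 (xGL chevD4 (D4.hF (K := K)).xadd 17 t),
      yC D4.hF (D4.tw f) 3 (xGL chevD4 (D4.hF (K := K)).xadd 18 u)⁆ =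
      xGL chevD4 (D4.hF (K := K)).xadd 22 (e * (t * u + f (t * u) + f (f (t * u)))) := by
  refine ⟨1, Or.inl rfl, ?_⟩
  intro t u
  rw [d4_yC17, d4_yC18]
  have t1 : chevD4.commTerms 17 18 = [(22, 1, 1, 1)] := by decide +kernel
  have t2 : chevD4.commTerms 20 13 = [(22, -1, 1, 1)] := by decide +kernel
  have t3 : chevD4.commTerms 21 12 = [(22, -1, 1, 1)] := by decide +kernel
  have h11 := d4comm_rel (K := K) 17 18 (by decide) (by decide) (by decide) (by decide +kernel) t u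
  have h22 := d4comm_rel (K := K) 20 13 (by decide) (by decide) (by decide) (by decide +kernel)
    (-(f t)) (f u)
  have h33 := d4comm_rel (K := K) 21 12 (by decide) (by decide) (by decide) (by decide +kernel)
    (-(f (f t))) (f (f u))
  have w1 : wordGL chevD4 (D4.hF (K := K)).xadd (chevD4.commWord K 17 18 t u) =
      xGL chevD4 (D4.hF (K := K)).xadd 22 (-(t * u)) := by
    unfold ChevalleyDatum.commWord
    rw [t1, List.map_cons, List.map_nil, wordGL_cons, wordGL_nil, mul_one]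
    congr 1
    simp
  have w2 : wordGL chevD4 (D4.hF (K := K)).xadd (chevD4.commWord K 20 13 (-(f t)) (f u)) =
      xGL chevD4 (D4.hF (K := K)).xadd 22 (-(f (t * u))) := by
    unfold ChevalleyDatum.commWord
    rw [t2, List.map_cons, List.map_nil, wordGL_cons, wordGL_nil, mul_one]
    congr 1
    simp
  have w3 : wordGL chevD4 (D4.hF (K := K)).xadd (chevD4.commWord K 21 12 (-(f (f t))) (f (f u))) =
      xGL chevD4 (D4.hF (K := K)).xadd 22 (-(f (f (t * u)))) := by
    unfold ChevalleyDatum.commWord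
    rw [t3, List.map_cons, List.map_nil, wordGL_cons, wordGL_nil, mul_one]
    congr 1
    simp
  rw [w1] at h11
  rw [w2] at h22
  rw [w3] at h33
  have hz : ∀ v : K, ∀ x ∈ [xGL chevD4 (D4.hF (K := K)).xadd 17 t,
      xGL chevD4 (D4.hF (K := K)).xadd 20 (-(f t)), xGL chevD4 (D4.hF (K := K)).xadd 21 (-(f (f t))),
      xGL chevD4 (D4.hF (K := K)).xadd 18 u, xGL chevD4 (D4.hF (K := K)).xadd 13 (f u),
      xGL chevD4 (D4.hF (K := K)).xadd 12 (f (f u))],
      Commute (xGL chevD4 (D4.hF (K := K)).xadd 22 v) x := by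
    intro v x hx
    simp only [List.mem_cons, List.not_mem_nil, or_false] at hx
    rcases hx with rfl | rfl | rfl | rfl | rfl | rfl
    · exact d4comm_22 17 (by simp) _ _
    · exact d4comm_22 20 (by simp) _ _
    · exact d4comm_22 21 (by simp) _ _
    · exact d4comm_22 18 (by simp) _ _
    · exact d4comm_22 13 (by simp) _ _
    · exact d4comm_22 12 (by simp) _ _
  rw [d4comm_group _ _ _ _ _ _ _ _ _ h11 h22 h33
    (Cfsg.Agent.Lead.Tw.xGL_commute D4.hF 13 17 (by decide) (by decide) (by decide +kernel) _ _)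
    (Cfsg.Agent.Lead.Tw.xGL_commute D4.hF 12 17 (by decide) (by decide) (by decide +kernel) _ _)
    (Cfsg.Agent.Lead.Tw.xGL_commute D4.hF 18 20 (by decide) (by decide) (by decide +kernel) _ _)
    (Cfsg.Agent.Lead.Tw.xGL_commute D4.hF 12 20 (by decide) (by decide) (by decide +kernel) _ _)
    (Cfsg.Agent.Lead.Tw.xGL_commute D4.hF 18 21 (by decide) (by decide) (by decide +kernel) _ _)
    (Cfsg.Agent.Lead.Tw.xGL_commute D4.hF 13 21 (by decide) (by decide) (by decide +kernel) _ _)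
    (hz _) (hz _) (hz _)]
  rw [xGL_mul, xGL_mul, xGL_inv]
  congr 1
  ring

end D4

end Cfsg.Agent.Helper11.TG
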