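import Mathlib
import Cfsg.Agent.Lib.Helper20.SylowConj

set_option autoImplicit false

namespace Cfsg.Agent.Helper20

open scoped Pointwise

variable {G : Type*} [Group G]

/-- Elementwise form of `H ⊓ g H g⁻¹ = ⊥`. -/
theorem inf_conj_smul_eq_bot_iff (g : G) (H : Subgroup G) :
    H ⊓ (MulAut.conj g • H) = ⊥ ↔ ∀ y ∈ H, g⁻¹ * y * g ∈ H → y = 1 := by
  rw [Subgroup.eq_bot_iff_forall]
  constructor
  · intro h y hy hy'
    exact h y (Subgroup.mem_inf.mpr ⟨hy, (mem_conj_smul_iff g y H).mpr hy'⟩)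
  · intro h y hy
    obtain ⟨h1, h2⟩ := Subgroup.mem_inf.mp hy
    exact h y h1 ((mem_conj_smul_iff g y H).mp h2)

/-- If one Sylow `p`-subgroup is a TI-subgroup, then so is every other one (elementwise form). -/
theorem ti_sylow_all [Finite G] {p : ℕ} [Fact p.Prime] (P : Sylow p G)
    (hTI : ∀ g : G, g ∉ Subgroup.normalizer ((P : Subgroup G) : Set G) →
      (P : Subgroup G) ⊓ (MulAut.conj g • (P : Subgroup G)) = ⊥)
    (P' : Sylow p G) (h : G) (hh : h ∉ Subgroup.normalizer ((P' : Subgroup G) : Set G))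
    (y : G) (hy : y ∈ (P' : Subgroup G)) (hy' : h⁻¹ * y * h ∈ (P' : Subgroup G)) : y = 1 := by
  obtain ⟨g, hg⟩ := exists_conj_sylow P P'
  have hk : g⁻¹ * h * g ∉ Subgroup.normalizer ((P : Subgroup G) : Set G) := by
    intro hk
    apply hh
    rw [Subgroup.mem_set_normalizer_iff]
    intro n
    rw [SetLike.mem_coe, SetLike.mem_coe, hg n, hg (h * n * h⁻¹)]
    have := Subgroup.mem_set_normalizer_iff.mp hk (g⁻¹ * n * g)
    rw [SetLike.mem_coe, SetLike.mem_coe] at this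
    rw [this]
    have e : g⁻¹ * h * g * (g⁻¹ * n * g) * (g⁻¹ * h * g)⁻¹ = g⁻¹ * (h * n * h⁻¹) * g := by group
    rw [e]
  have h1 := (inf_conj_smul_eq_bot_iff _ _).mp (hTI _ hk) (g⁻¹ * y * g) ((hg y).mp hy) (by
    have e : (g⁻¹ * h * g)⁻¹ * (g⁻¹ * y * g) * (g⁻¹ * h * g) = g⁻¹ * (h⁻¹ * y * h) * g := by group
    rw [e]
    exact (hg _).mp hy')
  calc y = g * (g⁻¹ * y * g) * g⁻¹ := by group
    _ = 1 := by rw [h1]; group

end Cfsg.Agent.Helper20
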