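import Mathlib
import Cfsg.Prelude.Def_CaseTheorems
import Cfsg.Agent.Lib.Helper20.TransVec1
import Cfsg.Agent.Lib.Helper20.UniqueInvolution
import Cfsg.Agent.Lib.Helper20.Dih3

set_option autoImplicit false

namespace Cfsg.Agent.Helper20.TransVec

open Matrix

set_option maxRecDepth 100000 in
theorem mat_key : ∀ a b c d : ZMod 3, (!![a, b; c, d] : Matrix (Fin 2) (Fin 2) (ZMod 3)) ^ 4 = -1 →
    ∀ e f g h : ZMod 3, (!![e, f; g, h] : Matrix (Fin 2) (Fin 2) (ZMod 3)) * !![e, f; g, h] = 1 →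
      (!![e, f; g, h] : Matrix (Fin 2) (Fin 2) (ZMod 3)) ≠ 1 →
      (!![e, f; g, h] : Matrix (Fin 2) (Fin 2) (ZMod 3)) ≠ -1 →
      ∀ k : Fin 8, (!![e, f; g, h] : Matrix (Fin 2) (Fin 2) (ZMod 3)) * !![a, b; c, d] =
        !![a, b; c, d] ^ (k : ℕ) * !![e, f; g, h] → k = 3 := by
  decide

theorem mat_key' (X Y : Matrix (Fin 2) (Fin 2) (ZMod 3)) (hX : X ^ 4 = -1) (hY : Y * Y = 1)
    (hY1 : Y ≠ 1) (hY2 : Y ≠ -1) (k : Fin 8) (h : Y * X = X ^ (k : ℕ) * Y) : k = 3 := by
  rw [Matrix.eta_fin_two X] at hX h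
  rw [Matrix.eta_fin_two Y] at hY hY1 hY2 h
  exact mat_key _ _ _ _ hX _ _ _ _ hY hY1 hY2 k h

def X0 : Matrix (Fin 2) (Fin 2) (ZMod 3) := !![0, 1; 1, 1]
def X0inv : Matrix (Fin 2) (Fin 2) (ZMod 3) := !![2, 1; 1, 0]

def x0 : GL (Fin 2) (ZMod 3) := ⟨X0, X0inv, by decide, by decide⟩

theorem X0_pow_four : X0 ^ 4 = -1 := by decide

theorem orderOf_x0 : orderOf x0 = 8 := by
  have h1 : ¬ x0 ^ 2 ^ 2 = 1 := by
    intro h
    have h2 := congrArg (fun u : GL (Fin 2) (ZMod 3) => (u : Matrix (Fin 2) (Fin 2) (ZMod 3))) h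
    simp only [Units.val_pow_eq_pow_val, Units.val_one] at h2
    revert h2
    change ¬ X0 ^ 2 ^ 2 = 1
    decide
  have h2 : x0 ^ 2 ^ (2 + 1) = 1 := by
    apply Units.ext
    rw [Units.val_pow_eq_pow_val, Units.val_one]
    change X0 ^ 2 ^ (2 + 1) = 1
    decide
  have := orderOf_eq_prime_pow h1 h2
  simpa using this

theorem card_GL : Nat.card (GL (Fin 2) (ZMod 3)) = 48 := by
  rw [Matrix.card_GL_field]
  simp [Fin.prod_univ_two]

/-- A subgroup of order `16` of `GL₂(3)` contains a conjugate of `x0`. -/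
theorem exists_conj_mem (H : Subgroup (GL (Fin 2) (ZMod 3))) (hH : Nat.card H = 16) :
    ∃ γ : GL (Fin 2) (ZMod 3), γ⁻¹ * x0 * γ ∈ H := by
  have hH2 : IsPGroup 2 H := IsPGroup.of_card (n := 4) (by rw [hH]; norm_num)
  obtain ⟨P, hHP⟩ := hH2.exists_le_sylow
  obtain ⟨k, hk⟩ := (IsPGroup.iff_card (p := 2) (G := P)).1 P.isPGroup'
  have hdvd : Nat.card P ∣ 48 := by
    rw [← card_GL]; exact Subgroup.card_subgroup_dvd_card _
  have hle : Nat.card H ≤ Nat.card P := Subgroup.card_le_of_le hHP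
  have hk4 : k = 4 := by
    rw [hk] at hdvd hle
    rw [hH] at hle
    have h1 : 4 ≤ k := by
      by_contra hlt
      have : k ≤ 3 := by omega
      have : 2 ^ k ≤ 2 ^ 3 := Nat.pow_le_pow_right (by norm_num) this
      omega
    by_contra hne
    have h5 : 5 ≤ k := by omega
    have : 2 ^ 5 ∣ 48 := dvd_trans (Nat.pow_dvd_pow 2 h5) hdvd
    omega
  have hPH : H = (P : Subgroup _) := by
    apply Subgroup.eq_of_le_of_card_ge hHP
    rw [hk, hk4, hH]; norm_num
  have hK : IsPGroup 2 (Subgroup.zpowers x0) := by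
    apply IsPGroup.of_card (n := 3)
    rw [Nat.card_zpowers, orderOf_x0]; norm_num
  obtain ⟨γ, hγ⟩ := Cfsg.Agent.Helper20.Dih.exists_conj_mem_sylow P (Subgroup.zpowers x0) hK
  refine ⟨γ, ?_⟩
  rw [hPH]
  exact hγ x0 (Subgroup.mem_zpowers x0)

section

variable {V : Type*} [AddCommGroup V] [Module (ZMod 3) V]
  {G : Type*} [Group G] (ρ : G →* (V ≃ₗ[ZMod 3] V))

noncomputable def Psi (b : Module.Basis (Fin 2) (ZMod 3) V) : G →* Matrix (Fin 2) (Fin 2) (ZMod 3) where
  toFun g := LinearMap.toMatrix b b ((ρ g : V ≃ₗ[ZMod 3] V) : V →ₗ[ZMod 3] V)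
  map_one' := by
    rw [map_one]
    exact LinearMap.toMatrix_one b
  map_mul' g h := by
    rw [map_mul]
    exact LinearMap.toMatrix_mul b _ _

theorem Psi_mulVec (b : Module.Basis (Fin 2) (ZMod 3) V) (g : G) (u : V) :
    Psi ρ b g *ᵥ (b.repr u) = b.repr (ρ g u) :=
  LinearMap.toMatrix_mulVec_repr b b _ u

theorem Psi_injective (b : Module.Basis (Fin 2) (ZMod 3) V) (hρ : Function.Injective ρ) :
    Function.Injective (Psi ρ b) := by
  intro g h hgh
  apply hρ
  apply LinearEquiv.toLinearMap_injective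
  exact (LinearMap.toMatrix b b).injective hgh

theorem psi_injective (b : Module.Basis (Fin 2) (ZMod 3) V) (hρ : Function.Injective ρ) :
    Function.Injective (Psi ρ b).toHomUnits := by
  intro g h hgh
  apply Psi_injective ρ b hρ
  have := congrArg (fun u : (Matrix (Fin 2) (Fin 2) (ZMod 3))ˣ => (u : Matrix (Fin 2) (Fin 2) (ZMod 3))) hgh
  simpa using this

/-- `Nat.card G` divides `48`. -/
theorem card_dvd [Finite G] (b : Module.Basis (Fin 2) (ZMod 3) V) (hρ : Function.Injective ρ) :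
    Nat.card G ∣ 48 := by
  rw [← card_GL]
  exact Subgroup.card_dvd_of_injective (Psi ρ b).toHomUnits (psi_injective ρ b hρ)

/-- The case `|G| = 16`. -/
theorem quasiDihedral_of_card [Finite V] [Finite G] (b : Module.Basis (Fin 2) (ZMod 3) V)
    (hρ : Function.Injective ρ)
    (htrans : ∀ v w : V, v ≠ 0 → w ≠ 0 → ∃ g : G, ρ g v = w) (hV : Nat.card V = 9)
    (hG : Nat.card G = 16) : Cfsg.IsQuasiDihedral G := by
  set ψ := (Psi ρ b).toHomUnits with hψdef
  have hψ : Function.Injective ψ := psi_injective ρ b hρ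
  have hrange : Nat.card ψ.range = 16 := by
    rw [← hG]
    exact (Nat.card_congr (MonoidHom.ofInjective hψ).toEquiv).symm
  obtain ⟨γ, hγ⟩ := exists_conj_mem ψ.range hrange
  obtain ⟨x, hx⟩ := hγ
  have hox : orderOf x = 8 := by
    rw [← orderOf_injective ψ hψ x, hx, ← orderOf_x0]
    symm
    apply SemiconjBy.orderOf_eq γ⁻¹
    change γ⁻¹ * x0 = γ⁻¹ * x0 * γ * γ⁻¹
    group
  have hX4 : (Psi ρ b x) ^ 4 = -1 := by
    have h1 : (ψ x : Matrix (Fin 2) (Fin 2) (ZMod 3)) = Psi ρ b x := MonoidHom.coe_toHomUnits _ _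
    rw [← h1, hx]
    have h2 : (γ⁻¹ * x0 * γ) ^ 4 = γ⁻¹ * x0 ^ 4 * γ := by
      have := conj_pow (i := 4) (a := γ⁻¹) (b := x0)
      rw [inv_inv] at this
      exact this
    rw [← Units.val_pow_eq_pow_val, h2, Units.val_mul, Units.val_mul, Units.val_pow_eq_pow_val]
    have h3 : (x0 : Matrix (Fin 2) (Fin 2) (ZMod 3)) ^ 4 = -1 := X0_pow_four
    rw [h3, mul_neg, mul_one, neg_mul, ← Units.val_mul, inv_mul_cancel, Units.val_one]
  -- the stabilizer of a basis vector
  have hv0 : b 0 ≠ 0 := b.ne_zero 0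
  letI := act ρ
  have hstab : Nat.card (MulAction.stabilizer G (b 0)) = 2 := by
    have := card_eq ρ htrans (b 0) hv0
    rw [hG, hV] at this
    omega
  have hne : MulAction.stabilizer G (b 0) ≠ ⊥ := by
    intro h
    rw [h, Subgroup.card_bot] at hstab
    omega
  obtain ⟨y, hyS, hy1⟩ := (Subgroup.ne_bot_iff_exists_ne_one).1 hne |>.imp (fun y h => h) |> fun ⟨y, hy⟩ =>
    (⟨y.1, y.2, fun h => hy (Subtype.ext h)⟩ : ∃ y : G, y ∈ MulAction.stabilizer G (b 0) ∧ y ≠ 1)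
  have hy2 : y ^ 2 = 1 := by
    have := pow_card_eq_one' (G := MulAction.stabilizer G (b 0)) (x := ⟨y, hyS⟩)
    rw [hstab] at this
    have := congrArg Subtype.val this
    simpa using this
  have hyfix : ρ y (b 0) = b 0 := hyS
  -- matrices
  have hYY : Psi ρ b y * Psi ρ b y = 1 := by
    rw [← map_mul, ← pow_two, hy2, map_one]
  have hY1 : Psi ρ b y ≠ 1 := by
    intro h
    apply hy1
    apply Psi_injective ρ b hρ
    rw [h, map_one]
  have hY2 : Psi ρ b y ≠ -1 := by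
    intro h
    have h1 := Psi_mulVec ρ b y (b 0)
    rw [hyfix, h, Matrix.neg_mulVec, Matrix.one_mulVec] at h1
    have h2 := congrFun h1 0
    simp only [Module.Basis.repr_self, Pi.neg_apply, Finsupp.single_eq_same] at h2
    revert h2
    decide
  -- the relation
  have hidx : (Subgroup.zpowers x).index = 2 := by
    have h1 := Subgroup.card_mul_index (Subgroup.zpowers x)
    rw [Nat.card_zpowers, hox, hG] at h1
    omega
  haveI : (Subgroup.zpowers x).Normal := Subgroup.normal_of_index_eq_two hidx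
  have hmem : y * x * y⁻¹ ∈ Subgroup.zpowers x :=
    Subgroup.Normal.conj_mem inferInstance x (Subgroup.mem_zpowers x) y
  classical
  rw [mem_zpowers_iff_mem_range_orderOf, hox] at hmem
  obtain ⟨k, hk, hkx⟩ := Finset.mem_image.1 hmem
  rw [Finset.mem_range] at hk
  have hrel : Psi ρ b y * Psi ρ b x = Psi ρ b x ^ ((⟨k, hk⟩ : Fin 8) : ℕ) * Psi ρ b y := by
    rw [← map_pow, ← map_mul, ← map_mul]
    congr 1
    change y * x = x ^ k * y
    have : x ^ k = y * x * y⁻¹ := hkx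
    rw [this]; group
  have hk3 := mat_key' _ _ hX4 hYY hY1 hY2 ⟨k, hk⟩ hrel
  have hk3' : k = 3 := by
    have := congrArg Fin.val hk3
    simpa using this
  subst hk3'
  refine ⟨3, le_refl _, by rw [hG]; norm_num, x, y, by rw [hox]; norm_num, ?_, ?_⟩
  · exact orderOf_eq_prime (by rw [hy2]) hy1
  · have : x ^ 3 = y * x * y⁻¹ := hkx
    rw [← this]
    norm_num

end

end Cfsg.Agent.Helper20.TransVec
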