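import Mathlib
import Cfsg.Agent.Lib.Helper20.TransVec2

set_option autoImplicit false

namespace Cfsg.Agent.Helper20.TransVec

variable {V : Type*} [AddCommGroup V] [Module (ZMod 3) V]
  {G : Type*} [Group G] (ρ : G →* (V ≃ₗ[ZMod 3] V))

/-- The case `|G| = 8`. -/
theorem card_eight_case [Finite V] [Finite G] (hρ : Function.Injective ρ)
    (htrans : ∀ v w : V, v ≠ 0 → w ≠ 0 → ∃ g : G, ρ g v = w) (hV : Nat.card V = 9)
    (hG : Nat.card G = 8) :
    (IsCyclic G ∧ Nat.card G = 8) ∨ Nonempty (G ≃* QuaternionGroup 2) := by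
  -- stabilizers are trivial
  have hfree : ∀ (g : G) (v : V), v ≠ 0 → ρ g v = v → g = 1 := by
    intro g v hv hg
    letI := act ρ
    have h1 := card_eq ρ htrans v hv
    rw [hG, hV] at h1
    have h2 : Nat.card (MulAction.stabilizer G v) = 1 := by omega
    have h3 : MulAction.stabilizer G v = ⊥ := Subgroup.card_eq_one.1 h2
    have h4 : g ∈ MulAction.stabilizer G v := hg
    rw [h3, Subgroup.mem_bot] at h4
    exact h4
  -- involutions act as -1
  have hneg : ∀ t : G, t ^ 2 = 1 → t ≠ 1 → ∀ u : V, ρ t u = -u := by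
    intro t ht2 ht1 u
    have hfix : ρ t (u + ρ t u) = u + ρ t u := by
      rw [map_add, ← LinearEquiv.mul_apply, ← map_mul, ← pow_two, ht2, map_one]
      change ρ t u + u = u + ρ t u
      exact add_comm _ _
    by_contra hne
    have hw : u + ρ t u ≠ 0 := by
      intro h0
      apply hne
      exact (neg_eq_of_add_eq_zero_right h0).symm
    exact ht1 (hfree t _ hw hfix)
  -- an involution exists
  haveI : Fact (Nat.Prime 2) := ⟨Nat.prime_two⟩
  obtain ⟨z, hz⟩ := exists_prime_orderOf_dvd_card' (G := G) 2 (by rw [hG]; norm_num)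
  have hz1 : z ≠ 1 := by
    intro h
    rw [h, orderOf_one] at hz
    omega
  have hz2 : z ^ 2 = 1 := by rw [← hz]; exact pow_orderOf_eq_one z
  have hinv : ∀ x : G, x ^ 2 = 1 → x = 1 ∨ x = z := by
    intro x hx2
    by_cases hx1 : x = 1
    · exact Or.inl hx1
    · right
      apply hρ
      ext u
      rw [hneg x hx2 hx1 u, hneg z hz2 hz1 u]
  by_cases h4 : ∀ x : G, x ^ 4 = 1
  · right
    exact Cfsg.Agent.Helper20.nonempty_mulEquiv_quaternion_of_unique_involution z hz1 hz2 hinv h4
      (by rw [hG]; norm_num)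
  · left
    push Not at h4
    obtain ⟨x, hx⟩ := h4
    refine ⟨?_, hG⟩
    have h8 : x ^ 2 ^ (2 + 1) = 1 := by
      have := pow_card_eq_one' (G := G) (x := x)
      rw [hG] at this
      exact this
    have hox : orderOf x = 2 ^ (2 + 1) := orderOf_eq_prime_pow (by simpa using hx) h8
    apply isCyclic_of_orderOf_eq_card x
    rw [hox, hG]
    norm_num

end Cfsg.Agent.Helper20.TransVec
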