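import Mathlib

set_option autoImplicit false

namespace Cfsg.Agent.Helper20

universe u

open Pointwise

/-- A normal `p`-subgroup lies in every Sylow `p`-subgroup. -/
theorem normal_pGroup_le_sylow' {G : Type*} [Group G] {p : ℕ} [Fact p.Prime] (N : Subgroup G)
    [hN : N.Normal] (hNp : IsPGroup p N) [Finite (Sylow p G)] (P : Sylow p G) : N ≤ P := by
  obtain ⟨P', hP'⟩ := hNp.exists_le_sylow
  obtain ⟨g, hg⟩ := MulAction.exists_smul_eq G P' P
  have h1 : (P : Subgroup G) = MulAut.conj g • (P' : Subgroup G) := by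
    rw [← hg]; rfl
  rw [h1, ← Subgroup.Normal.conj_smul_eq_self g N]
  exact Subgroup.pointwise_smul_le_pointwise_smul_iff.mpr hP'

/-- If one Sylow `p`-subgroup is normal then all are. -/
theorem sylow_normal_of_exists_normal {G : Type*} [Group G] [Finite G] {p : ℕ} [Fact p.Prime]
    (h : ∃ P₀ : Sylow p G, (P₀ : Subgroup G).Normal) (P : Sylow p G) : (P : Subgroup G).Normal := by
  obtain ⟨P₀, hP₀⟩ := h
  obtain ⟨g, hg⟩ := MulAction.exists_smul_eq G P₀ P
  rw [Sylow.smul_eq_of_normal] at hg
  rw [← hg]
  exact hP₀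

/-- Induction principle: a class of finite groups closed under quotients by normal `2`-subgroups,
in which every involution lies in a normal `2`-subgroup, consists of `2`-closed groups. -/
theorem sylow_two_normal_of_hereditary (Pr : ∀ (G : Type u) [Group G], Prop)
    (h1 : ∀ (G : Type u) [Group G] [Finite G], Pr G → ∀ t : G, orderOf t = 2 →
      ∃ M : Subgroup G, M.Normal ∧ IsPGroup 2 M ∧ t ∈ M)
    (h2 : ∀ (G : Type u) [Group G] [Finite G], Pr G → ∀ (N : Subgroup G) [N.Normal],
      IsPGroup 2 N → Pr (G ⧸ N))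
    (G : Type u) [Group G] [Finite G] (hG : Pr G) (P : Sylow 2 G) : (P : Subgroup G).Normal := by
  have hp2 : Fact (Nat.Prime 2) := ⟨Nat.prime_two⟩
  suffices key : ∀ n : ℕ, ∀ (G : Type u) [Group G] [Finite G], Nat.card G = n → Pr G →
      ∃ P₀ : Sylow 2 G, (P₀ : Subgroup G).Normal from
    sylow_normal_of_exists_normal (key (Nat.card G) G rfl hG) P
  intro n
  induction n using Nat.strong_induction_on with
  | _ n ih =>
    intro G _ _ hcard hG
    obtain ⟨P⟩ : Nonempty (Sylow 2 G) := inferInstance
    refine ⟨P, ?_⟩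
    by_cases hPbot : (P : Subgroup G) = ⊥
    · rw [hPbot]; infer_instance
    set N : Subgroup G := (P : Subgroup G).normalCore with hNdef
    have hNn : N.Normal := Subgroup.normalCore_normal _
    have hNP : N ≤ P := Subgroup.normalCore_le _
    have hNp : IsPGroup 2 N := P.isPGroup'.to_le hNP
    -- every normal 2-subgroup is inside N
    have hMN : ∀ M : Subgroup G, M.Normal → IsPGroup 2 M → M ≤ N := by
      intro M hM hMp
      rw [hNdef, Subgroup.normal_le_normalCore]
      exact normal_pGroup_le_sylow' M hMp P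
    -- N is nontrivial
    have hNbot : N ≠ ⊥ := by
      have h2 : 2 ∣ Nat.card (P : Subgroup G) := by
        obtain ⟨k, hk⟩ := IsPGroup.iff_card.mp P.isPGroup'
        have hk0 : k ≠ 0 := by
          rintro rfl
          rw [pow_zero] at hk
          exact hPbot (Subgroup.card_eq_one.mp hk)
        rw [hk]
        exact dvd_pow_self 2 hk0
      obtain ⟨t, ht⟩ := exists_prime_orderOf_dvd_card' 2 h2
      have ht' : orderOf (t : G) = 2 := by rw [Subgroup.orderOf_coe]; exact ht
      obtain ⟨M, hM, hMp, htM⟩ := h1 G hG (t : G) ht'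
      intro hbot
      have : (t : G) ∈ N := hMN M hM hMp htM
      rw [hbot, Subgroup.mem_bot] at this
      rw [this, orderOf_one] at ht'
      omega
    have hcardN : 1 < Nat.card N := (Subgroup.one_lt_card_iff_ne_bot N).mpr hNbot
    have hcardQ : Nat.card (G ⧸ N) < n := by
      have := Subgroup.card_eq_card_quotient_mul_card_subgroup N
      rw [hcard] at this
      have hpos : 0 < Nat.card (G ⧸ N) := Nat.card_pos
      nlinarith
    obtain ⟨Qb, hQb⟩ := ih _ hcardQ (G ⧸ N) rfl (h2 G hG N hNp)
    -- the preimage of Qb is a normal 2-subgroup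
    let Q : Subgroup G := (Qb : Subgroup (G ⧸ N)).comap (QuotientGroup.mk' N)
    have hQn : Q.Normal := hQb.comap _
    have hQp : IsPGroup 2 Q := by
      apply IsPGroup.comap_of_ker_isPGroup Qb.isPGroup'
      rw [QuotientGroup.ker_mk']
      exact hNp
    have hQN : Q ≤ N := hMN Q hQn hQp
    have hQbbot : (Qb : Subgroup (G ⧸ N)) = ⊥ := by
      rw [eq_bot_iff]
      intro q hq
      obtain ⟨g, rfl⟩ := QuotientGroup.mk_surjective q
      have hgQ : g ∈ Q := hq
      rw [Subgroup.mem_bot, QuotientGroup.eq_one_iff]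
      exact hQN hgQ
    have hodd : ¬ 2 ∣ Nat.card (G ⧸ N) := by
      intro h
      have := Qb.dvd_card_of_dvd_card h
      rw [hQbbot, Subgroup.card_bot] at this
      omega
    -- so P = N
    have hPN : (P : Subgroup G) = N := by
      symm
      apply Subgroup.eq_of_le_of_card_ge hNP
      apply Nat.le_of_dvd Nat.card_pos
      have h3 : Nat.card (P : Subgroup G) ∣ Nat.card (G ⧸ N) * Nat.card N := by
        rw [← Subgroup.card_eq_card_quotient_mul_card_subgroup N]
        exact Subgroup.card_subgroup_dvd_card _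
      obtain ⟨k, hk⟩ := IsPGroup.iff_card.mp P.isPGroup'
      have hcop : Nat.Coprime (Nat.card (P : Subgroup G)) (Nat.card (G ⧸ N)) := by
        rw [hk]
        exact Nat.Coprime.pow_left k ((Nat.Prime.coprime_iff_not_dvd Nat.prime_two).mpr hodd)
      exact hcop.dvd_of_dvd_mul_left h3
    rw [hPN]
    exact hNn

end Cfsg.Agent.Helper20
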