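import Mathlib

set_option autoImplicit false

namespace Cfsg.Agent.Helper20

/-- a group with a cyclic subgroup of index at most two is generated by two elements -/
theorem exists_generators_of_cyclic_index_le_two {Q : Type*} [Group Q] (D : Subgroup Q)
    [hD : IsCyclic D] (hidx0 : D.index ≠ 0) (hidx : D.index ≤ 2) :
    ∃ S : Finset Q, S.card ≤ 2 ∧ Subgroup.closure (S : Set Q) = ⊤ := by
  classical
  obtain ⟨c, hc⟩ := hD.exists_generator
  have hDc : D = Subgroup.zpowers (c : Q) := by
    ext y
    constructor
    · intro hy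
      obtain ⟨k, hk⟩ := Subgroup.mem_zpowers_iff.mp (hc ⟨y, hy⟩)
      refine Subgroup.mem_zpowers_iff.mpr ⟨k, ?_⟩
      have := congrArg Subtype.val hk
      rwa [Subgroup.coe_zpow] at this
    · intro hy
      obtain ⟨k, rfl⟩ := Subgroup.mem_zpowers_iff.mp hy
      exact Subgroup.zpow_mem _ c.2 k
  by_cases htop : D = ⊤
  · refine ⟨{(c : Q)}, by simp, ?_⟩
    rw [Finset.coe_singleton, ← Subgroup.zpowers_eq_closure, ← hDc, htop]
  · obtain ⟨h, hh⟩ : ∃ h : Q, h ∉ D := by
      by_contra hcon
      exact htop (eq_top_iff.mpr (fun y _ => by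
        by_contra hy
        exact hcon ⟨y, hy⟩))
    refine ⟨{(c : Q), h}, Finset.card_insert_le _ _ |>.trans (by simp), ?_⟩
    set T := Subgroup.closure (({(c : Q), h} : Finset Q) : Set Q) with hT
    have hcT : (c : Q) ∈ T := Subgroup.subset_closure (by simp)
    have hhT : h ∈ T := Subgroup.subset_closure (by simp)
    have hDT : D ≤ T := by
      rw [hDc, Subgroup.zpowers_le]
      exact hcT
    have hlt : D < T := lt_of_le_of_ne hDT (fun heq => hh (heq ▸ hhT))
    have h1 : T.index ∣ D.index := Subgroup.index_dvd_of_le hDT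
    have h2 : T.index ≠ D.index := by
      intro heq
      have hrel := Subgroup.relIndex_mul_index hDT
      rw [heq] at hrel
      have h3 : D.relIndex T = 1 := by
        have : D.relIndex T * D.index = 1 * D.index := by rw [hrel, one_mul]
        exact Nat.eq_of_mul_eq_mul_right (Nat.pos_of_ne_zero hidx0) this
      rw [Subgroup.relIndex_eq_one] at h3
      exact hlt.not_ge h3
    have h3 : T.index ≤ D.index := Nat.le_of_dvd (Nat.pos_of_ne_zero hidx0) h1
    have h4 : T.index ≠ 0 := fun h0 => by rw [h0] at h1; exact hidx0 (Nat.eq_zero_of_zero_dvd h1)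
    have h5 : T.index = 1 := by omega
    exact Subgroup.index_eq_one.mp h5

end Cfsg.Agent.Helper20
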