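import Mathlib
import Cfsg.Prelude.Def_Solvable
import Cfsg.Agent.Lib.Helper20.W3Defs
import Cfsg.Agent.Lib.Helper8.ABAsm
import Cfsg.Agent.Lib.Helper10.W3SGN
import Cfsg.Agent.Lib.Helper2.W3NE
import Cfsg.Agent.Lib.Helper2.W3TRI
import Cfsg.Agent.Lib.Helper6.W3COUNTW
import Cfsg.Agent.Lib.Helper21.W3F1
import Cfsg.Agent.Lib.Helper21.W3FIBER
import Cfsg.Agent.Lib.Lead.W3F2
import Cfsg.Agent.Lib.Helper19.W3ABBOUND
import Cfsg.Agent.Lib.Helper18.W3STEP1
import Cfsg.Agent.Lib.Helper7.W3ALPHA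
import Cfsg.Agent.Lib.Helper15.W3BETA

/-!
# S3300 assembly (helper20)

`O^2(G) = G`, `z` an involution, `H = C(z)`, `E = O_2(H)` extraspecial of width `n ≥ 3` with
`C_G(E) ≤ E`, `K` normal of index `2` in `H`  ==>  `z` is conjugate to an element of `E - {z}`.
Plan: `plans/S3300_proof.md`.
-/

set_option autoImplicit false

namespace Cfsg.Agent.Helper20.W3

open Cfsg.Agent.Helper8.XS Cfsg.Agent.Helper8.AB

section asm

variable {G : Type*} [Group G] [Finite G] {z : G} {H E K : Subgroup G} {n : ℕ}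

omit [Finite G] in
theorem w3asm_mem_cent (E : Subgroup G) (u a : G) :
    a ∈ E ⊓ Subgroup.centralizer ({u} : Set G) ↔ a ∈ E ∧ a * u = u * a := by
  rw [Subgroup.mem_inf, Subgroup.mem_centralizer_iff]
  constructor
  · rintro ⟨ha, h⟩
    exact ⟨ha, (h u rfl).symm⟩
  · rintro ⟨ha, h⟩
    refine ⟨ha, ?_⟩
    intro w hw
    rw [Set.mem_singleton_iff] at hw
    subst hw
    exact h.symm

/-- PIECE W3-F2 (wrapper over lead's `odd_N_core`): an edge has an odd number of common neighbours. -/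
theorem w3asm_odd_N (c : Ctx3 z H E K n) (χ : ↥H →* ℤˣ)
    (hχ : ∀ h : ↥H, χ h = 1 ↔ (h : G) ∈ K) (s : G) (hs : valH χ (s * z * s⁻¹) = -1) :
    Odd (Set.ncard (Nset χ z s)) :=
  odd_N_core c χ (fun y hyH hyy hy1 => star_count c χ hχ y hyH hyy hy1) (arc_symm c χ hχ) s hs

/-- ASSEMBLY: for an edge `z ~ u` with `|C_E(u)|` maximal the number of common neighbours is even. -/
theorem even_N (c : Ctx3 z H E K n) (χ : ↥H →* ℤˣ)
    (hχ : ∀ h : ↥H, χ h = 1 ↔ (h : G) ∈ K) (s : G) (hs : valH χ (s * z * s⁻¹) = -1)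
    (hmax : ∀ r : G, valH χ (r * z * r⁻¹) = -1 →
      Nat.card ↥(E ⊓ Subgroup.centralizer ({r * z * r⁻¹} : Set G)) ≤
        Nat.card ↥(E ⊓ Subgroup.centralizer ({s * z * s⁻¹} : Set G))) :
    Even (Set.ncard (Nset χ z s)) := by
  apply even_of_fibers c χ hχ s hs
  intro k hk
  have t := tri_of_mem c χ hχ (arc_symm c χ hχ) s hs k hk
  by_cases h1 : ∃ a ∈ E, a * (s * z * s⁻¹) = (s * z * s⁻¹) * a ∧ a * k ≠ k * a
  · obtain ⟨a, ha, hau, hak⟩ := h1
    exact even_X_step1 t a ha hau hak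
  · push Not at h1
    obtain ⟨⟨r, hkr⟩, hk1, -⟩ := hk
    have hle : E ⊓ Subgroup.centralizer ({s * z * s⁻¹} : Set G) ≤
        E ⊓ Subgroup.centralizer ({k} : Set G) := by
      intro a ha
      rw [w3asm_mem_cent] at ha ⊢
      exact ⟨ha.1, h1 a ha.1 ha.2⟩
    have hcard : Nat.card ↥(E ⊓ Subgroup.centralizer ({k} : Set G)) ≤
        Nat.card ↥(E ⊓ Subgroup.centralizer ({s * z * s⁻¹} : Set G)) := by
      have := hmax r (by rw [← hkr]; exact hk1)
      rwa [← hkr] at this
    have heq := Subgroup.eq_of_le_of_card_ge hle hcard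
    have hsame : ∀ a ∈ E, a * (s * z * s⁻¹) = (s * z * s⁻¹) * a ↔ a * k = k * a := by
      intro a ha
      constructor
      · exact h1 a ha
      · intro hak
        have : a ∈ E ⊓ Subgroup.centralizer ({k} : Set G) := (w3asm_mem_cent E k a).2 ⟨ha, hak⟩
        rw [← heq] at this
        exact ((w3asm_mem_cent E _ a).1 this).2
    have hbound : Nat.card ↥(E ⊓ Subgroup.centralizer ({k} : Set G)) ≤ 2 ^ (n + 1) := by
      have hb := abelian_bound E z t.xs (E ⊓ Subgroup.centralizer ({k} : Set G)) inf_le_left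
        ((w3asm_mem_cent E k z).2 ⟨t.xs.hzE, t.hkz.symm⟩)
        (by
          intro x hx y hy
          rw [w3asm_mem_cent] at hx hy
          exact t.hAk x hx.1 hx.2 y hy.1 hy.2)
      rw [t.hcard] at hb
      by_contra hlt
      push Not at hlt
      have h2 : 2 ^ (n + 1) + 1 ≤ Nat.card ↥(E ⊓ Subgroup.centralizer ({k} : Set G)) := hlt
      have h3 := Nat.mul_le_mul h2 h2
      have h4 : 2 * 2 ^ (2 * n + 1) = 2 ^ (n + 1) * 2 ^ (n + 1) := by
        rw [← pow_succ', ← pow_add]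
        congr 1
        omega
      have h5 : 2 ^ (n + 1) * 2 ^ (n + 1) < (2 ^ (n + 1) + 1) * (2 ^ (n + 1) + 1) :=
        Nat.mul_self_lt_mul_self (Nat.lt_succ_self _)
      linarith
    by_cases h2 : ∃ e₀ ∈ E, k⁻¹ * e₀⁻¹ * k * e₀ = z
    · obtain ⟨e₀, he₀, hz⟩ := h2
      exact even_X_alpha t hsame hbound e₀ he₀ hz
    · push Not at h2
      exact even_X_beta t hsame hbound h2

/-- ASSEMBLY: the context of S3300 is contradictory. -/
theorem main_false (c : Ctx3 z H E K n) : False := by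
  obtain ⟨χ, hχ⟩ := exists_sgn c
  obtain ⟨s₀, hs₀⟩ := exists_nbr c χ hχ
  obtain ⟨s, hs, hmax⟩ := Set.exists_max_image {s : G | valH χ (s * z * s⁻¹) = -1}
    (fun s => Nat.card ↥(E ⊓ Subgroup.centralizer ({s * z * s⁻¹} : Set G)))
    (Set.toFinite _) ⟨s₀, hs₀⟩
  have hodd := w3asm_odd_N c χ hχ s hs
  have heven := even_N c χ hχ s hs (fun r hr => hmax r hr)
  exact (Nat.not_even_iff_odd.2 hodd) heven

end asm

/-- ASSEMBLY: S3300. -/
theorem main {G : Type*} [Group G] [Finite G] (hres : Cfsg.pResidual 2 G = ⊤) (z : G)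
    (hz : orderOf z = 2) (E : Subgroup G)
    (hE : E = (Cfsg.pCore 2 ↥(Subgroup.centralizer ({z} : Set G))).map
      (Subgroup.centralizer ({z} : Set G)).subtype)
    (hext : Cfsg.IsExtraspecial 2 ↥E) (hcent : Subgroup.centralizer (E : Set G) ≤ E) (n : ℕ)
    (hn : 3 ≤ n) (hcard : Nat.card ↥E = 2 ^ (2 * n + 1))
    (K : Subgroup G) (hKH : K ≤ Subgroup.centralizer ({z} : Set G))
    (hKn : ∀ h ∈ Subgroup.centralizer ({z} : Set G), K.map (MulAut.conj h).toMonoidHom = K)
    (hKi : K.relIndex (Subgroup.centralizer ({z} : Set G)) = 2) :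
    ∃ g : G, g * z * g⁻¹ ∈ E ∧ g * z * g⁻¹ ≠ z := by
  by_contra hcon
  push Not at hcon
  obtain ⟨loc, hEH⟩ := loc_of_hyp z hz E hE hext hcent
  have hzz : z * z = 1 := by
    have := pow_orderOf_eq_one z
    rwa [hz, pow_two] at this
  have hz1 : z ≠ 1 := by
    intro h1
    rw [h1, orderOf_one] at hz
    norm_num at hz
  have hHmem : ∀ g : G, g ∈ Subgroup.centralizer ({z} : Set G) ↔ g * z = z * g := by
    intro g
    rw [Subgroup.mem_centralizer_iff]
    constructor
    · intro hg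
      exact (hg z rfl).symm
    · intro hg w hw
      rw [Set.mem_singleton_iff] at hw
      subst hw
      exact hg.symm
  have c : Ctx3 z (Subgroup.centralizer ({z} : Set G)) E K n :=
    { hres := hres
      hzz := hzz
      hz1 := hz1
      hH := hHmem
      loc := loc
      hEH := hEH
      hn := hn
      hcard := hcard
      hKH := hKH
      hKn := by
        intro h hh k hk
        have := hKn h hh
        rw [← this]
        exact ⟨k, hk, by simp [MulAut.conj_apply]⟩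
      hKi := hKi
      hwc := hcon }
  exact main_false c

end Cfsg.Agent.Helper20.W3
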