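import Mathlib
import Cfsg.Agent.Lib.Helper20.ChooseLucas

set_option autoImplicit false
set_option linter.unusedSectionVars false
set_option linter.unusedTactic false

namespace Cfsg.Agent.Helper20

open scoped Pointwise
open MulAction

section

variable {G : Type*} [Group G]

/-- The stabilizer (under left translation) of a finite set `M` has order dividing `|M|`. -/
theorem card_stabilizer_dvd_card [Finite G] (M : Set G) :
    Nat.card (stabilizer G M) ∣ Nat.card M := by
  set H := stabilizer G M with hH
  have h1 : (M⁻¹ : Set G) * (H : Set G) = M⁻¹ := by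
    ext x
    constructor
    · rintro ⟨a, ha, h, hh, rfl⟩
      rw [Set.mem_inv] at ha ⊢
      have hh' : h⁻¹ ∈ H := H.inv_mem hh
      have := mem_stabilizer_iff.mp hh'
      rw [mul_inv_rev, ← this]
      exact Set.smul_mem_smul_set ha
    · intro hx
      exact ⟨x, hx, 1, H.one_mem, mul_one x⟩
  have h2 := Subgroup.card_mul_eq_card_subgroup_mul_card_quotient H (M⁻¹ : Set G)
  rw [h1] at h2
  have h3 : Nat.card (M⁻¹ : Set G) = Nat.card M := by
    rw [← Set.image_inv_eq_inv]
    exact Nat.card_image_of_injective inv_injective M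
  rw [← h3, h2]
  exact dvd_mul_right _ _

/-- stabilizer orders are constant on orbits -/
theorem card_stabilizer_smul {X : Type*} [MulAction G X] (g : G) (x : X) :
    Nat.card (stabilizer G (g • x)) = Nat.card (stabilizer G x) := by
  exact Nat.card_congr (MulAction.stabilizerEquivStabilizer (g := g) rfl).symm.toEquiv

variable [Finite G] [DecidableEq G]

/-- stabilizer order of a `k`-subset divides `k` -/
theorem card_stabilizer_powersetCard_dvd [Finite G] [DecidableEq G] (k : ℕ)
    (x : Set.powersetCard G k) : Nat.card (stabilizer G x) ∣ k := by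
  rw [Set.powersetCard.stabilizer_coe]
  have h := card_stabilizer_dvd_card ((x : Finset G) : Set G)
  have h2 : Nat.card (((x : Finset G) : Set G)) = k := by
    rw [Nat.card_coe_set_eq]
    exact Set.powersetCard.ncard_eq x
  rw [h2] at h
  exact h

/-- a subgroup of order `k` as a `k`-subset -/
noncomputable def subgroupPC (k : ℕ) (K : Subgroup G) (hK : Nat.card K = k) :
    Set.powersetCard G k :=
  ⟨(Set.toFinite (K : Set G)).toFinset, by
    rw [Set.powersetCard.mem_iff, ← Set.ncard_eq_toFinset_card (K : Set G)]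
    rw [← Nat.card_coe_set_eq]
    exact hK⟩

theorem mem_subgroupPC (k : ℕ) (K : Subgroup G) (hK : Nat.card K = k) (a : G) :
    a ∈ ((subgroupPC k K hK : Set.powersetCard G k) : Finset G) ↔ a ∈ K := by
  unfold subgroupPC
  simp

theorem smul_subgroupPC_eq_iff (k : ℕ) (K : Subgroup G) (hK : Nat.card K = k) (g : G) :
    g • subgroupPC k K hK = subgroupPC k K hK ↔ g ∈ K := by
  constructor
  · intro h
    have h1 : (1 : G) ∈ ((subgroupPC k K hK : Set.powersetCard G k) : Finset G) :=
      (mem_subgroupPC k K hK 1).mpr K.one_mem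
    have h2 : g • (1 : G) ∈ ((g • subgroupPC k K hK : Set.powersetCard G k) : Finset G) := by
      rw [Set.powersetCard.coe_smul]
      exact Finset.smul_mem_smul_finset h1
    rw [h] at h2
    rw [mem_subgroupPC] at h2
    simpa using h2
  · intro hg
    apply Subtype.ext
    rw [Set.powersetCard.coe_smul]
    ext a
    rw [Finset.mem_smul_finset]
    constructor
    · rintro ⟨b, hb, rfl⟩
      rw [mem_subgroupPC] at hb ⊢
      exact K.mul_mem hg hb
    · intro ha
      rw [mem_subgroupPC] at ha
      refine ⟨g⁻¹ * a, ?_, by simp⟩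
      rw [mem_subgroupPC]
      exact K.mul_mem (K.inv_mem hg) ha

theorem stabilizer_subgroupPC (k : ℕ) (K : Subgroup G) (hK : Nat.card K = k) :
    stabilizer G (subgroupPC k K hK) = K := by
  ext g
  rw [mem_stabilizer_iff]
  exact smul_subgroupPC_eq_iff k K hK g

theorem subgroupPC_injective_mod (k : ℕ) (K₁ K₂ : Subgroup G) (h₁ : Nat.card K₁ = k)
    (h₂ : Nat.card K₂ = k) (g : G) (h : g • subgroupPC k K₂ h₂ = subgroupPC k K₁ h₁) :
    K₁ = K₂ := by
  -- 1 ∈ K₁ = g K₂
  have h1 : (1 : G) ∈ ((subgroupPC k K₁ h₁ : Set.powersetCard G k) : Finset G) :=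
    (mem_subgroupPC k K₁ h₁ 1).mpr K₁.one_mem
  rw [← h, Set.powersetCard.coe_smul, Finset.mem_smul_finset] at h1
  obtain ⟨b, hb, hb1⟩ := h1
  rw [mem_subgroupPC] at hb
  have hg : g ∈ K₂ := by
    have : g = b⁻¹ := by
      rw [smul_eq_mul] at hb1
      exact eq_inv_of_mul_eq_one_left hb1
    rw [this]; exact K₂.inv_mem hb
  have h3 := (smul_subgroupPC_eq_iff k K₂ h₂ g).mpr hg
  rw [h3] at h
  ext a
  rw [← mem_subgroupPC k K₁ h₁, ← mem_subgroupPC k K₂ h₂, h]

theorem exists_subgroupPC_of_card_stabilizer (k : ℕ) (hk : 0 < k) (x : Set.powersetCard G k)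
    (hx : Nat.card (stabilizer G x) = k) :
    ∃ (K : Subgroup G) (hK : Nat.card K = k) (g : G), g • x = subgroupPC k K hK := by
  set H := stabilizer G x with hH
  have hxcard : (x : Finset G).card = k := Set.powersetCard.card_eq x
  obtain ⟨g, hg⟩ : (x : Finset G).Nonempty := by
    rw [← Finset.card_pos, hxcard]; exact hk
  -- H g ⊆ x
  have hsub : (fun a : G => a * g) '' (H : Set G) ⊆ ((x : Finset G) : Set G) := by
    rintro _ ⟨h, hh, rfl⟩
    have h1 : h • x = x := mem_stabilizer_iff.mp hh
    have h2 : h • g ∈ ((h • x : Set.powersetCard G k) : Finset G) := by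
      rw [Set.powersetCard.coe_smul]
      exact Finset.smul_mem_smul_finset hg
    rw [h1] at h2
    exact h2
  have heq : (fun a : G => a * g) '' (H : Set G) = ((x : Finset G) : Set G) := by
    apply Set.eq_of_subset_of_ncard_le hsub _ (Set.toFinite _)
    rw [Set.ncard_image_of_injective _ (mul_left_injective g)]
    rw [Set.ncard_coe_finset, hxcard, ← Nat.card_coe_set_eq]
    exact hx.ge
  have hmem : ∀ a : G, a ∈ (x : Finset G) ↔ a * g⁻¹ ∈ H := by
    intro a
    rw [← Finset.mem_coe, ← heq]
    constructor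
    · rintro ⟨h, hh, rfl⟩
      simpa using hh
    · intro ha
      exact ⟨a * g⁻¹, ha, by simp⟩
  set K : Subgroup G := H.comap (MulAut.conj g).toMonoidHom with hK
  have hKmem : ∀ a : G, a ∈ K ↔ a ∈ ((g⁻¹ • x : Set.powersetCard G k) : Finset G) := by
    intro a
    rw [Set.powersetCard.coe_smul, Finset.mem_smul_finset]
    rw [hK, Subgroup.mem_comap]
    constructor
    · intro ha
      refine ⟨g * a, ?_, by simp⟩
      rw [hmem]
      simpa using ha
    · rintro ⟨b, hb, rfl⟩
      rw [hmem] at hb
      simpa using hb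
  have hKcard : Nat.card K = k := by
    rw [← SetLike.coe_sort_coe, Nat.card_coe_set_eq]
    have : (K : Set G) = (((g⁻¹ • x : Set.powersetCard G k) : Finset G) : Set G) := by
      ext a
      exact hKmem a
    rw [this, Set.ncard_coe_finset]
    exact Set.powersetCard.card_eq _
  refine ⟨K, hKcard, g⁻¹, ?_⟩
  apply Subtype.ext
  ext a
  rw [mem_subgroupPC, hKmem]

/-- number of orbits of `k`-subsets with stabilizer of order `k` = number of subgroups of
order `k` -/
theorem card_orbits_eq_card_subgroups (k : ℕ) (hk : 0 < k) :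
    Nat.card {ω : Quotient (orbitRel G (Set.powersetCard G k)) //
      Nat.card (stabilizer G ω.out) = k} = Nat.card {K : Subgroup G // Nat.card K = k} := by
  symm
  have key : ∀ y : Set.powersetCard G k,
      Nat.card (stabilizer G (Quotient.mk'' y : Quotient (orbitRel G (Set.powersetCard G k))).out)
        = Nat.card (stabilizer G y) := by
    intro y
    have h := Quotient.exact' (Quotient.out_eq'
      (Quotient.mk'' y : Quotient (orbitRel G (Set.powersetCard G k))))
    change (orbitRel G (Set.powersetCard G k)) _ y at h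
    rw [orbitRel_apply] at h
    obtain ⟨g, hg⟩ := h
    rw [← hg]
    exact card_stabilizer_smul g y
  refine Nat.card_eq_of_bijective
    (fun K => ⟨Quotient.mk'' (subgroupPC k K.1 K.2), ?_⟩) ⟨?_, ?_⟩
  · rw [key, stabilizer_subgroupPC]
    exact K.2
  · rintro ⟨K₁, h₁⟩ ⟨K₂, h₂⟩ h
    have h' := Quotient.exact' (congrArg Subtype.val h)
    change (orbitRel G (Set.powersetCard G k)) _ _ at h'
    rw [orbitRel_apply] at h'
    obtain ⟨g, hg⟩ := h'
    apply Subtype.ext
    exact subgroupPC_injective_mod k K₁ K₂ h₁ h₂ g hg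
  · rintro ⟨ω, hω⟩
    obtain ⟨K, hK, g, hg⟩ := exists_subgroupPC_of_card_stabilizer k hk ω.out hω
    refine ⟨⟨K, hK⟩, ?_⟩
    apply Subtype.ext
    change Quotient.mk'' (subgroupPC k K hK) = ω
    rw [← hg]
    have : (Quotient.mk'' (g • ω.out) : Quotient (orbitRel G (Set.powersetCard G k)))
        = Quotient.mk'' ω.out := by
      apply Quotient.sound'
      change (orbitRel G (Set.powersetCard G k)) _ _
      rw [orbitRel_apply]
      exact ⟨g, rfl⟩
    rw [this, Quotient.out_eq']

theorem wielandt_class_count (p β m' : ℕ) (hp : p.Prime) (hn : Nat.card G = p ^ β * m') :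
    ∃ Z : ℕ, (Nat.card G).choose (p ^ β) =
      m' * Nat.card {H : Subgroup G // Nat.card H = p ^ β} + p * m' * Z := by
  have : Fintype G := Fintype.ofFinite G
  set k := p ^ β with hk
  have hkpos : 0 < k := pow_pos hp.pos β
  have hm'pos : 0 < m' := by
    rcases Nat.eq_zero_or_pos m' with h | h
    · rw [h, mul_zero] at hn; exact absurd hn Nat.card_pos.ne'
    · exact h
  have : Fintype (Quotient (orbitRel G (Set.powersetCard G k))) := Fintype.ofFinite _
  have hclass := MulAction.card_eq_sum_card_group_div_card_stabilizer G (Set.powersetCard G k)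
  simp only [← Nat.card_eq_fintype_card] at hclass
  rw [Set.powersetCard.card] at hclass
  rw [hclass]
  rw [← Finset.sum_filter_add_sum_filter_not Finset.univ
    (fun ω : Quotient (orbitRel G (Set.powersetCard G k)) =>
      Nat.card (stabilizer G ω.out) = k)]
  have h1 : ∑ ω ∈ Finset.univ.filter (fun ω : Quotient (orbitRel G (Set.powersetCard G k)) =>
      Nat.card (stabilizer G ω.out) = k), Nat.card G / Nat.card (stabilizer G ω.out)
      = m' * Nat.card {H : Subgroup G // Nat.card H = k} := by
    rw [← card_orbits_eq_card_subgroups k hkpos]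
    rw [Finset.sum_congr rfl (g := fun _ => m')]
    · rw [Finset.sum_const, smul_eq_mul, mul_comm]
      congr 1
      rw [Nat.card_eq_fintype_card, Fintype.card_subtype]
    · intro ω hω
      rw [Finset.mem_filter] at hω
      rw [hω.2, hn]
      exact Nat.mul_div_cancel_left m' hkpos
  have h2 : p * m' ∣ ∑ ω ∈ Finset.univ.filter
      (fun ω : Quotient (orbitRel G (Set.powersetCard G k)) =>
      ¬ Nat.card (stabilizer G ω.out) = k), Nat.card G / Nat.card (stabilizer G ω.out) := by
    apply Finset.dvd_sum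
    intro ω hω
    rw [Finset.mem_filter] at hω
    have hd := card_stabilizer_powersetCard_dvd k ω.out
    obtain ⟨j, hj, hjs⟩ := (Nat.dvd_prime_pow hp).mp hd
    have hjlt : j < β := by
      apply lt_of_le_of_ne hj
      rintro rfl
      exact hω.2 hjs
    rw [hjs, hn]
    obtain ⟨d, rfl⟩ := Nat.exists_eq_add_of_lt hjlt
    have : p ^ (j + d + 1) * m' = p ^ j * (p * m' * p ^ d) := by ring
    rw [this, Nat.mul_div_cancel_left _ (pow_pos hp.pos j)]
    exact dvd_mul_right _ _
  obtain ⟨Z, hZ⟩ := h2
  exact ⟨Z, by rw [h1, hZ]⟩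

end

/-- **Frobenius**: the number of subgroups of order `p ^ β` of a finite group whose order is
divisible by `p ^ β` is congruent to `1` modulo `p`. -/
theorem card_subgroups_pow_modEq_one {G : Type*} [Group G] [Finite G] (p β : ℕ) (hp : p.Prime)
    (hdiv : p ^ β ∣ Nat.card G) :
    Nat.card {H : Subgroup G // Nat.card H = p ^ β} ≡ 1 [MOD p] := by
  classical
  obtain ⟨m', hn⟩ := hdiv
  have : Fact p.Prime := ⟨hp⟩
  have hkpos : 0 < p ^ β := pow_pos hp.pos β
  have hm'pos : 0 < m' := by
    rcases Nat.eq_zero_or_pos m' with h | h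
    · rw [h, mul_zero] at hn; exact absurd hn Nat.card_pos.ne'
    · exact h
  obtain ⟨Z, hZ⟩ := wielandt_class_count (G := G) p β m' hp hn
  rw [hn, choose_mul_eq (p ^ β) m' hkpos hm'pos] at hZ
  have h1 : Nat.choose (p ^ β * m' - 1) (p ^ β - 1)
      = Nat.card {H : Subgroup G // Nat.card H = p ^ β} + p * Z := by
    apply Nat.eq_of_mul_eq_mul_left hm'pos
    rw [hZ]; ring
  have h2 := choose_pred_pow_modEq_one p β m' hm'pos
  rw [h1] at h2
  have h3 : Nat.card {H : Subgroup G // Nat.card H = p ^ β} + p * Z
      ≡ Nat.card {H : Subgroup G // Nat.card H = p ^ β} [MOD p] := by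
    have : p * Z ≡ 0 [MOD p] := (Nat.modEq_zero_iff_dvd).mpr (dvd_mul_right p Z)
    simpa using Nat.ModEq.add_left (Nat.card {H : Subgroup G // Nat.card H = p ^ β}) this
  exact h3.symm.trans h2

end Cfsg.Agent.Helper20
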