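import Mathlib
import Cfsg.Agent.Lib.Helper1.ZasDefs
import Cfsg.Agent.Lib.Helper11.KleinAbs3
import Cfsg.Agent.Lib.Helper11.DicksonIV3

/-!
# Piece ZR3 of S0690 (helper20's copy): from Klein's axioms to the trichotomy
-/

set_option autoImplicit false
set_option linter.style.haveILetI false

namespace Cfsg.Agent.Helper20.ZasR3

open Cfsg.Agent.Helper11.Klein Cfsg.Agent.Helper4.DC Cfsg.Agent.Helper1.Zas

/-- a hom out of a closure maps into a subgroup as soon as the generators do -/
theorem map_mem_of_gens {H K' : Type*} [Group H] [Group K'] (S : Set H)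
    (φ : Subgroup.closure S →* K') (B : Subgroup K')
    (h : ∀ s (hs : s ∈ S), φ ⟨s, Subgroup.subset_closure hs⟩ ∈ B) :
    ∀ m : Subgroup.closure S, φ m ∈ B := by
  rintro ⟨m, hm⟩
  induction hm using Subgroup.closure_induction with
  | mem x hx => exact h x hx
  | one => exact (map_one φ) ▸ B.one_mem
  | mul x y hx hy ihx ihy =>
    have : (⟨x * y, Subgroup.mul_mem _ hx hy⟩ : Subgroup.closure S) = ⟨x, hx⟩ * ⟨y, hy⟩ := rfl
    rw [this, map_mul]
    exact B.mul_mem ihx ihy
  | inv x hx ihx =>
    have : (⟨x⁻¹, Subgroup.inv_mem _ hx⟩ : Subgroup.closure S) = (⟨x, hx⟩)⁻¹ := rfl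
    rw [this, map_inv]
    exact B.inv_mem ihx

/-- the rotation subgroup of a dihedral group -/
def rot (a : ℕ) : Subgroup (DihedralGroup a) where
  carrier := {x | ∃ i, x = DihedralGroup.r i}
  one_mem' := ⟨0, DihedralGroup.one_def⟩
  mul_mem' := by
    rintro _ _ ⟨i, rfl⟩ ⟨j, rfl⟩
    exact ⟨i + j, DihedralGroup.r_mul_r i j⟩
  inv_mem' := by
    rintro _ ⟨i, rfl⟩
    exact ⟨-i, DihedralGroup.inv_r i⟩

theorem mem_rot_of_cube {a : ℕ} (x : DihedralGroup a) (hx : x ^ 3 = 1) : x ∈ rot a := by
  cases x with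
  | r i => exact ⟨i, rfl⟩
  | sr i =>
    exfalso
    have h1 : (DihedralGroup.sr i) ^ 3 = DihedralGroup.sr i := by
      rw [pow_succ, pow_two, DihedralGroup.sr_mul_self, one_mul]
    rw [h1, DihedralGroup.one_def] at hx
    cases hx

theorem sr_not_mem_rot {a : ℕ} : DihedralGroup.sr (0 : ZMod a) ∉ rot a := by
  rintro ⟨i, hi⟩
  cases hi

theorem zp_two {H : Type*} [Group H] {z g : H} (hz2 : z * z = 1)
    (hg : g ∈ Subgroup.zpowers z) : g = 1 ∨ g = z := by
  obtain ⟨k, rfl⟩ := Subgroup.mem_zpowers_iff.mp hg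
  rcases Int.even_or_odd' k with ⟨j, hj | hj⟩
  · left
    rw [hj, zpow_mul, zpow_two, hz2, one_zpow]
  · right
    rw [hj, zpow_add, zpow_mul, zpow_two, hz2, one_zpow, one_mul, zpow_one]

section la
variable {H : Type*} [Group H] [Finite H]

theorem tri_of_ka {z : H} (hz2 : z * z = 1) (hz1 : z ≠ 1) (hzu : ∀ g : H, g * g = 1 → g = 1 ∨ g = z)
    (hcp : ∀ p : ℕ, p.Prime → ∀ x y : H, orderOf x = p → orderOf y = p → x * y = y * x →
      y ∈ Subgroup.zpowers x)
    (S : Set H) (hS : ∀ s ∈ S, s ^ 3 = 1)
    (hka : KA ((Subgroup.zpowers z).subgroupOf (Subgroup.closure S))) :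
    Tri z (Subgroup.closure S) := by
  classical
  -- z is central
  have hzc : ∀ g : H, g * z * g⁻¹ = z := by
    intro g
    have h1 : (g * z * g⁻¹) * (g * z * g⁻¹) = 1 := by
      calc (g * z * g⁻¹) * (g * z * g⁻¹) = g * (z * z) * g⁻¹ := by group
        _ = 1 := by rw [hz2]; group
    rcases hzu _ h1 with h | h
    · exfalso
      apply hz1
      have : z = g⁻¹ * (g * z * g⁻¹) * g := by group
      rw [this, h]; group
    · exact h
  haveI hZn : (Subgroup.zpowers z).Normal := by
    constructor
    intro n hn g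
    obtain ⟨k, rfl⟩ := Subgroup.mem_zpowers_iff.mp hn
    have : g * z ^ k * g⁻¹ = (g * z * g⁻¹) ^ k := by
      have h1 := map_zpow (MulAut.conj g) z k
      simpa [MulAut.conj_apply] using h1
    rw [this, hzc g]
    exact Subgroup.zpow_mem _ (Subgroup.mem_zpowers z) k
  set Z : Subgroup (Subgroup.closure S) :=
    (Subgroup.zpowers z).subgroupOf (Subgroup.closure S) with hZ
  haveI : Z.Normal := Subgroup.Normal.subgroupOf hZn _
  have hmemZ : ∀ m : Subgroup.closure S, m ∈ Z ↔ ((m : H) = 1 ∨ (m : H) = z) := by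
    intro m
    rw [hZ, Subgroup.mem_subgroupOf]
    constructor
    · exact zp_two hz2
    · rintro (h | h)
      · rw [h]; exact Subgroup.one_mem _
      · rw [h]; exact Subgroup.mem_zpowers z
  have hZcen : Z ≤ Subgroup.center (Subgroup.closure S) := by
    intro m hm
    rw [Subgroup.mem_center_iff]
    intro g
    apply Subtype.ext
    rcases (hmemZ m).mp hm with h | h
    · simp [h]
    · simp only [Subgroup.coe_mul, h]
      have := hzc (g : H)
      calc (g : H) * z = ((g : H) * z * (g : H)⁻¹) * g := by group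
        _ = z * g := by rw [this]
  -- z ∈ M as soon as the quotient has even order
  have hzM : 2 ∣ Nat.card ((Subgroup.closure S) ⧸ Z) → z ∈ Subgroup.closure S := by
    intro h2
    haveI : Fact (Nat.Prime 2) := ⟨Nat.prime_two⟩
    have h3 : 2 ∣ Nat.card (Subgroup.closure S) := by
      rw [← Subgroup.index_eq_card] at h2
      exact dvd_trans h2 (Subgroup.index_dvd_card Z)
    obtain ⟨t, ht⟩ := exists_prime_orderOf_dvd_card' 2 h3
    have ht2 : (t : H) * (t : H) = 1 := by
      have : t ^ 2 = 1 := by rw [← ht]; exact pow_orderOf_eq_one t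
      have h4 := congrArg Subtype.val this
      simpa [pow_two] using h4
    have ht1 : (t : H) ≠ 1 := by
      intro h
      have : t = 1 := Subtype.ext h
      rw [this, orderOf_one] at ht
      norm_num at ht
    rcases hzu _ ht2 with h | h
    · exact absurd h ht1
    · rw [← h]; exact t.2
  rcases hka.main with ⟨hcyc, _⟩ | ⟨g, a, _, _, ⟨e⟩⟩ | ⟨⟨e⟩⟩ | ⟨⟨e⟩⟩ | ⟨⟨e⟩⟩
  · -- cyclic quotient: abelian, hence of order 1 or 3
    left
    haveI := hcyc
    have hcomm : ∀ x y : Subgroup.closure S, x * y = y * x :=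
      commutative_of_cyclic_center_quotient (QuotientGroup.mk' Z)
        (by rw [QuotientGroup.ker_mk']; exact hZcen)
    by_cases hS1 : ∀ s ∈ S, s = 1
    · have : Subgroup.closure S = ⊥ := by
        rw [Subgroup.closure_eq_bot_iff]
        intro s hs
        exact hS1 s hs
      rw [this, Subgroup.card_bot]
      exact one_dvd 3
    · push Not at hS1
      obtain ⟨s₀, hs₀, hs₀1⟩ := hS1
      have ho : orderOf s₀ = 3 := orderOf_eq_prime (hS s₀ hs₀) hs₀1
      have hsub : Subgroup.closure S = Subgroup.zpowers s₀ := by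
        apply le_antisymm
        · rw [Subgroup.closure_le]
          intro s hs
          by_cases hs1 : s = 1
          · rw [hs1]; exact Subgroup.one_mem _
          · have ho' : orderOf s = 3 := orderOf_eq_prime (hS s hs) hs1
            have hc := hcomm ⟨s₀, Subgroup.subset_closure hs₀⟩ ⟨s, Subgroup.subset_closure hs⟩
            have hc' : s₀ * s = s * s₀ := congrArg Subtype.val hc
            exact hcp 3 Nat.prime_three s₀ s ho ho' hc'
        · rw [Subgroup.zpowers_le]
          exact Subgroup.subset_closure hs₀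
      rw [hsub, Nat.card_zpowers, ho]
  · -- dihedral quotient: impossible
    exfalso
    let φ : Subgroup.closure S →* DihedralGroup a := e.toMonoidHom.comp (QuotientGroup.mk' Z)
    have hφs : Function.Surjective φ := e.surjective.comp (QuotientGroup.mk'_surjective Z)
    have hall := map_mem_of_gens S φ (rot a) (fun s hs => by
      apply mem_rot_of_cube
      rw [← map_pow]
      have : (⟨s, Subgroup.subset_closure hs⟩ : Subgroup.closure S) ^ 3 = 1 :=
        Subtype.ext (by simpa using hS s hs)
      rw [this, map_one])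
    obtain ⟨m, hm⟩ := hφs (DihedralGroup.sr 0)
    have := hall m
    rw [hm] at this
    exact sr_not_mem_rot this
  · -- A4
    right; left
    have h2 : 2 ∣ Nat.card ((Subgroup.closure S) ⧸ Z) := by
      rw [Nat.card_congr e.toEquiv, Cfsg.Agent.Helper11.Dickson.card_alt_four]
      norm_num
    refine ⟨hzM h2, e.toMonoidHom.comp (QuotientGroup.mk' Z),
      e.surjective.comp (QuotientGroup.mk'_surjective Z), ?_⟩
    intro m
    rw [← hmemZ m]
    simp only [MonoidHom.comp_apply, MulEquiv.coe_toMonoidHom, QuotientGroup.mk'_apply]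
    rw [← QuotientGroup.eq_one_iff]
    exact ⟨fun h => e.injective (by rw [h, map_one]), fun h => by rw [h, map_one]⟩
  · -- S4: impossible
    exfalso
    let φ : Subgroup.closure S →* Equiv.Perm (Fin 4) :=
      e.toMonoidHom.comp (QuotientGroup.mk' Z)
    have hφs : Function.Surjective φ := e.surjective.comp (QuotientGroup.mk'_surjective Z)
    let ψ : Subgroup.closure S →* ℤˣ := Equiv.Perm.sign.comp φ
    have hall := map_mem_of_gens S ψ ⊥ (fun s hs => by
      rw [Subgroup.mem_bot]
      have h3 : (ψ ⟨s, Subgroup.subset_closure hs⟩) ^ 3 = 1 := by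
        rw [← map_pow]
        have : (⟨s, Subgroup.subset_closure hs⟩ : Subgroup.closure S) ^ 3 = 1 :=
          Subtype.ext (by simpa using hS s hs)
        rw [this, map_one]
      have h2 : (ψ ⟨s, Subgroup.subset_closure hs⟩) ^ 2 = 1 := by
        rw [pow_two]; exact Int.units_mul_self _
      calc ψ ⟨s, Subgroup.subset_closure hs⟩
          = (ψ ⟨s, Subgroup.subset_closure hs⟩) ^ 3 * ((ψ ⟨s, Subgroup.subset_closure hs⟩) ^ 2)⁻¹ := by
            group
        _ = 1 := by rw [h3, h2]; simp)
    obtain ⟨m, hm⟩ := hφs (Equiv.swap 0 1)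
    have h1 := hall m
    rw [Subgroup.mem_bot] at h1
    have h2 : Equiv.Perm.sign (Equiv.swap (0 : Fin 4) 1) = 1 := by
      rw [← hm]; exact h1
    rw [Equiv.Perm.sign_swap (by decide)] at h2
    exact absurd h2 (by decide)
  · -- A5
    right; right
    have h2 : 2 ∣ Nat.card ((Subgroup.closure S) ⧸ Z) := by
      rw [Nat.card_congr e.toEquiv, Cfsg.Agent.Helper11.Dickson.card_alt_five]
      norm_num
    refine ⟨hzM h2, e.toMonoidHom.comp (QuotientGroup.mk' Z),
      e.surjective.comp (QuotientGroup.mk'_surjective Z), ?_⟩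
    intro m
    rw [← hmemZ m]
    simp only [MonoidHom.comp_apply, MulEquiv.coe_toMonoidHom, QuotientGroup.mk'_apply]
    rw [← QuotientGroup.eq_one_iff]
    exact ⟨fun h => e.injective (by rw [h, map_one]), fun h => by rw [h, map_one]⟩

end la

end Cfsg.Agent.Helper20.ZasR3
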