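import Mathlib
import Cfsg.Agent.Lib.Helper20.ZsigB

set_option autoImplicit false

/-!
# Structure of the prime divisors of `Φ_n(q)` and the size criterion (helper20)
-/

namespace Cfsg.Agent.Helper20.Zsig

open Finset

theorem odd_sq_mod_four {y : ℕ} (hy : Odd y) : y ^ 2 % 4 = 1 := by
  obtain ⟨t, rfl⟩ := hy
  have : (2 * t + 1) ^ 2 = 4 * (t * t + t) + 1 := by ring
  rw [this]
  omega

/-- A prime divisor of `Φ_n(q)` (`n ≥ 3`) is primitive, or it is the largest prime divisor of `n`
and divides `Φ_n(q)` exactly once. -/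
theorem prime_dvd_phiN {p q n : ℕ} (hq : 2 ≤ q) (hn : 3 ≤ n) (hp : p.Prime)
    (hpN : p ∣ phiN q n) :
    IsPrim p q n ∨ (p ∣ n ∧ ¬ p ^ 2 ∣ phiN q n ∧ ∀ r : ℕ, r.Prime → r ∣ n → r ≤ p) := by
  have hq1 : 1 ≤ q := by omega
  have hn0 : 0 < n := by omega
  have hpn : p ∣ q ^ n - 1 := dvd_trans hpN (phiN_dvd hq1 n)
  obtain ⟨h1, h2, h3, h4⟩ := ord_facts hp hq1 hn0 hpn
  set d := orderOf (q : ZMod p) with hd_def
  by_cases hd : d = n
  · left
    intro i hi1 hi2 hdv
    have := (dvd_iff_ord_dvd (p := p) hq1 i).mp hdv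
    rw [← hd_def, hd] at this
    have := Nat.le_of_dvd (by omega) this
    omega
  · right
    obtain ⟨k, hk⟩ := h1
    have hk0 : 0 < k := by
      rcases Nat.eq_zero_or_pos k with h | h
      · rw [h] at hk; omega
      · exact h
    have hk2 : 2 ≤ k := by
      rcases Nat.lt_or_ge k 2 with h | h
      · have : k = 1 := by omega
        rw [this, mul_one] at hk
        exact absurd hk.symm hd
      · exact h
    -- key claim
    have key : ∀ r : ℕ, r.Prime → r ∣ k → r = p := by
      intro r hr hrk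
      obtain ⟨k', hk'⟩ := hrk
      have hk'0 : 0 < k' := by
        rcases Nat.eq_zero_or_pos k' with h | h
        · rw [h] at hk'; omega
        · exact h
      have her : (d * k') * r = n := by rw [hk, hk']; ring
      have he0 : 0 < d * k' := Nat.mul_pos h2 hk'0
      have hdiv := phiN_dvd_geom hq her he0 hr.two_le
      have hpe : p ∣ q ^ (d * k') - 1 := (dvd_iff_ord_dvd hq1 _).mpr (Dvd.intro _ rfl)
      have hpS : p ∣ ∑ i ∈ range r, (q ^ (d * k')) ^ i := dvd_trans hpN hdiv
      have hpr : p ∣ r := (dvd_geom_iff (Nat.one_le_pow _ _ hq1) hpe).mp hpS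
      exact ((Nat.prime_dvd_prime_iff_eq hp hr).mp hpr).symm
    obtain ⟨r0, hr0, hr0k⟩ := Nat.exists_prime_and_dvd (show k ≠ 1 by omega)
    have hpk : p ∣ k := by
      have := key r0 hr0 hr0k
      rwa [this] at hr0k
    refine ⟨hk ▸ Dvd.dvd.mul_left hpk d, ?_, ?_⟩
    · -- p^2 ∤ N
      obtain ⟨k', hk'⟩ := hpk
      have hk'0 : 0 < k' := by
        rcases Nat.eq_zero_or_pos k' with h | h
        · rw [h] at hk'; omega
        · exact h
      have her : (d * k') * p = n := by rw [hk, hk']; ring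
      have he0 : 0 < d * k' := Nat.mul_pos h2 hk'0
      have hdiv := phiN_dvd_geom hq her he0 hp.two_le
      have hpe : p ∣ q ^ (d * k') - 1 := (dvd_iff_ord_dvd hq1 _).mpr (Dvd.intro _ rfl)
      intro hsq
      have hsqS : p ^ 2 ∣ ∑ i ∈ range p, (q ^ (d * k')) ^ i := dvd_trans hsq hdiv
      rcases hp.eq_two_or_odd' with h2p | hodd
      · -- p = 2
        subst h2p
        have hd1 : d = 1 := by
          have : d ∣ 1 := by simpa using h4
          exact Nat.dvd_one.mp this
        rw [hd1, one_mul] at her hsqS hpe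
        rw [hd1, one_mul] at hk
        -- k' ≥ 2 and even
        have hk'2 : 2 ≤ k' := by omega
        obtain ⟨r1, hr1, hr1k⟩ := Nat.exists_prime_and_dvd (show k' ≠ 1 by omega)
        have hr12 : r1 = 2 := key r1 hr1 (hk' ▸ Dvd.dvd.mul_left hr1k 2)
        rw [hr12] at hr1k
        obtain ⟨e', he'⟩ := hr1k
        have hqodd : Odd q := by
          have h3' : 2 ∣ q ^ 1 - 1 := by rw [hd1] at h3; exact h3
          rw [pow_one] at h3'
          rcases Nat.even_or_odd q with he | ho
          · exfalso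
            obtain ⟨t, ht⟩ := he
            omega
          · exact ho
        have hyodd : Odd (q ^ e') := hqodd.pow
        have hsq4 := odd_sq_mod_four hyodd
        have hS : ∑ i ∈ range 2, (q ^ k') ^ i = 1 + (q ^ e') ^ 2 := by
          rw [Finset.sum_range_succ, Finset.sum_range_one, pow_zero, pow_one, he', mul_comm 2 e',
            pow_mul]
        rw [hS] at hsqS
        have : (2 : ℕ) ^ 2 = 4 := by norm_num
        rw [this] at hsqS
        omega
      · exact not_sq_dvd_geom hp hodd (Nat.one_le_pow _ _ hq1) hpe hsqS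
    · intro r hr hrn
      rw [hk] at hrn
      rcases (Nat.Prime.dvd_mul hr).mp hrn with hrd | hrk
      · have hp1 : 0 < p - 1 := by have := hp.two_le; omega
        have := Nat.le_of_dvd h2 hrd
        have := Nat.le_of_dvd hp1 h4
        omega
      · exact (key r hr hrk).le

/-- a number all of whose prime factors are `≡ 1 mod n` is `≡ 1 mod n` -/
theorem modEq_one_of_primes (n : ℕ) : ∀ m : ℕ, 1 ≤ m →
    (∀ r : ℕ, r.Prime → r ∣ m → r ≡ 1 [MOD n]) → m ≡ 1 [MOD n] := by
  intro m
  induction m using Nat.strong_induction_on with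
  | _ m ih =>
    intro hm hall
    rcases Nat.lt_or_ge m 2 with h | h
    · have : m = 1 := by omega
      rw [this]
    · have hpr : (m.minFac).Prime := Nat.minFac_prime (by omega)
      have hdv : m.minFac ∣ m := Nat.minFac_dvd m
      obtain ⟨c, hc⟩ := hdv
      have hc0 : 0 < c := by
        rcases Nat.eq_zero_or_pos c with h0 | h0
        · rw [h0] at hc; omega
        · exact h0
      have hclt : c < m := by
        have := hpr.two_le
        nlinarith
      have h1 := ih c hclt hc0 (fun r hr hrc => hall r hr (hc ▸ Dvd.dvd.mul_left hrc _))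
      have h2 := hall _ hpr (Nat.minFac_dvd m)
      have := h2.mul h1
      rw [← hc] at this
      simpa using this

theorem ge_of_modEq_one {n m : ℕ} (hn : 1 ≤ n) (hm : m ≡ 1 [MOD n]) (hgt : 2 * n + 1 < m) :
    3 * n + 1 ≤ m := by
  have h1 : 1 ≤ m := by omega
  have := (Nat.modEq_iff_dvd' h1).mp hm.symm
  obtain ⟨c, hc⟩ := this
  have hc3 : 3 ≤ c := by
    by_contra hlt
    have : c ≤ 2 := by omega
    have : n * c ≤ n * 2 := Nat.mul_le_mul_left n this
    omega
  have : n * 3 ≤ n * c := Nat.mul_le_mul_left n hc3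
  omega

/-- The conclusion of Hering's bound: a primitive divisor of size at least `3n+1`. -/
def Good (q n : ℕ) : Prop :=
  ∃ m : ℕ, m ∣ q ^ n - 1 ∧ (∀ i : ℕ, 1 ≤ i → i < n → Nat.Coprime m (q ^ i - 1)) ∧ 3 * n + 1 ≤ m

theorem coprime_of_all_prim {q n m : ℕ}
    (hall : ∀ r : ℕ, r.Prime → r ∣ m → IsPrim r q n) :
    ∀ i : ℕ, 1 ≤ i → i < n → Nat.Coprime m (q ^ i - 1) := by
  intro i hi1 hi2
  apply Nat.coprime_of_dvd
  intro r hr hrm
  exact hall r hr hrm i hi1 hi2

/-- Size criterion: if `Φ_n(q) > r (2n+1)` for every prime divisor `r` of `n` then there is a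
primitive divisor of size at least `3n+1`. -/
theorem good_of_large {q n : ℕ} (hq : 2 ≤ q) (hn : 3 ≤ n)
    (hN : ∀ r : ℕ, r.Prime → r ∣ n → r * (2 * n + 1) < phiN q n) : Good q n := by
  have hq1 : 1 ≤ q := by omega
  have hn0 : 0 < n := by omega
  have hNdvd : phiN q n ∣ q ^ n - 1 := phiN_dvd hq1 n
  have hNpos : 0 < phiN q n := phiN_pos hq
  by_cases hall : ∀ p : ℕ, p.Prime → p ∣ phiN q n → IsPrim p q n
  · refine ⟨phiN q n, hNdvd, coprime_of_all_prim hall, ?_⟩
    have hmod : phiN q n ≡ 1 [MOD n] := by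
      apply modEq_one_of_primes n _ hNpos
      intro r hr hrN
      exact (hall r hr hrN).modEq_one hr hq1 hn0 (dvd_trans hrN hNdvd)
    obtain ⟨r, hr, hrn⟩ := Nat.exists_prime_and_dvd (show n ≠ 1 by omega)
    have h1 := hN r hr hrn
    have h2 : 1 * (2 * n + 1) ≤ r * (2 * n + 1) := Nat.mul_le_mul_right _ hr.one_lt.le
    exact ge_of_modEq_one (by omega) hmod (by omega)
  · push Not at hall
    obtain ⟨p, hp, hpN, hnot⟩ := hall
    rcases prime_dvd_phiN hq hn hp hpN with h | ⟨hpn, hsq, hmax⟩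
    · exact absurd h hnot
    · obtain ⟨m, hm⟩ := hpN
      have hm0 : 0 < m := by
        rcases Nat.eq_zero_or_pos m with h0 | h0
        · rw [h0] at hm; omega
        · exact h0
      have hallm : ∀ r : ℕ, r.Prime → r ∣ m → IsPrim r q n := by
        intro r hr hrm
        have hrN : r ∣ phiN q n := hm ▸ Dvd.dvd.mul_left hrm p
        rcases prime_dvd_phiN hq hn hr hrN with h | ⟨hrn, _, hmax'⟩
        · exact h
        · exfalso
          have h1 := hmax r hr hrn
          have h2 := hmax' p hp hpn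
          have hrp : r = p := le_antisymm h1 h2
          apply hsq
          rw [hm, pow_two]
          exact Nat.mul_dvd_mul_left p (hrp ▸ hrm)
      have hmdvd : m ∣ q ^ n - 1 := dvd_trans (Dvd.intro_left p hm.symm) hNdvd
      refine ⟨m, hmdvd, coprime_of_all_prim hallm, ?_⟩
      have hmod : m ≡ 1 [MOD n] := by
        apply modEq_one_of_primes n _ hm0
        intro r hr hrm
        exact (hallm r hr hrm).modEq_one hr hq1 hn0 (dvd_trans hrm hmdvd)
      have h1 := hN p hp hpn
      rw [hm] at h1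
      have h2 : 2 * n + 1 < m := Nat.lt_of_mul_lt_mul_left h1
      exact ge_of_modEq_one (by omega) hmod h2

theorem good_of_gt {q n : ℕ} (hq : 2 ≤ q) (hn : 3 ≤ n)
    (hN : n * (2 * n + 1) < phiN q n) : Good q n := by
  apply good_of_large hq hn
  intro r _ hrn
  have : r ≤ n := Nat.le_of_dvd (by omega) hrn
  have : r * (2 * n + 1) ≤ n * (2 * n + 1) := Nat.mul_le_mul_right _ this
  omega

/-- From a primitive divisor of size `≥ 3n+1` one gets a large Zsigmondy prime. -/
theorem exists_large_of_good {q n : ℕ} (hq : 2 ≤ q) (hn : 3 ≤ n) (h : Good q n) :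
    ∃ p : ℕ, p.Prime ∧ p ∣ q ^ n - 1 ∧ (∀ i : ℕ, 1 ≤ i → i < n → ¬ p ∣ q ^ i - 1) ∧
      (n + 1 < p ∨ p ^ 2 ∣ q ^ n - 1) := by
  have hq1 : 1 ≤ q := by omega
  have hn0 : 0 < n := by omega
  obtain ⟨m, hm1, hm2, hm3⟩ := h
  have hprim : ∀ p : ℕ, p.Prime → p ∣ m → IsPrim p q n := by
    intro p hp hpm i hi1 hi2 hdv
    have hco := hm2 i hi1 hi2
    have := Nat.dvd_gcd hpm hdv
    rw [hco] at this
    exact hp.one_lt.ne' (Nat.dvd_one.mp this)
  have hge : ∀ p : ℕ, p.Prime → p ∣ m → n + 1 ≤ p := by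
    intro p hp hpm
    have h1 := (hprim p hp hpm).dvd_sub_one hp hq1 hn0 (dvd_trans hpm hm1)
    have hp1 : 0 < p - 1 := by have := hp.two_le; omega
    have := Nat.le_of_dvd hp1 h1
    omega
  by_cases hex : ∃ p : ℕ, p.Prime ∧ p ∣ m ∧ n + 1 < p
  · obtain ⟨p, hp, hpm, hlt⟩ := hex
    exact ⟨p, hp, dvd_trans hpm hm1, hprim p hp hpm, Or.inl hlt⟩
  · push Not at hex
    have hall : ∀ {d : ℕ}, d.Prime → d ∣ m → d = n + 1 := by
      intro d hd hdm
      have h1 := hge d hd hdm
      have h2 := hex d hd hdm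
      omega
    have hm0 : m ≠ 0 := by omega
    obtain ⟨p, hp, hpm⟩ := Nat.exists_prime_and_dvd (show m ≠ 1 by omega)
    have hpn : p = n + 1 := hall hp hpm
    have hpow := Nat.eq_prime_pow_of_unique_prime_dvd hm0 hall
    set k := m.primeFactorsList.length
    rcases Nat.lt_or_ge k 2 with hk | hk
    · exfalso
      have : m ≤ n + 1 := by
        rw [hpow]
        calc (n + 1) ^ k ≤ (n + 1) ^ 1 := Nat.pow_le_pow_right (by omega) (by omega)
          _ = n + 1 := pow_one _
      omega
    · refine ⟨p, hp, dvd_trans hpm hm1, hprim p hp hpm, Or.inr ?_⟩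
      refine dvd_trans ?_ hm1
      rw [hpow, hpn]
      exact pow_dvd_pow _ hk

end Cfsg.Agent.Helper20.Zsig
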