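import Mathlib

set_option autoImplicit false

/-!
# A lower bound for Euler's totient: `2 n^2 ≤ 9 φ(n)^3` (helper20)
-/

namespace Cfsg.Agent.Helper20.Zsig

open Nat

theorem tot_coprime_six : ∀ m : ℕ, Nat.Coprime m 6 → m ^ 2 ≤ (Nat.totient m) ^ 3 := by
  intro m
  induction m using Nat.recOnPosPrimePosCoprime with
  | prime_pow p k hp hk =>
    intro hco
    have hp2 : p ≠ 2 := by
      rintro rfl
      have : (2 : ℕ) ∣ Nat.gcd (2 ^ k) 6 :=
        Nat.dvd_gcd (dvd_pow_self 2 hk.ne') (by norm_num)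
      rw [hco] at this
      omega
    have hp3 : p ≠ 3 := by
      rintro rfl
      have : (3 : ℕ) ∣ Nat.gcd (3 ^ k) 6 :=
        Nat.dvd_gcd (dvd_pow_self 3 hk.ne') (by norm_num)
      rw [hco] at this
      omega
    have hp5 : 5 ≤ p := by
      have h2 := hp.two_le
      rcases Nat.lt_or_ge p 5 with h | h
      · exfalso
        have : p = 4 := by omega
        rw [this] at hp
        exact absurd hp (by decide)
      · exact h
    rw [Nat.totient_prime_pow hp hk]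
    obtain ⟨j, rfl⟩ : ∃ j, k = j + 1 := ⟨k - 1, by omega⟩
    simp only [Nat.add_sub_cancel]
    obtain ⟨t, rfl⟩ : ∃ t, p = t + 5 := ⟨p - 5, by omega⟩
    have h1 : (t + 5) ^ 2 ≤ (t + 5 - 1) ^ 3 := by
      have : t + 5 - 1 = t + 4 := by omega
      rw [this]
      nlinarith [sq_nonneg t]
    have h2 : ((t + 5) ^ j) ^ 2 ≤ ((t + 5) ^ j) ^ 3 :=
      Nat.pow_le_pow_right (Nat.pow_pos (by omega)) (by norm_num)
    calc ((t + 5) ^ (j + 1)) ^ 2 = (t + 5) ^ 2 * ((t + 5) ^ j) ^ 2 := by ring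
      _ ≤ (t + 5 - 1) ^ 3 * ((t + 5) ^ j) ^ 3 := Nat.mul_le_mul h1 h2
      _ = ((t + 5) ^ j * (t + 5 - 1)) ^ 3 := by ring
  | zero => intro h; simp at h
  | one => intro _; simp
  | coprime a b _ _ hab iha ihb =>
    intro hco
    have ha : Nat.Coprime a 6 := Nat.Coprime.coprime_dvd_left (Dvd.intro _ rfl) hco
    have hb : Nat.Coprime b 6 := Nat.Coprime.coprime_dvd_left (Dvd.intro_left _ rfl) hco
    rw [Nat.totient_mul hab]
    calc (a * b) ^ 2 = a ^ 2 * b ^ 2 := by ring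
      _ ≤ (Nat.totient a) ^ 3 * (Nat.totient b) ^ 3 := Nat.mul_le_mul (iha ha) (ihb hb)
      _ = (Nat.totient a * Nat.totient b) ^ 3 := by ring

theorem tot_two_pow (a : ℕ) : (2 ^ a) ^ 2 ≤ 4 * (Nat.totient (2 ^ a)) ^ 3 := by
  rcases a with _ | k
  · simp
  · rw [Nat.totient_prime_pow_succ Nat.prime_two]
    have h : (2 ^ k) ^ 2 ≤ (2 ^ k) ^ 3 :=
      Nat.pow_le_pow_right (Nat.pow_pos (by norm_num)) (by norm_num)
    calc (2 ^ (k + 1)) ^ 2 = 4 * (2 ^ k) ^ 2 := by ring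
      _ ≤ 4 * (2 ^ k) ^ 3 := Nat.mul_le_mul_left 4 h
      _ = 4 * (2 ^ k * (2 - 1)) ^ 3 := by norm_num

theorem tot_three_pow (b : ℕ) : 8 * (3 ^ b) ^ 2 ≤ 9 * (Nat.totient (3 ^ b)) ^ 3 := by
  rcases b with _ | k
  · simp
  · rw [Nat.totient_prime_pow_succ Nat.prime_three]
    have h : (3 ^ k) ^ 2 ≤ (3 ^ k) ^ 3 :=
      Nat.pow_le_pow_right (Nat.pow_pos (by norm_num)) (by norm_num)
    calc 8 * (3 ^ (k + 1)) ^ 2 = 72 * (3 ^ k) ^ 2 := by ring
      _ ≤ 72 * (3 ^ k) ^ 3 := Nat.mul_le_mul_left 72 h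
      _ = 9 * (3 ^ k * (3 - 1)) ^ 3 := by norm_num; ring

theorem two_sq_le_totient_cube (n : ℕ) (hn : 0 < n) : 2 * n ^ 2 ≤ 9 * (Nat.totient n) ^ 3 := by
  obtain ⟨a, n1, h2n1, hn1⟩ := Nat.exists_eq_pow_mul_and_not_dvd hn.ne' 2 (by norm_num)
  have hn10 : n1 ≠ 0 := by
    rintro rfl
    simp at h2n1
  obtain ⟨b, m, h3m, hm⟩ := Nat.exists_eq_pow_mul_and_not_dvd hn10 3 (by norm_num)
  have h2m : ¬ 2 ∣ m := fun h => h2n1 (hm ▸ Dvd.dvd.mul_left h _)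
  have hm2 : Nat.Coprime m 2 :=
    ((Nat.Prime.coprime_iff_not_dvd Nat.prime_two).mpr h2m).symm
  have hm3 : Nat.Coprime m 3 :=
    ((Nat.Prime.coprime_iff_not_dvd Nat.prime_three).mpr h3m).symm
  have hm6 : Nat.Coprime m 6 := by
    have : (6 : ℕ) = 2 * 3 := by norm_num
    rw [this]
    exact Nat.Coprime.mul_right hm2 hm3
  have hco1 : Nat.Coprime (3 ^ b) m := (Nat.Coprime.pow_right b hm3).symm
  have hco2 : Nat.Coprime (2 ^ a) (3 ^ b * m) := by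
    apply Nat.Coprime.mul_right
    · exact Nat.Coprime.pow a b (by norm_num)
    · exact (Nat.Coprime.pow_right a hm2).symm
  have hphi : Nat.totient n = Nat.totient (2 ^ a) * (Nat.totient (3 ^ b) * Nat.totient m) := by
    rw [hn1, hm, Nat.totient_mul hco2, Nat.totient_mul hco1]
  have e1 := tot_two_pow a
  have e2 := tot_three_pow b
  have e3 := tot_coprime_six m hm6
  rw [hphi, hn1, hm]
  set A := Nat.totient (2 ^ a)
  set B := Nat.totient (3 ^ b)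
  set C := Nat.totient m
  have step : (2 ^ a) ^ 2 * (8 * (3 ^ b) ^ 2) * m ^ 2 ≤ (4 * A ^ 3) * (9 * B ^ 3) * C ^ 3 :=
    Nat.mul_le_mul (Nat.mul_le_mul e1 e2) e3
  have l1 : 4 * (2 * (2 ^ a * (3 ^ b * m)) ^ 2) = (2 ^ a) ^ 2 * (8 * (3 ^ b) ^ 2) * m ^ 2 := by ring
  have l2 : 4 * (9 * (A * (B * C)) ^ 3) = (4 * A ^ 3) * (9 * B ^ 3) * C ^ 3 := by ring
  omega

/-- `n ≤ φ(n)^2` once `φ(n) ≥ 5`. -/
theorem le_totient_sq {n : ℕ} (hn : 0 < n) (hF : 5 ≤ Nat.totient n) : n ≤ (Nat.totient n) ^ 2 := by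
  have h := two_sq_le_totient_cube n hn
  set F := Nat.totient n
  by_contra hlt
  push Not at hlt
  have h1 : (F ^ 2) ^ 2 < n ^ 2 := Nat.pow_lt_pow_left hlt (by norm_num)
  have h2 : 5 * F ^ 3 ≤ F ^ 4 := by
    calc 5 * F ^ 3 ≤ F * F ^ 3 := Nat.mul_le_mul_right _ hF
      _ = F ^ 4 := by ring
  have h3 : (F ^ 2) ^ 2 = F ^ 4 := by ring
  omega

theorem main_bound {n : ℕ} (hn : 0 < n) (hF : 5 ≤ Nat.totient n) :
    n * (2 * n + 1) ≤ 9 * (Nat.totient n) ^ 3 + (Nat.totient n) ^ 2 := by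
  have h1 := two_sq_le_totient_cube n hn
  have h2 := le_totient_sq hn hF
  have : n * (2 * n + 1) = 2 * n ^ 2 + n := by ring
  omega

theorem pow_bound_two : ∀ F : ℕ, 16 ≤ F → 9 * F ^ 3 + F ^ 2 ≤ 2 ^ F := by
  intro F hF
  induction F, hF using Nat.le_induction with
  | base => norm_num
  | succ F hF ih =>
    rw [pow_succ 2 F]
    have : 9 * (F + 1) ^ 3 + (F + 1) ^ 2 ≤ 2 * (9 * F ^ 3 + F ^ 2) := by
      nlinarith [sq_nonneg F, Nat.mul_le_mul hF hF, Nat.mul_le_mul (Nat.mul_le_mul hF hF) hF]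
    omega

theorem pow_bound_three : ∀ F : ℕ, 32 ≤ F → 2 ^ F * (9 * F ^ 3 + F ^ 2) ≤ 3 ^ F := by
  intro F hF
  induction F, hF using Nat.le_induction with
  | base => norm_num
  | succ F hF ih =>
    rw [pow_succ 2 F, pow_succ 3 F]
    have h1 : 2 * (9 * (F + 1) ^ 3 + (F + 1) ^ 2) ≤ 3 * (9 * F ^ 3 + F ^ 2) := by
      nlinarith [sq_nonneg F, Nat.mul_le_mul hF hF, Nat.mul_le_mul (Nat.mul_le_mul hF hF) hF]
    calc 2 ^ F * 2 * (9 * (F + 1) ^ 3 + (F + 1) ^ 2)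
        = 2 ^ F * (2 * (9 * (F + 1) ^ 3 + (F + 1) ^ 2)) := by ring
      _ ≤ 2 ^ F * (3 * (9 * F ^ 3 + F ^ 2)) := Nat.mul_le_mul_left _ h1
      _ = (2 ^ F * (9 * F ^ 3 + F ^ 2)) * 3 := by ring
      _ ≤ 3 ^ F * 3 := Nat.mul_le_mul_right _ ih

/-- generic inequality for bases `≥ 2` -/
theorem gen_bound_two {n : ℕ} (hn : 0 < n) (hF : 16 ≤ Nat.totient n) :
    n * (2 * n + 1) ≤ 2 ^ Nat.totient n :=
  (main_bound hn (by omega)).trans (pow_bound_two _ hF)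

/-- generic inequality for `q = 2` -/
theorem gen_bound_three {n : ℕ} (hn : 0 < n) (hF : 32 ≤ Nat.totient n) :
    2 ^ Nat.totient n * (n * (2 * n + 1)) ≤ 3 ^ Nat.totient n :=
  (Nat.mul_le_mul_left _ (main_bound hn (by omega))).trans (pow_bound_three _ hF)

theorem lt_of_totient_lt_16 {n : ℕ} (hn : 0 < n) (hF : Nat.totient n < 16) : n < 124 := by
  have h := two_sq_le_totient_cube n hn
  have h1 : (Nat.totient n) ^ 3 ≤ 15 ^ 3 := Nat.pow_le_pow_left (by omega) 3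
  by_contra hlt
  push Not at hlt
  have : 124 ^ 2 ≤ n ^ 2 := Nat.pow_le_pow_left hlt 2
  norm_num at this h1
  omega

theorem lt_of_totient_lt_32 {n : ℕ} (hn : 0 < n) (hF : Nat.totient n < 32) : n < 367 := by
  have h := two_sq_le_totient_cube n hn
  have h1 : (Nat.totient n) ^ 3 ≤ 31 ^ 3 := Nat.pow_le_pow_left (by omega) 3
  by_contra hlt
  push Not at hlt
  have : 367 ^ 2 ≤ n ^ 2 := Nat.pow_le_pow_left hlt 2
  norm_num at this h1
  omega

end Cfsg.Agent.Helper20.Zsig
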