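import Mathlib
import Cfsg.Agent.Lib.Helper20.ZsigA

set_option autoImplicit false

/-!
# Lower bound for `Φ_n(2)`: `3^φ(n) < 2^φ(n) Φ_n(2)` for `n ≥ 3` (helper20)
-/

namespace Cfsg.Agent.Helper20.Zsig

theorem pow_ineq_a : ∀ p : ℕ, 2 ≤ p → 3 ^ p + 2 ^ p ≤ 4 ^ p := by
  intro p hp
  induction p, hp using Nat.le_induction with
  | base => norm_num
  | succ p hp ih =>
    rw [pow_succ 3 p, pow_succ 2 p, pow_succ 4 p]
    have : 0 < 2 ^ p := Nat.pow_pos (by norm_num)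
    omega

theorem pow_ineq_a' {p : ℕ} (hp : 2 ≤ p) : 3 ^ p ≤ 2 ^ p * (2 ^ p - 1) := by
  have h := pow_ineq_a p hp
  have h4 : (4 : ℕ) ^ p = 2 ^ p * 2 ^ p := by
    rw [← mul_pow]; norm_num
  have h1 : 1 ≤ 2 ^ p := Nat.one_le_pow _ _ (by norm_num)
  have : 2 ^ p * (2 ^ p - 1) = 2 ^ p * 2 ^ p - 2 ^ p := by
    rw [Nat.mul_sub, mul_one]
  omega

theorem pow_ineq_b : ∀ p : ℕ, 3 ≤ p → 2 * 3 ^ p + 2 ^ p < 4 ^ p := by
  intro p hp
  induction p, hp using Nat.le_induction with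
  | base => norm_num
  | succ p hp ih =>
    rw [pow_succ 3 p, pow_succ 2 p, pow_succ 4 p]
    have : 0 < 2 ^ p := Nat.pow_pos (by norm_num)
    omega

theorem pow_ineq_b' {p : ℕ} (hp : 3 ≤ p) : 3 ^ p < 2 ^ (p - 1) * (2 ^ p - 1) := by
  have h := pow_ineq_b p hp
  obtain ⟨j, rfl⟩ : ∃ j, p = j + 1 := ⟨p - 1, by omega⟩
  simp only [Nat.add_sub_cancel]
  have h4 : (4 : ℕ) ^ (j + 1) = 2 ^ (j + 1) * 2 ^ (j + 1) := by
    rw [← mul_pow]; norm_num
  have h1 : 1 ≤ 2 ^ (j + 1) := Nat.one_le_pow _ _ (by norm_num)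
  have h2 : 2 ^ (j + 1) = 2 * 2 ^ j := by rw [pow_succ]; ring
  have : 2 * (2 ^ j * (2 ^ (j + 1) - 1)) = 2 ^ (j + 1) * 2 ^ (j + 1) - 2 ^ (j + 1) := by
    rw [← mul_assoc, ← h2, Nat.mul_sub, mul_one]
  omega

theorem two_bound {n : ℕ} (hn : 3 ≤ n) :
    3 ^ Nat.totient n < 2 ^ Nat.totient n * phiN 2 n := by
  by_cases hsq : ∃ p : ℕ, p.Prime ∧ p * p ∣ n
  · obtain ⟨p, hp, hpp⟩ := hsq
    obtain ⟨c, hc⟩ := hpp
    -- n = p * p * c, m = p * c
    have hc0 : 0 < c := by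
      rcases Nat.eq_zero_or_pos c with h | h
      · rw [h] at hc; omega
      · exact h
    set m := p * c with hm
    have hnm : n = m * p := by rw [hc, hm]; ring
    have hpm : p ∣ m := Dvd.intro _ rfl
    have hm2 : 2 ≤ m := by
      have := hp.two_le
      nlinarith
    have h2p : 2 ≤ 2 ^ p := by
      calc 2 = 2 ^ 1 := by norm_num
        _ ≤ 2 ^ p := Nat.pow_le_pow_right (by norm_num) hp.one_lt.le
    have hN : phiN 2 n = phiN (2 ^ p) m := by
      rw [hnm]; exact phiN_expand_of_dvd 2 hp hpm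
    have hF : Nat.totient n = p * Nat.totient m := by
      rw [hnm, mul_comm m p]; exact Nat.totient_mul_of_prime_of_dvd hp hpm
    have hlow := phiN_lower h2p hm2
    rw [hN, hF]
    set f := Nat.totient m
    calc 3 ^ (p * f) = (3 ^ p) ^ f := by rw [pow_mul]
      _ ≤ (2 ^ p * (2 ^ p - 1)) ^ f := Nat.pow_le_pow_left (pow_ineq_a' hp.two_le) f
      _ = 2 ^ (p * f) * (2 ^ p - 1) ^ f := by rw [mul_pow, ← pow_mul]
      _ < 2 ^ (p * f) * phiN (2 ^ p) m :=
          Nat.mul_lt_mul_of_pos_left hlow (Nat.pow_pos (by norm_num))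
  · push Not at hsq
    -- an odd prime divisor
    have hodd : ∃ p : ℕ, p.Prime ∧ p ∣ n ∧ p ≠ 2 := by
      by_contra hno
      push Not at hno
      have hall : ∀ {d : ℕ}, d.Prime → d ∣ n → d = 2 := fun hd hdn => hno _ hd hdn
      have hpow := Nat.eq_prime_pow_of_unique_prime_dvd (show n ≠ 0 by omega) hall
      set k := n.primeFactorsList.length
      rcases Nat.lt_or_ge k 2 with hk | hk
      · have : n ≤ 2 := by
          rw [hpow]
          calc 2 ^ k ≤ 2 ^ 1 := Nat.pow_le_pow_right (by norm_num) (by omega)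
            _ = 2 := by norm_num
        omega
      · apply hsq 2 Nat.prime_two
        rw [hpow]
        have : (2 : ℕ) * 2 = 2 ^ 2 := by norm_num
        rw [this]
        exact pow_dvd_pow _ hk
    obtain ⟨p, hp, hpn, hp2⟩ := hodd
    have hp3 : 3 ≤ p := by
      have := hp.two_le
      omega
    obtain ⟨m, hm⟩ := hpn
    have hm0 : 0 < m := by
      rcases Nat.eq_zero_or_pos m with h | h
      · rw [h] at hm; omega
      · exact h
    have hnm : n = m * p := by rw [hm]; ring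
    have hpm : ¬ p ∣ m := by
      intro h
      apply hsq p hp
      rw [hm]
      exact Nat.mul_dvd_mul_left p h
    have h2p : 2 ≤ 2 ^ p := by
      calc 2 = 2 ^ 1 := by norm_num
        _ ≤ 2 ^ p := Nat.pow_le_pow_right (by norm_num) hp.one_lt.le
    have hN : phiN 2 n * phiN 2 m = phiN (2 ^ p) m := by
      rw [hnm]; exact phiN_expand_of_not_dvd 2 hp hpm
    have hco : Nat.Coprime m p := ((Nat.Prime.coprime_iff_not_dvd hp).mpr hpm).symm
    have hF : Nat.totient n = Nat.totient m * (p - 1) := by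
      rw [hnm, Nat.totient_mul hco, Nat.totient_prime hp]
    have hup := phiN_upper (q := 2) (by norm_num) m
    have hlow := phiN_lower_le h2p m
    set f := Nat.totient m with hf
    have hf0 : f ≠ 0 := (Nat.totient_pos.mpr hm0).ne'
    have h3f : 0 < 3 ^ f := Nat.pow_pos (by norm_num)
    -- N * 3^f ≥ (2^p - 1)^f
    have h1 : (2 ^ p - 1) ^ f ≤ phiN 2 n * 3 ^ f := by
      calc (2 ^ p - 1) ^ f ≤ phiN (2 ^ p) m := hlow
        _ = phiN 2 n * phiN 2 m := hN.symm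
        _ ≤ phiN 2 n * 3 ^ f := Nat.mul_le_mul_left _ (by simpa using hup)
    rw [hF]
    have key : 3 ^ (f * (p - 1)) * 3 ^ f < 2 ^ (f * (p - 1)) * phiN 2 n * 3 ^ f := by
      calc 3 ^ (f * (p - 1)) * 3 ^ f = (3 ^ p) ^ f := by
            rw [← pow_add, ← pow_mul]
            congr 1
            have : p = (p - 1) + 1 := by omega
            nlinarith [this]
        _ < (2 ^ (p - 1) * (2 ^ p - 1)) ^ f := Nat.pow_lt_pow_left (pow_ineq_b' hp3) hf0
        _ = 2 ^ (f * (p - 1)) * (2 ^ p - 1) ^ f := by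
            rw [mul_pow, ← pow_mul, mul_comm (p - 1) f]
        _ ≤ 2 ^ (f * (p - 1)) * (phiN 2 n * 3 ^ f) := Nat.mul_le_mul_left _ h1
        _ = 2 ^ (f * (p - 1)) * phiN 2 n * 3 ^ f := by ring
    exact Nat.lt_of_mul_lt_mul_right key

end Cfsg.Agent.Helper20.Zsig
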