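import Mathlib
import Cfsg.Agent.Lib.Helper20.ZsigC
import Cfsg.Agent.Lib.Helper20.ZsigD
import Cfsg.Agent.Lib.Helper20.ZsigE

set_option autoImplicit false

/-!
# Hering's bound on the primitive part of `q^n - 1`: finite checks and assembly (helper20)
-/

namespace Cfsg.Agent.Helper20.Zsig

/-- explicit witness for `Good q n` in decidable form -/
def GoodWit (q n m : ℕ) : Prop :=
  m ∣ q ^ n - 1 ∧ (∀ i < n, 1 ≤ i → Nat.Coprime m (q ^ i - 1)) ∧ 3 * n + 1 ≤ m

instance (q n m : ℕ) : Decidable (GoodWit q n m) := by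
  unfold GoodWit; infer_instance

theorem good_of_wit {q n m : ℕ} (h : GoodWit q n m) : Good q n :=
  ⟨m, h.1, fun i h1 h2 => h.2.1 i h2 h1, h.2.2⟩

/-- all pairs `(q, n)` which are not covered by the generic size estimate -/
def pairsAll : List (ℕ × ℕ) :=
  [(2, 3), (2, 4), (2, 5), (2, 6), (2, 7), (2, 8), (2, 9), (2, 10), (2, 11), (2, 12), (2, 13),
   (2, 14), (2, 15), (2, 16), (2, 18), (2, 20), (2, 21), (2, 22), (2, 24), (2, 26), (2, 27),
   (2, 28), (2, 30), (2, 32), (2, 34), (2, 36), (2, 38), (2, 40), (2, 42), (2, 44), (2, 48),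
   (2, 50), (2, 54), (2, 60), (2, 66), (3, 3), (3, 4), (3, 5), (3, 6), (3, 7), (3, 8), (3, 9),
   (3, 10), (3, 12), (3, 14), (3, 15), (3, 16), (3, 18), (3, 20), (3, 24), (3, 30), (4, 3),
   (4, 4), (4, 6), (4, 8), (4, 10), (4, 12), (5, 3), (5, 4), (5, 6), (5, 12), (6, 4), (6, 6),
   (7, 6), (8, 6), (9, 6)]

/-- the thirteen exceptional pairs -/
def excList : List (ℕ × ℕ) :=
  [(2, 6), (2, 4), (2, 10), (2, 12), (2, 18), (3, 4), (3, 6), (5, 6), (2, 3), (2, 8), (2, 20),
   (4, 3), (4, 6)]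

/-- explicit primitive divisors `(q, n, m)` -/
def table : List (ℕ × ℕ × ℕ) :=
  [(2, 5, 31), (2, 7, 127), (2, 9, 73), (2, 11, 2047), (2, 13, 8191), (2, 14, 43), (2, 15, 151),
   (2, 16, 257), (2, 21, 337), (2, 22, 683), (2, 24, 241), (2, 26, 2731), (2, 27, 262657),
   (2, 28, 3277), (2, 30, 331), (2, 32, 65537), (2, 34, 43691), (2, 36, 4033), (2, 38, 174763),
   (2, 40, 61681), (2, 42, 5419), (2, 44, 838861), (2, 48, 65281), (2, 50, 1016801),
   (2, 54, 87211), (2, 60, 80581), (2, 66, 1397419), (3, 3, 13), (3, 5, 121), (3, 7, 1093),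
   (3, 8, 41), (3, 9, 757), (3, 10, 61), (3, 12, 73), (3, 14, 547), (3, 15, 4561), (3, 16, 3281),
   (3, 18, 703), (3, 20, 1181), (3, 24, 6481), (3, 30, 8401), (4, 4, 17), (4, 8, 257),
   (4, 10, 41), (4, 12, 241), (5, 3, 31), (5, 4, 13), (5, 12, 601), (6, 4, 37), (6, 6, 31),
   (7, 6, 43), (8, 6, 19), (9, 6, 73)]

set_option maxRecDepth 100000 in
theorem table_ok : ∀ t ∈ table, GoodWit t.1 t.2.1 t.2.2 := by
  decide +kernel

set_option maxRecDepth 100000 in
theorem pairs_ok : ∀ p ∈ pairsAll, p ∈ excList ∨ ∃ t ∈ table, t.1 = p.1 ∧ t.2.1 = p.2 := by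
  decide +kernel

set_option maxRecDepth 100000 in
theorem pairs_le : ∀ p ∈ pairsAll, p.1 ≤ 9 := by
  decide +kernel

set_option maxRecDepth 100000 in
theorem check_two : ∀ n < 367, 3 ≤ n →
    ((2, n) ∈ pairsAll ∨ 2 ^ Nat.totient n * (n * (2 * n + 1)) ≤ 3 ^ Nat.totient n) := by
  decide +kernel

set_option maxRecDepth 100000 in
set_option synthInstance.maxSize 1000 in
theorem check_ge : ∀ n < 124, ∀ q < 11, 3 ≤ n → 3 ≤ q →
    ((q, n) ∈ pairsAll ∨ n * (2 * n + 1) ≤ (q - 1) ^ Nat.totient n) := by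
  decide +kernel

open Nat in
/-- **Hering's bound** for all integers `q ≥ 2`, `n ≥ 3`: outside the thirteen exceptional pairs
there is a primitive divisor of `q^n - 1` of size at least `3n+1`. -/
theorem good_main {q n : ℕ} (hq : 2 ≤ q) (hn : 3 ≤ n) (hex : (q, n) ∉ excList) : Good q n := by
  by_cases hp : (q, n) ∈ pairsAll
  · rcases pairs_ok _ hp with h | ⟨t, ht, h1, h2⟩
    · exact absurd h hex
    · have := table_ok t ht
      simp only at h1 h2
      rw [h1, h2] at this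
      exact good_of_wit this
  · apply good_of_gt hq hn
    rcases Nat.lt_or_ge q 3 with hq2 | hq3
    · have : q = 2 := by omega
      subst this
      have hb := two_bound hn
      have hgen : 2 ^ φ n * (n * (2 * n + 1)) ≤ 3 ^ φ n := by
        rcases Nat.lt_or_ge (φ n) 32 with hF | hF
        · have hlt := lt_of_totient_lt_32 (by omega) hF
          rcases check_two n hlt hn with h | h
          · exact absurd h hp
          · exact h
        · exact gen_bound_three (by omega) hF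
      have : 2 ^ φ n * (n * (2 * n + 1)) < 2 ^ φ n * phiN 2 n := lt_of_le_of_lt hgen hb
      exact Nat.lt_of_mul_lt_mul_left this
    · have hlow := phiN_lower hq (show 2 ≤ n by omega)
      suffices h : n * (2 * n + 1) ≤ (q - 1) ^ φ n by omega
      rcases Nat.lt_or_ge (φ n) 16 with hF | hF
      · have hlt := lt_of_totient_lt_16 (by omega) hF
        rcases Nat.lt_or_ge q 11 with hq11 | hq11
        · rcases check_ge n hlt q hq11 hn hq3 with h | h
          · exact absurd h hp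
          · exact h
        · rcases check_ge n hlt 10 (by norm_num) hn (by norm_num) with h | h
          · exact absurd (pairs_le _ h) (by norm_num)
          · calc n * (2 * n + 1) ≤ (10 - 1) ^ φ n := h
              _ ≤ (q - 1) ^ φ n := Nat.pow_le_pow_left (by omega) _
      · calc n * (2 * n + 1) ≤ 2 ^ φ n := gen_bound_two (by omega) hF
          _ ≤ (q - 1) ^ φ n := Nat.pow_le_pow_left (by omega) _

/-- If `q^e - 1` divides `(∏_{1 ≤ i < e} (q^i - 1)) * B` then every primitive divisor is `≤ B`. -/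
theorem prim_le {q e B : ℕ} (hB0 : 0 < B)
    (hdiv : q ^ e - 1 ∣ (∏ i ∈ Finset.Ico 1 e, (q ^ i - 1)) * B) :
    ∀ m : ℕ, m ∣ q ^ e - 1 → (∀ i : ℕ, 1 ≤ i → i < e → Nat.Coprime m (q ^ i - 1)) → m ≤ B := by
  intro m hm hco
  have h1 : Nat.Coprime m (∏ i ∈ Finset.Ico 1 e, (q ^ i - 1)) :=
    Nat.Coprime.prod_right
      (fun i hi => hco i (Finset.mem_Ico.mp hi).1 (Finset.mem_Ico.mp hi).2)
  have h2 : m ∣ (∏ i ∈ Finset.Ico 1 e, (q ^ i - 1)) * B := dvd_trans hm hdiv
  have h3 : m ∣ B := h1.dvd_of_dvd_mul_left h2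
  exact Nat.le_of_dvd hB0 h3

/-- the primitive parts `(q, e, B)` for the thirteen exceptional pairs -/
def excTable : List (ℕ × ℕ × ℕ) :=
  [(2, 6, 1), (2, 4, 5), (2, 10, 11), (2, 12, 13), (2, 18, 19), (3, 4, 5), (3, 6, 7), (5, 6, 7),
   (2, 3, 7), (2, 8, 17), (2, 20, 41), (4, 3, 7), (4, 6, 13)]

set_option maxRecDepth 100000 in
theorem excTable_ok : ∀ t ∈ excTable, 0 < t.2.2 ∧ t.2.2 ≤ 2 * t.2.1 + 1 ∧
    t.1 ^ t.2.1 - 1 ∣ (∏ i ∈ Finset.Ico 1 t.2.1, (t.1 ^ i - 1)) * t.2.2 := by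
  decide +kernel

set_option maxRecDepth 100000 in
theorem excList_ok : ∀ p ∈ excList, ∃ t ∈ excTable, t.1 = p.1 ∧ t.2.1 = p.2 := by
  decide +kernel

/-- For the thirteen exceptional pairs every primitive divisor is at most `2e+1`. -/
theorem exc_main {q e : ℕ} (hex : (q, e) ∈ excList) :
    ∀ m : ℕ, m ∣ q ^ e - 1 → (∀ i : ℕ, 1 ≤ i → i < e → Nat.Coprime m (q ^ i - 1)) →
      m ≤ 2 * e + 1 := by
  obtain ⟨t, ht, h1, h2⟩ := excList_ok _ hex
  obtain ⟨hB0, hBle, hdiv⟩ := excTable_ok t ht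
  simp only at h1 h2
  rw [h1, h2] at hdiv
  rw [h2] at hBle
  intro m hm hco
  exact (prim_le hB0 hdiv m hm hco).trans hBle

end Cfsg.Agent.Helper20.Zsig
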